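import Cfsg.Agent.Lib.Char.Integral
import Mathlib.GroupTheory.FiniteAbelian.Duality
import Mathlib.RingTheory.RootsOfUnity.AlgebraicallyClosed
import Mathlib.GroupTheory.Abelianization.Finite

/-!
# Linear characters and kernels of representations
-/

set_option autoImplicit false
set_option linter.style.haveILetI false

namespace Cfsg.Agent.Char

open Cfsg Representation Module
open scoped ComplexConjugate

universe u

variable {G : Type u} [Group G]

/-- A representation as a homomorphism into the units. -/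
theorem IsCharacter.exists_monoidHom {χ : G → ℂ} (hχ : IsCharacter G χ) (h1 : χ 1 = 1) :
    ∃ l : G →* ℂˣ, χ = fun g => (l g : ℂ) := by
  obtain ⟨n, ρ, rfl⟩ := hχ
  rw [ρ.char_one] at h1
  have hn : finrank ℂ (Fin n → ℂ) = 1 := by exact_mod_cast h1
  let b : Basis (Fin 1) ℂ (Fin n → ℂ) := Module.finBasisOfFinrankEq ℂ (Fin n → ℂ) hn
  let d : G →* ℂ := (LinearMap.det : ((Fin n → ℂ) →ₗ[ℂ] (Fin n → ℂ)) →* ℂ).comp ρ
  refine ⟨d.toHomUnits, ?_⟩
  funext g
  simp only [MonoidHom.coe_toHomUnits, d, MonoidHom.comp_apply]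
  rw [Representation.character, LinearMap.trace_eq_matrix_trace ℂ b, ← LinearMap.det_toMatrix b,
    Matrix.det_fin_one, Matrix.trace_fin_one]

theorem IsIrrCharacter.degree_one_of_comm [Finite G] {χ : G → ℂ} (hχ : IsIrrCharacter G χ)
    (hab : ∀ a b : G, a * b = b * a) : χ 1 = 1 := by
  obtain ⟨n, ρ, hρ, rfl⟩ := hχ
  haveI : IsMulCommutative G := ⟨⟨hab⟩⟩
  rw [ρ.char_one, IsIrreducible.finrank_eq_one_of_isMulCommutative ρ, Nat.cast_one]

theorem monoidHom_coe_injective :
    Function.Injective (fun l : G →* ℂˣ => fun g => (l g : ℂ)) :=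
  fun _ _ h => MonoidHom.ext fun g => Units.ext (congrFun h g)

theorem card_monoidHom_units [Finite G] : Nat.card (G →* ℂˣ) = (commutator G).index := by
  rw [Nat.card_congr (Abelianization.lift (G := G) (A := ℂˣ)),
    CommGroup.card_monoidHom_of_hasEnoughRootsOfUnity (Abelianization G) ℂ,
    Subgroup.index_eq_card]
  rfl

theorem card_linear [Finite G] :
    Nat.card {χ : IrrCharacter G // (χ : G → ℂ) 1 = 1} = (commutator G).index := by
  rw [← card_monoidHom_units]
  refine (Nat.card_congr (Equiv.ofBijective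
    (fun l : G →* ℂˣ => (⟨⟨_, isIrrCharacter_monoidHom l⟩, by simp⟩ :
      {χ : IrrCharacter G // (χ : G → ℂ) 1 = 1})) ⟨fun a b h => ?_, fun χ => ?_⟩)).symm
  · exact monoidHom_coe_injective (congrArg (fun x : {χ : IrrCharacter G // (χ : G → ℂ) 1 = 1} =>
      (x.1 : G → ℂ)) h)
  · obtain ⟨l, hl⟩ := IsCharacter.exists_monoidHom (IsIrrCharacter.isCharacter χ.1.2) χ.2
    exact ⟨l, Subtype.ext (Subtype.ext hl.symm)⟩

/-- The kernel of a character. -/
theorem IsCharacter.apply_mul_of_eq_one [Finite G] {χ : G → ℂ} (hχ : IsCharacter G χ) {a : G}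
    (ha : χ a = χ 1) (g : G) : χ (a * g) = χ g ∧ χ (g * a) = χ g := by
  obtain ⟨n, ρ, rfl⟩ := hχ
  rw [ρ.char_one, character_eq_finrank_iff] at ha
  simp [Representation.character, ha, Module.End.mul_eq_comp]

theorem comm_of_rep_eq_smul {V : Type*} [AddCommGroup V] [Module ℂ V] (ρ : Representation ℂ G V)
    {g : G} {ω : ℂ} (h : ρ g = ω • (LinearMap.id : V →ₗ[ℂ] V)) (hinj : Function.Injective ρ)
    (x : G) : g * x = x * g := by
  apply hinj
  rw [map_mul, map_mul, h]
  apply LinearMap.ext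
  intro v
  simp

end Cfsg.Agent.Char
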