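import Cfsg.Agent.Lib.Char.Orthogonality
import Mathlib.LinearAlgebra.Eigenspace.Charpoly
import Mathlib.LinearAlgebra.Eigenspace.Minpoly
import Mathlib.RingTheory.IntegralClosure.IsIntegralClosure.Basic
import Mathlib.RingTheory.RootsOfUnity.Complex
import Mathlib.FieldTheory.Separable
import Mathlib.FieldTheory.Minpoly.IsIntegrallyClosed
import Mathlib.RingTheory.Int.Basic
import Mathlib.RingTheory.Localization.FractionRing
import Mathlib.RingTheory.Algebraic.Basic
import Mathlib.RingTheory.Polynomial.RationalRoot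

/-!
# Algebraic integrality of character values
-/

set_option autoImplicit false
set_option linter.style.haveILetI false

namespace Cfsg.Agent.Char

open Cfsg Representation Module
open scoped ComplexConjugate

universe u

variable {G : Type u} [Group G]

/-- The eigenvalues, with multiplicity, of a group element in a representation. -/
noncomputable def eigenvalues {V : Type*} [AddCommGroup V] [Module ℂ V] [FiniteDimensional ℂ V]
    (ρ : Representation ℂ G V) (g : G) : Multiset ℂ :=
  (LinearMap.charpoly (ρ g)).roots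

section Eigen

variable {V : Type*} [AddCommGroup V] [Module ℂ V] [FiniteDimensional ℂ V]
  (ρ : Representation ℂ G V)

theorem sum_eigenvalues (g : G) : (eigenvalues ρ g).sum = ρ.character g :=
  (Module.End.trace_eq_sum_roots_charpoly_of_splits (IsAlgClosed.splits _)).symm

theorem card_eigenvalues (g : G) : Multiset.card (eigenvalues ρ g) = finrank ℂ V := by
  rw [eigenvalues, ← LinearMap.charpoly_natDegree (ρ g)]
  exact (IsAlgClosed.splits _).natDegree_eq_card_roots.symm

theorem pow_eigenvalue_eq_one (g : G) {r : ℂ} (hr : r ∈ eigenvalues ρ g) {n : ℕ}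
    (hn : g ^ n = 1) : r ^ n = 1 := by
  have hev : Module.End.HasEigenvalue (ρ g) r :=
    Module.End.hasEigenvalue_iff_isRoot_charpoly (ρ g) r |>.mpr
      (Polynomial.mem_roots'.mp hr).2
  obtain ⟨v, hv⟩ := hev.exists_hasEigenvector
  have h := hv.pow_apply n
  rw [← map_pow, hn, map_one, Module.End.one_apply] at h
  by_contra hne
  have : (r ^ n - 1) • v = 0 := by rw [sub_smul, ← h, one_smul, sub_self]
  exact hv.2 ((smul_eq_zero.mp this).resolve_left (sub_ne_zero.mpr hne))

variable [Finite G]

theorem norm_eigenvalue (g : G) {r : ℂ} (hr : r ∈ eigenvalues ρ g) : ‖r‖ = 1 :=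
  Complex.norm_eq_one_of_pow_eq_one
    (pow_eigenvalue_eq_one ρ g hr (pow_orderOf_eq_one g)) (orderOf_pos g).ne'

theorem norm_character_le (g : G) : ‖ρ.character g‖ ≤ (finrank ℂ V : ℝ) := by
  rw [← sum_eigenvalues, ← card_eigenvalues ρ g]
  refine (norm_multiset_sum_le _).trans ?_
  rw [Multiset.map_congr rfl fun r hr => norm_eigenvalue ρ g hr]
  simp

theorem isIntegral_eigenvalue (g : G) {r : ℂ} (hr : r ∈ eigenvalues ρ g) : IsIntegral ℤ r := by
  refine ⟨Polynomial.X ^ orderOf g - Polynomial.C 1,
    Polynomial.monic_X_pow_sub_C 1 (orderOf_pos g).ne', ?_⟩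
  simp [pow_eigenvalue_eq_one ρ g hr (pow_orderOf_eq_one g)]

theorem isIntegral_character (g : G) : IsIntegral ℤ (ρ.character g) := by
  rw [← sum_eigenvalues]
  exact IsIntegral.multiset_sum fun r hr => isIntegral_eigenvalue ρ g hr

theorem exists_smul_id_of_eigenvalues_eq (g : G) (ω : ℂ)
    (h : ∀ r ∈ eigenvalues ρ g, r = ω) : ρ g = ω • (LinearMap.id : V →ₗ[ℂ] V) := by
  rcases subsingleton_or_nontrivial V with hV | hV
  · exact LinearMap.ext fun x => Subsingleton.elim _ _
  classical
  let p := minpoly ℂ (ρ g)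
  have hint : IsIntegral ℂ (ρ g) := Algebra.IsIntegral.isIntegral _
  have hdvd : p ∣ Polynomial.X ^ orderOf g - Polynomial.C (1 : ℂ) := by
    refine minpoly.dvd ℂ (ρ g) ?_
    simp only [map_sub, map_pow, Polynomial.aeval_X, Polynomial.aeval_C]
    rw [← map_pow ρ, pow_orderOf_eq_one]; simp
  have hsep : p.Separable :=
    (Polynomial.separable_X_pow_sub_C (1 : ℂ)
      (Nat.cast_ne_zero.mpr (orderOf_pos g).ne') one_ne_zero).of_dvd hdvd
  have hroots : ∀ r ∈ p.roots, r = ω := by
    intro r hr
    refine h r (Polynomial.mem_roots'.mpr ⟨(LinearMap.charpoly_monic (ρ g)).ne_zero, ?_⟩)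
    exact (Polynomial.mem_roots'.mp hr).2.dvd (LinearMap.minpoly_dvd_charpoly (ρ g))
  have hnd : p.roots.Nodup := Polynomial.nodup_roots hsep
  have hne : p.roots ≠ 0 := by
    intro e
    have := (IsAlgClosed.splits p).natDegree_eq_card_roots
    rw [e, Multiset.card_zero] at this
    exact (minpoly.natDegree_pos hint).ne' this
  have hroots1 : p.roots = {ω} := by
    obtain ⟨a, t, hat⟩ : ∃ a t, p.roots = a ::ₘ t := by
      rcases Multiset.empty_or_exists_mem p.roots with e | ⟨a, ha⟩
      · exact absurd e hne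
      · exact ⟨a, _, (Multiset.cons_erase ha).symm⟩
    have ha := hroots a (by rw [hat]; exact Multiset.mem_cons_self a t)
    have ht : t = 0 := Multiset.eq_zero_of_forall_notMem fun b hb => by
      rw [hat, Multiset.nodup_cons] at hnd
      have := hroots b (by rw [hat]; exact Multiset.mem_cons_of_mem hb)
      exact hnd.1 (by rw [ha, ← this]; exact hb)
    rw [hat, ha, ht]; rfl
  have hp : p = Polynomial.X - Polynomial.C ω := by
    have := (IsAlgClosed.splits p).eq_prod_roots_of_monic (minpoly.monic hint)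
    rw [this, hroots1]; simp
  have h0 := minpoly.aeval ℂ (ρ g)
  rw [show minpoly ℂ (ρ g) = p from rfl, hp] at h0
  simp [sub_eq_zero, Algebra.algebraMap_eq_smul_one] at h0
  exact h0

theorem norm_character_eq_iff (g : G) :
    ‖ρ.character g‖ = (finrank ℂ V : ℝ) ↔ ∃ ω : ℂ, ρ g = ω • (LinearMap.id : V →ₗ[ℂ] V) := by
  constructor
  · intro h
    rcases Nat.eq_zero_or_pos (finrank ℂ V) with h0 | h0
    · haveI := (Module.finrank_zero_iff (R := ℂ) (M := V)).mp h0
      exact ⟨1, LinearMap.ext fun x => Subsingleton.elim _ _⟩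
    let ω := ρ.character g / (finrank ℂ V : ℂ)
    refine ⟨ω, exists_smul_id_of_eigenvalues_eq ρ g ω ?_⟩
    have hω : ‖ω‖ = 1 := by
      simp only [ω, norm_div, h, Complex.norm_natCast]
      exact div_self (by exact_mod_cast h0.ne')
    intro r hr
    have hle : ∀ s ∈ eigenvalues ρ g, (conj ω * s).re ≤ 1 := fun s hs => by
      refine (Complex.re_le_norm _).trans ?_
      simp [hω, norm_eigenvalue ρ g hs]
    have hsum : ((eigenvalues ρ g).map fun s => (conj ω * s).re).sum = (finrank ℂ V : ℝ) := by
      have e : ((eigenvalues ρ g).map fun s => (conj ω * s).re).sum =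
          (conj ω * (eigenvalues ρ g).sum).re := by
        induction eigenvalues ρ g using Multiset.induction_on with
        | empty => simp
        | cons a t ih =>
          rw [Multiset.map_cons, Multiset.sum_cons, Multiset.sum_cons, ih, mul_add, Complex.add_re]
      rw [e, sum_eigenvalues]
      have e2 : ρ.character g = ω * (finrank ℂ V : ℂ) := by
        simp only [ω]; rw [div_mul_cancel₀]; exact_mod_cast h0.ne'
      rw [e2, ← mul_assoc, mul_comm (conj ω) ω, Complex.mul_conj, Complex.normSq_eq_norm_sq, hω]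
      simp
    have hre : (conj ω * r).re = 1 := by
      refine le_antisymm (hle r hr) ?_
      by_contra hlt
      push Not at hlt
      have h2 := Multiset.sum_lt_sum (f := fun s => (conj ω * s).re) (g := fun _ => (1 : ℝ))
        hle ⟨r, hr, hlt⟩
      rw [hsum] at h2
      simp [card_eigenvalues] at h2
    have hn1 : ‖conj ω * r‖ = 1 := by simp [hω, norm_eigenvalue ρ g hr]
    have hi : (conj ω * r).im = 0 := by
      have := Complex.sq_norm (conj ω * r)
      rw [hn1, Complex.normSq_apply, hre] at this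
      have h2 : (conj ω * r).im * (conj ω * r).im = 0 := by linarith
      exact mul_self_eq_zero.mp h2
    have h1 : conj ω * r = 1 := Complex.ext (by simpa using hre) (by simpa using hi)
    calc r = (ω * conj ω) * r := by
          rw [Complex.mul_conj, Complex.normSq_eq_norm_sq, hω]; simp
      _ = ω := by rw [mul_assoc, h1, mul_one]
  · rintro ⟨ω, hω⟩
    rcases subsingleton_or_nontrivial V with hV | hV
    · simp [Representation.character, Subsingleton.elim (ρ g) 0, finrank_zero_of_subsingleton]
    have : ‖ω‖ = 1 := by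
      obtain ⟨v, hv⟩ := exists_ne (0 : V)
      have hev : Module.End.HasEigenvalue (ρ g) ω :=
        Module.End.hasEigenvalue_of_hasEigenvector
          ⟨Module.End.mem_eigenspace_iff.mpr (by rw [hω]; simp), hv⟩
      exact norm_eigenvalue ρ g (Polynomial.mem_roots'.mpr
        ⟨(LinearMap.charpoly_monic (ρ g)).ne_zero,
          (Module.End.hasEigenvalue_iff_isRoot_charpoly _ _).mp hev⟩)
    simp [Representation.character, hω, this, LinearMap.trace_id]

theorem character_eq_finrank_iff (g : G) :
    ρ.character g = (finrank ℂ V : ℂ) ↔ ρ g = LinearMap.id := by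
  constructor
  · intro h
    obtain ⟨ω, hω⟩ := (norm_character_eq_iff ρ g).mp (by rw [h]; simp)
    rcases subsingleton_or_nontrivial V with hV | hV
    · exact LinearMap.ext fun x => Subsingleton.elim _ _
    have : ω * (finrank ℂ V : ℂ) = (finrank ℂ V : ℂ) := by
      rw [← h]
      rw [Representation.character, hω, map_smul, LinearMap.trace_id, smul_eq_mul] at h ⊢
      rw [h]; exact h
    rw [hω, (mul_eq_right₀ (Nat.cast_ne_zero.mpr
      (Module.finrank_pos (R := ℂ) (M := V)).ne')).mp this, one_smul]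
  · intro h
    simp [Representation.character, h, LinearMap.trace_id]

end Eigen

theorem IsCharacter.isIntegral [Finite G] {χ : G → ℂ} (h : IsCharacter G χ) (g : G) :
    IsIntegral ℤ (χ g) := by
  obtain ⟨n, ρ, rfl⟩ := h
  exact isIntegral_character ρ g

theorem IsCharacter.norm_le [Finite G] {χ : G → ℂ} (h : IsCharacter G χ) (g : G) :
    ‖χ g‖ ≤ ‖χ 1‖ := by
  obtain ⟨n, ρ, rfl⟩ := h
  rw [ρ.char_one]
  simpa using norm_character_le ρ g

/-- An irreducible representation makes a conjugation-invariant combination scalar, and class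
sums act by algebraic integers. -/
theorem exists_isIntegral_class_scalar [Fintype G] [DecidableRel (IsConj : G → G → Prop)]
    {V : Type*} [AddCommGroup V] [Module ℂ V] [FiniteDimensional ℂ V]
    (ρ : Representation ℂ G V) [ρ.IsIrreducible] (g : G) :
    ∃ c : ℂ, IsIntegral ℤ c ∧
      (∑ x ∈ Finset.univ.filter (IsConj g), ρ x) = c • (LinearMap.id : V →ₗ[ℂ] V) ∧
      c * (finrank ℂ V : ℂ) =
        ((Subgroup.centralizer ({g} : Set G)).index : ℂ) * ρ.character g := by
  haveI := nontrivial_of_irreducible ρ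
  let T : IntertwiningMap ρ ρ := ⟨∑ x ∈ Finset.univ.filter (IsConj g), ρ x, by
    intro y
    apply LinearMap.ext
    intro v
    simp only [LinearMap.coe_comp, Function.comp_apply, LinearMap.coe_sum, Finset.sum_apply,
      map_sum]
    refine Finset.sum_equiv (MulAut.conj y⁻¹).toEquiv (fun x => ?_) fun x _ => ?_
    · simp only [Finset.mem_filter, Finset.mem_univ, true_and]
      have : IsConj x ((MulAut.conj y⁻¹).toEquiv x) := isConj_iff.mpr ⟨y⁻¹, by simp⟩
      exact ⟨fun e => e.trans this, fun e => e.trans this.symm⟩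
    · simp [← Module.End.mul_apply, ← map_mul, mul_assoc]⟩
  obtain ⟨c, hc⟩ :=
    (IsIrreducible.algebraMap_intertwiningMap_bijective_of_isAlgClosed (ρ := ρ)).2 T
  have hT : (∑ x ∈ Finset.univ.filter (IsConj g), ρ x) = c • (LinearMap.id : V →ₗ[ℂ] V) := by
    have := congrArg IntertwiningMap.toLinearMap hc
    simp only [T] at this
    rw [← this, Algebra.algebraMap_eq_smul_one]
    rfl
  refine ⟨c, ?_, hT, ?_⟩
  · let φ : MonoidAlgebra ℤ G →ₐ[ℤ] (Module.End ℂ V) := MonoidAlgebra.lift ℤ (Module.End ℂ V) G ρ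
    haveI : Module.Finite ℤ (MonoidAlgebra ℤ G) :=
      Module.Finite.of_basis (Module.Basis.ofRepr (MonoidAlgebra.coeffLinearEquiv ℤ))
    have h1 : IsIntegral ℤ (∑ x ∈ Finset.univ.filter (IsConj g), MonoidAlgebra.single x (1 : ℤ)) :=
      IsIntegral.of_finite ℤ _
    have h2 := h1.map φ
    simp only [map_sum, φ, MonoidAlgebra.lift_single, one_smul] at h2
    rw [hT, show c • (LinearMap.id : V →ₗ[ℂ] V) = algebraMap ℂ (Module.End ℂ V) c by
      rw [Algebra.algebraMap_eq_smul_one]; rfl] at h2
    exact (isIntegral_algebraMap_iff (algebraMap ℂ (Module.End ℂ V)).injective).mp h2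
  · have := congrArg (LinearMap.trace ℂ V) hT
    rw [map_sum, map_smul, LinearMap.trace_id, smul_eq_mul] at this
    rw [← this, ← card_isConj_eq_index]
    rw [Finset.sum_congr rfl fun x hx => show LinearMap.trace ℂ V (ρ x) = ρ.character g from
      (IsClassFunction.apply_isConj (IsCharacter.isClassFunction (isCharacter_character ρ))
        (Finset.mem_filter.mp hx).2).symm]
    rw [Finset.sum_const, nsmul_eq_mul, Nat.card_eq_fintype_card, Fintype.card_subtype]

theorem isIntegral_centralChar [Finite G] {χ : G → ℂ} (hχ : IsIrrCharacter G χ) (g : G) :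
    IsIntegral ℤ (((Subgroup.centralizer ({g} : Set G)).index : ℂ) * χ g / χ 1) := by
  classical
  haveI := Fintype.ofFinite G
  obtain ⟨n, ρ, hρ, rfl⟩ := hχ
  haveI := nontrivial_of_irreducible ρ
  obtain ⟨c, hc, -, he⟩ := exists_isIntegral_class_scalar ρ g
  rw [ρ.char_one, ← he, mul_div_assoc, div_self, mul_one]
  · exact hc
  · exact Nat.cast_ne_zero.mpr Module.finrank_pos.ne'

theorem rat_eq_int_of_isIntegral {q : ℚ} (h : IsIntegral ℤ (q : ℂ)) : ∃ z : ℤ, q = z := by
  have h' : IsIntegral ℤ q :=
    (isIntegral_algebraMap_iff (A := ℚ) (B := ℂ) (algebraMap ℚ ℂ).injective).mp (by simpa using h)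
  obtain ⟨z, hz⟩ := IsIntegrallyClosed.isIntegral_iff.mp h'
  exact ⟨z, by simpa using hz.symm⟩

theorem nat_dvd_of_isIntegral_div {a b : ℕ} (hb : b ≠ 0)
    (h : IsIntegral ℤ ((a : ℂ) / (b : ℂ))) : b ∣ a := by
  obtain ⟨z, hz⟩ := rat_eq_int_of_isIntegral (q := (a : ℚ) / b) (by simpa using h)
  rw [div_eq_iff (Nat.cast_ne_zero.mpr hb)] at hz
  have : (a : ℤ) = z * b := by exact_mod_cast hz
  exact Int.natCast_dvd_natCast.mp ⟨z, by rw [this, mul_comm]⟩

/-- The degree of an irreducible character divides the group order. -/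
theorem degree_dvd_card [Finite G] {χ : G → ℂ} (hχ : IsIrrCharacter G χ) (d : ℕ) (hd : χ 1 = d) :
    d ∣ Nat.card G := by
  classical
  haveI := Fintype.ofFinite G
  haveI := Fintype.ofFinite (ConjClasses G)
  have hd0 : d ≠ 0 := fun e => IsIrrCharacter.apply_one_ne_zero hχ (by rw [hd, e, Nat.cast_zero])
  apply nat_dvd_of_isIntegral_div hd0
  have hk : (Nat.card G : ℂ) ≠ 0 := Nat.cast_ne_zero.mpr Nat.card_pos.ne'
  have h1 : ∑ g : G, χ g * conj (χ g) = (Nat.card G : ℂ) := by
    have := IsIrrCharacter.classInner_self hχ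
    rw [classInner, inv_mul_eq_div, div_eq_one_iff_eq hk] at this
    exact this
  rw [← h1, ← Finset.sum_fiberwise Finset.univ (ConjClasses.mk : G → ConjClasses G), Finset.sum_div]
  refine IsIntegral.sum _ fun C _ => ?_
  obtain ⟨g, rfl⟩ := ConjClasses.exists_rep C
  have e : Finset.univ.filter (fun x => ConjClasses.mk x = ConjClasses.mk g) =
      Finset.univ.filter (IsConj g) :=
    Finset.filter_congr fun x _ => by rw [ConjClasses.mk_eq_mk_iff_isConj, isConj_comm]
  rw [e, Finset.sum_congr rfl fun x hx => by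
    rw [← IsIrrCharacter.apply_isConj hχ (Finset.mem_filter.mp hx).2], Finset.sum_const,
    ← Fintype.card_subtype, ← Nat.card_eq_fintype_card, card_isConj_eq_index, nsmul_eq_mul,
    ← mul_assoc, mul_div_right_comm, ← hd]
  refine (isIntegral_centralChar hχ g).mul ?_
  rw [← IsCharacter.map_inv (IsIrrCharacter.isCharacter hχ)]
  exact IsCharacter.isIntegral (IsIrrCharacter.isCharacter hχ) _

/-- An algebraic integer that is an average of roots of unity is zero or of absolute value one. -/
theorem eq_zero_or_norm_one_of_average (s : Multiset ℂ) (N : ℕ) (hN : 0 < N)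
    (hs : ∀ r ∈ s, r ^ N = 1) (hint : IsIntegral ℤ (s.sum / (Multiset.card s : ℂ))) :
    s.sum / (Multiset.card s : ℂ) = 0 ∨ ‖s.sum / (Multiset.card s : ℂ)‖ = 1 := by
  classical
  rcases Nat.eq_zero_or_pos (Multiset.card s) with h0 | h0
  · left; simp [Multiset.card_eq_zero.mp h0]
  by_contra hcon
  push Not at hcon
  obtain ⟨hne, hn1⟩ := hcon
  let K := IntermediateField.adjoin ℚ {r : ℂ | r ^ N = 1}
  haveI : Algebra.IsAlgebraic ℚ K := IntermediateField.isAlgebraic_adjoin fun r (hr : r ^ N = 1) =>
    ⟨Polynomial.X ^ N - Polynomial.C 1, Polynomial.monic_X_pow_sub_C 1 hN.ne', by simp [hr]⟩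
  have hsK : ∀ r ∈ s, r ∈ K := fun r hr => IntermediateField.subset_adjoin ℚ _ (hs r hr)
  obtain ⟨t, ht⟩ : ∃ t : Multiset K, t.map ((↑) : K → ℂ) = s :=
    ⟨s.attach.map fun r => ⟨r.1, hsK r.1 r.2⟩, by simp [Multiset.map_map, Function.comp_def]⟩
  let α : K := t.sum / (Multiset.card t : K)
  have hcard : Multiset.card t = Multiset.card s := by rw [← ht, Multiset.card_map]
  have hα : (α : ℂ) = s.sum / (Multiset.card s : ℂ) := by
    simp only [α, IntermediateField.coe_div, hcard]
    rw [← ht]
    congr 1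
    exact map_multiset_sum K.val t
  have hle : ∀ σ : K →ₐ[ℚ] ℂ, ‖σ α‖ ≤ 1 := by
    intro σ
    simp only [α, map_div₀, map_natCast, map_multiset_sum, norm_div, Complex.norm_natCast, hcard]
    rw [div_le_one (by exact_mod_cast h0)]
    refine (norm_multiset_sum_le _).trans ?_
    rw [Multiset.map_map, Multiset.map_congr rfl fun r hr => show ((fun z : ℂ => ‖z‖) ∘ σ) r = (1 : ℝ) from ?_]
    · simp [hcard]
    · refine Complex.norm_eq_one_of_pow_eq_one ?_ hN.ne'
      rw [← map_pow, show r ^ N = 1 from Subtype.ext (by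
        simpa using hs r (ht ▸ Multiset.mem_map_of_mem _ hr)), map_one]
  rw [← hα] at hint hne hn1
  have hintK : IsIntegral ℤ α :=
    (isIntegral_algebraMap_iff (A := K) (B := ℂ) (algebraMap K ℂ).injective).mp hint
  let p := minpoly ℤ α
  have hpQ : minpoly ℚ α = p.map (algebraMap ℤ ℚ) :=
    minpoly.isIntegrallyClosed_eq_field_fractions' ℚ hintK
  let P := p.map (algebraMap ℤ ℂ)
  have hP : P = (minpoly ℚ α).map (algebraMap ℚ ℂ) := by
    rw [hpQ, Polynomial.map_map]; congr 1
  have hmonic : P.Monic := (minpoly.monic hintK).map _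
  have hrange := Algebra.IsAlgebraic.range_eval_eq_rootSet_minpoly (F := ℚ) (K := K) ℂ α
  have hroot : ∀ β ∈ P.roots, ‖β‖ ≤ 1 := by
    intro β hβ
    have hmem : β ∈ (minpoly ℚ α).rootSet ℂ := by
      rw [Polynomial.rootSet_def, Polynomial.aroots_def, ← hP]
      simpa using hβ
    rw [← hrange] at hmem
    obtain ⟨σ, rfl⟩ := hmem
    exact hle σ
  have hαmem : (α : ℂ) ∈ P.roots := by
    rw [Polynomial.mem_roots hmonic.ne_zero, hP, Polynomial.IsRoot, Polynomial.eval_map,
      ← Polynomial.aeval_def, show (α : ℂ) = algebraMap K ℂ α from rfl,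
      Polynomial.aeval_algebraMap_apply, minpoly.aeval, map_zero]
  have hlt : ‖(α : ℂ)‖ < 1 := lt_of_le_of_ne (hroot _ hαmem) hn1
  have hc := (IsAlgClosed.splits P).coeff_zero_eq_prod_roots_of_monic hmonic
  have hnorm : ‖P.coeff 0‖ < 1 := by
    rw [hc, norm_mul, norm_pow, norm_neg, norm_one, one_pow, one_mul,
      ← Multiset.cons_erase hαmem, Multiset.prod_cons, norm_mul]
    have hrest : ‖(P.roots.erase (α : ℂ)).prod‖ ≤ 1 := by
      have h' : ∀ β ∈ P.roots.erase (α : ℂ), ‖β‖ ≤ 1 :=
        fun β hβ => hroot β (Multiset.mem_of_mem_erase hβ)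
      revert h'
      generalize P.roots.erase (α : ℂ) = s'
      intro h'
      induction s' using Multiset.induction_on with
      | empty => simp
      | cons a t ih =>
        rw [Multiset.prod_cons, norm_mul]
        exact mul_le_one₀ (h' a (Multiset.mem_cons_self a t)) (norm_nonneg _)
          (ih fun β hβ => h' β (Multiset.mem_cons_of_mem hβ))
    calc ‖(α : ℂ)‖ * ‖(P.roots.erase (α : ℂ)).prod‖ ≤ ‖(α : ℂ)‖ * 1 :=
          mul_le_mul_of_nonneg_left hrest (norm_nonneg _)
      _ < 1 := by rwa [mul_one]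
  have h0' : p.coeff 0 = 0 := by
    rw [Polynomial.coeff_map] at hnorm
    simp at hnorm
    exact Int.abs_lt_one_iff.mp (by exact_mod_cast hnorm)
  have hQ0 : (minpoly ℚ α).coeff 0 = 0 := by rw [hpQ, Polynomial.coeff_map, h0', map_zero]
  have hα0 : α = 0 :=
    (minpoly.coeff_zero_eq_zero (Algebra.IsIntegral.isIntegral α)).mp hQ0
  exact hne (by rw [hα0]; rfl)

/-- Burnside's lemma on irreducible characters of degree prime to a class size. -/
theorem eq_zero_or_norm_eq_of_coprime [Finite G] {V : Type*} [AddCommGroup V] [Module ℂ V]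
    [FiniteDimensional ℂ V] (ρ : Representation ℂ G V) [ρ.IsIrreducible] (g : G)
    (hcop : Nat.Coprime (finrank ℂ V) (Subgroup.centralizer ({g} : Set G)).index) :
    ρ.character g = 0 ∨ ‖ρ.character g‖ = (finrank ℂ V : ℝ) := by
  haveI := nontrivial_of_irreducible ρ
  have hn : (finrank ℂ V : ℂ) ≠ 0 := Nat.cast_ne_zero.mpr Module.finrank_pos.ne'
  have h2 := isIntegral_centralChar (isIrrCharacter_character ρ) g
  rw [ρ.char_one] at h2
  set m := (Subgroup.centralizer ({g} : Set G)).index
  obtain ⟨a, b, hab⟩ := Int.isCoprime_iff_gcd_eq_one.mpr (show Int.gcd (finrank ℂ V : ℤ) (m : ℤ) = 1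
    by simpa [Int.gcd_natCast_natCast] using hcop)
  have hkey : ρ.character g / (finrank ℂ V : ℂ) =
      (a : ℂ) * ρ.character g + (b : ℂ) * ((m : ℂ) * ρ.character g / (finrank ℂ V : ℂ)) := by
    have : (a : ℂ) * (finrank ℂ V : ℂ) + (b : ℂ) * (m : ℂ) = 1 := by exact_mod_cast hab
    field_simp
    linear_combination -(ρ.character g) * this
  have hint : IsIntegral ℤ (ρ.character g / (finrank ℂ V : ℂ)) := by
    rw [hkey]
    refine IsIntegral.add (IsIntegral.mul ?_ (isIntegral_character ρ g)) (IsIntegral.mul ?_ h2)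
    · simpa using isIntegral_algebraMap (R := ℤ) (A := ℂ) (x := a)
    · simpa using isIntegral_algebraMap (R := ℤ) (A := ℂ) (x := b)
  rw [← sum_eigenvalues, ← card_eigenvalues ρ g] at hint
  rcases eq_zero_or_norm_one_of_average _ (orderOf g) (orderOf_pos g)
      (fun r hr => pow_eigenvalue_eq_one ρ g hr (pow_orderOf_eq_one g)) hint with h | h
  · left
    rw [sum_eigenvalues, card_eigenvalues, div_eq_zero_iff] at h
    exact h.resolve_right hn
  · right
    rw [sum_eigenvalues, card_eigenvalues, norm_div, Complex.norm_natCast,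
      div_eq_one_iff_eq (by exact_mod_cast Module.finrank_pos.ne')] at h
    exact h

end Cfsg.Agent.Char
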