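import Cfsg.Agent.Lib.Char.Induction
import Cfsg.Agent.Lib.Char.Integral

/-!
# Generalized characters
-/

set_option autoImplicit false
set_option linter.style.haveILetI false

namespace Cfsg.Agent.Char

open Cfsg
open scoped ComplexConjugate

universe u

variable {G : Type u} [Group G]

theorem IsCharacter.isGeneralized {χ : G → ℂ} (h : IsCharacter G χ) :
    IsGeneralizedCharacter G χ :=
  ⟨χ, 0, h, isCharacter_zero, (sub_zero χ).symm⟩

theorem IsIrrCharacter.isGeneralized {χ : G → ℂ} (h : IsIrrCharacter G χ) :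
    IsGeneralizedCharacter G χ :=
  IsCharacter.isGeneralized (IsIrrCharacter.isCharacter h)

theorem isGeneralizedCharacter_zero : IsGeneralizedCharacter G (0 : G → ℂ) :=
  IsCharacter.isGeneralized isCharacter_zero

theorem isGeneralizedCharacter_one : IsGeneralizedCharacter G (1 : G → ℂ) :=
  IsCharacter.isGeneralized isCharacter_one

theorem isGeneralizedCharacter_neg {θ : G → ℂ} (h : IsGeneralizedCharacter G θ) :
    IsGeneralizedCharacter G (-θ) := by
  obtain ⟨a, b, ha, hb, rfl⟩ := h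
  exact ⟨b, a, hb, ha, neg_sub a b⟩

theorem isGeneralizedCharacter_add {θ η : G → ℂ} (h : IsGeneralizedCharacter G θ)
    (h' : IsGeneralizedCharacter G η) : IsGeneralizedCharacter G (θ + η) := by
  obtain ⟨a, b, ha, hb, rfl⟩ := h
  obtain ⟨c, d, hc, hd, rfl⟩ := h'
  exact ⟨a + c, b + d, isCharacter_add ha hc, isCharacter_add hb hd, by abel⟩

theorem isGeneralizedCharacter_sub {θ η : G → ℂ} (h : IsGeneralizedCharacter G θ)
    (h' : IsGeneralizedCharacter G η) : IsGeneralizedCharacter G (θ - η) := by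
  rw [sub_eq_add_neg]
  exact isGeneralizedCharacter_add h (isGeneralizedCharacter_neg h')

theorem isGeneralizedCharacter_mul {θ η : G → ℂ} (h : IsGeneralizedCharacter G θ)
    (h' : IsGeneralizedCharacter G η) : IsGeneralizedCharacter G (θ * η) := by
  obtain ⟨a, b, ha, hb, rfl⟩ := h
  obtain ⟨c, d, hc, hd, rfl⟩ := h'
  exact ⟨a * c + b * d, a * d + b * c, isCharacter_add (isCharacter_mul ha hc)
    (isCharacter_mul hb hd), isCharacter_add (isCharacter_mul ha hd) (isCharacter_mul hb hc),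
    by ring⟩

theorem isGeneralizedCharacter_intCast_smul {θ : G → ℂ} (h : IsGeneralizedCharacter G θ) (z : ℤ) :
    IsGeneralizedCharacter G ((z : ℂ) • θ) := by
  obtain ⟨a, b, ha, hb, rfl⟩ := h
  rcases Int.eq_nat_or_neg z with ⟨n, rfl | rfl⟩
  · exact ⟨(n : ℂ) • a, (n : ℂ) • b, isCharacter_natCast_smul ha n,
      isCharacter_natCast_smul hb n, by simp [smul_sub]⟩
  · exact ⟨(n : ℂ) • b, (n : ℂ) • a, isCharacter_natCast_smul hb n,
      isCharacter_natCast_smul ha n, by simp [smul_sub]; abel⟩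

theorem isGeneralizedCharacter_zsmul {θ : G → ℂ} (h : IsGeneralizedCharacter G θ) (z : ℤ) :
    IsGeneralizedCharacter G (z • θ) := by
  rw [← Int.cast_smul_eq_zsmul ℂ]
  exact isGeneralizedCharacter_intCast_smul h z

theorem isGeneralizedCharacter_sum {ι : Type*} (s : Finset ι) (f : ι → G → ℂ)
    (h : ∀ i ∈ s, IsGeneralizedCharacter G (f i)) :
    IsGeneralizedCharacter G (∑ i ∈ s, f i) :=
  Finset.sum_induction f (IsGeneralizedCharacter G)
    (fun _ _ => isGeneralizedCharacter_add) isGeneralizedCharacter_zero h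

theorem isGeneralizedCharacter_comp {H : Type*} [Group H] {θ : H → ℂ}
    (h : IsGeneralizedCharacter H θ) (f : G →* H) : IsGeneralizedCharacter G (θ ∘ f) := by
  obtain ⟨a, b, ha, hb, rfl⟩ := h
  exact ⟨a ∘ f, b ∘ f, isCharacter_comp ha f, isCharacter_comp hb f, rfl⟩

theorem IsGeneralizedCharacter.restrict {θ : G → ℂ} (h : IsGeneralizedCharacter G θ)
    (H : Subgroup G) : IsGeneralizedCharacter H (fun x : H => θ x) :=
  isGeneralizedCharacter_comp h H.subtype

theorem isGeneralizedCharacter_indFun [Fintype G] (H : Subgroup G) {θ : H → ℂ}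
    (h : IsGeneralizedCharacter H θ) : IsGeneralizedCharacter G (indFun H θ) := by
  obtain ⟨a, b, ha, hb, rfl⟩ := h
  exact ⟨_, _, isCharacter_indFun H ha, isCharacter_indFun H hb, indFun_sub H a b⟩

theorem isGeneralizedCharacter_conj [Finite G] {θ : G → ℂ} (h : IsGeneralizedCharacter G θ) :
    IsGeneralizedCharacter G (fun g => conj (θ g)) := by
  obtain ⟨a, b, ha, hb, rfl⟩ := h
  exact ⟨_, _, isCharacter_conj ha, isCharacter_conj hb, by funext g; simp⟩

theorem IsGeneralizedCharacter.isClassFunction {θ : G → ℂ} (h : IsGeneralizedCharacter G θ) :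
    IsClassFunction G θ := by
  obtain ⟨a, b, ha, hb, rfl⟩ := h
  intro g x
  simp [IsCharacter.isClassFunction ha g x, IsCharacter.isClassFunction hb g x]

theorem IsGeneralizedCharacter.map_inv [Finite G] {θ : G → ℂ} (h : IsGeneralizedCharacter G θ)
    (g : G) : θ g⁻¹ = conj (θ g) := by
  obtain ⟨a, b, ha, hb, rfl⟩ := h
  simp [IsCharacter.map_inv ha g, IsCharacter.map_inv hb g]

theorem IsGeneralizedCharacter.isIntegral [Finite G] {θ : G → ℂ}
    (h : IsGeneralizedCharacter G θ) (g : G) : IsIntegral ℤ (θ g) := by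
  obtain ⟨a, b, ha, hb, rfl⟩ := h
  exact (IsCharacter.isIntegral ha g).sub (IsCharacter.isIntegral hb g)

theorem IsGeneralizedCharacter.exists_degree {θ : G → ℂ} (h : IsGeneralizedCharacter G θ) :
    ∃ z : ℤ, θ 1 = z := by
  obtain ⟨a, b, ha, hb, rfl⟩ := h
  obtain ⟨m, hm⟩ := IsCharacter.exists_degree ha
  obtain ⟨n, hn⟩ := IsCharacter.exists_degree hb
  exact ⟨(m : ℤ) - n, by simp [hm, hn]⟩

section Inner

variable [Fintype G]

theorem classInner_int_of_isGeneralized {θ η : G → ℂ} (h : IsGeneralizedCharacter G θ)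
    (h' : IsGeneralizedCharacter G η) : ∃ z : ℤ, classInner θ η = z := by
  obtain ⟨a, b, ha, hb, rfl⟩ := h
  obtain ⟨c, d, hc, hd, rfl⟩ := h'
  obtain ⟨n₁, e₁⟩ := classInner_natCast_of_isCharacter ha hc
  obtain ⟨n₂, e₂⟩ := classInner_natCast_of_isCharacter ha hd
  obtain ⟨n₃, e₃⟩ := classInner_natCast_of_isCharacter hb hc
  obtain ⟨n₄, e₄⟩ := classInner_natCast_of_isCharacter hb hd
  exact ⟨(n₁ : ℤ) - n₂ - (n₃ - n₄), by
    simp [classInner_sub_left, classInner_sub_right, e₁, e₂, e₃, e₄]; ring⟩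

theorem isGeneralizedCharacter_of_classInner_int {f : G → ℂ} (hf : IsClassFunction G f)
    (h : ∀ χ : G → ℂ, IsIrrCharacter G χ → ∃ z : ℤ, classInner f χ = z) :
    IsGeneralizedCharacter G f := by
  haveI := Fintype.ofFinite (IrrCharacter G)
  rw [IsClassFunction.eq_sum hf]
  refine isGeneralizedCharacter_sum _ _ fun χ _ => ?_
  obtain ⟨z, hz⟩ := h χ χ.2
  rw [hz]
  exact isGeneralizedCharacter_intCast_smul (IsIrrCharacter.isGeneralized χ.2) z

theorem isGeneralizedCharacter_iff {f : G → ℂ} :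
    IsGeneralizedCharacter G f ↔ IsClassFunction G f ∧
      ∀ χ : G → ℂ, IsIrrCharacter G χ → ∃ z : ℤ, classInner f χ = z :=
  ⟨fun h => ⟨IsGeneralizedCharacter.isClassFunction h, fun _ hχ =>
    classInner_int_of_isGeneralized h (IsIrrCharacter.isGeneralized hχ)⟩,
    fun h => isGeneralizedCharacter_of_classInner_int h.1 h.2⟩

theorem IsGeneralizedCharacter.exists_intCoeff [Fintype (IrrCharacter G)] {θ : G → ℂ}
    (h : IsGeneralizedCharacter G θ) : ∃ c : IrrCharacter G → ℤ,
      θ = ∑ χ : IrrCharacter G, (c χ : ℂ) • (χ : G → ℂ) ∧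
        ∀ χ : IrrCharacter G, classInner θ (χ : G → ℂ) = c χ := by
  choose c hc using fun χ : IrrCharacter G =>
    classInner_int_of_isGeneralized h (IsIrrCharacter.isGeneralized χ.2)
  refine ⟨c, ?_, hc⟩
  simp only [← hc]
  exact IsClassFunction.eq_sum (IsGeneralizedCharacter.isClassFunction h)

theorem classInner_sum_sum [Fintype (IrrCharacter G)] (a b : IrrCharacter G → ℂ) :
    classInner (∑ χ : IrrCharacter G, a χ • (χ : G → ℂ))
      (∑ χ : IrrCharacter G, b χ • (χ : G → ℂ)) = ∑ χ, a χ * conj (b χ) := by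
  classical
  simp [classInner_sum_left, classInner_sum_right, classInner_smul_left, classInner_smul_right,
    classInner_irr, mul_comm]

theorem classInner_eq_sum_mul [Fintype (IrrCharacter G)] {f f' : G → ℂ}
    (hf : IsClassFunction G f) (hf' : IsClassFunction G f') :
    classInner f f' =
      ∑ χ : IrrCharacter G, classInner f (χ : G → ℂ) * conj (classInner f' (χ : G → ℂ)) := by
  conv_lhs => rw [IsClassFunction.eq_sum hf, IsClassFunction.eq_sum hf']
  exact classInner_sum_sum _ _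

theorem IsGeneralizedCharacter.classInner_self_eq_sum_sq [Fintype (IrrCharacter G)] {θ : G → ℂ}
    (h : IsGeneralizedCharacter G θ) (c : IrrCharacter G → ℤ)
    (hc : ∀ χ : IrrCharacter G, classInner θ (χ : G → ℂ) = c χ) :
    classInner θ θ = ((∑ χ, c χ ^ 2 : ℤ) : ℂ) := by
  rw [classInner_eq_sum_mul (IsGeneralizedCharacter.isClassFunction h)
    (IsGeneralizedCharacter.isClassFunction h)]
  simp [hc, sq]

theorem int_sum_sq_one {ι : Type*} [Fintype ι] [DecidableEq ι] {c : ι → ℤ} (h : ∑ i, c i ^ 2 = 1) :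
    ∃ i, (c i = 1 ∨ c i = -1) ∧ ∀ j, j ≠ i → c j = 0 := by
  obtain ⟨i, hi⟩ : ∃ i, c i ≠ 0 := by
    by_contra hh; push Not at hh; simp [hh] at h
  have hrest : ∀ j, j ≠ i → c j = 0 := by
    intro j hj
    by_contra hne
    have h2 : c i ^ 2 + c j ^ 2 ≤ 1 := by
      rw [← h, ← Finset.sum_pair (f := fun k => c k ^ 2) hj.symm]
      exact Finset.sum_le_sum_of_subset_of_nonneg (Finset.subset_univ _) fun k _ _ => sq_nonneg _
    have := sq_pos_of_ne_zero hi
    have := sq_pos_of_ne_zero hne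
    omega
  refine ⟨i, ?_, hrest⟩
  rw [Finset.sum_eq_single i (fun j _ hj => by simp [hrest j hj]) (by simp)] at h
  exact sq_eq_one_iff.mp h

/-- A generalized character of norm one is an irreducible character up to sign. -/
theorem IsGeneralizedCharacter.irr_or_neg {θ : G → ℂ} (h : IsGeneralizedCharacter G θ)
    (h1 : classInner θ θ = 1) : IsIrrCharacter G θ ∨ IsIrrCharacter G (-θ) := by
  classical
  haveI := Fintype.ofFinite (IrrCharacter G)
  obtain ⟨c, hθ, hc⟩ := IsGeneralizedCharacter.exists_intCoeff h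
  rw [IsGeneralizedCharacter.classInner_self_eq_sum_sq h c hc] at h1
  obtain ⟨i, hi, hrest⟩ := int_sum_sq_one (c := c) (by exact_mod_cast h1)
  rw [Finset.sum_eq_single i (fun j _ hj => by simp [hrest j hj]) (by simp)] at hθ
  rcases hi with hi | hi
  · left; rw [hθ, hi]; simpa using i.2
  · right; rw [hθ, hi]; simpa using i.2

/-- A generalized character of norm two vanishing at `1` is a difference of two irreducibles. -/
theorem IsGeneralizedCharacter.exists_sub_of_norm_two {θ : G → ℂ}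
    (h : IsGeneralizedCharacter G θ) (h2 : classInner θ θ = 2) (h0 : θ 1 = 0) :
    ∃ μ ν : IrrCharacter G, μ ≠ ν ∧ θ = (μ : G → ℂ) - (ν : G → ℂ) := by
  classical
  haveI := Fintype.ofFinite (IrrCharacter G)
  obtain ⟨c, hθ, hc⟩ := IsGeneralizedCharacter.exists_intCoeff h
  rw [IsGeneralizedCharacter.classInner_self_eq_sum_sq h c hc] at h2
  have h2' : ∑ χ, c χ ^ 2 = 2 := by exact_mod_cast h2
  obtain ⟨i, hi⟩ : ∃ i, c i ≠ 0 := by
    by_contra hh; push Not at hh; simp [hh] at h2'
  have hib : c i ^ 2 = 1 := by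
    have hle : c i ^ 2 ≤ 2 :=
      h2' ▸ Finset.single_le_sum (fun k _ => sq_nonneg (c k)) (Finset.mem_univ i)
    have h4 : -2 < c i ∧ c i < 2 := ⟨by nlinarith, by nlinarith⟩
    obtain ⟨h4, h5⟩ := h4
    interval_cases hci : c i <;> simp_all
  have hsum : ∑ χ, (if χ = i then 0 else c χ) ^ 2 = 1 := by
    rw [← Finset.add_sum_erase _ _ (Finset.mem_univ i)] at h2' ⊢
    rw [Finset.sum_congr rfl fun χ hχ => by rw [if_neg (Finset.ne_of_mem_erase hχ)]]
    rw [if_pos rfl, zero_pow two_ne_zero, zero_add]; rw [hib] at h2'; omega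
  obtain ⟨j, hj, hrest⟩ := int_sum_sq_one hsum
  have hji : j ≠ i := by rintro rfl; simp at hj
  rw [if_neg hji] at hj
  have hθ2 : θ = (c i : ℂ) • (i : G → ℂ) + (c j : ℂ) • (j : G → ℂ) := by
    rw [hθ, ← Finset.sum_pair (f := fun χ => (c χ : ℂ) • (χ : G → ℂ)) hji.symm]
    refine (Finset.sum_subset (Finset.subset_univ _) fun k _ hk => ?_).symm
    simp only [Finset.mem_insert, Finset.mem_singleton, not_or] at hk
    have := hrest k hk.2
    rw [if_neg hk.1] at this
    simp [this]
  obtain ⟨m, hm, hmi⟩ := IsIrrCharacter.degree_pos i.2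
  obtain ⟨n, hn, hnj⟩ := IsIrrCharacter.degree_pos j.2
  have hd : (c i : ℤ) * m + c j * n = 0 := by
    have := congrFun hθ2 1
    simp [h0, hmi, hnj] at this
    exact_mod_cast this.symm
  rcases sq_eq_one_iff.mp hib with h1 | h1 <;> rcases hj with h3 | h3 <;>
    simp only [h1, h3] at hd hθ2
  · omega
  · exact ⟨i, j, hji.symm, by rw [hθ2]; simp; abel⟩
  · exact ⟨j, i, hji, by rw [hθ2]; simp; abel⟩
  · omega

end Inner

end Cfsg.Agent.Char
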