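import Cfsg.Agent.Lib.Char.Clifford
import Cfsg.Agent.Lib.Char.Linear
import Cfsg.Prelude.Def_CharExt
import Mathlib.GroupTheory.Transfer
import Mathlib.GroupTheory.QuotientGroup.Basic

/-!
# Extension of invariant irreducible characters of normal subgroups

For an irreducible representation `σ` of a normal subgroup `N` with invariant character, the
intertwiners form a central extension of `G` by `ℂˣ`, split over `N`; extensions of the character
correspond to splittings, and these are produced by transfer.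
-/

set_option autoImplicit false
set_option linter.style.haveILetI false

namespace Cfsg.Agent.Char

open Cfsg Representation Module
open scoped ComplexConjugate

universe u

variable {G : Type u} [Group G]

/-- Irreducible representations with the same character are equivalent. -/
theorem nonempty_equiv_of_character_eq [Finite G] {V W : Type*} [AddCommGroup V] [Module ℂ V]
    [FiniteDimensional ℂ V] [AddCommGroup W] [Module ℂ W] [FiniteDimensional ℂ W]
    (ρ : Representation ℂ G V) (σ : Representation ℂ G W) [ρ.IsIrreducible] [σ.IsIrreducible]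
    (h : ρ.character = σ.character) : Nonempty (ρ.Equiv σ) := by
  haveI := Fintype.ofFinite G
  by_contra hne
  haveI : IsEmpty (ρ.Equiv σ) := not_nonempty_iff.mp hne
  have h1 := classInner_character_eq_finrank ρ σ
  rw [Module.finrank_zero_of_subsingleton, ← h, Nat.cast_zero] at h1
  rw [(isIrreducible_iff_classInner ρ).mp ‹_›] at h1
  exact one_ne_zero h1

theorem det_eq_of_character_eq [Finite G] {V W : Type*} [AddCommGroup V] [Module ℂ V]
    [FiniteDimensional ℂ V] [AddCommGroup W] [Module ℂ W] [FiniteDimensional ℂ W]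
    (ρ : Representation ℂ G V) (σ : Representation ℂ G W) [ρ.IsIrreducible] [σ.IsIrreducible]
    (h : ρ.character = σ.character) (g : G) : LinearMap.det (ρ g) = LinearMap.det (σ g) := by
  obtain ⟨φ⟩ := nonempty_equiv_of_character_eq ρ σ h
  rw [← Equiv.conj_apply_self g φ, LinearEquiv.conj_apply, LinearMap.comp_assoc,
    LinearMap.det_conj]

/-- The determinantal character of an irreducible character is the determinant of any
representation affording it. -/
theorem detChar_eq [Finite G] {n : ℕ} (ρ : Representation ℂ G (Fin n → ℂ)) [ρ.IsIrreducible]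
    (g : G) : detChar ρ.character g = LinearMap.det (ρ g) := by
  haveI := Fintype.ofFinite G
  have h : IsCharacter G ρ.character := isCharacter_character ρ
  unfold detChar
  rw [dif_pos h]
  have hc := Classical.choose_spec (Classical.choose_spec h)
  haveI : (Classical.choose (Classical.choose_spec h)).IsIrreducible := by
    rw [isIrreducible_iff_classInner, hc]
    exact (isIrreducible_iff_classInner ρ).mp ‹_›
  exact det_eq_of_character_eq _ ρ hc g

theorem isScalar_of_commute {V : Type*} [AddCommGroup V] [Module ℂ V] [FiniteDimensional ℂ V]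
    (ρ : Representation ℂ G V) [ρ.IsIrreducible] (T : Module.End ℂ V)
    (hT : ∀ g, T * ρ g = ρ g * T) : ∃ c : ℂ, T = c • 1 := by
  obtain ⟨c, hc⟩ := (IsIrreducible.algebraMap_intertwiningMap_bijective_of_isAlgClosed (ρ := ρ)).2
    ⟨T, hT⟩
  have := congrArg IntertwiningMap.toLinearMap hc
  simp only at this
  exact ⟨c, by rw [← this, Algebra.algebraMap_eq_smul_one]; rfl⟩

/-- Being irreducible passes up from a subgroup. -/
theorem isIrreducible_of_comp {H : Type*} [Group H] (f : H →* G) {V : Type*} [AddCommGroup V]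
    [Module ℂ V] (ρ : Representation ℂ G V)
    (h : Representation.IsIrreducible (ρ.comp f)) : ρ.IsIrreducible := by
  haveI := nontrivial_of_irreducible (ρ.comp f)
  have hne : (⊥ : Subrepresentation ρ) ≠ ⊤ := fun e =>
    (bot_ne_top : (⊥ : Submodule ℂ V) ≠ ⊤) (congrArg Subrepresentation.toSubmodule e)
  haveI : Nontrivial (Subrepresentation ρ) := ⟨⟨⊥, ⊤, hne⟩⟩
  refine ⟨fun W => ?_⟩
  let W' : Subrepresentation (ρ.comp f) :=
    ⟨W.toSubmodule, fun x _ hv => W.apply_mem_toSubmodule (f x) hv⟩
  rcases h.eq_bot_or_eq_top W' with e | e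
  · exact Or.inl (Subrepresentation.toSubmodule_injective (congrArg Subrepresentation.toSubmodule e :))
  · exact Or.inr (Subrepresentation.toSubmodule_injective (congrArg Subrepresentation.toSubmodule e :))

variable (N : Subgroup G) [hN : N.Normal] {d : ℕ} (σ : Representation ℂ N (Fin d → ℂ))

/-- Pairs of a group element and an intertwiner of `σ` with its conjugate by the element. -/
def twistGroup : Subgroup (G × ((Fin d → ℂ) →ₗ[ℂ] (Fin d → ℂ))ˣ) where
  carrier := {e | ∀ n : N, (e.2 : (Fin d → ℂ) →ₗ[ℂ] (Fin d → ℂ)) * σ n =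
    σ (MulAut.conjNormal e.1 n) * e.2}
  one_mem' n := by simp
  mul_mem' {a b} ha hb n := by
    simp only [Prod.snd_mul, Prod.fst_mul, Units.val_mul, map_mul, MulAut.mul_apply]
    rw [mul_assoc, hb n, ← mul_assoc, ha, mul_assoc]
  inv_mem' {a} ha n := by
    simp only [Prod.snd_inv, Prod.fst_inv]
    have h := ha (MulAut.conjNormal a.1⁻¹ n)
    rw [← MulAut.mul_apply, ← map_mul, mul_inv_cancel, map_one, MulAut.one_apply] at h
    rw [Units.inv_mul_eq_iff_eq_mul, ← mul_assoc, h, mul_assoc, Units.mul_inv, mul_one]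

/-- The projection to the group. -/
def twistProj : twistGroup N σ →* G :=
  (MonoidHom.fst _ _).comp (twistGroup N σ).subtype

/-- The scalars. -/
noncomputable def twistScalar : ℂˣ →* twistGroup N σ where
  toFun z := ⟨(1, Units.map (algebraMap ℂ ((Fin d → ℂ) →ₗ[ℂ] (Fin d → ℂ))).toMonoidHom z), fun n => by
    simp only [map_one, MulAut.one_apply]
    exact Algebra.commutes (z : ℂ) (σ n)⟩
  map_one' := Subtype.ext (Prod.ext rfl (by simp))
  map_mul' a b := Subtype.ext (Prod.ext (by simp) (by simp))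

/-- The copy of the normal subgroup. -/
noncomputable def twistEmb : N →* twistGroup N σ where
  toFun n := ⟨((n : G), σ.toHomUnits n), fun m => by
    simp only [MonoidHom.coe_toHomUnits, ← map_mul]
    congr 1
    exact Subtype.ext (by simp [mul_assoc])⟩
  map_one' := Subtype.ext (Prod.ext rfl (by simp))
  map_mul' a b := Subtype.ext (Prod.ext (by simp) (by simp))

theorem twistProj_scalar (z : ℂˣ) : twistProj N σ (twistScalar N σ z) = 1 := rfl

theorem twistProj_emb (n : N) : twistProj N σ (twistEmb N σ n) = n := rfl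

theorem twistScalar_comm (z : ℂˣ) (e : twistGroup N σ) :
    twistScalar N σ z * e = e * twistScalar N σ z := by
  apply Subtype.ext
  refine Prod.ext ?_ (Units.ext ?_)
  · show (1 : G) * e.1.1 = e.1.1 * 1
    rw [one_mul, mul_one]
  · exact Algebra.commutes (z : ℂ) _

theorem conj_twistEmb (e : twistGroup N σ) (n : N) :
    e * twistEmb N σ n * e⁻¹ = twistEmb N σ (MulAut.conjNormal (twistProj N σ e) n) := by
  rw [mul_inv_eq_iff_eq_mul]
  apply Subtype.ext
  refine Prod.ext ?_ (Units.ext ?_)
  · show e.1.1 * (n : G) = e.1.1 * n * e.1.1⁻¹ * e.1.1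
    rw [inv_mul_cancel_right]
  · exact e.2 n

theorem twistProj_surjective [Finite G] [σ.IsIrreducible]
    (hinv : ∀ g, conjChar N g σ.character = σ.character) :
    Function.Surjective (twistProj N σ) := by
  intro g
  let τ : Representation ℂ N (Fin d → ℂ) := σ.comp (MulAut.conjNormal g : N ≃* N).toMonoidHom
  have hc : σ.character = τ.character := by
    funext n
    conv_lhs => rw [← hinv g]
    exact conjChar_apply N g σ.character n
  haveI : τ.IsIrreducible := by
    haveI := Fintype.ofFinite N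
    rw [isIrreducible_iff_classInner, ← hc]
    exact (isIrreducible_iff_classInner σ).mp ‹_›
  obtain ⟨φ⟩ := nonempty_equiv_of_character_eq σ τ hc
  refine ⟨⟨(g, LinearMap.GeneralLinearGroup.ofLinearEquiv φ.toLinearEquiv), fun n => ?_⟩, rfl⟩
  exact φ.toIntertwiningMap.isIntertwining' n

theorem exists_scalar_of_twistProj [σ.IsIrreducible] {e : twistGroup N σ}
    (he : twistProj N σ e = 1) : ∃ z, e = twistScalar N σ z := by
  haveI := nontrivial_of_irreducible σ
  have h : ∀ n, (e.1.2 : (Fin d → ℂ) →ₗ[ℂ] (Fin d → ℂ)) * σ n = σ n * e.1.2 := fun n => by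
    have := e.2 n
    rwa [show e.1.1 = 1 from he, map_one, MulAut.one_apply] at this
  obtain ⟨c, hc⟩ := isScalar_of_commute σ _ h
  have hc0 : c ≠ 0 := by
    rintro rfl
    rw [zero_smul] at hc
    exact e.1.2.ne_zero hc
  refine ⟨Units.mk0 c hc0, Subtype.ext (Prod.ext he (Units.ext ?_))⟩
  rw [hc]
  exact (Algebra.algebraMap_eq_smul_one c).symm

theorem twistScalar_injective [σ.IsIrreducible] : Function.Injective (twistScalar N σ) := by
  haveI := nontrivial_of_irreducible σ
  intro a b h
  have h1 := congrArg (fun e : twistGroup N σ => ((e.1.2 : _ˣ) : (Fin d → ℂ) →ₗ[ℂ] (Fin d → ℂ))) h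
  exact Units.ext ((algebraMap ℂ ((Fin d → ℂ) →ₗ[ℂ] (Fin d → ℂ))).injective h1)

/-- A homomorphism on the twist group restricting to the `m`th power on scalars and trivial on `N`. -/
def HasSplit (m : ℤ) : Prop :=
  ∃ f : twistGroup N σ →* ℂˣ, (∀ z, f (twistScalar N σ z) = z ^ m) ∧ ∀ n, f (twistEmb N σ n) = 1

/-- The exponents admitting a homomorphism, as a subgroup. -/
def splitExponents : AddSubgroup ℤ where
  carrier := {m | HasSplit N σ m}
  zero_mem' := ⟨1, fun z => by simp, fun n => rfl⟩
  add_mem' := by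
    rintro a b ⟨f, hf, hf'⟩ ⟨g, hg, hg'⟩
    exact ⟨f * g, fun z => by simp [hf, hg, zpow_add], fun n => by simp [hf', hg']⟩
  neg_mem' := by
    rintro a ⟨f, hf, hf'⟩
    exact ⟨f⁻¹, fun z => by simp [hf], fun n => by simp [hf']⟩

theorem hasSplit_one_of_primes (h : ∀ p : ℕ, p.Prime → ∃ m : ℤ, ¬ (p : ℤ) ∣ m ∧ HasSplit N σ m) :
    HasSplit N σ 1 := by
  obtain ⟨d, hd⟩ := Int.subgroup_cyclic (splitExponents N σ)
  have hmem : ∀ m : ℤ, HasSplit N σ m ↔ d ∣ m := fun m => by
    rw [show HasSplit N σ m ↔ m ∈ splitExponents N σ from Iff.rfl, hd,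
      ← AddSubgroup.zmultiples_eq_closure, Int.mem_zmultiples_iff]
  rw [hmem]
  refine Int.isUnit_iff_natAbs_eq.mpr ?_ |> fun hu => hu.dvd
  by_contra hne
  obtain ⟨p, hp, hpd⟩ := Nat.exists_prime_and_dvd hne
  obtain ⟨m, hm, hs⟩ := h p hp
  exact hm ((Int.natCast_dvd.mpr hpd).trans ((hmem m).mp hs))

theorem hasSplit_of_coprime {a b : ℕ} (h : Nat.Coprime a b) (ha : HasSplit N σ a)
    (hb : HasSplit N σ b) : HasSplit N σ 1 := by
  refine hasSplit_one_of_primes N σ fun p hp => ?_
  by_cases hpa : p ∣ a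
  · exact ⟨b, fun hd => hp.one_lt.ne' (Nat.eq_one_of_dvd_coprimes h hpa (by exact_mod_cast hd)), hb⟩
  · exact ⟨a, fun hd => hpa (by exact_mod_cast hd), ha⟩

/-- The determinant gives a homomorphism with exponent the degree. -/
theorem hasSplit_degree (μ : G →* ℂˣ) (hμ : ∀ n : N, (μ n : ℂ) = LinearMap.det (σ n)) :
    HasSplit N σ d := by
  let D : twistGroup N σ →* ℂˣ :=
    ((Units.map (LinearMap.det : ((Fin d → ℂ) →ₗ[ℂ] (Fin d → ℂ)) →* ℂ)).comp
      (MonoidHom.snd G _)).comp (twistGroup N σ).subtype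
  refine ⟨D * (μ.comp (twistProj N σ))⁻¹, fun z => ?_, fun n => ?_⟩
  · simp only [MonoidHom.mul_apply, MonoidHom.inv_apply, MonoidHom.comp_apply, twistProj_scalar,
      map_one, inv_one, mul_one]
    refine Units.ext ?_
    show LinearMap.det (algebraMap ℂ ((Fin d → ℂ) →ₗ[ℂ] (Fin d → ℂ)) (z : ℂ)) = _
    rw [Algebra.algebraMap_eq_smul_one, LinearMap.det_smul, map_one, mul_one, Module.finrank_fin_fun]
    simp
  · simp only [MonoidHom.mul_apply, MonoidHom.inv_apply, MonoidHom.comp_apply, twistProj_emb]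
    rw [mul_inv_eq_one]
    refine Units.ext ?_
    rw [hμ]
    rfl

/-- A section homomorphism over a subgroup gives, by transfer, the index as an exponent. -/
theorem hasSplit_index [Finite G] [σ.IsIrreducible]
    (hsurj : Function.Surjective (twistProj N σ)) (H : Subgroup G) (hNH : N ≤ H)
    (s : H →* twistGroup N σ) (hs : ∀ h, twistProj N σ (s h) = h)
    (hsN : ∀ n : N, s ⟨n, hNH n.2⟩ = twistEmb N σ n) : HasSplit N σ H.index := by
  let K := H.comap (twistProj N σ)
  have hexists : ∀ e : K, ∃ z : ℂˣ,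
      (e : twistGroup N σ) = twistScalar N σ z * s ⟨twistProj N σ e.1, e.2⟩ := by
    intro e
    obtain ⟨z, hz⟩ := exists_scalar_of_twistProj N σ
      (e := (e : twistGroup N σ) * (s ⟨twistProj N σ e.1, e.2⟩)⁻¹)
      (by rw [map_mul, map_inv, hs, mul_inv_cancel])
    exact ⟨z, by rw [← hz, inv_mul_cancel_right]⟩
  choose φ hφ using hexists
  have huniq : ∀ (e : K) (z : ℂˣ) (h : H),
      (e : twistGroup N σ) = twistScalar N σ z * s h → φ e = z := by
    intro e z h hz
    have hh : (⟨twistProj N σ e.1, e.2⟩ : H) = h := by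
      apply Subtype.ext
      show twistProj N σ e.1 = h
      rw [hz, map_mul, twistProj_scalar, one_mul, hs]
    have h1 := hφ e
    rw [hh] at h1
    exact twistScalar_injective N σ (mul_right_cancel (h1.symm.trans hz))
  let φh : K →* ℂˣ := MonoidHom.mk' φ fun a b =>
    huniq _ _ (⟨twistProj N σ a.1, a.2⟩ * ⟨twistProj N σ b.1, b.2⟩) (by
      rw [Subgroup.coe_mul]
      conv_lhs => rw [hφ a, hφ b]
      rw [map_mul, map_mul]
      simp only [mul_assoc]
      rw [← mul_assoc (s _), ← twistScalar_comm N σ (φ b), mul_assoc])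
  have hidx : K.index = H.index := Subgroup.index_comap_of_surjective _ hsurj
  haveI : K.FiniteIndex := ⟨by rw [hidx]; exact Subgroup.index_ne_zero_of_finite⟩
  refine ⟨MonoidHom.transfer φh, fun z => ?_, fun n => ?_⟩
  · rw [MonoidHom.transfer_eq_pow φh (twistScalar N σ z) fun k e _ => by
      rw [← map_pow, mul_assoc, twistScalar_comm, inv_mul_cancel_left]]
    rw [zpow_natCast, ← hidx]
    refine huniq _ _ 1 ?_
    rw [map_one, mul_one, map_pow]
  · classical
    haveI := Subgroup.fintypeQuotientOfFiniteIndex (H := K)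
    rw [MonoidHom.transfer_eq_prod_quotient_orbitRel_zpowers_quot]
    refine Finset.prod_eq_one fun q _ => ?_
    have key : ∀ (e : twistGroup N σ) (k : ℕ), e⁻¹ * twistEmb N σ n ^ k * e =
        twistScalar N σ 1 * s ⟨(MulAut.conjNormal (twistProj N σ e⁻¹) (n ^ k) : N),
          hNH (Subtype.coe_prop _)⟩ := by
      intro e k
      rw [map_one, one_mul, hsN, ← conj_twistEmb, map_pow, inv_inv]
    exact huniq _ _ _ (key _ _)

/-- A splitting gives an extension. -/
theorem exists_extension_of_hasSplit_one [Finite G] [σ.IsIrreducible]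
    (hsurj : Function.Surjective (twistProj N σ)) (h : HasSplit N σ 1) :
    ∃ τ : Representation ℂ G (Fin d → ℂ), τ.IsIrreducible ∧ ∀ n : N, τ n = σ n := by
  obtain ⟨f, hf, hf'⟩ := h
  let r : twistGroup N σ →* twistGroup N σ :=
    MonoidHom.mk' (fun e => twistScalar N σ (f e)⁻¹ * e) fun a b => by
      simp only [map_mul, mul_inv]
      rw [mul_assoc, mul_assoc, ← mul_assoc (twistScalar N σ (f b)⁻¹) a,
        twistScalar_comm N σ (f b)⁻¹ a, mul_assoc]
  have hker : (twistProj N σ).ker ≤ r.ker := by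
    intro e he
    obtain ⟨z, rfl⟩ := exists_scalar_of_twistProj N σ he
    rw [MonoidHom.mem_ker]
    show twistScalar N σ (f (twistScalar N σ z))⁻¹ * twistScalar N σ z = 1
    rw [hf, zpow_one, ← map_mul, inv_mul_cancel, map_one]
  let s : G →* twistGroup N σ := (twistProj N σ).liftOfSurjective hsurj ⟨r, hker⟩
  have hs : ∀ e, s (twistProj N σ e) = r e := fun e =>
    MonoidHom.liftOfRightInverse_comp_apply _ _ _ ⟨r, hker⟩ e
  let τ : Representation ℂ G (Fin d → ℂ) :=
    (Units.coeHom _).comp ((MonoidHom.snd G _).comp ((twistGroup N σ).subtype.comp s))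
  have hτ : ∀ n : N, τ n = σ n := by
    intro n
    show ((s (n : G)).1.2 : (Fin d → ℂ) →ₗ[ℂ] (Fin d → ℂ)) = σ n
    have h1 : s (n : G) = twistEmb N σ n := by
      rw [← twistProj_emb N σ n, hs]
      show twistScalar N σ (f (twistEmb N σ n))⁻¹ * twistEmb N σ n = _
      rw [hf', inv_one, map_one, one_mul]
    rw [h1]
    rfl
  refine ⟨τ, isIrreducible_of_comp N.subtype τ ?_, hτ⟩
  have : (τ.comp N.subtype : Representation ℂ N (Fin d → ℂ)) = σ := MonoidHom.ext hτ
  rw [this]; infer_instance

/-- An extension to a subgroup gives a section. -/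
theorem exists_section_of_extension [Finite G] [σ.IsIrreducible] (H : Subgroup G) (hNH : N ≤ H)
    {η : H → ℂ} (hη : IsCharacter H η) (he : ∀ n : N, η ⟨n, hNH n.2⟩ = σ.character n) :
    ∃ s : H →* twistGroup N σ, (∀ h, twistProj N σ (s h) = h) ∧
      ∀ n : N, s ⟨n, hNH n.2⟩ = twistEmb N σ n := by
  haveI := Fintype.ofFinite N
  obtain ⟨m, τ, rfl⟩ := hη
  let τN : Representation ℂ N (Fin m → ℂ) := τ.comp (Subgroup.inclusion hNH)
  have hc : τN.character = σ.character := funext he
  haveI : τN.IsIrreducible := by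
    rw [isIrreducible_iff_classInner, hc]
    exact (isIrreducible_iff_classInner σ).mp ‹_›
  obtain ⟨φ⟩ := nonempty_equiv_of_character_eq τN σ hc
  let T : H →* ((Fin d → ℂ) →ₗ[ℂ] (Fin d → ℂ))ˣ :=
    (({ toFun := fun h => φ.toLinearEquiv.conj (τ h)
        map_one' := by rw [map_one, Module.End.one_eq_id, LinearEquiv.conj_id]; rfl
        map_mul' := fun a b => by
          rw [map_mul, Module.End.mul_eq_comp, LinearEquiv.conj_comp]; rfl } :
      H →* ((Fin d → ℂ) →ₗ[ℂ] (Fin d → ℂ)))).toHomUnits
  have hT : ∀ n : N, (T ⟨n, hNH n.2⟩ : (Fin d → ℂ) →ₗ[ℂ] (Fin d → ℂ)) = σ n := fun n =>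
    Equiv.conj_apply_self n φ
  refine ⟨MonoidHom.mk' (fun h => ⟨((h : G), T h), fun n => ?_⟩) (fun a b =>
    Subtype.ext (Prod.ext rfl (map_mul T a b))), fun h => rfl, fun n => Subtype.ext
      (Prod.ext rfl (Units.ext (hT n)))⟩
  simp only
  rw [← hT, ← hT, ← Units.val_mul, ← Units.val_mul, ← map_mul, ← map_mul]
  congr 2
  exact Subtype.ext (by simp)

theorem hasSplit_index_self [Finite G] [σ.IsIrreducible]
    (hsurj : Function.Surjective (twistProj N σ)) : HasSplit N σ N.index :=
  hasSplit_index N σ hsurj N le_rfl (twistEmb N σ) (fun _ => rfl) fun _ => rfl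

/-! ## Extension criteria for characters -/

variable {N}

theorem exists_extension_of_sylow [Finite G] {θ : N → ℂ} (hθ : IsIrrCharacter N θ)
    (hinv : ∀ g, conjChar N g θ = θ)
    (hsyl : ∀ p : ℕ, p.Prime → ∃ (P : Subgroup G) (hNP : N ≤ P) (η : P → ℂ),
      Nat.Coprime P.index p ∧ IsCharacter P η ∧ ∀ n : N, η ⟨n, hNP n.2⟩ = θ n) :
    ∃ χ : G → ℂ, IsIrrCharacter G χ ∧ ∀ n : N, χ n = θ n := by
  obtain ⟨d, σ, hσ, rfl⟩ := hθ
  haveI := hσ
  have hsurj := twistProj_surjective N σ hinv
  obtain ⟨τ, hτ, hτN⟩ := exists_extension_of_hasSplit_one N σ hsurj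
    (hasSplit_one_of_primes N σ fun p hp => by
      obtain ⟨P, hNP, η, hcop, hη, he⟩ := hsyl p hp
      obtain ⟨s, hs, hsN⟩ := exists_section_of_extension N σ P hNP hη he
      exact ⟨P.index, fun hd => hp.coprime_iff_not_dvd.mp hcop.symm (by exact_mod_cast hd),
        hasSplit_index N σ hsurj P hNP s hs hsN⟩)
  haveI := hτ
  exact ⟨τ.character, isIrrCharacter_character τ, fun n => by
    simp [Representation.character, hτN n]⟩

/-- Gallagher's criterion. -/
theorem exists_extension_of_det [Finite G] {θ : N → ℂ} (hθ : IsIrrCharacter N θ)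
    (hinv : ∀ g, conjChar N g θ = θ) {d : ℕ} (hd : θ 1 = d) (hcop : Nat.Coprime N.index d)
    (μ : G →* ℂˣ) (hμ : ∀ n : N, (μ n : ℂ) = detChar θ n) :
    ∃ χ : G → ℂ, IsIrrCharacter G χ ∧ ∀ n : N, χ n = θ n := by
  obtain ⟨m, σ, hσ, rfl⟩ := hθ
  haveI := hσ
  have hdm : d = m := by
    rw [σ.char_one, Module.finrank_fin_fun] at hd
    exact_mod_cast hd.symm
  subst hdm
  have hsurj := twistProj_surjective N σ hinv
  obtain ⟨τ, hτ, hτN⟩ := exists_extension_of_hasSplit_one N σ hsurj
    (hasSplit_of_coprime N σ hcop (hasSplit_index_self N σ hsurj)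
      (hasSplit_degree N σ μ fun n => by rw [hμ, detChar_eq σ n]))
  haveI := hτ
  exact ⟨τ.character, isIrrCharacter_character τ, fun n => by
    simp [Representation.character, hτN n]⟩

end Cfsg.Agent.Char
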