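import Cfsg.Agent.Lib.Char.Clifford
import Cfsg.Agent.Lib.Char.Extension
import Mathlib.RingTheory.RootsOfUnity.Basic
import Mathlib.LinearAlgebra.TensorProduct.Free
import Mathlib.LinearAlgebra.Dimension.Free
import Mathlib.LinearAlgebra.FreeModule.Finite.Basic
import Mathlib.LinearAlgebra.Basis.VectorSpace
import Mathlib.LinearAlgebra.Dimension.Constructions

/-!
# Degrees divide indices
-/

set_option autoImplicit false
set_option linter.style.haveILetI false

namespace Cfsg.Agent.Char

open Cfsg Representation Module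
open scoped ComplexConjugate TensorProduct

universe u

variable {G : Type u} [Group G]

/-- Summing an invariant function over a finite set with a nearly free action. -/
theorem sum_mul_card_fiber {α β : Type*} [Fintype α] [Fintype β] [DecidableEq β] (q : α → β)
    (f : α → ℂ) (rep : β → α) (hf : ∀ a, f a = f (rep (q a))) :
    ∑ a, f a = ∑ b, (Nat.card {a // q a = b} : ℂ) * f (rep b) := by
  rw [← Finset.sum_fiberwise Finset.univ q f]
  refine Finset.sum_congr rfl fun b _ => ?_
  rw [Finset.sum_congr rfl fun a ha => (hf a).trans (by rw [(Finset.mem_filter.mp ha).2]),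
    Finset.sum_const, nsmul_eq_mul, ← Fintype.card_subtype, Nat.card_eq_fintype_card]

/-- Subgroups acting by scalars in a faithful irreducible representation. -/
theorem degree_dvd_index_of_scalar_faithful [Finite G] {V : Type*} [AddCommGroup V] [Module ℂ V]
    [FiniteDimensional ℂ V] (ρ : Representation ℂ G V) [ρ.IsIrreducible]
    (hinj : Function.Injective ρ) (A : Subgroup G)
    (h : ∀ a ∈ A, ∃ c : ℂ, ρ a = c • (1 : V →ₗ[ℂ] V)) : finrank ℂ V ∣ A.index := by
  classical
  haveI := Fintype.ofFinite G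
  haveI := nontrivial_of_irreducible ρ
  let χ := ρ.character
  have hcen : ∀ a ∈ A, ∀ x : G, a * x = x * a := fun a ha x => hinj (by
    obtain ⟨c, hc⟩ := h a ha
    rw [map_mul, map_mul, hc, smul_mul_assoc, mul_smul_comm, one_mul, mul_one])
  have hnorm : ∀ a ∈ A, ∀ x : G, χ (a * x) * conj (χ (a * x)) = χ x * conj (χ x) := by
    intro a ha x
    obtain ⟨c, hc⟩ := h a ha
    have hc1 : χ (a * x) = c * χ x := by
      simp [χ, Representation.character, hc]
    have hpow : c ^ orderOf a = 1 := by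
      have h1 : ρ (a ^ orderOf a) = c ^ orderOf a • (1 : V →ₗ[ℂ] V) := by
        rw [map_pow, hc, smul_pow, one_pow]
      rw [pow_orderOf_eq_one, map_one] at h1
      obtain ⟨v, hv⟩ := exists_ne (0 : V)
      have := LinearMap.congr_fun h1 v
      simp only [Module.End.one_apply, LinearMap.smul_apply] at this
      exact (smul_left_injective ℂ hv (by simpa using this.symm))
    have hcc : c * conj c = 1 := by
      rw [Complex.mul_conj, Complex.normSq_eq_norm_sq,
        Complex.norm_eq_one_of_pow_eq_one hpow (orderOf_pos a).ne']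
      simp
    rw [hc1, map_mul, mul_mul_mul_comm, hcc, one_mul]
  let S : Setoid G :=
    { r := fun x y => ∃ a ∈ A, IsConj (a * x) y
      iseqv :=
        { refl := fun x => ⟨1, A.one_mem, by rw [one_mul]⟩
          symm := fun {x y} ⟨a, ha, hxy⟩ => ⟨a⁻¹, A.inv_mem ha, by
            obtain ⟨g, hg⟩ := isConj_iff.mp hxy
            have e : a⁻¹ * y = g * x * g⁻¹ := by
              rw [← hg, ← mul_assoc g, ← hcen a ha g]
              simp [mul_assoc]
            exact isConj_iff.mpr ⟨g⁻¹, by rw [e]; group⟩⟩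
          trans := fun {x y z} ⟨a, ha, hxy⟩ ⟨b, hb, hyz⟩ => ⟨b * a, A.mul_mem hb ha, by
            obtain ⟨g, hg⟩ := isConj_iff.mp hxy
            refine IsConj.trans (isConj_iff.mpr ⟨g, ?_⟩) hyz
            rw [← hg, mul_assoc b, ← mul_assoc g b, ← hcen b hb g]
            simp [mul_assoc]⟩ } }
  haveI : Fintype (Quotient S) := Fintype.ofFinite _
  let f : G → ℂ := fun x => χ x * conj (χ x)
  have hf : ∀ x, f x = f ((Quotient.mk S x).out) := by
    intro x
    obtain ⟨a, ha, hc⟩ := Quotient.exact ((Quotient.mk S x).out_eq)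
    show χ x * conj (χ x) = χ ((Quotient.mk S x).out) * conj (χ ((Quotient.mk S x).out))
    rw [← hnorm a ha ((Quotient.mk S x).out)]
    have h2 : χ (a * (Quotient.mk S x).out) = χ x :=
      IsIrrCharacter.apply_isConj (isIrrCharacter_character ρ) hc
    rw [h2]
  have hd : (finrank ℂ V : ℂ) ≠ 0 := Nat.cast_ne_zero.mpr finrank_pos.ne'
  have hk : (Nat.card G : ℂ) ≠ 0 := Nat.cast_ne_zero.mpr Nat.card_pos.ne'
  have htot : ∑ g : G, f g = (Nat.card G : ℂ) := by
    have := (isIrreducible_iff_classInner ρ).mp ‹_›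
    rw [classInner, inv_mul_eq_div, div_eq_one_iff_eq hk] at this
    exact this
  apply nat_dvd_of_isIntegral_div finrank_pos.ne'
  have hA : (Nat.card A : ℂ) ≠ 0 := Nat.cast_ne_zero.mpr Nat.card_pos.ne'
  have hidx : (A.index : ℂ) = (Nat.card G : ℂ) / Nat.card A := by
    rw [eq_div_iff hA, ← A.index_mul_card, Nat.cast_mul]
  rw [hidx, ← htot, sum_mul_card_fiber (Quotient.mk S) f Quotient.out hf, Finset.sum_div,
    Finset.sum_div]
  refine IsIntegral.sum _ fun q _ => ?_
  by_cases h0 : χ q.out = 0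
  · simp [f, h0, isIntegral_zero]
  set x := q.out with hx
  have hmem : ∀ y, Quotient.mk S y = q ↔ ∃ a ∈ A, IsConj (a * x) y := fun y => by
    rw [eq_comm]
    conv_lhs => rw [← q.out_eq, Quotient.eq, ← hx]
    rfl
  let e : A × {y // IsConj x y} → {y // Quotient.mk S y = q} := fun p =>
    ⟨p.1 * p.2.1, (hmem _).mpr ⟨p.1, p.1.2, by
      obtain ⟨g, hg⟩ := isConj_iff.mp p.2.2
      exact isConj_iff.mpr ⟨g, by rw [← hg, ← mul_assoc g, ← hcen _ p.1.2 g]; simp [mul_assoc]⟩⟩⟩
  have he : Function.Bijective e := by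
    constructor
    · rintro ⟨⟨a, ha⟩, y, hy⟩ ⟨⟨b, hb⟩, y', hy'⟩ hab
      have hab' : a * y = b * y' := congrArg Subtype.val hab
      have hy2 : (b⁻¹ * a) * y = y' := by rw [mul_assoc, hab', inv_mul_cancel_left]
      obtain ⟨c, hc⟩ := h _ (A.mul_mem (A.inv_mem hb) ha)
      have h1 : χ y' = c * χ y := by
        rw [← hy2]
        simp [χ, Representation.character, hc]
      have hi := isIrrCharacter_character ρ
      have hxy : χ x = χ y := IsIrrCharacter.apply_isConj hi hy
      have hxy' : χ x = χ y' := IsIrrCharacter.apply_isConj hi hy'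
      rw [← hxy', ← hxy] at h1
      have hc1 : c = 1 := (mul_left_eq_self₀.mp h1.symm).resolve_right h0
      have : b⁻¹ * a = 1 := hinj (by rw [hc, hc1, one_smul, map_one])
      obtain rfl : a = b := (inv_mul_eq_one.mp this).symm
      obtain rfl : y = y' := mul_left_cancel hab'
      rfl
    · rintro ⟨y, hy⟩
      obtain ⟨a, ha, hc⟩ := (hmem y).mp hy
      obtain ⟨g, hg⟩ := isConj_iff.mp hc
      refine ⟨(⟨a, ha⟩, ⟨g * x * g⁻¹, isConj_iff.mpr ⟨g, rfl⟩⟩), Subtype.ext ?_⟩
      show a * (g * x * g⁻¹) = y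
      rw [← hg, ← mul_assoc g, ← hcen a ha g]
      simp [mul_assoc]
  have hcard : Nat.card {y // Quotient.mk S y = q} =
      Nat.card A * (Subgroup.centralizer ({x} : Set G)).index := by
    rw [← Nat.card_eq_of_bijective e he, Nat.card_prod, card_isConj_eq_index]
  have hi := isIrrCharacter_character ρ
  rw [hcard, Nat.cast_mul]
  have e2 : (Nat.card A : ℂ) * ((Subgroup.centralizer ({x} : Set G)).index : ℂ) * f x / Nat.card A /
      finrank ℂ V = ((Subgroup.centralizer ({x} : Set G)).index : ℂ) * χ x / χ 1 * conj (χ x) := by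
    rw [show χ 1 = (finrank ℂ V : ℂ) from ρ.char_one]
    simp only [f]
    field_simp
  rw [e2]
  refine (isIntegral_centralChar hi x).mul ?_
  rw [← IsCharacter.map_inv (IsIrrCharacter.isCharacter hi)]
  exact IsCharacter.isIntegral (IsIrrCharacter.isCharacter hi) _

/-- The degree divides the index of every subgroup acting by scalars. -/
theorem degree_dvd_index_of_scalar [Finite G] {V : Type*} [AddCommGroup V] [Module ℂ V]
    [FiniteDimensional ℂ V] (ρ : Representation ℂ G V) [ρ.IsIrreducible] (A : Subgroup G)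
    (h : ∀ a ∈ A, ∃ c : ℂ, ρ a = c • (1 : V →ₗ[ℂ] V)) : finrank ℂ V ∣ A.index := by
  let f : G →* ρ.toHomUnits.range := ρ.toHomUnits.rangeRestrict
  have hf : Function.Surjective f := ρ.toHomUnits.rangeRestrict_surjective
  haveI : Finite ρ.toHomUnits.range := Finite.of_surjective f hf
  let τ : Representation ℂ ρ.toHomUnits.range V :=
    (Units.coeHom _).comp ρ.toHomUnits.range.subtype
  haveI : τ.IsIrreducible := isIrreducible_of_comp f τ (by
    have : (τ.comp f : Representation ℂ G V) = ρ := MonoidHom.ext fun g => rfl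
    rw [this]; infer_instance)
  refine dvd_trans (degree_dvd_index_of_scalar_faithful τ ?_ (A.map f) ?_) ?_
  · intro a b hab
    exact Subtype.ext (Units.ext hab)
  · rintro _ ⟨a, ha, rfl⟩
    exact h a ha
  · exact Subgroup.index_map_dvd A hf

variable {N : Subgroup G} [hN : N.Normal]

/-- The multiplicity over an invariant character divides the index. -/
theorem multiplicity_dvd_index [Fintype G] [Fintype N] {θ : N → ℂ} (hθ : IsIrrCharacter N θ)
    (hinv : ∀ g, conjChar N g θ = θ) {χ : G → ℂ} (hχ : IsIrrCharacter G χ) {e : ℕ}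
    (he : classInner (fun n : N => χ n) θ = e) (he0 : e ≠ 0) : e ∣ N.index := by
  have hres := congrFun (restrict_eq_smul_of_inertia_top N hχ hθ
    (by rw [he]; exact_mod_cast he0) hinv) 1
  obtain ⟨d, σ, hσ, rfl⟩ := hθ
  obtain ⟨m, ρ, hρ, rfl⟩ := hχ
  haveI := hσ
  haveI := hρ
  haveI := nontrivial_of_irreducible σ
  have hd : 0 < d := by
    have := finrank_pos (R := ℂ) (M := Fin d → ℂ)
    rwa [finrank_fin_fun] at this
  have hm : m = e * d := by
    have h1 : ρ.character ((1 : N) : G) = (e : ℂ) * σ.character 1 := by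
      rw [← he]; exact hres
    rw [OneMemClass.coe_one, ρ.char_one, σ.char_one, finrank_fin_fun, finrank_fin_fun] at h1
    exact_mod_cast h1
  let ρN : Representation ℂ N (Fin m → ℂ) := ρ.comp N.subtype
  let M : Submodule ℂ ((Fin d → ℂ) →ₗ[ℂ] (Fin m → ℂ)) :=
    { carrier := {f | ∀ n : N, f ∘ₗ σ n = ρN n ∘ₗ f}
      add_mem' := fun {a b} ha hb n => by rw [LinearMap.add_comp, LinearMap.comp_add, ha, hb]
      zero_mem' := fun n => by rw [LinearMap.zero_comp, LinearMap.comp_zero]
      smul_mem' := fun c a ha n => by rw [LinearMap.smul_comp, LinearMap.comp_smul, ha] }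
  let eM : IntertwiningMap σ ρN ≃ₗ[ℂ] M :=
    { toFun := fun f => ⟨f.toLinearMap, f.isIntertwining'⟩
      invFun := fun f => ⟨f.1, f.2⟩
      map_add' := fun _ _ => rfl
      map_smul' := fun _ _ => rfl
      left_inv := fun _ => rfl
      right_inv := fun _ => rfl }
  have hMdim : finrank ℂ M = e := by
    rw [← eM.finrank_eq]
    have h2 := classInner_character_eq_finrank σ ρN
    have h3 : classInner ρN.character σ.character = (e : ℂ) := he
    first
      | exact_mod_cast h2.symm.trans h3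
      | (rw [classInner_conj_symm, h2] at h3; simpa using h3)
  have hsurj := twistProj_surjective N σ hinv
  let D : twistGroup N σ →* ℂˣ :=
    ((Units.map (LinearMap.det : ((Fin d → ℂ) →ₗ[ℂ] (Fin d → ℂ)) →* ℂ)).comp
      (MonoidHom.snd G _)).comp (twistGroup N σ).subtype
  have hDz : ∀ z : ℂˣ, D (twistScalar N σ z) = z ^ d := fun z => Units.ext (by
    show LinearMap.det (algebraMap ℂ ((Fin d → ℂ) →ₗ[ℂ] (Fin d → ℂ)) (z : ℂ)) = _
    rw [Algebra.algebraMap_eq_smul_one, LinearMap.det_smul, map_one, mul_one, finrank_fin_fun,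
      Units.val_pow_eq_pow_val])
  let p : D.ker →* G := (twistProj N σ).comp D.ker.subtype
  have hp : Function.Surjective p := by
    intro g
    obtain ⟨x, rfl⟩ := hsurj g
    obtain ⟨r, hr⟩ := IsAlgClosed.exists_pow_nat_eq (D x : ℂ) hd
    have hr0 : r ≠ 0 := by
      rintro rfl
      rw [zero_pow hd.ne'] at hr
      exact (D x).ne_zero hr.symm
    refine ⟨⟨twistScalar N σ (Units.mk0 r hr0)⁻¹ * x, ?_⟩, ?_⟩
    · rw [MonoidHom.mem_ker, map_mul, hDz, inv_pow,
        show (Units.mk0 r hr0) ^ d = D x from Units.ext (by simpa using hr), inv_mul_cancel]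
    · show twistProj N σ (_ * x) = _
      rw [map_mul, twistProj_scalar, one_mul]
  haveI : Finite p.ker := by
    have : ∀ k : p.ker, ∃ z : rootsOfUnity d ℂ, k.1.1 = twistScalar N σ z := fun k => by
      obtain ⟨z, hz⟩ := exists_scalar_of_twistProj N σ (e := k.1.1) k.2
      refine ⟨⟨z, ?_⟩, hz⟩
      rw [mem_rootsOfUnity, ← hDz, ← hz]
      exact k.1.2
    choose φ hφ using this
    haveI : NeZero d := ⟨hd.ne'⟩
    exact Finite.of_injective φ fun a b hab => Subtype.ext (Subtype.ext (by rw [hφ a, hφ b, hab]))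
  haveI : Finite D.ker := by
    haveI : Finite (D.ker ⧸ p.ker) :=
      Finite.of_equiv _ (QuotientGroup.quotientKerEquivOfSurjective p hp).toEquiv.symm
    exact Finite.of_subgroup_quotient p.ker
  let act : twistGroup N σ → ((Fin d → ℂ) →ₗ[ℂ] (Fin m → ℂ)) → ((Fin d → ℂ) →ₗ[ℂ] (Fin m → ℂ)) :=
    fun x f => ρ x.1.1 ∘ₗ f ∘ₗ ((x.1.2⁻¹ : _ˣ) : (Fin d → ℂ) →ₗ[ℂ] (Fin d → ℂ))
  have hact : ∀ (x : twistGroup N σ) (f : M), act x f ∈ M := by
    intro x f n
    have hx := x⁻¹.2 n
    simp only [Subgroup.coe_inv, Prod.snd_inv, Prod.fst_inv] at hx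
    rw [Module.End.mul_eq_comp, Module.End.mul_eq_comp] at hx
    show (ρ x.1.1 ∘ₗ f.1 ∘ₗ _) ∘ₗ σ n = ρN n ∘ₗ (ρ x.1.1 ∘ₗ f.1 ∘ₗ _)
    rw [LinearMap.comp_assoc, LinearMap.comp_assoc, hx, ← LinearMap.comp_assoc _ _ f.1, f.2,
      ← LinearMap.comp_assoc, ← LinearMap.comp_assoc, ← LinearMap.comp_assoc,
      ← LinearMap.comp_assoc, ← Module.End.mul_eq_comp (ρ x.1.1), ← Module.End.mul_eq_comp (ρN n)]
    simp only [ρN, MonoidHom.coe_comp, Function.comp_apply, Subgroup.coe_subtype, ← map_mul,
      MulAut.conjNormal_apply, inv_inv]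
    congr 3
    group
  let π : Representation ℂ D.ker M :=
    { toFun := fun x =>
        { toFun := fun f => ⟨act x.1 f, hact x.1 f⟩
          map_add' := fun a b => Subtype.ext (by simp [act, LinearMap.comp_add, LinearMap.add_comp])
          map_smul' := fun c a => Subtype.ext (by simp [act, LinearMap.comp_smul, LinearMap.smul_comp]) }
      map_one' := LinearMap.ext fun f => Subtype.ext (by
        simp [act, Module.End.one_eq_id])
      map_mul' := fun a b => LinearMap.ext fun f => Subtype.ext (by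
        simp [act, Module.End.mul_eq_comp, LinearMap.comp_assoc]) }
  haveI : Nontrivial M := Module.nontrivial_of_finrank_pos (R := ℂ) (by rw [hMdim]; omega)
  haveI : Representation.IsIrreducible (k := ℂ) (V := M) π := by
    have hne : (⊥ : Subrepresentation π) ≠ ⊤ := fun h =>
      (bot_ne_top : (⊥ : Submodule ℂ M) ≠ ⊤) (congrArg Subrepresentation.toSubmodule h)
    haveI : Nontrivial (Subrepresentation π) := ⟨⟨⊥, ⊤, hne⟩⟩
    refine ⟨fun S => ?_⟩
    by_cases hS : S.toSubmodule = ⊥
    · exact Or.inl (Subrepresentation.toSubmodule_injective hS)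
    refine Or.inr (Subrepresentation.toSubmodule_injective ?_)
    let S' : Submodule ℂ ((Fin d → ℂ) →ₗ[ℂ] (Fin m → ℂ)) := S.toSubmodule.map M.subtype
    let ev : S' →ₗ[ℂ] (Fin d → ℂ) →ₗ[ℂ] (Fin m → ℂ) := S'.subtype
    let L := TensorProduct.lift ev
    let U : Subrepresentation ρ := ⟨LinearMap.range L, fun g w hw => by
      obtain ⟨t, rfl⟩ := hw
      obtain ⟨x, rfl⟩ := hp g
      induction t using TensorProduct.induction_on with
      | zero => simp
      | tmul f v =>
        obtain ⟨_, f, hf, rfl⟩ := f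
        refine ⟨(⟨(π x f).1, π x f, S.apply_mem_toSubmodule x hf, rfl⟩ : S') ⊗ₜ[ℂ]
          ((x.1.1.2 : _ˣ) : (Fin d → ℂ) →ₗ[ℂ] (Fin d → ℂ)) v, ?_⟩
        simp only [L, ev, TensorProduct.lift.tmul]
        show ρ x.1.1.1 (f.1
          ((((x.1.1.2)⁻¹ : _ˣ) : (Fin d → ℂ) →ₗ[ℂ] (Fin d → ℂ)) (_))) = _
        rw [← Module.End.mul_apply, Units.inv_mul]
        rfl
      | add a b ha hb =>
        rw [map_add, map_add]
        exact add_mem ha hb⟩
    have hU : U = ⊤ := by
      refine (hρ.eq_bot_or_eq_top U).resolve_left fun hb => hS ?_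
      rw [Submodule.eq_bot_iff]
      intro f hf
      refine Subtype.ext (LinearMap.ext fun v => ?_)
      have h1 : L ((⟨f.1, f, hf, rfl⟩ : S') ⊗ₜ[ℂ] v) ∈ U.toSubmodule := ⟨_, rfl⟩
      rw [hb] at h1
      have h2 := (Submodule.mem_bot ℂ).mp h1
      simpa [L, ev] using h2
    have hrange : LinearMap.range L = ⊤ := congrArg Subrepresentation.toSubmodule hU
    have h1 : finrank ℂ (Fin m → ℂ) ≤ finrank ℂ (S' ⊗[ℂ] (Fin d → ℂ)) := by
      have := LinearMap.finrank_range_le L
      rw [hrange, finrank_top] at this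
      exact this
    haveI : Module.Free ℂ S' := Module.Free.of_divisionRing ℂ S'
    rw [Module.finrank_tensorProduct, finrank_fin_fun, finrank_fin_fun] at h1
    have hle : finrank ℂ M ≤ finrank ℂ S' := by
      rw [hMdim]
      exact Nat.le_of_mul_le_mul_right (hm.symm.le.trans h1) hd
    have hSM : S' = M := Submodule.eq_of_le_of_finrank_le (Submodule.map_subtype_le _ _) hle
    show S.toSubmodule = ⊤
    refine Submodule.map_injective_of_injective M.subtype_injective ?_
    rw [Submodule.map_top, Submodule.range_subtype]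
    exact hSM
  have key := degree_dvd_index_of_scalar (V := M) π (N.comap p) fun x hx => by
    obtain ⟨z, hz⟩ := exists_scalar_of_twistProj N σ (e := x.1 * (twistEmb N σ ⟨_, hx⟩)⁻¹) (by
      rw [map_mul, map_inv, twistProj_emb]
      exact mul_inv_cancel _)
    have hx1 : x.1 = twistScalar N σ z * twistEmb N σ ⟨_, hx⟩ := by
      rw [← hz, inv_mul_cancel_right]
    refine ⟨((z⁻¹ : ℂˣ) : ℂ), LinearMap.ext fun f => Subtype.ext ?_⟩
    show act x.1 f = ((z⁻¹ : ℂˣ) : ℂ) • (f : (Fin d → ℂ) →ₗ[ℂ] (Fin m → ℂ))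
    rw [hx1]
    apply LinearMap.ext
    intro v
    simp only [act, Subgroup.coe_mul, Prod.fst_mul, Prod.snd_mul, mul_inv_rev, Units.val_mul]
    set n : N := ⟨_, hx⟩ with hn
    have hzinv : ((((twistScalar N σ z).1.2)⁻¹ : _ˣ) : (Fin d → ℂ) →ₗ[ℂ] (Fin d → ℂ)) v =
        ((z⁻¹ : ℂˣ) : ℂ) • v := by
      show ((Units.map _ z)⁻¹ : ((Fin d → ℂ) →ₗ[ℂ] (Fin d → ℂ))ˣ).1 v = _
      rw [← map_inv]
      simp [Algebra.algebraMap_eq_smul_one]
    show ρ ((1 : G) * n) ((f : _ →ₗ[ℂ] _) (((σ.toHomUnits n)⁻¹ : _ˣ).1 (_))) = _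
    rw [one_mul, hzinv, ← map_inv, MonoidHom.coe_toHomUnits]
    have hf := LinearMap.congr_fun (f.2 n) (σ n⁻¹ (((z⁻¹ : ℂˣ) : ℂ) • v))
    simp only [LinearMap.comp_apply, ← Module.End.mul_apply, ← map_mul, mul_inv_cancel, map_one,
      Module.End.one_apply] at hf
    rw [map_smul] at hf
    simpa [ρN] using hf.symm
  rw [hMdim, Subgroup.index_comap_of_surjective _ hp] at key
  exact key

/-- The degree ratio divides the index. -/
theorem degree_ratio_dvd_index [Fintype G] [Fintype N] {χ : G → ℂ} (hχ : IsIrrCharacter G χ)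
    {θ : N → ℂ} (hθ : IsIrrCharacter N θ) (hcon : classInner (fun n : N => χ n) θ ≠ 0)
    {c d : ℕ} (hc : χ 1 = c) (hd : θ 1 = d) : d ∣ c ∧ c / d ∣ N.index := by
  classical
  obtain ⟨e, he⟩ := classInner_natCast_of_isCharacter
    (IsCharacter.restrict (IsIrrCharacter.isCharacter hχ) N) (IsIrrCharacter.isCharacter hθ)
  have hdeg := restrict_degree_eq N hχ hθ hcon
  rw [he, hc, hd] at hdeg
  have hdeg' : c = e * ((inertia N θ).index * d) := by exact_mod_cast hdeg
  have hd0 : 0 < d := by
    rcases Nat.eq_zero_or_pos d with h0 | h0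
    · exact absurd (by rw [hd, h0, Nat.cast_zero]) (IsIrrCharacter.apply_one_ne_zero hθ)
    · exact h0
  refine ⟨⟨e * (inertia N θ).index, by rw [hdeg']; ring⟩, ?_⟩
  rw [hdeg', ← mul_assoc, Nat.mul_div_cancel _ hd0]
  have hNT : N ≤ inertia N θ := le_inertia N (IsCharacter.isClassFunction
    (IsIrrCharacter.isCharacter hθ))
  obtain ⟨ψ, hψ, h1, h2⟩ := exists_irr_above_inertia N hθ hNT hχ hcon
  obtain ⟨-, hk⟩ := clifford_core N hθ rfl hNT hχ hψ h1 h2
  let φ : N.subgroupOf (inertia N θ) ≃* N := Subgroup.subgroupOfEquivOfLe hNT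
  haveI := Fintype.ofFinite (N.subgroupOf (inertia N θ))
  haveI : (N.subgroupOf (inertia N θ)).Normal := hN.subgroupOf _
  have he0 : e ≠ 0 := by rintro rfl; exact hcon (by simpa using he)
  have hdvd : e ∣ (N.subgroupOf (inertia N θ)).index := by
    refine multiplicity_dvd_index (isIrrCharacter_comp_mulEquiv φ hθ) (fun g => funext fun n => ?_)
      hψ ?_ he0
    · exact congrFun (((mem_inertia N).mp g.2)) (φ n)
    · rw [← he, ← hk, ← classInner_comp_mulEquiv φ]
      rfl
  rw [← Subgroup.relIndex_mul_index hNT, mul_comm e]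
  rw [mul_comm (N.relIndex _)]
  exact Nat.mul_dvd_mul_left _ hdvd

end Cfsg.Agent.Char
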