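import Cfsg.Agent.Lib.Char.QuasiElem
import Cfsg.Agent.Lib.Char.Generalized

/-!
# Solomon's and Brauer's induction theorems
-/

set_option autoImplicit false
set_option linter.style.haveILetI false

namespace Cfsg.Agent.Char

open Cfsg
open scoped ComplexConjugate Pointwise

universe u

variable {G : Type u} [Group G]

/-! ## Solomon's theorem, local form -/

/-- Integer combinations of permutation characters on cosets of `p`-quasi-elementary subgroups. -/
noncomputable def permSpan (p : ℕ) (G : Type u) [Group G] [Fintype G] : Submodule ℤ (G → ℂ) :=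
  Submodule.span ℤ (Set.range fun H : {H : Subgroup G // IsQuasiElemSub p H} =>
    indFun H.1 (fun _ => (1 : ℂ)))

variable [Fintype G]

theorem permSpan_mul {p : ℕ} (hp : p.Prime) {f g : G → ℂ} (hf : f ∈ permSpan p G)
    (hg : g ∈ permSpan p G) : f * g ∈ permSpan p G := by
  induction hf using Submodule.span_induction with
  | mem x hx =>
    obtain ⟨H, rfl⟩ := hx
    induction hg using Submodule.span_induction with
    | mem y hy =>
      obtain ⟨K, rfl⟩ := hy
      classical
      simp only []
      rw [indFun_one_mul_indFun_one]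
      refine Submodule.sum_mem _ fun q _ => Submodule.subset_span ?_
      exact ⟨⟨_, H.2.of_le hp (Subgroup.map_subtype_le _)⟩, rfl⟩
    | zero => simp
    | add x y _ _ hx hy => rw [mul_add]; exact Submodule.add_mem _ hx hy
    | smul c x _ hx => rw [mul_smul_comm]; exact Submodule.smul_mem _ c hx
  | zero => simp
  | add x y _ _ hx hy => rw [add_mul]; exact Submodule.add_mem _ hx hy
  | smul c x _ hx => rw [smul_mul_assoc]; exact Submodule.smul_mem _ c hx

theorem solomon_local (p : ℕ) (hp : p.Prime) :
    ∃ m : ℤ, ¬ (p : ℤ) ∣ m ∧ (fun _ : G => (m : ℂ)) ∈ permSpan p G := by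
  classical
  suffices h : ∀ s : Finset G, ∃ (m : ℤ) (r : G → ℂ), ¬ (p : ℤ) ∣ m ∧ r ∈ permSpan p G ∧
      ∀ x ∈ s, r x = m by
    obtain ⟨m, r, hm, hr, he⟩ := h Finset.univ
    exact ⟨m, hm, (funext fun x => he x (Finset.mem_univ x)) ▸ hr⟩
  intro s
  induction s using Finset.induction with
  | empty =>
    exact ⟨1, 0, fun h => hp.one_lt.ne' (by exact_mod_cast Int.eq_one_of_dvd_one (by positivity) h),
      Submodule.zero_mem _, by simp⟩
  | insert a s _ ih =>
    obtain ⟨m, r, hm, hr, he⟩ := ih
    obtain ⟨H, hH, n, hn, hpn⟩ := exists_quasiElem_not_dvd a p hp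
    have hf : indFun H (fun _ => (1 : ℂ)) ∈ permSpan p G := Submodule.subset_span ⟨⟨H, hH⟩, rfl⟩
    refine ⟨m * n, (n : ℤ) • r + m • indFun H (fun _ => (1 : ℂ)) - r * indFun H (fun _ => (1 : ℂ)),
      ?_, Submodule.sub_mem _ (Submodule.add_mem _ (Submodule.smul_mem _ _ hr)
        (Submodule.smul_mem _ _ hf)) (permSpan_mul hp hr hf), ?_⟩
    · intro h
      rcases (Nat.prime_iff_prime_int.mp hp).dvd_mul.mp h with h | h
      · exact hm h
      · exact hpn (by exact_mod_cast h)
    · intro x hx
      rw [Pi.sub_apply, Pi.add_apply, Pi.smul_apply, Pi.smul_apply, Pi.mul_apply]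
      rcases Finset.mem_insert.mp hx with rfl | hx
      · rw [hn, zsmul_eq_mul, zsmul_eq_mul]; push_cast; ring
      · rw [he x hx, zsmul_eq_mul, zsmul_eq_mul]; push_cast; ring

/-! ## Induction from elementary subgroups -/

/-- Integer combinations of characters induced from `p`-elementary subgroups. -/
noncomputable def elemSpan (p : ℕ) (G : Type u) [Group G] [Fintype G] : Submodule ℤ (G → ℂ) :=
  Submodule.span ℤ {f | ∃ (E : Subgroup G) (ψ : E → ℂ),
    IsElementary p E ∧ IsCharacter E ψ ∧ f = indFun E ψ}

theorem indFun_top (θ : (⊤ : Subgroup G) → ℂ) (f : G → ℂ) (hf : IsClassFunction G f)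
    (he : ∀ x, θ ⟨x, Subgroup.mem_top x⟩ = f x) : indFun (⊤ : Subgroup G) θ = f := by
  funext g
  rw [indFun_apply, Subgroup.card_top]
  have : ∀ x : G, extendByZero (⊤ : Subgroup G) θ (x⁻¹ * g * x) = f g := by
    intro x
    rw [extendByZero_of_mem _ _ (Subgroup.mem_top _), he]
    simpa using hf g x⁻¹
  rw [Finset.sum_congr rfl fun x _ => this x, Finset.sum_const, Finset.card_univ, nsmul_eq_mul,
    ← Nat.card_eq_fintype_card, ← mul_assoc,
    inv_mul_cancel₀ (Nat.cast_ne_zero.mpr Nat.card_pos.ne'), one_mul]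

theorem isElementary_mulEquiv {p : ℕ} {E : Type u} [Group E] {E' : Type u} [Group E'] (e : E ≃* E')
    (h : IsElementary p E) : IsElementary p E' := by
  obtain ⟨x, hx, hcop, k, hk⟩ := h
  refine ⟨e x, Subgroup.mem_center_iff.mpr fun g => ?_, by rwa [e.orderOf_eq], k, ?_⟩
  · obtain ⟨g, rfl⟩ := e.surjective g
    rw [← map_mul, ← map_mul, Subgroup.mem_center_iff.mp hx g]
  · rw [← hk, ← show (Subgroup.zpowers x).map e.toMonoidHom = Subgroup.zpowers (e x) from
      MonoidHom.map_zpowers e.toMonoidHom x]
    exact Subgroup.index_map_equiv _ e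

theorem isQuasiElem_of_isElementary {p : ℕ} {E : Type u} [Group E] (h : IsElementary p E) :
    IsQuasiElem p E := by
  obtain ⟨x, hx, hcop, k, hk⟩ := h
  refine ⟨Subgroup.zpowers x, ⟨fun n hn g => ?_⟩, inferInstance, by rwa [Nat.card_zpowers], k, hk⟩
  obtain ⟨i, rfl⟩ := Subgroup.mem_zpowers_iff.mp hn
  have : g * x ^ i * g⁻¹ = x ^ i := by
    rw [Subgroup.mem_center_iff.mp (Subgroup.zpow_mem _ hx i) g, mul_inv_cancel_right]
  rw [this]; exact Subgroup.zpow_mem_zpowers x i

theorem elemSpan_indFun {p : ℕ} (U : Subgroup G) [Fintype U] {v : U → ℂ} (hv : v ∈ elemSpan p U) :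
    indFun U v ∈ elemSpan p G := by
  induction hv using Submodule.span_induction with
  | mem x hx =>
    obtain ⟨E, ψ, hE, hψ, rfl⟩ := hx
    refine Submodule.subset_span ⟨E.map U.subtype, fun z => ψ ((mapSubtypeEquiv U E).symm z),
      isElementary_mulEquiv (mapSubtypeEquiv U E) hE,
      isCharacter_comp hψ (mapSubtypeEquiv U E).symm.toMonoidHom, ?_⟩
    refine indFun_map_subtype U E ψ _ fun x => congrArg ψ ?_
    rw [MulEquiv.symm_apply_eq]
    exact Subtype.ext rfl
  | zero => rw [indFun_zero]; exact Submodule.zero_mem _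
  | add x y _ _ hx hy => rw [indFun_add]; exact Submodule.add_mem _ hx hy
  | smul c x _ hx =>
    rw [← Int.cast_smul_eq_zsmul ℂ, indFun_smul, Int.cast_smul_eq_zsmul]
    exact Submodule.smul_mem _ c hx

theorem elemSpan_mul_character {p : ℕ} {χ v : G → ℂ} (hχ : IsCharacter G χ)
    (hv : v ∈ elemSpan p G) : χ * v ∈ elemSpan p G := by
  induction hv using Submodule.span_induction with
  | mem x hx =>
    obtain ⟨E, ψ, hE, hψ, rfl⟩ := hx
    rw [← indFun_mul E ψ (IsCharacter.isClassFunction hχ)]
    exact Submodule.subset_span ⟨E, _, hE, isCharacter_mul (IsCharacter.restrict hχ E) hψ, rfl⟩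
  | zero => simp
  | add x y _ _ hx hy => rw [mul_add]; exact Submodule.add_mem _ hx hy
  | smul c x _ hx => rw [mul_smul_comm]; exact Submodule.smul_mem _ c hx

/-- A quasi-elementary group that is not elementary: the linear constituents of the induced
trivial character of the elementary subgroup are trivial. -/
theorem one_mem_elemSpan_of_quasiElem (p : ℕ) (hp : p.Prime) :
    ∀ (n : ℕ) (H : Type u) [Group H] [Fintype H], Nat.card H = n → IsQuasiElem p H →
      (1 : H → ℂ) ∈ elemSpan p H := by
  intro n
  induction n using Nat.strong_induction_on with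
  | _ n ih =>
    intro H _ _ hn hq
    classical
    haveI : Fact p.Prime := ⟨hp⟩
    obtain ⟨C, hC, hcyc, hcop, k, hk⟩ := hq
    have hq : IsQuasiElem p H := ⟨C, hC, hcyc, hcop, k, hk⟩
    haveI := hC
    haveI := hcyc
    obtain ⟨P⟩ : Nonempty (Sylow p H) := inferInstance
    have hCP : C ⊔ (P : Subgroup H) = ⊤ := by
      rw [← Subgroup.index_eq_one]
      refine Nat.eq_one_of_dvd_coprimes (a := C.index) (b := (P : Subgroup H).index) ?_
        (Subgroup.index_dvd_of_le le_sup_left) (Subgroup.index_dvd_of_le le_sup_right)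
      rw [hk]
      exact Nat.Coprime.pow_left k (hp.coprime_iff_not_dvd.mpr P.not_dvd_index)
    let Z := C ⊓ Subgroup.centralizer ((P : Subgroup H) : Set H)
    obtain ⟨z, hz⟩ : ∃ z : H, Subgroup.zpowers z = Z := by
      haveI : IsCyclic Z := isCyclic_of_injective (Subgroup.inclusion inf_le_left)
        (Subgroup.inclusion_injective (inf_le_left (b := Subgroup.centralizer _)))
      exact (Subgroup.isCyclic_iff_exists_zpowers_eq_top Z).mp inferInstance
    let E := Z ⊔ (P : Subgroup H)
    have hzZ : z ∈ Z := hz ▸ Subgroup.mem_zpowers z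
    have hZC : Subgroup.centralizer ({z} : Set H) ≥ E := by
      refine sup_le ?_ ?_
      · rw [← hz, Subgroup.zpowers_le, Subgroup.mem_centralizer_singleton_iff]
      · intro y hy
        rw [Subgroup.mem_centralizer_singleton_iff]
        exact (Subgroup.mem_centralizer_iff.mp hzZ.2 y hy)
    have hE : IsElementary p E := by
      refine ⟨⟨z, le_sup_left (a := Z) hzZ⟩, Subgroup.mem_center_iff.mpr fun g => Subtype.ext
        (Subgroup.mem_centralizer_singleton_iff.mp (hZC g.2)), ?_, ?_⟩
      · rw [Subgroup.orderOf_mk, ← Nat.card_zpowers, hz]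
        exact Nat.Coprime.coprime_dvd_left (Subgroup.card_dvd_of_le inf_le_left) hcop
      · have e : Subgroup.zpowers (⟨z, le_sup_left (a := Z) hzZ⟩ : E) = Z.subgroupOf E := by
          apply Subgroup.map_injective E.subtype_injective
          rw [MonoidHom.map_zpowers, Subgroup.subgroupOf_map_subtype, inf_eq_left.mpr le_sup_left]
          exact hz
        rw [e]
        have hZn : (P : Subgroup H) ≤ Subgroup.normalizer (Z : Set H) := by
          intro y hy
          apply Subgroup.centralizer_le_normalizer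
          rw [Subgroup.mem_centralizer_iff]
          intro w (hw : w ∈ Z)
          exact (Subgroup.mem_centralizer_iff.mp hw.2 y hy).symm
        have h1 : Z.relIndex E ∣ Nat.card (P : Subgroup H) := by
          have hmul := Subgroup.relIndex_mul_relIndex (⊥ : Subgroup H) Z E bot_le le_sup_left
          rw [Subgroup.relIndex_bot_left, Subgroup.relIndex_bot_left] at hmul
          have hcardE : Nat.card E ∣ Nat.card Z * Nat.card (P : Subgroup H) := by
            haveI : (Z.subgroupOf E).Normal := by
              refine (Subgroup.normal_subgroupOf_iff_le_normalizer le_sup_left).mpr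
                (sup_le Subgroup.le_normalizer hZn)
            rw [← (Z.subgroupOf E).index_mul_card, mul_comm,
              Nat.card_congr (Subgroup.subgroupOfEquivOfLe (le_sup_left : Z ≤ E)).toEquiv]
            refine Nat.mul_dvd_mul_left _ ?_
            have hsur : Function.Surjective ((QuotientGroup.mk' (Z.subgroupOf E)).comp
                (Subgroup.inclusion (le_sup_right : (P : Subgroup H) ≤ E))) := by
              intro q
              obtain ⟨g, rfl⟩ := QuotientGroup.mk'_surjective _ q
              have hg : (g : H) ∈ (Z : Set H) * ((P : Subgroup H) : Set H) := by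
                rw [← Subgroup.coe_mul_of_right_le_normalizer_left Z (P : Subgroup H) hZn]
                exact g.2
              obtain ⟨a, ha, b, hb, hab⟩ := hg
              refine ⟨⟨b, hb⟩, ?_⟩
              show QuotientGroup.mk' (Z.subgroupOf E) _ = QuotientGroup.mk' (Z.subgroupOf E) g
              rw [QuotientGroup.mk'_eq_mk']
              refine ⟨⟨b⁻¹ * a * b, ?_⟩, ?_, Subtype.ext ?_⟩
              · exact le_sup_left (a := Z) (by
                  simpa using (Subgroup.mem_normalizer_iff.mp (hZn (inv_mem hb)) a).mp ha)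
              · show b⁻¹ * a * b ∈ Z
                simpa using (Subgroup.mem_normalizer_iff.mp (hZn (inv_mem hb)) a).mp ha
              · show b * (b⁻¹ * a * b) = (g : H)
                rw [← hab]; simp [mul_assoc]
            exact Subgroup.card_dvd_of_surjective _ hsur
          rw [← hmul] at hcardE
          exact Nat.dvd_of_mul_dvd_mul_left Nat.card_pos hcardE
        obtain ⟨j, hj⟩ := P.isPGroup'.exists_card_eq
        obtain ⟨j', -, hj'⟩ := (Nat.dvd_prime_pow hp).mp (hj ▸ h1)
        exact ⟨j', hj'⟩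
    by_cases hEtop : E = ⊤
    · refine Submodule.subset_span ⟨E, fun _ => 1, hE, isCharacter_one, ?_⟩
      rw [indFun_congr hEtop (fun _ => (1 : ℂ)) (fun _ => (1 : ℂ)) fun _ _ _ => rfl]
      exact (indFun_top _ 1 (fun _ _ => rfl) fun _ => rfl).symm
    have hind : IsCharacter H (indFun E (fun _ => (1 : ℂ))) :=
      isCharacter_indFun E isCharacter_one
    have hone : IsClassFunction H (1 : H → ℂ) := fun _ _ => rfl
    have hE1 : classInner (indFun E (fun _ => (1 : ℂ))) (1 : H → ℂ) = 1 := by
      haveI := Fintype.ofFinite E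
      rw [classInner_indFun E _ hone]
      exact IsIrrCharacter.classInner_self (isIrrCharacter_one (G := E))
    haveI := Fintype.ofFinite (IrrCharacter H)
    let one : IrrCharacter H := ⟨1, isIrrCharacter_one⟩
    have hexp := IsClassFunction.eq_sum (IsCharacter.isClassFunction hind)
    rw [← Finset.add_sum_erase _ _ (Finset.mem_univ one)] at hexp
    rw [show classInner (indFun E fun _ => (1 : ℂ)) (one : H → ℂ) = 1 from hE1, one_smul] at hexp
    have hrest : ∀ χ ∈ (Finset.univ.erase one : Finset (IrrCharacter H)),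
        classInner (indFun E (fun _ => (1 : ℂ))) (χ : H → ℂ) • (χ : H → ℂ) ∈ elemSpan p H := by
      intro χ hχ
      obtain ⟨m, hm⟩ := classInner_natCast_of_isCharacter hind (IsIrrCharacter.isCharacter χ.2)
      rw [hm, Nat.cast_smul_eq_nsmul]
      rcases Nat.eq_zero_or_pos m with rfl | hmpos
      · simp
      refine nsmul_mem ?_ m
      obtain ⟨U, l, hU⟩ := monomial_of_cond (abelianNormalCond_of_isQuasiElem hp hq) χ.2
      have hUne : U ≠ ⊤ := by
        intro hUtop
        apply Finset.ne_of_mem_erase hχ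
        apply Subtype.ext
        show (χ : H → ℂ) = 1
        have hχ1 : (χ : H → ℂ) 1 = 1 := by
          rw [← hU, indFun_one_apply, show U.index = 1 by rw [hUtop, Subgroup.index_top]]; simp
        obtain ⟨L, hL⟩ := IsCharacter.exists_monoidHom (IsIrrCharacter.isCharacter χ.2) hχ1
        haveI := Fintype.ofFinite E
        have hLE : ∀ e : E, (χ : H → ℂ) e = 1 := by
          have h1 : classInner (fun _ : E => (1 : ℂ)) (fun e : E => (χ : H → ℂ) e) ≠ 0 := by
            rw [← classInner_indFun E _ (IsCharacter.isClassFunction (IsIrrCharacter.isCharacter χ.2)),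
              hm]
            exact Nat.cast_ne_zero.mpr hmpos.ne'
          have h2 : IsIrrCharacter E (fun e : E => (χ : H → ℂ) e) := by
            rw [hL]; exact isIrrCharacter_monoidHom (L.comp E.subtype)
          intro e
          by_contra hne
          exact h1 (IsIrrCharacter.classInner_eq_zero isIrrCharacter_one h2
            fun he => hne (congrFun he e).symm)
        have hLE' : ∀ x ∈ E, L x = 1 := fun x hx => Units.ext (by
          rw [Units.val_one, ← hLE ⟨x, hx⟩, hL])
        have hCker : L.comp C.subtype = 1 := by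
          refine linear_eq_one_of_centralizer p C (P : Subgroup H) P.isPGroup' hcop _
            (fun g hg c => ?_) fun c hc => hLE' _ (le_sup_left (a := Z) ⟨c.2, hc⟩)
          show L (g * c * g⁻¹) = L c
          rw [map_mul, map_mul, map_inv, mul_comm (L g), mul_inv_cancel_right]
        have hall : L.ker = ⊤ := by
          rw [← top_le_iff, ← hCP]
          refine sup_le (fun c hc => ?_) fun y hy => hLE' y (le_sup_right (a := Z) hy)
          exact DFunLike.congr_fun hCker ⟨c, hc⟩
        funext x
        rw [hL]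
        have : L x = 1 := MonoidHom.mem_ker.mp (hall ▸ Subgroup.mem_top x)
        simp [this]
      have hUlt : Nat.card U < n := hn ▸ lt_of_le_of_ne (Subgroup.card_le_card_group U)
        (fun e => hUne (Subgroup.eq_top_of_card_eq U e))
      haveI := Fintype.ofFinite U
      have h1U := ih _ hUlt U rfl (hq.of_injective hp U.subtype U.subtype_injective)
      rw [← hU]
      refine elemSpan_indFun U ?_
      have := elemSpan_mul_character (p := p)
        (IsIrrCharacter.isCharacter (isIrrCharacter_monoidHom l)) h1U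
      rwa [mul_one] at this
    have h1 : (1 : H → ℂ) = indFun E (fun _ => (1 : ℂ)) -
        ∑ χ ∈ (Finset.univ.erase one : Finset (IrrCharacter H)),
          classInner (indFun E (fun _ => (1 : ℂ))) (χ : H → ℂ) • (χ : H → ℂ) :=
      eq_sub_of_add_eq hexp.symm
    rw [h1]
    exact Submodule.sub_mem _ (Submodule.subset_span ⟨E, _, hE, isCharacter_one, rfl⟩)
      (Submodule.sum_mem _ hrest)

/-- Brauer's induction theorem, local form. -/
theorem brauer_local (p : ℕ) (hp : p.Prime) :
    ∃ m : ℤ, ¬ (p : ℤ) ∣ m ∧ (fun _ : G => (m : ℂ)) ∈ elemSpan p G := by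
  obtain ⟨m, hm, hmem⟩ := solomon_local (G := G) p hp
  refine ⟨m, hm, ?_⟩
  have hle : permSpan p G ≤ elemSpan p G := by
    refine Submodule.span_le.mpr ?_
    rintro _ ⟨H, rfl⟩
    haveI := Fintype.ofFinite H.1
    exact elemSpan_indFun H.1
      (one_mem_elemSpan_of_quasiElem p hp _ H.1 rfl (isQuasiElem_of_sub H.2))
  exact hle hmem

/-- Integer combinations of characters induced from elementary subgroups, all primes. -/
noncomputable def elemSpanAll (G : Type u) [Group G] [Fintype G] : Submodule ℤ (G → ℂ) :=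
  ⨆ p ∈ {p : ℕ | p.Prime}, elemSpan p G

theorem one_mem_elemSpanAll : (1 : G → ℂ) ∈ elemSpanAll G := by
  let I : Submodule ℤ ℤ := (elemSpanAll G).comap
    ((LinearMap.id : ℤ →ₗ[ℤ] ℤ).smulRight (1 : G → ℂ))
  suffices h : (1 : ℤ) ∈ I by simpa [I] using h
  obtain ⟨d, hd⟩ := (inferInstance : I.IsPrincipal).principal
  have hmem : ∀ p : ℕ, p.Prime → ¬ (p : ℤ) ∣ d := by
    intro p hp hpd
    obtain ⟨m, hm, hmv⟩ := brauer_local (G := G) p hp
    have hmI : m ∈ I := by
      have h1 : (m : ℤ) • (1 : G → ℂ) = fun _ => (m : ℂ) := by funext x; simp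
      simp only [I, Submodule.mem_comap, LinearMap.smulRight_apply, LinearMap.id_apply, h1]
      exact Submodule.mem_iSup_of_mem p (Submodule.mem_iSup_of_mem hp hmv)
    rw [hd, Submodule.mem_span_singleton] at hmI
    obtain ⟨c, hc⟩ := hmI
    exact hm (hc ▸ Dvd.dvd.mul_left hpd c)
  rw [hd, Submodule.mem_span_singleton]
  have h1 : d.natAbs = 1 := by
    by_contra hne
    obtain ⟨p, hp, hpd⟩ := Nat.exists_prime_and_dvd hne
    exact hmem p hp (Int.natCast_dvd.mpr hpd)
  rcases Int.natAbs_eq d with h | h <;> rw [h1] at h <;> subst h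
  · exact ⟨1, by simp⟩
  · exact ⟨-1, by simp⟩

theorem elemSpanAll_induction {P : (G → ℂ) → Prop} (h0 : P 0)
    (hgen : ∀ (p : ℕ) (E : Subgroup G) (ψ : E → ℂ), p.Prime → IsElementary p E →
      IsCharacter E ψ → P (indFun E ψ))
    (hadd : ∀ f g, P f → P g → P (f + g)) (hsmul : ∀ (c : ℤ) f, P f → P (c • f))
    {v : G → ℂ} (hv : v ∈ elemSpanAll G) : P v := by
  have hle : elemSpanAll G ≤
      { carrier := {f | P f}
        zero_mem' := h0
        add_mem' := fun {a b} ha hb => hadd a b ha hb
        smul_mem' := fun c f hf => hsmul c f hf : Submodule ℤ (G → ℂ) } := by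
    refine iSup₂_le fun p hp => Submodule.span_le.mpr ?_
    rintro _ ⟨E, ψ, hE, hψ, rfl⟩
    exact hgen p E ψ hp hE hψ
  exact hle hv

/-- Brauer's characterization of characters. -/
theorem isGeneralizedCharacter_of_elementary {θ : G → ℂ} (hθ : IsClassFunction G θ)
    (hE : ∀ (E : Subgroup G) (p : ℕ), p.Prime → IsElementary p E →
      IsGeneralizedCharacter E (fun e : E => θ e)) : IsGeneralizedCharacter G θ := by
  rw [← mul_one θ]
  refine elemSpanAll_induction (P := fun v => IsGeneralizedCharacter G (θ * v)) ?_ ?_ ?_ ?_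
    one_mem_elemSpanAll
  · simpa using isGeneralizedCharacter_zero
  · intro p E ψ hp hEl hψ
    rw [← indFun_mul E ψ hθ]
    exact isGeneralizedCharacter_indFun E
      (isGeneralizedCharacter_mul (hE E p hp hEl) (IsCharacter.isGeneralized hψ))
  · intro f g hf hg
    rw [mul_add]; exact isGeneralizedCharacter_add hf hg
  · intro c f hf
    rw [mul_smul_comm]; exact isGeneralizedCharacter_zsmul hf c

/-- Brauer's induction theorem with linear characters. -/
theorem brauer_induction {χ : G → ℂ} (hχ : IsCharacter G χ) :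
    ∃ l : List ((E : Subgroup G) × ((E →* ℂˣ) × ℤ)),
      (∀ t ∈ l, ∃ p : ℕ, p.Prime ∧ IsElementary p t.1) ∧
      χ = (l.map fun t => (t.2.2 : ℂ) • indFun t.1 (fun e => (t.2.1 e : ℂ))).sum := by
  classical
  let P : (G → ℂ) → Prop := fun f => ∃ l : List ((E : Subgroup G) × ((E →* ℂˣ) × ℤ)),
    (∀ t ∈ l, ∃ p : ℕ, p.Prime ∧ IsElementary p t.1) ∧
    f = (l.map fun t => (t.2.2 : ℂ) • indFun t.1 (fun e => (t.2.1 e : ℂ))).sum
  have h0 : P 0 := ⟨[], by simp, by simp⟩
  have hadd : ∀ f g, P f → P g → P (f + g) := by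
    rintro f g ⟨l, hl, rfl⟩ ⟨l', hl', rfl⟩
    exact ⟨l ++ l', fun t ht => (List.mem_append.mp ht).elim (hl t) (hl' t), by simp⟩
  have hsmul : ∀ (c : ℤ) f, P f → P (c • f) := by
    rintro c f ⟨l, hl, rfl⟩
    refine ⟨l.map fun t => ⟨t.1, (t.2.1, c * t.2.2)⟩, ?_, ?_⟩
    · intro t ht
      obtain ⟨t', ht', rfl⟩ := List.mem_map.mp ht
      exact hl t' ht'
    · rw [List.smul_sum, List.map_map, List.map_map]
      congr 1
      refine List.map_congr_left fun t _ => ?_
      simp [smul_smul, ← Int.cast_smul_eq_zsmul ℂ]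
  suffices h : P (χ * 1) by rw [mul_one] at h; exact h
  refine elemSpanAll_induction (P := fun v => P (χ * v)) (by simpa using h0) ?_
    (fun f g hf hg => by rw [mul_add]; exact hadd _ _ hf hg)
    (fun c f hf => by rw [mul_smul_comm]; exact hsmul c _ hf) one_mem_elemSpanAll
  intro p E ψ hp hE hψ
  rw [← indFun_mul E ψ (IsCharacter.isClassFunction hχ)]
  haveI := Fintype.ofFinite E
  have hc := isCharacter_mul (IsCharacter.restrict hχ E) hψ
  refine isCharacter_induction (P := fun φ => P (indFun E φ)) (by rw [indFun_zero]; exact h0) ?_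
    (fun a b ha hb => by rw [indFun_add]; exact hadd _ _ ha hb) hc
  intro φ hφ
  obtain ⟨U, l, hU⟩ := monomial_of_cond
    (abelianNormalCond_of_isQuasiElem hp (isQuasiElem_of_isElementary hE)) hφ
  have hUq := isQuasiElem_of_isElementary hE
  obtain ⟨x, hx, hcop, k, hk⟩ := hE
  -- subgroups of elementary groups are elementary
  haveI : (Subgroup.zpowers x).Normal := ⟨fun n hn g => by
    obtain ⟨i, rfl⟩ := Subgroup.mem_zpowers_iff.mp hn
    rw [Subgroup.mem_center_iff.mp (Subgroup.zpow_mem _ hx i) g, mul_inv_cancel_right]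
    exact Subgroup.zpow_mem_zpowers x i⟩
  haveI : IsCyclic ((Subgroup.zpowers x).subgroupOf U) :=
    isCyclic_of_injective
      (({ toFun := fun y => ⟨((y : U) : E), y.2⟩
          map_one' := rfl
          map_mul' := fun _ _ => rfl } : (Subgroup.zpowers x).subgroupOf U →* Subgroup.zpowers x))
      fun a b h => by
        apply Subtype.ext; apply Subtype.ext
        exact (congrArg Subtype.val h :)
  obtain ⟨y, hy⟩ := (Subgroup.isCyclic_iff_exists_zpowers_eq_top
    ((Subgroup.zpowers x).subgroupOf U)).mp inferInstance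
  have hyx : (y : E) ∈ Subgroup.zpowers x := by
    have : y ∈ (Subgroup.zpowers x).subgroupOf U := hy ▸ Subgroup.mem_zpowers y
    exact this
  have hUel : IsElementary p U := by
    refine ⟨y, Subgroup.mem_center_iff.mpr fun g => Subtype.ext ?_, ?_, ?_⟩
    · obtain ⟨i, hi⟩ := Subgroup.mem_zpowers_iff.mp hyx
      show (g : E) * (y : E) = (y : E) * (g : E)
      rw [← hi]
      exact Subgroup.mem_center_iff.mp (Subgroup.zpow_mem _ hx i) g
    · refine Nat.Coprime.coprime_dvd_left ?_ hcop
      rw [← Subgroup.orderOf_coe, ← Nat.card_zpowers x]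
      exact Subgroup.orderOf_dvd_natCard _ hyx
    · rw [hy]
      obtain ⟨j, -, hj⟩ := (Nat.dvd_prime_pow hp).mp
        (hk ▸ Subgroup.relIndex_dvd_index_of_normal (Subgroup.zpowers x) U)
      exact ⟨j, hj⟩
  refine ⟨[⟨U.map E.subtype, (l.comp (mapSubtypeEquiv E U).symm.toMonoidHom, 1)⟩], ?_, ?_⟩
  · intro t ht
    rw [List.mem_singleton] at ht
    subst ht
    exact ⟨p, hp, isElementary_mulEquiv (mapSubtypeEquiv E U) hUel⟩
  · simp only [List.map_cons, List.map_nil, List.sum_cons, List.sum_nil, add_zero, Int.cast_one,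
      one_smul]
    rw [← hU]
    refine indFun_map_subtype E U _ _ fun z => ?_
    show ((l ((mapSubtypeEquiv E U).symm ⟨((z : E) : G), _⟩) : ℂˣ) : ℂ) = l z
    congr 2
    rw [MulEquiv.symm_apply_eq]
    exact Subtype.ext rfl

end Cfsg.Agent.Char
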