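import Cfsg.Agent.Lib.Char.Zero
import Cfsg.Agent.Lib.Char.Brauer
import Cfsg.Agent.Lib.Char.Linear
import Cfsg.Agent.Lib.Block.LocalRing
import Mathlib.Algebra.CharP.Lemmas
import Mathlib.Algebra.CharP.Quotient
import Mathlib.GroupTheory.Transfer

/-!
# Congruences of character values and indicators of sections
-/

set_option autoImplicit false
set_option linter.style.haveILetI false

namespace Cfsg.Agent.Char

open Cfsg
open scoped ComplexConjugate

universe u

variable {G : Type u} [Group G]

/-- Summing over the fibres of a map. -/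
theorem sum_mul_card_fiber' {α β : Type*} [Fintype α] [Fintype β] (q : α → β) (f : α → ℂ)
    (rep : β → α) (hf : ∀ a, f a = f (rep (q a))) :
    ∑ a, f a = ∑ b, (Nat.card {a // q a = b} : ℂ) * f (rep b) := by
  classical
  rw [← Finset.sum_fiberwise Finset.univ q f]
  refine Finset.sum_congr rfl fun b _ => ?_
  rw [Finset.sum_congr rfl fun a ha => (hf a).trans (by rw [(Finset.mem_filter.mp ha).2]),
    Finset.sum_const, nsmul_eq_mul, ← Fintype.card_subtype, Nat.card_eq_fintype_card]

/-- A power with exponent a power of the prime is congruent to the value at the power. -/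
theorem exists_apply_pow_congr [Finite G] {p : ℕ} (hp : p.Prime) {M : Ideal AlgInt} (hMp : M.IsMaximal)
    (hpM : (p : AlgInt) ∈ M) {χ : G → ℂ} (hχ : IsCharacter G χ) (x : G) (k : ℕ) :
    ∃ a b : AlgInt, (a : ℂ) = χ x ∧ (b : ℂ) = χ (x ^ p ^ k) ∧ a ^ p ^ k - b ∈ M := by
  classical
  haveI := Fintype.ofFinite G
  haveI := Fact.mk hp
  haveI := hMp
  let C := Subgroup.zpowers x
  haveI := Fintype.ofFinite C
  haveI := Fintype.ofFinite (IrrCharacter C)
  obtain ⟨n, hn⟩ : ∃ n : IrrCharacter C → ℕ, ∀ ψ : IrrCharacter C,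
      classInner (fun c : C => χ c) (ψ : C → ℂ) = n ψ := by
    choose n hn using fun ψ : IrrCharacter C => classInner_natCast_of_isCharacter
      (IsCharacter.restrict hχ C) (IsIrrCharacter.isCharacter ψ.2)
    exact ⟨n, hn⟩
  have hl : ∀ ψ : IrrCharacter C, ∃ l : C →* ℂˣ, (ψ : C → ℂ) = fun c => (l c : ℂ) := fun ψ =>
    IsCharacter.exists_monoidHom (IsIrrCharacter.isCharacter ψ.2)
      (IsIrrCharacter.degree_one_of_comm ψ.2 fun a b => by
        obtain ⟨i, hi⟩ := Subgroup.mem_zpowers_iff.mp a.2
        obtain ⟨j, hj⟩ := Subgroup.mem_zpowers_iff.mp b.2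
        refine Subtype.ext ?_
        show (a : G) * b = b * a
        rw [← hi, ← hj]
        exact Commute.zpow_zpow_self x i j)
  choose l hl using hl
  let x' : C := ⟨x, Subgroup.mem_zpowers x⟩
  have hint : ∀ ψ : IrrCharacter C, (l ψ x' : ℂ) ∈ AlgInt := fun ψ => by
    rw [← congrFun (hl ψ) x']
    exact IsCharacter.isIntegral (IsIrrCharacter.isCharacter ψ.2) x'
  let r : IrrCharacter C → AlgInt := fun ψ => ⟨_, hint ψ⟩
  have hval : ∀ c : C, χ c = ∑ ψ, (n ψ : ℂ) * (l ψ c : ℂ) := fun c => by
    have := congrFun (IsClassFunction.eq_sum (IsCharacter.isClassFunction (IsCharacter.restrict hχ C))) c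
    simp only [hn, Finset.sum_apply, Pi.smul_apply, smul_eq_mul] at this
    rw [this]
    exact Finset.sum_congr rfl fun ψ _ => by rw [congrFun (hl ψ) c]
  refine ⟨∑ ψ, (n ψ : AlgInt) * r ψ, ∑ ψ, (n ψ : AlgInt) * r ψ ^ p ^ k, ?_, ?_, ?_⟩
  · rw [show χ x = χ (x' : G) from rfl, hval x']
    simp [r]
  · rw [show χ (x ^ p ^ k) = χ ((x' ^ p ^ k : C) : G) by rw [Subgroup.coe_pow], hval]
    simp [r, map_pow]
  · rw [← Ideal.Quotient.eq_zero_iff_mem]
    haveI : CharP (AlgInt ⧸ M) p := ⟨fun z => by
      rw [← map_natCast (Ideal.Quotient.mk M), Ideal.Quotient.eq_zero_iff_mem]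
      exact Cfsg.Agent.Block.natCast_mem_iff hp hpM z⟩
    simp only [map_sub, map_pow, map_sum, map_mul, map_natCast, sum_pow_char_pow, mul_pow]
    refine sub_eq_zero.mpr (Finset.sum_congr rfl fun ψ _ => ?_)
    congr 1
    rw [← iterateFrobenius_def (R := AlgInt ⧸ M) p k (n ψ : AlgInt ⧸ M)]
    exact map_natCast _ _

/-- Multiplying by a commuting element of prime power order does not change a value modulo the
prime. -/
theorem exists_apply_mul_congr [Finite G] {p : ℕ} (hp : p.Prime) {M : Ideal AlgInt}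
    (hMp : M.IsMaximal) (hpM : (p : AlgInt) ∈ M) {χ : G → ℂ} (hχ : IsCharacter G χ) {a s : G}
    (hc : Commute a s) {k : ℕ} (ha : a ^ p ^ k = 1) :
    ∃ u v : AlgInt, (u : ℂ) = χ (a * s) ∧ (v : ℂ) = χ s ∧ u - v ∈ M := by
  obtain ⟨u, w, hu, hw, huw⟩ := exists_apply_pow_congr hp hMp hpM hχ (a * s) k
  obtain ⟨v, w', hv, hw', hvw⟩ := exists_apply_pow_congr hp hMp hpM hχ s k
  rw [hc.mul_pow, ha, one_mul] at hw
  obtain rfl : w = w' := Subtype.ext (hw.trans hw'.symm)
  refine ⟨u, v, hu, hv, ?_⟩
  haveI := Fact.mk hp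
  haveI := hMp
  haveI : CharP (AlgInt ⧸ M) p := ⟨fun z => by
    rw [← map_natCast (Ideal.Quotient.mk M), Ideal.Quotient.eq_zero_iff_mem]
    exact Cfsg.Agent.Block.natCast_mem_iff hp hpM z⟩
  rw [← Ideal.Quotient.eq_zero_iff_mem] at huw hvw ⊢
  rw [map_sub, map_pow, sub_eq_zero] at huw hvw
  refine eq_zero_of_pow_eq_zero (n := p ^ k) ?_
  rw [map_sub, sub_pow_char_pow, huw, hvw, sub_self]

/-- Value of a character at an element of prime power order. -/
theorem exists_apply_congr_degree [Finite G] {p : ℕ} (hp : p.Prime) {M : Ideal AlgInt}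
    (hMp : M.IsMaximal) (hpM : (p : AlgInt) ∈ M) {χ : G → ℂ} (hχ : IsCharacter G χ) {a : G}
    {k : ℕ} (ha : a ^ p ^ k = 1) :
    ∃ u v : AlgInt, (u : ℂ) = χ a ∧ (v : ℂ) = χ 1 ∧ u - v ∈ M := by
  simpa using exists_apply_mul_congr hp hMp hpM hχ (Commute.one_right a) ha

section Section

variable [Fintype G] {m n : ℕ}

/-- The condition of lying in a section. -/
def InSection (m n : ℕ) (g x : G) : Prop :=
  ∃ v : G, IsConj v g ∧
    (∃ u : G, x = u * v ∧ Commute u v ∧ Nat.Coprime (orderOf u) n ∧ Nat.Coprime (orderOf v) m)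

omit [Fintype G] in
theorem inSection_conj {g x : G} (h : G) (hx : InSection m n g x) :
    InSection m n g (h * x * h⁻¹) := by
  obtain ⟨v, hv, u, rfl, hc, hu, hv'⟩ := hx
  refine ⟨h * v * h⁻¹, (isConj_iff.mpr ⟨h⁻¹, by group⟩ : IsConj (h * v * h⁻¹) v).trans hv,
    h * u * h⁻¹, by group, ?_, ?_, ?_⟩
  · exact hc.map (MulAut.conj h).toMonoidHom
  · rwa [orderOf_injective (MulAut.conj h).toMonoidHom (MulAut.conj h).injective u |>.symm] at hu
  · rwa [orderOf_injective (MulAut.conj h).toMonoidHom (MulAut.conj h).injective v |>.symm] at hv'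

omit [Fintype G] in
theorem inSection_conj_iff {g x : G} (h : G) :
    InSection m n g (h * x * h⁻¹) ↔ InSection m n g x := by
  refine ⟨fun hx => ?_, inSection_conj h⟩
  have := inSection_conj h⁻¹ hx
  simpa [mul_assoc] using this

theorem dvd_of_coprime_orderOf (hmn : Nat.card G = m * n) {u : G}
    (hu : Nat.Coprime (orderOf u) n) : orderOf u ∣ m :=
  hu.dvd_of_dvd_mul_right (hmn ▸ orderOf_dvd_natCard u)

theorem exists_pow_eq_part (hmn : Nat.card G = m * n) (hcop : Nat.Coprime m n) {u v : G}
    (hc : Commute u v) (hu : Nat.Coprime (orderOf u) n) (hv : Nat.Coprime (orderOf v) m) :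
    (∃ a : ℕ, (u * v) ^ a = u) ∧ ∃ b : ℕ, (u * v) ^ b = v := by
  have hu' := dvd_of_coprime_orderOf hmn hu
  have hv' := dvd_of_coprime_orderOf (m := n) (n := m) (by rw [hmn, mul_comm]) hv
  obtain ⟨a, ha1, ha2⟩ := Nat.chineseRemainder hcop 1 0
  obtain ⟨b, hb1, hb2⟩ := Nat.chineseRemainder hcop 0 1
  constructor
  · refine ⟨a, ?_⟩
    rw [hc.mul_pow]
    have h1 : u ^ a = u ^ 1 := pow_eq_pow_iff_modEq.mpr (ha1.of_dvd hu')
    have h2 : v ^ a = v ^ 0 := pow_eq_pow_iff_modEq.mpr (ha2.of_dvd hv')
    rw [h1, h2, pow_one, pow_zero, mul_one]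
  · refine ⟨b, ?_⟩
    rw [hc.mul_pow]
    have h1 : u ^ b = u ^ 0 := pow_eq_pow_iff_modEq.mpr (hb1.of_dvd hu')
    have h2 : v ^ b = v ^ 1 := pow_eq_pow_iff_modEq.mpr (hb2.of_dvd hv')
    rw [h1, h2, pow_zero, one_mul, pow_one]

omit [Fintype G] in
theorem elementary_parts_commute {p : ℕ} {E : Type u} [Group E] [Finite E] (hp : p.Prime)
    (hE : IsElementary p E) (hcard : Nat.card E ∣ m * n) (hcop : Nat.Coprime m n) :
    (∀ a b : E, a ^ m = 1 → b ^ m = 1 → (a * b) ^ m = 1) ∧
      ∀ a b : E, a ^ m = 1 → b ^ n = 1 → a * b = b * a := by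
  obtain ⟨x, hx, -, k, hk⟩ := hE
  have hle : Subgroup.zpowers x ≤ Subgroup.center E := Subgroup.zpowers_le.mpr hx
  haveI : (Subgroup.zpowers x).Normal :=
    ⟨fun a ha g => by rw [Subgroup.mem_center_iff.mp (hle ha) g, mul_inv_cancel_right]; exact ha⟩
  obtain ⟨j, -, hj⟩ := (Nat.dvd_prime_pow hp).mp (hk ▸ Subgroup.index_dvd_of_le hle)
  have hpow : ∀ a : E, a ^ p ^ j ∈ Subgroup.center E := fun a => by
    rw [← QuotientGroup.eq_one_iff, QuotientGroup.mk_pow, ← hj, Subgroup.index_eq_card]
    exact pow_card_eq_one'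
  have hcen : ∀ a : E, Nat.Coprime (orderOf a) p → a ∈ Subgroup.center E := fun a ha =>
    hle (mem_of_coprime_index hk ha)
  constructor
  · intro a b ha hb
    by_cases hpm : p ∣ m
    · have hpn : Nat.Coprime p n := Nat.Coprime.coprime_dvd_left hpm hcop
      have e : (a * b) ^ p ^ j = a ^ p ^ j * b ^ p ^ j := by
        have := map_mul (MonoidHom.transferCenterPow E) a b
        have h2 := congrArg Subtype.val this
        simp only [MonoidHom.transferCenterPow_apply, Subgroup.coe_mul, hj] at h2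
        exact h2
      rw [← orderOf_dvd_iff_pow_eq_one]
      have h1 : orderOf (a * b) ∣ p ^ j * m := by
        rw [orderOf_dvd_iff_pow_eq_one, pow_mul, e,
          Commute.mul_pow (Subgroup.mem_center_iff.mp (hpow b) _), ← pow_mul, ← pow_mul,
          mul_comm, pow_mul, pow_mul, ha, hb, one_pow, one_mul]
      have h2 : Nat.Coprime (orderOf (a * b)) n :=
        Nat.Coprime.coprime_dvd_left h1 (Nat.Coprime.mul_left (hpn.pow_left j) hcop)
      exact h2.dvd_of_dvd_mul_right ((orderOf_dvd_natCard _).trans hcard)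
    · have hac : Commute a b := (Subgroup.mem_center_iff.mp (hcen a (Nat.Coprime.coprime_dvd_left
        (orderOf_dvd_of_pow_eq_one ha) (hp.coprime_iff_not_dvd.mpr hpm).symm)) b).symm
      rw [hac.mul_pow, ha, hb, one_mul]
  · intro a b ha hb
    by_cases hpm : p ∣ m
    · have hpn : ¬ p ∣ n := fun h => hp.not_dvd_one (hcop ▸ Nat.dvd_gcd hpm h)
      exact Subgroup.mem_center_iff.mp (hcen b (Nat.Coprime.coprime_dvd_left
        (orderOf_dvd_of_pow_eq_one hb) (hp.coprime_iff_not_dvd.mpr hpn).symm)) a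
    · exact (Subgroup.mem_center_iff.mp (hcen a (Nat.Coprime.coprime_dvd_left
        (orderOf_dvd_of_pow_eq_one ha) (hp.coprime_iff_not_dvd.mpr hpm).symm)) b).symm

open Classical in
/-- A multiple of the indicator of a section is an integral combination of characters. -/
theorem classInner_sectionFun_isIntegral (hmn : Nat.card G = m * n) (hcop : Nat.Coprime m n)
    (g : G) {χ : G → ℂ} (hχ : IsIrrCharacter G χ) :
    IsIntegral ℤ (classInner (fun x => if InSection m n g x then (n : ℂ) else 0) χ) := by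
  set f : G → ℂ := fun x => if InSection m n g x then (n : ℂ) else 0 with hf
  have hfcf : IsClassFunction G f := fun x h => by simp only [hf, inSection_conj_iff]
  suffices h : IsIntegral ℤ (classInner (f * 1) χ) by simpa using h
  refine elemSpanAll_induction (P := fun v => IsIntegral ℤ (classInner (f * v) χ))
    ?_ ?_ ?_ ?_ one_mem_elemSpanAll
  · simp only [mul_zero, classInner_zero_left]; exact isIntegral_zero
  · intro p E ψ hp hEl hψ
    haveI := Fintype.ofFinite E
    have hχE := IsCharacter.restrict (IsIrrCharacter.isCharacter hχ) E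
    rw [← indFun_mul E ψ hfcf, classInner_indFun E _
      (IsCharacter.isClassFunction (IsIrrCharacter.isCharacter hχ))]
    have e1 : classInner (fun e : E => f e * ψ e) (fun e : E => χ e) =
        classInner (fun e : E => f e) ((fun e : E => conj (ψ e)) * fun e : E => χ e) := by
      simp only [classInner, Pi.mul_apply, map_mul, Complex.conj_conj, mul_assoc]
    rw [e1]
    set Φ := (fun e : E => conj (ψ e)) * fun e : E => χ e with hΦdef
    have hΦ : IsCharacter E Φ := isCharacter_mul (isCharacter_conj hψ) hχE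
    haveI := Fintype.ofFinite (IrrCharacter E)
    rw [IsClassFunction.eq_sum (IsCharacter.isClassFunction hΦ), classInner_sum_right]
    refine IsIntegral.sum _ fun φ _ => ?_
    obtain ⟨k, hk⟩ := classInner_natCast_of_isCharacter hΦ (IsIrrCharacter.isCharacter φ.2)
    rw [classInner_smul_right, hk, Complex.conj_natCast]
    refine (isIntegral_algebraMap (x := (k : ℤ))).mul ?_ |> fun h => by simpa using h
    have hcard : Nat.card E ∣ m * n := hmn ▸ Subgroup.card_subgroup_dvd_card E
    obtain ⟨hmul, hcomm⟩ := elementary_parts_commute hp hEl hcard hcop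
    let U : Subgroup E :=
      { carrier := {e | e ^ m = 1}
        mul_mem' := fun {a b} ha hb => hmul a b ha hb
        one_mem' := one_pow m
        inv_mem' := fun {a} (ha : a ^ m = 1) => by
          show a⁻¹ ^ m = 1
          rw [inv_pow, ha, inv_one] }
    haveI hUn : U.Normal := ⟨fun a (ha : a ^ m = 1) h => by
      show (h * a * h⁻¹) ^ m = 1
      rw [conj_pow, ha, mul_one, mul_inv_cancel]⟩
    haveI := Fintype.ofFinite U
    have hidx : U.index ∣ n := by
      refine (Nat.Coprime.dvd_of_dvd_mul_left ?_ ((U.index_dvd_card).trans hcard))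
      refine Nat.coprime_of_dvd fun q hq hqU hqm => ?_
      haveI := Fact.mk hq
      rw [Subgroup.index_eq_card] at hqU
      obtain ⟨c, hc⟩ := exists_prime_orderOf_dvd_card' (G := E ⧸ U) q hqU
      obtain ⟨e, rfl⟩ := QuotientGroup.mk'_surjective U c
      have hen : (e ^ n) ∈ U := by
        show (e ^ n) ^ m = 1
        rw [← pow_mul, mul_comm, ← orderOf_dvd_iff_pow_eq_one]
        exact (orderOf_dvd_natCard e).trans hcard
      rw [← QuotientGroup.eq_one_iff, QuotientGroup.mk_pow, ← orderOf_dvd_iff_pow_eq_one] at hen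
      rw [QuotientGroup.mk'_apply] at hc
      rw [hc] at hen
      exact hq.not_dvd_one (hcop ▸ Nat.dvd_gcd hqm hen)
    have hinv : ∀ (u : U) (e : E), f ((u : E) * e : E) = f (e : G) := by
      suffices h : ∀ (u : U) (e : E), InSection m n g (e : G) →
          InSection m n g (((u : E) * e : E) : G) by
        intro u e
        simp only [hf]
        refine if_congr ⟨fun hh => ?_, h u e⟩ rfl rfl
        simpa using h u⁻¹ _ hh
      rintro u e ⟨v, hv, w, hw, hc, hwn, hvm⟩
      obtain ⟨⟨a, ha⟩, b, hb⟩ := exists_pow_eq_part hmn hcop hc hwn hvm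
      rw [← hw] at ha hb
      have hwE : (e ^ a : E) ^ m = 1 := Subtype.ext (by
        rw [Subgroup.coe_pow, Subgroup.coe_pow, ha, Subgroup.coe_one]
        exact orderOf_dvd_iff_pow_eq_one.mp (dvd_of_coprime_orderOf hmn hwn))
      have hvE : (e ^ b : E) ^ n = 1 := Subtype.ext (by
        rw [Subgroup.coe_pow, Subgroup.coe_pow, hb, Subgroup.coe_one]
        exact orderOf_dvd_iff_pow_eq_one.mp
          (dvd_of_coprime_orderOf (m := n) (n := m) (by rw [hmn, mul_comm]) hvm))
      refine ⟨v, hv, ((u : E) * e ^ a : E), ?_, ?_, ?_, hvm⟩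
      · simp only [Subgroup.coe_mul, Subgroup.coe_pow, ha]
        rw [mul_assoc, ← hw]
      · have := congrArg Subtype.val (hcomm ((u : E) * e ^ a) (e ^ b) (hmul _ _ u.2 hwE) hvE)
        simpa [Commute, SemiconjBy, hb] using this
      · refine Nat.Coprime.coprime_dvd_left ?_ hcop
        rw [orderOf_dvd_iff_pow_eq_one]
        exact congrArg Subtype.val (hmul _ _ u.2 hwE)
    obtain ⟨d, ρ, hρ, hρc⟩ := φ.2
    haveI := hρ
    haveI := Fintype.ofFinite (E ⧸ U)
    simp only [classInner]
    rw [← hρc]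
    by_cases hker : ∃ h ∈ U, ρ h ≠ LinearMap.id
    · have hz := sum_rep_eq_zero ρ U hker
      have key : ∀ u : U, ∑ e : E, f e * conj (ρ.character e) =
          ∑ e : E, f e * conj (ρ.character ((u : E) * e)) := fun u => by
        refine (Fintype.sum_equiv (Equiv.mulLeft (u : E)) _ _ fun e => ?_).symm
        simp only [Equiv.coe_mulLeft, hinv]
      have h1 : (Fintype.card U : ℂ) * ∑ e : E, f e * conj (ρ.character e) = 0 := by
        rw [← nsmul_eq_mul, ← Finset.card_univ, ← Finset.sum_const,
          Finset.sum_congr rfl fun u _ => key u, Finset.sum_comm]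
        refine Finset.sum_eq_zero fun e _ => ?_
        rw [← Finset.mul_sum, ← map_sum]
        have h0 : ∑ u : U, ρ.character ((u : E) * e) = 0 := by
          have := congrArg (fun A : (Fin d → ℂ) →ₗ[ℂ] (Fin d → ℂ) =>
            LinearMap.trace ℂ _ (A * ρ e)) hz
          simp only [Finset.sum_mul, zero_mul, map_zero, map_sum, ← map_mul] at this
          exact this
        rw [h0, map_zero, mul_zero]
      rw [(mul_eq_zero.mp h1).resolve_left (Nat.cast_ne_zero.mpr Fintype.card_ne_zero), mul_zero]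
      exact isIntegral_zero
    · push Not at hker
      have hconst : ∀ e : E, f e * conj (ρ.character e) =
          f ((QuotientGroup.mk (s := U) e).out : E) *
            conj (ρ.character (QuotientGroup.mk (s := U) e).out) := by
        intro e
        obtain ⟨u, hu⟩ := QuotientGroup.mk_out_eq_mul U e
        have : (QuotientGroup.mk (s := U) e).out =
            ((⟨e * u * e⁻¹, hUn.conj_mem _ u.2 e⟩ : U) : E) * e := by rw [hu]; simp
        rw [this, hinv]
        congr 2
        show LinearMap.trace ℂ _ (ρ e) = LinearMap.trace ℂ _ (ρ (_ * e))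
        rw [map_mul, hker _ (hUn.conj_mem _ u.2 e)]
        rfl
      rw [sum_mul_card_fiber' (QuotientGroup.mk (s := U)) _ Quotient.out hconst, Finset.mul_sum]
      refine IsIntegral.sum _ fun c _ => ?_
      have hfib : Nat.card {e : E // QuotientGroup.mk (s := U) e = c} = Nat.card U :=
        Nat.card_congr
          { toFun := fun e => ⟨c.out⁻¹ * e.1, QuotientGroup.eq.mp ((Quotient.out_eq c).trans e.2.symm)⟩
            invFun := fun u => ⟨c.out * u, by
              rw [QuotientGroup.mk_mul_of_mem _ u.2]; exact Quotient.out_eq c⟩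
            left_inv := fun e => Subtype.ext (by simp)
            right_inv := fun u => Subtype.ext (by simp) }
      rw [hfib]
      obtain ⟨t, ht⟩ := hidx
      have e2 : (Nat.card E : ℂ)⁻¹ * ((Nat.card U : ℂ) *
          (f (c.out : E) * conj (ρ.character c.out))) =
          (if InSection m n g (c.out : G) then (t : ℂ) else 0) * conj (ρ.character c.out) := by
        rw [← U.index_mul_card, Nat.cast_mul, hf]
        have h1 : (Nat.card U : ℂ) ≠ 0 := Nat.cast_ne_zero.mpr Nat.card_pos.ne'
        have h2 : (U.index : ℂ) ≠ 0 := Nat.cast_ne_zero.mpr Subgroup.index_ne_zero_of_finite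
        simp only
        split_ifs
        · rw [ht, Nat.cast_mul]; field_simp
        · simp
      rw [e2]
      refine IsIntegral.mul ?_ ?_
      · split_ifs
        · simpa using isIntegral_algebraMap (R := ℤ) (A := ℂ) (x := (t : ℤ))
        · exact isIntegral_zero
      · rw [← IsCharacter.map_inv (isCharacter_character ρ)]
        exact IsCharacter.isIntegral (isCharacter_character ρ) _
  · intro a b ha hb
    rw [mul_add, classInner_add_left]; exact ha.add hb
  · intro c a ha
    rw [mul_smul_comm, ← Int.cast_smul_eq_zsmul ℂ, classInner_smul_left]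
    exact (by simpa using isIntegral_algebraMap (R := ℤ) (A := ℂ) (x := c) : IsIntegral ℤ (c : ℂ)).mul ha

end Section

end Cfsg.Agent.Char
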