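import Cfsg.Agent.Lib.Char.Clifford
import Cfsg.Agent.Lib.Char.Linear
import Mathlib.GroupTheory.Nilpotent

/-!
# Monomial groups
-/

set_option autoImplicit false
set_option linter.style.haveILetI false

namespace Cfsg.Agent.Char

open Cfsg Representation Module
open scoped ComplexConjugate

universe u

variable {G : Type u} [Group G]

/-! ## Transport of induced functions -/

theorem indFun_congr [Fintype G] {H H' : Subgroup G} (h : H = H') (θ : H → ℂ) (θ' : H' → ℂ)
    (he : ∀ (x : G) (hx : x ∈ H) (hx' : x ∈ H'), θ ⟨x, hx⟩ = θ' ⟨x, hx'⟩) :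
    indFun H θ = indFun H' θ' := by
  subst h
  congr 1
  funext x
  exact he x x.2 x.2

theorem indFun_map_subtype [Fintype G] (T : Subgroup G) [Fintype T] (U : Subgroup T) (θ : U → ℂ)
    (θ' : (U.map T.subtype) → ℂ)
    (he : ∀ x : U, θ' ⟨((x : T) : G), Subgroup.mem_map_of_mem T.subtype x.2⟩ = θ x) :
    indFun T (indFun U θ) = indFun (U.map T.subtype) θ' := by
  rw [← indFun_trans (U.map T.subtype) T (Subgroup.map_subtype_le U) θ']
  congr 1
  refine indFun_congr (Subgroup.comap_map_eq_self_of_injective T.subtype_injective U).symm _ _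
    fun x hx hx' => ?_
  exact (he ⟨x, hx⟩).symm

/-- The isomorphism of a subgroup of a subgroup with its image. -/
noncomputable def mapSubtypeEquiv (T : Subgroup G) (U : Subgroup T) : U ≃* U.map T.subtype :=
  Subgroup.equivMapOfInjective U T.subtype T.subtype_injective

/-! ## Degree one -/

theorem norm_sq_of_smul [Finite G] {V : Type*} [AddCommGroup V] [Module ℂ V] [FiniteDimensional ℂ V]
    (ρ : Representation ℂ G V) (g : G) {c : ℂ} (h : ρ g = c • (LinearMap.id : V →ₗ[ℂ] V)) :
    ρ.character g * conj (ρ.character g) = (finrank ℂ V : ℂ) * (finrank ℂ V : ℂ) := by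
  rw [Complex.mul_conj, Complex.normSq_eq_norm_sq, (norm_character_eq_iff ρ g).mpr ⟨c, h⟩]
  push_cast; ring

/-- An irreducible representation all of whose operators commute has degree one. -/
theorem degree_eq_one_of_rep_comm [Fintype G] {V : Type*} [AddCommGroup V] [Module ℂ V]
    [FiniteDimensional ℂ V] (ρ : Representation ℂ G V) [ρ.IsIrreducible]
    (hab : ∀ a b : G, ρ (a * b) = ρ (b * a)) : finrank ℂ V = 1 := by
  have hs : ∀ g : G, ∃ c : ℂ, ρ g = c • (LinearMap.id : V →ₗ[ℂ] V) := by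
    intro g
    let T : IntertwiningMap ρ ρ := ⟨ρ g, fun x => by
      rw [← Module.End.mul_eq_comp, ← Module.End.mul_eq_comp, ← map_mul, ← map_mul, hab]⟩
    obtain ⟨c, hc⟩ :=
      (IsIrreducible.algebraMap_intertwiningMap_bijective_of_isAlgClosed (ρ := ρ)).2 T
    have := congrArg IntertwiningMap.toLinearMap hc
    simp only [T] at this
    exact ⟨c, by rw [← this, Algebra.algebraMap_eq_smul_one]; rfl⟩
  have h := (isIrreducible_iff_classInner ρ).mp ‹_›
  have h2 : classInner ρ.character ρ.character = (finrank ℂ V : ℂ) * (finrank ℂ V : ℂ) := by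
    simp only [classInner]
    rw [Finset.sum_congr rfl fun g _ => norm_sq_of_smul ρ g (hs g).choose_spec, Finset.sum_const,
      Finset.card_univ, nsmul_eq_mul, ← Nat.card_eq_fintype_card, ← mul_assoc,
      inv_mul_cancel₀ (Nat.cast_ne_zero.mpr Nat.card_pos.ne'), one_mul]
  rw [h2] at h
  exact Nat.eq_one_of_mul_eq_one_right (by exact_mod_cast h)

/-- Degree one through the kernel. -/
theorem IsIrrCharacter.degree_one_of_commutator_ker [Finite G] {χ : G → ℂ}
    (hχ : IsIrrCharacter G χ) (h : ∀ a b : G, χ (a * b * a⁻¹ * b⁻¹) = χ 1) : χ 1 = 1 := by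
  haveI := Fintype.ofFinite G
  obtain ⟨n, ρ, hρ, rfl⟩ := hχ
  haveI := hρ
  have hab : ∀ a b : G, ρ (a * b) = ρ (b * a) := by
    intro a b
    have h1 := h a b
    rw [ρ.char_one, character_eq_finrank_iff] at h1
    have h2 : a * b = a * b * a⁻¹ * b⁻¹ * (b * a) := by group
    rw [h2, map_mul, h1]
    rfl
  rw [ρ.char_one, degree_eq_one_of_rep_comm ρ hab, Nat.cast_one]

/-- Equality in the bound passes to constituents. -/
theorem constituent_apply_eq_one [Fintype G] {Φ χ : G → ℂ} (hΦ : IsCharacter G Φ)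
    (hχ : IsIrrCharacter G χ) (hne : classInner Φ χ ≠ 0) {g : G} (hg : Φ g = Φ 1) :
    χ g = χ 1 := by
  obtain ⟨r, hr, rfl⟩ := exists_add_of_classInner_ne_zero hΦ hχ hne
  obtain ⟨a, ha⟩ := IsCharacter.exists_degree (IsIrrCharacter.isCharacter hχ)
  obtain ⟨b, hb⟩ := IsCharacter.exists_degree hr
  have h1 := IsCharacter.norm_le (IsIrrCharacter.isCharacter hχ) g
  have h2 := IsCharacter.norm_le hr g
  simp only [Pi.add_apply, ha, hb] at hg
  rw [ha, Complex.norm_natCast] at h1
  rw [hb, Complex.norm_natCast] at h2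
  have e1 := Complex.re_le_norm (χ g)
  have e2 := Complex.re_le_norm (r g)
  have hre := congrArg Complex.re hg
  simp at hre
  have hre' : (χ g).re = a := by linarith
  have hsq := Complex.sq_norm (χ g)
  rw [Complex.normSq_apply, hre'] at hsq
  have him : (χ g).im * (χ g).im ≤ 0 := by
    nlinarith [norm_nonneg (χ g)]
  have him0 : (χ g).im = 0 := mul_self_eq_zero.mp (le_antisymm him (mul_self_nonneg _))
  rw [ha]
  exact Complex.ext (by simpa using hre') (by simpa using him0)

/-! ## Monomiality -/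

/-- The hereditary condition ensuring that the group is monomial: every nonabelian section
has a noncentral abelian normal subgroup. -/
def AbelianNormalCond (G : Type u) [Group G] : Prop :=
  ∀ (H : Type u) [Group H] (f : H →* G), Function.Injective f →
    ∀ K : Subgroup H, K.Normal → (∃ a b : H, a * b * a⁻¹ * b⁻¹ ∉ K) →
      ∃ A : Subgroup H, A.Normal ∧ (∀ a ∈ A, ∀ b ∈ A, a * b * a⁻¹ * b⁻¹ ∈ K) ∧
        ∃ a ∈ A, ∃ b : H, a * b * a⁻¹ * b⁻¹ ∉ K

theorem AbelianNormalCond.subgroup (h : AbelianNormalCond G) (T : Subgroup G) :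
    AbelianNormalCond T :=
  fun H _ f hf => h H (T.subtype.comp f) (T.subtype_injective.comp hf)

theorem exists_induced_of_cond [Fintype G] (h : AbelianNormalCond G) {χ : G → ℂ}
    (hχ : IsIrrCharacter G χ) :
    χ 1 = 1 ∨ ∃ (T : Subgroup G), T ≠ ⊤ ∧ ∃ ψ : T → ℂ, IsIrrCharacter T ψ ∧ indFun T ψ = χ := by
  classical
  obtain ⟨n, ρ, hρ, hρc⟩ := hχ
  have hχ : IsIrrCharacter G χ := ⟨n, ρ, hρ, hρc⟩
  have hker : ∀ g, g ∈ ρ.ker ↔ χ g = χ 1 := fun g => by
    rw [← hρc, ρ.char_one, character_eq_finrank_iff]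
    exact MonoidHom.mem_ker
  by_cases hcomm : ∀ a b : G, a * b * a⁻¹ * b⁻¹ ∈ ρ.ker
  · exact Or.inl (IsIrrCharacter.degree_one_of_commutator_ker hχ fun a b =>
      (hker _).mp (hcomm a b))
  push Not at hcomm
  obtain ⟨A, hA, hAab, a₀, ha₀, b₀, hab₀⟩ :=
    h G (MonoidHom.id G) Function.injective_id ρ.ker (MonoidHom.normal_ker ρ) hcomm
  haveI := hA
  have hχA : IsCharacter A (fun a : A => χ a) :=
    IsCharacter.restrict (IsIrrCharacter.isCharacter hχ) A
  obtain ⟨θ, hθ, hθne⟩ := IsCharacter.exists_irr_constituent hχA (fun h0 =>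
    IsIrrCharacter.apply_one_ne_zero hχ (by simpa using congrFun h0 1))
  have hθ1 : θ 1 = 1 := IsIrrCharacter.degree_one_of_commutator_ker hθ fun a b =>
    constituent_apply_eq_one hχA hθ hθne (by simpa using (hker _).mp (hAab a a.2 b b.2))
  let T := inertia A θ
  have hAT : A ≤ T := le_inertia A (IsCharacter.isClassFunction (IsIrrCharacter.isCharacter hθ))
  by_cases hT : T = ⊤
  · exfalso
    apply hab₀
    have hinv : ∀ g, conjChar A g θ = θ := fun g =>
      (mem_inertia A).mp (show g ∈ T from hT ▸ Subgroup.mem_top g)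
    have hres := restrict_eq_smul_of_inertia_top A hχ hθ hθne hinv
    have h1 := congrFun hres 1
    simp only [OneMemClass.coe_one, Pi.smul_apply, hθ1, smul_eq_mul, mul_one] at h1
    obtain ⟨l, hl⟩ := IsCharacter.exists_monoidHom (IsIrrCharacter.isCharacter hθ) hθ1
    have hn : ‖χ a₀‖ = ‖χ 1‖ := by
      have h2 := congrFun hres ⟨a₀, ha₀⟩
      simp only [Pi.smul_apply, smul_eq_mul] at h2
      have : ‖θ ⟨a₀, ha₀⟩‖ = 1 := by
        rw [hl]
        refine Complex.norm_eq_one_of_pow_eq_one ?_ (orderOf_pos (⟨a₀, ha₀⟩ : A)).ne'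
        rw [← Units.val_pow_eq_pow_val, ← map_pow, pow_orderOf_eq_one, map_one, Units.val_one]
      rw [h2, norm_mul, this, mul_one, h1]
    rw [← hρc, ρ.char_one, Complex.norm_natCast] at hn
    obtain ⟨ω, hω⟩ := (norm_character_eq_iff ρ a₀).mp hn
    rw [MonoidHom.mem_ker]
    have hω' : ρ (a₀ * b₀) = ρ (b₀ * a₀) := by
      rw [map_mul, map_mul, hω]
      apply LinearMap.ext; intro v; simp
    have e : a₀ * b₀ * a₀⁻¹ * b₀⁻¹ = a₀ * b₀ * (b₀ * a₀)⁻¹ := by group
    rw [e, map_mul, hω', ← map_mul, mul_inv_cancel, map_one]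
  · right
    obtain ⟨ψ, hψ, h1, h2⟩ := exists_irr_above_inertia A hθ hAT hχ hθne
    exact ⟨T, hT, ψ, hψ, (clifford_core A hθ rfl hAT hχ hψ h1 h2).1⟩

theorem monomial_of_cond [Fintype G] (h : AbelianNormalCond G) {χ : G → ℂ}
    (hχ : IsIrrCharacter G χ) :
    ∃ (U : Subgroup G) (l : U →* ℂˣ), indFun U (fun x => (l x : ℂ)) = χ := by
  classical
  suffices H : ∀ (n : ℕ) (G : Type u) [Group G] [Fintype G], Nat.card G = n → AbelianNormalCond G →
      ∀ χ : G → ℂ, IsIrrCharacter G χ →
        ∃ (U : Subgroup G) (l : U →* ℂˣ), indFun U (fun x => (l x : ℂ)) = χ from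
    H _ G rfl h χ hχ
  intro n
  induction n using Nat.strong_induction_on with
  | _ n ih =>
    intro G _ _ hn h χ hχ
    rcases exists_induced_of_cond h hχ with h1 | ⟨T, hT, ψ, hψ, hind⟩
    · obtain ⟨l, hl⟩ := IsCharacter.exists_monoidHom (IsIrrCharacter.isCharacter hχ) h1
      refine ⟨⊤, l.comp (⊤ : Subgroup G).subtype, ?_⟩
      funext g
      rw [indFun_apply, Subgroup.card_top]
      have : ∀ x : G, extendByZero (⊤ : Subgroup G)
          (fun y => ((l.comp (⊤ : Subgroup G).subtype) y : ℂ)) (x⁻¹ * g * x) = χ g := by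
        intro x
        rw [extendByZero_of_mem _ _ (Subgroup.mem_top _)]
        show (l (x⁻¹ * g * x) : ℂ) = χ g
        rw [← congrFun hl (x⁻¹ * g * x)]
        simpa using IsCharacter.isClassFunction (IsIrrCharacter.isCharacter hχ) g x⁻¹
      rw [Finset.sum_congr rfl fun x _ => this x, Finset.sum_const, Finset.card_univ, nsmul_eq_mul,
        ← Nat.card_eq_fintype_card, ← mul_assoc,
        inv_mul_cancel₀ (Nat.cast_ne_zero.mpr Nat.card_pos.ne'), one_mul]
    · have hlt : Nat.card T < n := hn ▸ lt_of_le_of_ne (Subgroup.card_le_card_group T)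
        (fun e => hT (Subgroup.eq_top_of_card_eq T e))
      obtain ⟨U, l, hl⟩ := ih _ hlt T rfl (h.subgroup T) ψ hψ
      refine ⟨U.map T.subtype, l.comp (mapSubtypeEquiv T U).symm.toMonoidHom, ?_⟩
      rw [← indFun_map_subtype T U (fun x => (l x : ℂ)), hl, hind]
      intro x
      show ((l ((mapSubtypeEquiv T U).symm ⟨((x : T) : G), _⟩) : ℂˣ) : ℂ) = l x
      congr 2
      rw [MulEquiv.symm_apply_eq]
      exact Subtype.ext rfl

/-- A nonabelian nilpotent group has a noncentral abelian normal subgroup. -/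
theorem exists_abelian_normal_of_nilpotent (Q : Type*) [Group Q] [Group.IsNilpotent Q]
    (hne : ∃ a b : Q, a * b ≠ b * a) :
    ∃ A : Subgroup Q, A.Normal ∧ (∀ a ∈ A, ∀ b ∈ A, a * b = b * a) ∧
      ∃ a ∈ A, ∃ b, a * b ≠ b * a := by
  obtain ⟨a, ha, hac⟩ : ∃ a : Q, (∀ g : Q, a * g * a⁻¹ * g⁻¹ ∈ Subgroup.center Q) ∧
      a ∉ Subgroup.center Q := by
    by_contra hh
    push Not at hh
    obtain ⟨k, hk⟩ := ‹Group.IsNilpotent Q›.nilpotent'
    have hle : ∀ j, Subgroup.upperCentralSeries Q j ≤ Subgroup.center Q := by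
      intro j
      induction j with
      | zero => simp
      | succ j ihj =>
        intro x hx
        rw [Subgroup.mem_upperCentralSeries_succ_iff] at hx
        exact hh x fun g => ihj (hx g)
    obtain ⟨x, y, hxy⟩ := hne
    exact hxy (Subgroup.mem_center_iff.mp (hle k (hk ▸ Subgroup.mem_top y)) x)
  let A := Subgroup.zpowers a ⊔ Subgroup.center Q
  refine ⟨A, ⟨fun x hx g => ?_⟩, fun x hx y hy => ?_, a,
    le_sup_left (a := Subgroup.zpowers a) (Subgroup.mem_zpowers a), ?_⟩
  · have hle : A ≤ A.comap (MulAut.conj g).toMonoidHom := by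
      refine sup_le ((Subgroup.zpowers_le).mpr ?_) fun z hz => ?_
      · show g * a * g⁻¹ ∈ A
        have h1 : g * a * g⁻¹ = (a * g * a⁻¹ * g⁻¹)⁻¹ * a := by group
        rw [h1]
        exact A.mul_mem (le_sup_right (a := Subgroup.zpowers a) (inv_mem (ha g)))
          (le_sup_left (a := Subgroup.zpowers a) (Subgroup.mem_zpowers a))
      · show g * z * g⁻¹ ∈ A
        rw [Subgroup.mem_center_iff.mp hz g, mul_inv_cancel_right]
        exact le_sup_right (a := Subgroup.zpowers a) hz
    exact hle hx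
  · have hsup : A ≤ Subgroup.centralizer (A : Set Q) := by
      have h1 : A ≤ Subgroup.centralizer (Subgroup.zpowers a : Set Q) := by
        refine sup_le ?_ (Subgroup.center_le_centralizer _)
        intro z hz
        rw [Subgroup.mem_centralizer_iff]
        intro w hw
        obtain ⟨i, rfl⟩ := Subgroup.mem_zpowers_iff.mp hz
        obtain ⟨j, rfl⟩ := Subgroup.mem_zpowers_iff.mp hw
        rw [← zpow_add, add_comm, zpow_add]
      refine sup_le ?_ (Subgroup.center_le_centralizer _)
      intro z hz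
      rw [Subgroup.mem_centralizer_iff]
      intro w hw
      exact ((Subgroup.mem_centralizer_iff.mp (h1 hw)) z hz).symm
    exact ((Subgroup.mem_centralizer_iff.mp (hsup hx)) y hy).symm
  · by_contra hh
    push Not at hh
    exact hac (Subgroup.mem_center_iff.mpr fun g => (hh g).symm)

/-- The condition follows when nonabelian sections have abelian normal noncentral subgroups. -/
theorem abelianNormalCond_of_sections
    (h : ∀ (H : Type u) [Group H] (f : H →* G), Function.Injective f →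
      ∀ (K : Subgroup H) [K.Normal], (∃ a b : H ⧸ K, a * b ≠ b * a) →
        ∃ A : Subgroup (H ⧸ K), A.Normal ∧ (∀ a ∈ A, ∀ b ∈ A, a * b = b * a) ∧
          ∃ a ∈ A, ∃ b, a * b ≠ b * a) : AbelianNormalCond G := by
  intro H _ f hf K hK ⟨a, b, hab⟩
  haveI := hK
  have key : ∀ x y : H, x * y * x⁻¹ * y⁻¹ ∈ K ↔
      (QuotientGroup.mk' K x) * (QuotientGroup.mk' K y) =
        (QuotientGroup.mk' K y) * (QuotientGroup.mk' K x) := by
    intro x y
    rw [← QuotientGroup.eq_one_iff, ← map_mul, ← map_mul]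
    have e : x * y * x⁻¹ * y⁻¹ = (x * y) * (y * x)⁻¹ := by group
    rw [e, QuotientGroup.mk_mul, QuotientGroup.mk_inv, mul_inv_eq_one]
    rfl
  obtain ⟨A, hA, hAab, a', ha', b', hab'⟩ := h H f hf K
    ⟨_, _, fun e => hab ((key a b).mpr e)⟩
  haveI := hA
  refine ⟨A.comap (QuotientGroup.mk' K), inferInstance,
    fun x hx y hy => (key x y).mpr (hAab _ hx _ hy), ?_⟩
  obtain ⟨x, rfl⟩ := QuotientGroup.mk'_surjective K a'
  obtain ⟨y, rfl⟩ := QuotientGroup.mk'_surjective K b'
  exact ⟨x, ha', y, fun e => hab' ((key x y).mp e)⟩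

theorem abelianNormalCond_of_isNilpotent [Group.IsNilpotent G] : AbelianNormalCond G :=
  abelianNormalCond_of_sections fun H _ f hf K _ hne => by
    haveI : Group.IsNilpotent f.range := Subgroup.isNilpotent _
    haveI : Group.IsNilpotent H :=
      Group.nilpotent_of_mulEquiv (MonoidHom.ofInjective hf).symm
    exact exists_abelian_normal_of_nilpotent (H ⧸ K) hne

end Cfsg.Agent.Char
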