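import Cfsg.Agent.Lib.Char.DegreeIndex
import Cfsg.Agent.Lib.Char.Linear
import Cfsg.Agent.Lib.Char.Monomial
import Cfsg.Agent.Lib.Char.Congr
import Mathlib.GroupTheory.Abelianization.Defs
import Mathlib.GroupTheory.Sylow
import Cfsg.Agent.Lib.Block.RegInner

/-!
# Groups described by their character degrees
-/

set_option autoImplicit false
set_option linter.style.haveILetI false

namespace Cfsg.Agent.Char

open Cfsg
open scoped ComplexConjugate

universe u

variable {G : Type u} [Group G]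

theorem exists_ito_degree [Finite G] (A : Subgroup G) [A.Normal]
    (hA : ∀ a ∈ A, ∀ b ∈ A, a * b = b * a) {χ : G → ℂ} (hχ : IsIrrCharacter G χ) :
    ∃ d : ℕ, χ 1 = d ∧ d ∣ A.index := by
  haveI := Fintype.ofFinite G
  haveI := Fintype.ofFinite A
  obtain ⟨d, -, hd⟩ := IsIrrCharacter.degree_pos hχ
  refine ⟨d, hd, ?_⟩
  obtain ⟨θ, hθ, hcon⟩ := IsCharacter.exists_irr_constituent
    (IsCharacter.restrict (IsIrrCharacter.isCharacter hχ) A)
    (fun e => IsIrrCharacter.apply_one_ne_zero hχ (congrFun e 1))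
  have h1 : θ 1 = ((1 : ℕ) : ℂ) := by
    rw [Nat.cast_one]
    exact IsIrrCharacter.degree_one_of_comm hθ fun a b => Subtype.ext (hA a a.2 b b.2)
  simpa using (degree_ratio_dvd_index hχ hθ hcon hd h1).2

/-- Inflation preserves irreducibility. -/
theorem isIrreducible_comp_surjective {H : Type*} [Group H] {V : Type*} [AddCommGroup V]
    [Module ℂ V] (ρ : Representation ℂ H V) [h : ρ.IsIrreducible] (f : G →* H)
    (hf : Function.Surjective f) : Representation.IsIrreducible (ρ.comp f : Representation ℂ G V) := by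
  haveI := nontrivial_of_irreducible ρ
  have hne : (⊥ : Subrepresentation (ρ.comp f : Representation ℂ G V)) ≠ ⊤ := fun e =>
    (bot_ne_top : (⊥ : Submodule ℂ V) ≠ ⊤) (congrArg Subrepresentation.toSubmodule e)
  haveI : Nontrivial (Subrepresentation (ρ.comp f : Representation ℂ G V)) := ⟨⟨⊥, ⊤, hne⟩⟩
  refine ⟨fun W => ?_⟩
  let W' : Subrepresentation ρ := ⟨W.toSubmodule, fun y v hv => by
    obtain ⟨x, rfl⟩ := hf y
    exact W.apply_mem_toSubmodule x hv⟩
  rcases h.eq_bot_or_eq_top W' with e | e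
  · exact Or.inl (Subrepresentation.toSubmodule_injective (congrArg Subrepresentation.toSubmodule e :))
  · exact Or.inr (Subrepresentation.toSubmodule_injective (congrArg Subrepresentation.toSubmodule e :))

/-- If all degrees are one the group is commutative. -/
theorem comm_of_degree_one [Finite G] (h : ∀ χ : IrrCharacter G, (χ : G → ℂ) 1 = 1) (a b : G) :
    a * b = b * a := by
  have hc : IsConj (a * b * a⁻¹ * b⁻¹) 1 := (isConj_iff_irr _ _).mpr fun χ => by
    obtain ⟨l, hl⟩ := IsCharacter.exists_monoidHom (IsIrrCharacter.isCharacter χ.2) (h χ)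
    simp [hl, mul_comm (l a) (l b)]
  have h1 : a * b * a⁻¹ * b⁻¹ = 1 := isConj_one_left.mp hc
  calc a * b = a * b * a⁻¹ * b⁻¹ * (b * a) := by group
    _ = b * a := by rw [h1, one_mul]

/-- Groups whose degrees are powers of a prime. -/
theorem exists_abelian_normal_complement_aux (n p : ℕ) (hp : p.Prime) :
    ∀ (G : Type u) [Group G] [Finite G], Nat.card G = n →
      (∀ χ : IrrCharacter G, ∃ k : ℕ, (χ : G → ℂ) 1 = (p : ℂ) ^ k) →
      ∃ A : Subgroup G, A.Normal ∧ (∀ a ∈ A, ∀ b ∈ A, a * b = b * a) ∧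
        Nat.Coprime (Nat.card A) p ∧ ∃ k : ℕ, A.index = p ^ k := by
  induction n using Nat.strong_induction_on with
  | _ n IH =>
    intro G _ _ hn hdeg
    classical
    haveI := Fintype.ofFinite G
    haveI := Fintype.ofFinite (IrrCharacter G)
    choose k hk using hdeg
    by_cases hpG : p ∣ Nat.card G
    swap
    · refine ⟨⊤, inferInstance, fun a _ b _ => ?_, ?_, 0, by simp⟩
      · refine comm_of_degree_one (fun χ => ?_) a b
        have hd : p ^ k χ ∣ Nat.card G := degree_dvd_card χ.2 _ (by rw [hk, Nat.cast_pow])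
        rcases Nat.eq_zero_or_pos (k χ) with h0 | h0
        · rw [hk, h0, pow_zero]
        · exact absurd ((dvd_pow_self p h0.ne').trans hd) hpG
      · rw [Subgroup.card_top]
        exact (hp.coprime_iff_not_dvd.mpr hpG).symm
    haveI : Fact p.Prime := ⟨hp⟩
    have hpc : p ∣ (commutator G).index := by
      have h1 := sum_sq_degree (G := G)
      simp only [hk] at h1
      have h2 : ∑ χ : IrrCharacter G, (p ^ k χ) ^ 2 = Nat.card G := by exact_mod_cast h1
      rw [← Finset.sum_filter_add_sum_filter_not Finset.univ (fun χ => k χ = 0)] at h2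
      have h3 : ∑ χ ∈ Finset.univ.filter (fun χ => k χ = 0), (p ^ k χ) ^ 2 = (commutator G).index := by
        rw [Finset.sum_congr rfl fun χ hχ => by
          rw [(Finset.mem_filter.mp hχ).2, pow_zero, one_pow]]
        rw [Finset.sum_const, smul_eq_mul, mul_one, ← card_linear, Nat.card_eq_fintype_card,
          Fintype.card_subtype]
        refine congrArg _ (Finset.filter_congr fun χ _ => ?_)
        rw [hk, ← Nat.cast_pow, Nat.cast_eq_one, pow_eq_one_iff, or_iff_right hp.ne_one]
      have h4 : p ∣ ∑ χ ∈ Finset.univ.filter (fun χ => ¬ k χ = 0), (p ^ k χ) ^ 2 :=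
        Finset.dvd_sum fun χ hχ => dvd_pow (dvd_pow_self p (Finset.mem_filter.mp hχ).2) two_ne_zero
      rw [← h3]
      exact (Nat.dvd_add_left h4).mp (h2 ▸ hpG)
    obtain ⟨M, hMn, hMi⟩ : ∃ M : Subgroup G, M.Normal ∧ M.index = p := by
      haveI : Finite (G →* ℂˣ) := Nat.finite_of_card_ne_zero (by
        rw [card_monoidHom_units]; exact Subgroup.index_ne_zero_of_finite)
      obtain ⟨l, hl⟩ := exists_prime_orderOf_dvd_card' (G := G →* ℂˣ) p
        (by rw [card_monoidHom_units]; exact hpc)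
      refine ⟨l.ker, inferInstance, ?_⟩
      rw [Subgroup.index_ker]
      have hle : l.range ≤ rootsOfUnity p ℂ := by
        rintro _ ⟨g, rfl⟩
        rw [mem_rootsOfUnity]
        have h1 := DFunLike.congr_fun (hl ▸ pow_orderOf_eq_one l) g
        simpa using h1
      haveI : NeZero p := ⟨hp.ne_zero⟩
      have hdvd : Nat.card l.range ∣ p := by
        have := Subgroup.card_dvd_of_le hle
        rwa [HasEnoughRootsOfUnity.natCard_rootsOfUnity ℂ p] at this
      refine ((Nat.dvd_prime hp).mp hdvd).resolve_left fun h1 => ?_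
      have hl1 : l = 1 := MonoidHom.ext fun g => by
        have : l g ∈ l.range := ⟨g, rfl⟩
        rwa [Subgroup.card_eq_one.mp h1, Subgroup.mem_bot] at this
      rw [hl1, orderOf_one] at hl
      exact hp.ne_one hl.symm
    haveI := hMn
    haveI := Fintype.ofFinite M
    have hMdeg : ∀ θ : IrrCharacter M, ∃ j : ℕ, (θ : M → ℂ) 1 = (p : ℂ) ^ j := by
      intro θ
      obtain ⟨d, -, hd⟩ := IsIrrCharacter.degree_pos θ.2
      have hθc := IsIrrCharacter.isCharacter θ.2
      obtain ⟨χ, hχ, hχc⟩ := IsCharacter.exists_irr_constituent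
        (isCharacter_indFun M hθc) (fun e => by
          have := congrFun e 1
          rw [indFun_one_apply, Pi.zero_apply, mul_eq_zero] at this
          exact this.elim (Nat.cast_ne_zero.mpr Subgroup.index_ne_zero_of_finite)
            (IsIrrCharacter.apply_one_ne_zero θ.2))
      rw [classInner_indFun M _ (IsCharacter.isClassFunction (IsIrrCharacter.isCharacter hχ))] at hχc
      have hcon : classInner (fun m : M => χ m) (θ : M → ℂ) ≠ 0 := fun h0 => hχc (by
        rw [← classInner_conj_symm, h0, map_zero])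
      have hdvd := (degree_ratio_dvd_index hχ θ.2 hcon (c := p ^ k ⟨χ, hχ⟩)
        (by rw [Nat.cast_pow]; exact hk ⟨χ, hχ⟩) hd).1
      obtain ⟨j, -, hj⟩ := (Nat.dvd_prime_pow hp).mp hdvd
      exact ⟨j, by rw [hd, hj, Nat.cast_pow]⟩
    have hlt : Nat.card M < n := by
      rw [← hn, ← M.index_mul_card, hMi]
      exact lt_mul_of_one_lt_left Nat.card_pos hp.one_lt
    obtain ⟨A, hAn, hAc, hAp, j, hj⟩ := IH _ hlt M rfl hMdeg
    refine ⟨A.map M.subtype, ⟨?_⟩, ?_, ?_, j + 1, ?_⟩
    · rintro _ ⟨a, ha, rfl⟩ g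
      let b : M := ⟨g * a * g⁻¹, hMn.conj_mem _ a.2 g⟩
      refine ⟨b, ?_, rfl⟩
      haveI := hAn
      refine mem_of_coprime_index hj ?_
      have hob : orderOf b = orderOf a := by
        rw [← Subgroup.orderOf_coe b, ← Subgroup.orderOf_coe a]
        exact orderOf_injective (MulAut.conj g).toMonoidHom (MulAut.conj g).injective (a : G)
      rw [hob]
      exact Nat.Coprime.coprime_dvd_left (A.orderOf_coe ⟨a, ha⟩ ▸ orderOf_dvd_natCard _) hAp
    · rintro _ ⟨a, ha, rfl⟩ _ ⟨b, hb, rfl⟩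
      rw [← map_mul, ← map_mul, hAc a ha b hb]
    · rwa [← Nat.card_congr (mapSubtypeEquiv M A).toEquiv]
    · rw [Subgroup.index_map_subtype, hj, hMi, pow_succ]

/-- Groups whose degrees are powers of a prime. -/
theorem degrees_prime_powers_iff [Finite G] {p : ℕ} (hp : p.Prime) :
    (∀ χ : IrrCharacter G, ∃ k : ℕ, (χ : G → ℂ) 1 = (p : ℂ) ^ k) ↔
      ∃ A : Subgroup G, A.Normal ∧ (∀ a ∈ A, ∀ b ∈ A, a * b = b * a) ∧
        Nat.Coprime (Nat.card A) p ∧ ∃ k : ℕ, A.index = p ^ k := by
  refine ⟨exists_abelian_normal_complement_aux _ p hp G rfl, ?_⟩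
  rintro ⟨A, hA, hab, -, k, hk⟩ χ
  obtain ⟨d, hd, hdvd⟩ := exists_ito_degree A hab χ.2
  rw [hk] at hdvd
  obtain ⟨j, -, hj⟩ := (Nat.dvd_prime_pow hp).mp hdvd
  exact ⟨j, by rw [hd, hj, Nat.cast_pow]⟩

/-- Self-centralizing elements of an abelian normal Sylow subgroup bound the class number. -/
theorem card_irr_le_of_centralizer [Finite G] {p : ℕ} [Fact p.Prime] (P : Subgroup G) [P.Normal]
    (hP : ∃ k : ℕ, Nat.card P = p ^ k) (hind : ¬ p ∣ P.index)
    (hab : ∀ a ∈ P, ∀ b ∈ P, a * b = b * a) (g : G) (hg : g ∈ P)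
    (hC : Subgroup.centralizer ({g} : Set G) = P) :
    Nat.card (IrrCharacter G) ≤ Nat.card P ∧
      (Nat.card (IrrCharacter G) = Nat.card P → commutator G ≤ P) := by
  classical
  have hp : p.Prime := Fact.out
  haveI := Fintype.ofFinite G
  haveI := Fintype.ofFinite (IrrCharacter G)
  obtain ⟨M, hM⟩ := Cfsg.Agent.Block.exists_isPModular hp
  haveI := hM.2.1
  obtain ⟨k, hk⟩ := hP
  have hgen : ∀ x : G, Subgroup.zpowers x = Subgroup.zpowers g →
      x ∈ P ∧ Nat.card (Subgroup.centralizer ({x} : Set G)) = Nat.card P := by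
    intro x hx
    refine ⟨(Subgroup.zpowers_le.mpr hg) (hx ▸ Subgroup.mem_zpowers x), ?_⟩
    rw [show Subgroup.centralizer ({x} : Set G) = Subgroup.centralizer ({g} : Set G) from ?_, hC]
    rw [← Subgroup.centralizer_closure {x}, ← Subgroup.zpowers_eq_closure, hx,
      Subgroup.zpowers_eq_closure, Subgroup.centralizer_closure]
  set S := Finset.univ.filter fun x : G => Subgroup.zpowers x = Subgroup.zpowers g with hS
  have hne : ∀ (χ : IrrCharacter G), ∀ x ∈ S, (χ : G → ℂ) x ≠ 0 := by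
    intro χ x hx h0
    obtain ⟨hxP, -⟩ := hgen x (Finset.mem_filter.mp hx).2
    have hxk : x ^ p ^ k = 1 := by
      rw [← hk]; exact congrArg Subtype.val (pow_card_eq_one' (x := (⟨x, hxP⟩ : P)))
    obtain ⟨u, v, hu, hv, huv⟩ := exists_apply_congr_degree hp hM.2.1 hM.2.2
      (IsIrrCharacter.isCharacter χ.2) hxk
    obtain ⟨d, hd, hdvd⟩ := exists_ito_degree P hab χ.2
    obtain rfl : u = 0 := Subtype.ext (by rw [hu, h0]; rfl)
    have hv' : v = (d : AlgInt) := Subtype.ext (by rw [hv, hd]; simp)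
    rw [zero_sub, hv', neg_mem_iff, Cfsg.Agent.Block.natCast_mem_iff hp hM.2.2] at huv
    exact hind (huv.trans hdvd)
  have hge : ∀ χ : IrrCharacter G, (S.card : ℝ) ≤ ∑ x ∈ S, Complex.normSq ((χ : G → ℂ) x) := by
    intro χ
    obtain ⟨z, hz⟩ := prod_generators_int (IsIrrCharacter.isCharacter χ.2) g
    have hz0 : z ≠ 0 := by
      intro e
      rw [e, Int.cast_zero, Finset.prod_eq_zero_iff] at hz
      obtain ⟨x, hx, hx0⟩ := hz
      exact hne χ x hx hx0
    have hp1 : (1 : ℝ) ≤ ∏ x ∈ S, Complex.normSq ((χ : G → ℂ) x) := by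
      simp only [hS, ← map_prod, hz]
      rw [Complex.normSq_intCast, ← sq]
      have : (1 : ℤ) ≤ z ^ 2 := by
        have := sq_pos_of_ne_zero hz0
        omega
      exact_mod_cast this
    have hlog : (0 : ℝ) ≤ ∑ x ∈ S, Real.log (Complex.normSq ((χ : G → ℂ) x)) := by
      rw [← Real.log_prod fun x hx => (Complex.normSq_pos.mpr (hne χ x hx)).ne']
      exact Real.log_nonneg hp1
    have := Finset.sum_le_sum (s := S)
      (fun x hx => Real.log_le_sub_one_of_pos (Complex.normSq_pos.mpr (hne χ x hx)))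
    rw [Finset.sum_sub_distrib, Finset.sum_const, nsmul_eq_mul, mul_one] at this
    linarith
  have htot : ∑ χ : IrrCharacter G, ∑ x ∈ S, Complex.normSq ((χ : G → ℂ) x) =
      (S.card : ℝ) * Nat.card P := by
    rw [Finset.sum_comm, ← nsmul_eq_mul, ← Finset.sum_const]
    refine Finset.sum_congr rfl fun x hx => ?_
    have h1 := second_orthogonality x x
    rw [if_pos (IsConj.refl x), (hgen x (Finset.mem_filter.mp hx).2).2] at h1
    simp only [Complex.mul_conj] at h1
    rw [← Complex.ofReal_sum] at h1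
    exact_mod_cast h1
  have hS0 : (0 : ℝ) < S.card :=
    Nat.cast_pos.mpr (Finset.card_pos.mpr ⟨g, by simp [hS]⟩)
  have hle : (S.card : ℝ) * Nat.card (IrrCharacter G) ≤ (S.card : ℝ) * Nat.card P := by
    rw [← htot, Nat.card_eq_fintype_card]
    refine le_trans (le_of_eq ?_) (Finset.sum_le_sum fun χ _ => hge χ)
    simp [mul_comm]
  refine ⟨by exact_mod_cast le_of_mul_le_mul_left hle hS0, fun heq => ?_⟩
  have hall : ∀ χ : IrrCharacter G, ∑ x ∈ S, Complex.normSq ((χ : G → ℂ) x) = S.card := by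
    have h1 : ∑ _χ : IrrCharacter G, (S.card : ℝ) =
        ∑ χ : IrrCharacter G, ∑ x ∈ S, Complex.normSq ((χ : G → ℂ) x) := by
      rw [htot, ← heq, Nat.card_eq_fintype_card]; simp [mul_comm]
    exact fun χ => ((Finset.sum_eq_sum_iff_of_le fun χ _ => hge χ).mp h1 χ (Finset.mem_univ χ)).symm
  have hQ : ∀ q q' : G ⧸ P, q * q' = q' * q := comm_of_degree_one fun ψ => by
    let χ : IrrCharacter G := ⟨(ψ : G ⧸ P → ℂ) ∘ QuotientGroup.mk' P, by
      obtain ⟨m, ρ, hρ, hc⟩ := ψ.2
      haveI := hρ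
      haveI : Representation.IsIrreducible (ρ.comp (QuotientGroup.mk' P) : Representation ℂ G (Fin m → ℂ)) :=
        Cfsg.Agent.Char.isIrreducible_comp_surjective ρ _ (QuotientGroup.mk'_surjective P)
      exact ⟨m, ρ.comp (QuotientGroup.mk' P), inferInstance, by rw [← hc]; rfl⟩⟩
    obtain ⟨d, hd0, hd⟩ := IsIrrCharacter.degree_pos ψ.2
    have h1 := hall χ
    have hval : ∀ x ∈ S, Complex.normSq ((χ : G → ℂ) x) = (d : ℝ) ^ 2 := by
      intro x hx
      have hxP := (hgen x (Finset.mem_filter.mp hx).2).1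
      show Complex.normSq ((ψ : G ⧸ P → ℂ) (QuotientGroup.mk' P x)) = _
      rw [QuotientGroup.mk'_apply, (QuotientGroup.eq_one_iff x).mpr hxP, hd,
        Complex.normSq_natCast, sq]
    rw [Finset.sum_congr rfl hval, Finset.sum_const, nsmul_eq_mul] at h1
    have h2 : (d : ℝ) ^ 2 = 1 := mul_left_cancel₀ hS0.ne' (by rw [h1, mul_one])
    have h3 : d ^ 2 = 1 := by exact_mod_cast h2
    rw [hd, (Nat.pow_eq_one.mp h3).resolve_right two_ne_zero, Nat.cast_one]
  rw [commutator_eq_closure G, Subgroup.closure_le]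
  rintro _ ⟨a, b, rfl⟩
  rw [SetLike.mem_coe]
  rw [← QuotientGroup.eq_one_iff, commutatorElement_def]
  simp only [QuotientGroup.mk_mul, QuotientGroup.mk_inv]
  rw [hQ (a : G ⧸ P) b]
  group

end Cfsg.Agent.Char
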