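import Cfsg.Agent.Lib.Char.Generalized
import Mathlib.GroupTheory.Index

/-!
# Clifford theory
-/

set_option autoImplicit false
set_option linter.style.haveILetI false

namespace Cfsg.Agent.Char

open Cfsg
open scoped ComplexConjugate

universe u

variable {G : Type u} [Group G]

/-! ## Transport along isomorphisms -/

theorem classInner_comp_mulEquiv [Fintype G] {H : Type*} [Group H] [Fintype H] (e : H ≃* G)
    (φ ψ : G → ℂ) : classInner (fun x => φ (e x)) (fun x => ψ (e x)) = classInner φ ψ := by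
  simp only [classInner, Nat.card_congr e.toEquiv]
  congr 1
  exact Fintype.sum_equiv e.toEquiv _ _ fun x => rfl

theorem isIrrCharacter_comp_mulEquiv [Finite G] {H : Type*} [Group H] (e : H ≃* G) {χ : G → ℂ}
    (hχ : IsIrrCharacter G χ) : IsIrrCharacter H (fun x => χ (e x)) := by
  haveI := Fintype.ofFinite G
  haveI : Fintype H := Fintype.ofEquiv G e.symm.toEquiv
  rw [isIrrCharacter_iff] at hχ ⊢
  exact ⟨isCharacter_comp hχ.1 e.toMonoidHom, by rw [classInner_comp_mulEquiv]; exact hχ.2⟩

/-! ## Constituents -/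

theorem exists_classInner_nat [Fintype G] {Φ χ : G → ℂ} (hΦ : IsCharacter G Φ)
    (hχ : IsIrrCharacter G χ) : ∃ n : ℕ, classInner Φ χ = n :=
  classInner_natCast_of_isCharacter hΦ (IsIrrCharacter.isCharacter hχ)

/-- An irreducible constituent splits off. -/
theorem exists_add_of_classInner_ne_zero [Fintype G] {Φ χ : G → ℂ} (hΦ : IsCharacter G Φ)
    (hχ : IsIrrCharacter G χ) (h : classInner Φ χ ≠ 0) :
    ∃ r : G → ℂ, IsCharacter G r ∧ Φ = χ + r := by
  refine ⟨Φ - χ, isCharacter_of_classInner_nat ?_ fun ψ hψ => ?_, by abel⟩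
  · intro g x
    simp [IsCharacter.isClassFunction hΦ g x,
      IsCharacter.isClassFunction (IsIrrCharacter.isCharacter hχ) g x]
  · obtain ⟨n, hn⟩ := exists_classInner_nat hΦ hψ
    by_cases e : χ = ψ
    · subst e
      refine ⟨n - 1, ?_⟩
      rw [classInner_sub_left, hn, IsIrrCharacter.classInner_self hχ, Nat.cast_sub]
      · simp
      · rcases Nat.eq_zero_or_pos n with h0 | h0
        · exact absurd (by rw [hn, h0, Nat.cast_zero]) h
        · exact h0
    · exact ⟨n, by rw [classInner_sub_left, hn, IsIrrCharacter.classInner_eq_zero hχ hψ e, sub_zero]⟩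

/-- A nonzero inner product with a character passes to some constituent. -/
theorem exists_constituent [Fintype G] {Φ f : G → ℂ} (hΦ : IsCharacter G Φ)
    (hf : classInner Φ f ≠ 0) :
    ∃ χ : G → ℂ, IsIrrCharacter G χ ∧ classInner Φ χ ≠ 0 ∧ classInner χ f ≠ 0 := by
  classical
  haveI := Fintype.ofFinite (IrrCharacter G)
  rw [IsClassFunction.eq_sum (IsCharacter.isClassFunction hΦ), classInner_sum_left] at hf
  obtain ⟨χ, -, hχ⟩ := Finset.exists_ne_zero_of_sum_ne_zero hf
  rw [classInner_smul_left] at hχ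
  exact ⟨χ, χ.2, left_ne_zero_of_mul hχ, right_ne_zero_of_mul hχ⟩

theorem classInner_re_nonneg [Fintype G] {Φ Ψ : G → ℂ} (hΦ : IsCharacter G Φ)
    (hΨ : IsCharacter G Ψ) : 0 ≤ (classInner Φ Ψ).re := by
  obtain ⟨n, hn⟩ := classInner_natCast_of_isCharacter hΦ hΨ
  simp [hn]

theorem classInner_ne_zero_of_le [Fintype G] {Φ r χ : G → ℂ} (hΦ : IsCharacter G Φ)
    (hr : IsCharacter G r) (hχ : IsIrrCharacter G χ) (h : classInner Φ χ ≠ 0) :
    classInner (Φ + r) χ ≠ 0 := by
  obtain ⟨n, hn⟩ := exists_classInner_nat hΦ hχ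
  obtain ⟨m, hm⟩ := exists_classInner_nat hr hχ
  rw [classInner_add_left, hn, hm]
  rw [hn] at h
  norm_cast at h ⊢
  omega

theorem IsCharacter.exists_irr_constituent [Fintype G] {Φ : G → ℂ} (hΦ : IsCharacter G Φ)
    (h : Φ ≠ 0) : ∃ χ : G → ℂ, IsIrrCharacter G χ ∧ classInner Φ χ ≠ 0 := by
  by_contra hh
  push Not at hh
  exact h (eq_zero_of_classInner_eq_zero (IsCharacter.isClassFunction hΦ) hh)

/-! ## Conjugate characters of a normal subgroup -/

/-- The conjugate of a function on a normal subgroup. -/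
def conjChar (N : Subgroup G) [hN : N.Normal] (g : G) (θ : N → ℂ) : N → ℂ :=
  fun n => θ ⟨g * n * g⁻¹, hN.conj_mem n n.2 g⟩

variable (N : Subgroup G) [hN : N.Normal]

theorem conjChar_apply (g : G) (θ : N → ℂ) (n : N) :
    conjChar N g θ n = θ (MulAut.conjNormal g n) := by
  simp only [conjChar]
  congr 1

theorem conjChar_one (θ : N → ℂ) : conjChar N 1 θ = θ := by
  funext n; simp [conjChar]

theorem conjChar_mul (g h : G) (θ : N → ℂ) :
    conjChar N h (conjChar N g θ) = conjChar N (g * h) θ := by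
  funext n; simp [conjChar, mul_assoc]

theorem isIrrCharacter_conjChar [Finite G] {θ : N → ℂ} (hθ : IsIrrCharacter N θ) (g : G) :
    IsIrrCharacter N (conjChar N g θ) := by
  have e : conjChar N g θ = fun n => θ (MulAut.conjNormal g n) := funext fun n => conjChar_apply N g θ n
  rw [e]
  exact isIrrCharacter_comp_mulEquiv _ hθ

theorem conjChar_of_mem {θ : N → ℂ} (hθ : IsClassFunction N θ) {g : G} (hg : g ∈ N) :
    conjChar N g θ = θ := by
  funext n
  exact hθ n ⟨g, hg⟩

theorem classInner_conjChar [Fintype N] (g : G) (φ ψ : N → ℂ) :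
    classInner (conjChar N g φ) (conjChar N g ψ) = classInner φ ψ := by
  rw [funext fun n => conjChar_apply N g φ n, funext fun n => conjChar_apply N g ψ n]
  exact classInner_comp_mulEquiv _ φ ψ

theorem classInner_restrict_conjChar [Fintype N] {Φ : G → ℂ} (hΦ : IsClassFunction G Φ) (g : G)
    (θ : N → ℂ) :
    classInner (fun n : N => Φ n) (conjChar N g θ) = classInner (fun n : N => Φ n) θ := by
  conv_rhs => rw [← classInner_conjChar N g]
  congr 1
  funext n
  simp only [conjChar]
  exact (hΦ n g).symm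

/-- The inertia group of a function on a normal subgroup. -/
def inertia (θ : N → ℂ) : Subgroup G where
  carrier := {g | conjChar N g θ = θ}
  one_mem' := conjChar_one N θ
  mul_mem' {a b} (ha : conjChar N a θ = θ) (hb : conjChar N b θ = θ) :=
    show conjChar N (a * b) θ = θ by rw [← conjChar_mul, ha, hb]
  inv_mem' {a} (ha : conjChar N a θ = θ) := show conjChar N a⁻¹ θ = θ by
    conv_lhs => rw [← ha]
    rw [conjChar_mul, mul_inv_cancel, conjChar_one]

theorem mem_inertia {θ : N → ℂ} {g : G} : g ∈ inertia N θ ↔ conjChar N g θ = θ := Iff.rfl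

theorem eq_inertia_of_forall {θ : N → ℂ} {T : Subgroup G}
    (hT : ∀ g : G, g ∈ T ↔ ∀ n : N, θ ⟨g * n * g⁻¹, hN.conj_mem n n.2 g⟩ = θ n) :
    T = inertia N θ := by
  ext g
  rw [hT, mem_inertia, funext_iff]
  rfl

theorem le_inertia {θ : N → ℂ} (hθ : IsClassFunction N θ) : N ≤ inertia N θ :=
  fun _ hg => conjChar_of_mem N hθ hg

section Fintype

variable [Fintype G] [Fintype N]

open Classical in
/-- The set of conjugates of a function on a normal subgroup. -/
noncomputable def conjOrbit (θ : N → ℂ) : Finset (N → ℂ) :=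
  Finset.univ.image fun g : G => conjChar N g θ

theorem mem_conjOrbit {θ φ : N → ℂ} : φ ∈ conjOrbit N θ ↔ ∃ g : G, conjChar N g θ = φ := by
  classical
  simp [conjOrbit]

theorem card_filter_conjChar_eq {θ : N → ℂ} [DecidableEq (N → ℂ)] {φ : N → ℂ}
    (hφ : φ ∈ conjOrbit N θ) :
    (Finset.univ.filter fun g : G => conjChar N g θ = φ).card = Nat.card (inertia N θ) := by
  classical
  obtain ⟨g₀, rfl⟩ := (mem_conjOrbit N).mp hφ
  rw [Nat.card_eq_fintype_card]
  change _ = Fintype.card {g // g ∈ inertia N θ}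
  rw [Fintype.card_subtype]
  refine Finset.card_equiv (Equiv.mulRight g₀⁻¹) fun g => ?_
  simp only [Finset.mem_filter, Finset.mem_univ, true_and, Equiv.coe_mulRight, mem_inertia]
  constructor
  · intro h
    rw [← conjChar_mul, h, conjChar_mul, mul_inv_cancel, conjChar_one]
  · intro h
    conv_rhs => rw [← h]
    rw [conjChar_mul, inv_mul_cancel_right]

theorem card_conjOrbit (θ : N → ℂ) : (conjOrbit N θ).card = (inertia N θ).index := by
  classical
  have h : Fintype.card G = ∑ φ ∈ conjOrbit N θ, Nat.card (inertia N θ) := by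
    rw [← Finset.card_univ, Finset.card_eq_sum_card_fiberwise (f := fun g : G => conjChar N g θ)
      (t := conjOrbit N θ) (fun g _ => (mem_conjOrbit N).mpr ⟨g, rfl⟩)]
    exact Finset.sum_congr rfl fun φ hφ => card_filter_conjChar_eq N hφ
  rw [Finset.sum_const, smul_eq_mul, ← Nat.card_eq_fintype_card,
    ← (inertia N θ).index_mul_card] at h
  exact (Nat.eq_of_mul_eq_mul_right Nat.card_pos h).symm

/-- The restriction of an induced function to a normal subgroup. -/
theorem indFun_restrict (θ : N → ℂ) :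
    (fun n : N => indFun N θ n) = (Nat.card N : ℂ)⁻¹ • ∑ g : G, conjChar N g θ := by
  funext n
  simp only [indFun_apply, Pi.smul_apply, Finset.sum_apply, smul_eq_mul]
  congr 1
  refine Fintype.sum_equiv (Equiv.inv G) _ _ fun x => ?_
  rw [extendByZero_of_mem N θ (by simpa using hN.conj_mem (n : G) n.2 x⁻¹)]
  simp [conjChar]

theorem classInner_indFun_restrict {θ φ : N → ℂ} (hθ : IsIrrCharacter N θ)
    (hφ : IsIrrCharacter N φ) [DecidableEq (N → ℂ)] :
    classInner (fun n : N => indFun N θ n) φ =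
      ((Finset.univ.filter fun g : G => conjChar N g θ = φ).card : ℂ) / (Nat.card N : ℂ) := by
  rw [indFun_restrict, classInner_smul_left, classInner_sum_left, inv_mul_eq_div]
  congr 1
  rw [Finset.card_eq_sum_ones, Finset.sum_filter, Nat.cast_sum]
  refine Finset.sum_congr rfl fun g _ => ?_
  split_ifs with h
  · rw [h, IsIrrCharacter.classInner_self hφ]; simp
  · rw [IsIrrCharacter.classInner_eq_zero (isIrrCharacter_conjChar N hθ g) hφ h]; simp

theorem classInner_indFun_indFun {θ φ : N → ℂ} (hθ : IsIrrCharacter N θ)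
    (hφ : IsIrrCharacter N φ) [DecidableEq (N → ℂ)] :
    classInner (indFun N φ) (indFun N θ) =
      ((Finset.univ.filter fun g : G => conjChar N g θ = φ).card : ℂ) / (Nat.card N : ℂ) := by
  rw [classInner_indFun N φ (isClassFunction_indFun N θ), ← classInner_conj_symm,
    classInner_indFun_restrict N hθ hφ]
  simp

theorem indFun_conjChar (θ : N → ℂ) (g : G) : indFun N (conjChar N g θ) = indFun N θ := by
  funext y
  simp only [indFun_apply]
  congr 1
  refine Fintype.sum_equiv (Equiv.mulRight g⁻¹) _ _ fun x => ?_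
  simp only [Equiv.coe_mulRight, mul_inv_rev, inv_inv]
  by_cases h : x⁻¹ * y * x ∈ N
  · have h2 : g * x⁻¹ * y * (x * g⁻¹) ∈ N := by
      simpa [mul_assoc] using hN.conj_mem _ h g
    rw [extendByZero_of_mem N _ h, extendByZero_of_mem N _ h2]
    simp [conjChar, mul_assoc]
  · rw [extendByZero_of_notMem N _ h, extendByZero_of_notMem N _]
    intro h2
    exact h (by simpa [mul_assoc] using hN.conj_mem _ h2 g⁻¹)

/-- Constituents of the restriction of an irreducible character are conjugate. -/
theorem mem_conjOrbit_of_constituent {χ : G → ℂ} (hχ : IsIrrCharacter G χ) {θ φ : N → ℂ}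
    (hθ : IsIrrCharacter N θ) (hφ : IsIrrCharacter N φ)
    (h : classInner (fun n : N => χ n) θ ≠ 0) (h' : classInner (fun n : N => χ n) φ ≠ 0) :
    φ ∈ conjOrbit N θ := by
  classical
  have hc := IsIrrCharacter.isCharacter hχ
  have h1 : classInner (indFun N θ) χ ≠ 0 := by
    rw [classInner_indFun N θ (IsCharacter.isClassFunction hc), ← classInner_conj_symm]
    simpa using h
  obtain ⟨r, hr, e⟩ := exists_add_of_classInner_ne_zero
    (isCharacter_indFun N (IsIrrCharacter.isCharacter hθ)) hχ h1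
  have h2 : classInner (fun n : N => indFun N θ n) φ ≠ 0 := by
    rw [e]
    exact classInner_ne_zero_of_le (IsCharacter.restrict hc N) (IsCharacter.restrict hr N) hφ h'
  rw [classInner_indFun_restrict N hθ hφ] at h2
  obtain ⟨g, hg⟩ := Finset.card_ne_zero.mp (fun e0 => h2 (by rw [e0]; simp))
  exact (mem_conjOrbit N).mpr ⟨g, (Finset.mem_filter.mp hg).2⟩

/-- Clifford's theorem. -/
theorem restrict_eq_smul_sum_conjOrbit {χ : G → ℂ} (hχ : IsIrrCharacter G χ) {θ : N → ℂ}
    (hθ : IsIrrCharacter N θ) (h : classInner (fun n : N => χ n) θ ≠ 0) :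
    (fun n : N => χ n) =
      classInner (fun n : N => χ n) θ • ∑ φ ∈ conjOrbit N θ, φ := by
  classical
  haveI := Fintype.ofFinite (IrrCharacter N)
  have hc := IsIrrCharacter.isCharacter hχ
  have horb : ∀ φ ∈ conjOrbit N θ, IsIrrCharacter N φ := fun φ hφ => by
    obtain ⟨g, rfl⟩ := (mem_conjOrbit N).mp hφ
    exact isIrrCharacter_conjChar N hθ g
  rw [← sub_eq_zero]
  refine eq_zero_of_classInner_eq_zero ?_ fun ψ hψ => ?_
  · intro x y
    simp only [Pi.sub_apply, Pi.smul_apply, Finset.sum_apply]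
    rw [Finset.sum_congr rfl fun φ hφ =>
      IsCharacter.isClassFunction (IsIrrCharacter.isCharacter (horb φ hφ)) x y]
    congr 1
    exact IsCharacter.isClassFunction hc (x : G) (y : G)
  · rw [classInner_sub_left, classInner_smul_left, classInner_sum_left]
    by_cases hm : ψ ∈ conjOrbit N θ
    · rw [Finset.sum_eq_single ψ (fun φ hφ hne =>
        IsIrrCharacter.classInner_eq_zero (horb φ hφ) hψ hne) (fun hn => absurd hm hn),
        IsIrrCharacter.classInner_self hψ]
      obtain ⟨g, rfl⟩ := (mem_conjOrbit N).mp hm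
      rw [classInner_restrict_conjChar N (IsCharacter.isClassFunction hc)]
      simp
    · rw [Finset.sum_eq_zero fun φ hφ =>
        IsIrrCharacter.classInner_eq_zero (horb φ hφ) hψ fun e => hm (e ▸ hφ)]
      by_contra hne
      exact hm (mem_conjOrbit_of_constituent N hχ hθ hψ h (by simpa using hne))

theorem restrict_degree_eq {χ : G → ℂ} (hχ : IsIrrCharacter G χ) {θ : N → ℂ}
    (hθ : IsIrrCharacter N θ) (h : classInner (fun n : N => χ n) θ ≠ 0) :
    χ 1 = classInner (fun n : N => χ n) θ * ((inertia N θ).index * θ 1) := by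
  have := congrFun (restrict_eq_smul_sum_conjOrbit N hχ hθ h) 1
  simp only [OneMemClass.coe_one, Pi.smul_apply, Finset.sum_apply, smul_eq_mul] at this
  rw [this, Finset.sum_congr rfl fun φ hφ => show φ 1 = θ 1 from ?_, Finset.sum_const,
    card_conjOrbit, nsmul_eq_mul]
  obtain ⟨g, rfl⟩ := (mem_conjOrbit N).mp hφ
  simp only [conjChar]
  exact congrArg θ (Subtype.ext (by simp))

theorem restrict_eq_smul_of_inertia_top {χ : G → ℂ} (hχ : IsIrrCharacter G χ) {θ : N → ℂ}
    (hθ : IsIrrCharacter N θ) (h : classInner (fun n : N => χ n) θ ≠ 0)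
    (hinv : ∀ g, conjChar N g θ = θ) :
    (fun n : N => χ n) = classInner (fun n : N => χ n) θ • θ := by
  classical
  conv_lhs => rw [restrict_eq_smul_sum_conjOrbit N hχ hθ h]
  have : conjOrbit N θ = {θ} := by
    ext φ
    simp [mem_conjOrbit, hinv, eq_comm]
  rw [this, Finset.sum_singleton]

/-- The core of the Clifford correspondence. -/
theorem clifford_core {θ : N → ℂ} (hθ : IsIrrCharacter N θ) {T : Subgroup G} [Fintype T]
    (hT : T = inertia N θ) (hNT : N ≤ T)
    {χ : G → ℂ} (hχ : IsIrrCharacter G χ) {ψ : T → ℂ} (hψ : IsIrrCharacter T ψ)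
    (h : classInner (fun t : T => χ t) ψ ≠ 0)
    (h' : classInner (fun n : N => ψ ⟨(n : G), hNT n.2⟩) θ ≠ 0) :
    indFun T ψ = χ ∧ classInner (fun n : N => ψ ⟨(n : G), hNT n.2⟩) θ =
      classInner (fun n : N => χ n) θ := by
  classical
  let e : N.subgroupOf T ≃* N := Subgroup.subgroupOfEquivOfLe hNT
  haveI := Fintype.ofFinite (N.subgroupOf T)
  have hc := IsIrrCharacter.isCharacter hχ
  have hpc := IsIrrCharacter.isCharacter hψ
  have hθe := isIrrCharacter_comp_mulEquiv e hθ
  have hk : classInner (fun n : N.subgroupOf T => ψ n) (fun n => θ (e n)) =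
      classInner (fun n : N => ψ ⟨(n : G), hNT n.2⟩) θ := by
    rw [← classInner_comp_mulEquiv e (fun n : N => ψ ⟨(n : G), hNT n.2⟩) θ]
    rfl
  have hinv : ∀ t : T, conjChar (N.subgroupOf T) t (fun n => θ (e n)) = fun n => θ (e n) := by
    intro t
    funext n
    have ht : conjChar N (t : G) θ = θ := by
      have : (t : G) ∈ inertia N θ := hT ▸ t.2
      exact this
    exact congrFun ht (e n)
  have hres := congrFun (restrict_eq_smul_of_inertia_top (N.subgroupOf T) hψ hθe (by rwa [hk]) hinv) 1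
  rw [hk] at hres
  simp only [OneMemClass.coe_one, Pi.smul_apply, smul_eq_mul, map_one] at hres
  have hTr : IsCharacter T (fun t : T => χ t) := IsCharacter.restrict hc T
  obtain ⟨r, hr, hsplit⟩ := exists_add_of_classInner_ne_zero hTr hψ h
  have hNr : IsCharacter N (fun n : N => r ⟨(n : G), hNT n.2⟩) :=
    isCharacter_comp hr (Subgroup.inclusion hNT)
  have hNψ : IsCharacter N (fun n : N => ψ ⟨(n : G), hNT n.2⟩) :=
    isCharacter_comp hpc (Subgroup.inclusion hNT)
  have hχN : classInner (fun n : N => χ n) θ =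
      classInner (fun n : N => ψ ⟨(n : G), hNT n.2⟩) θ +
        classInner (fun n : N => r ⟨(n : G), hNT n.2⟩) θ := by
    rw [← classInner_add_left]
    congr 1
    funext n
    exact congrFun hsplit ⟨(n : G), hNT n.2⟩
  obtain ⟨k, hk'⟩ := exists_classInner_nat hNψ hθ
  obtain ⟨m, hm⟩ := exists_classInner_nat hNr hθ
  rw [hk'] at h' hres hχN ⊢
  have hne : classInner (fun n : N => χ n) θ ≠ 0 := by
    rw [hχN, hm]; norm_cast; intro e0; exact h' (by exact_mod_cast (show k = 0 by omega))
  have hdeg := restrict_degree_eq N hχ hθ hne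
  have hInd : classInner (indFun T ψ) χ ≠ 0 := by
    rw [classInner_indFun T ψ (IsCharacter.isClassFunction hc), ← classInner_conj_symm]
    simpa using h
  obtain ⟨r', hr', hsplit'⟩ := exists_add_of_classInner_ne_zero (isCharacter_indFun T hpc) hχ hInd
  obtain ⟨d, hd⟩ := IsCharacter.exists_degree hr'
  obtain ⟨c, hc0, hcd⟩ := IsIrrCharacter.degree_pos hθ
  have h1 := congrFun hsplit' 1
  rw [indFun_one_apply, Pi.add_apply, hdeg, hχN, hm, hd, hres, hcd, ← hT] at h1
  have hi : 0 < T.index := Nat.pos_of_ne_zero Subgroup.index_ne_zero_of_finite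
  have h2 : T.index * (k * c) = (k + m) * (T.index * c) + d := by exact_mod_cast h1
  have hd0 : d = 0 := by nlinarith [Nat.zero_le (m * (T.index * c))]
  have hm0 : m = 0 := by
    have : 0 < T.index * c := Nat.mul_pos hi hc0
    nlinarith
  constructor
  · rw [hsplit']
    have : r' = 0 := by
      by_contra hne'
      obtain ⟨χ', hχ', hne''⟩ := IsCharacter.exists_irr_constituent hr' hne'
      obtain ⟨r'', hr'', e''⟩ := exists_add_of_classInner_ne_zero hr' hχ' hne''
      obtain ⟨a, ha, hca⟩ := IsIrrCharacter.degree_pos hχ'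
      obtain ⟨b, hb⟩ := IsCharacter.exists_degree hr''
      have := congrFun e'' 1
      rw [hd, hd0, Pi.add_apply, hca, hb] at this
      have h3 : 0 = a + b := by exact_mod_cast this
      omega
    rw [this, add_zero]
  · rw [hχN, hm, hm0]; simp

theorem exists_irr_above_inertia {θ : N → ℂ} (hθ : IsIrrCharacter N θ)
    {T : Subgroup G} [Fintype T] (hNT : N ≤ T) {χ : G → ℂ} (hχ : IsIrrCharacter G χ)
    (h : classInner (fun n : N => χ n) θ ≠ 0) :
    ∃ ψ : T → ℂ, IsIrrCharacter T ψ ∧ classInner (fun t : T => χ t) ψ ≠ 0 ∧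
      classInner (fun n : N => ψ ⟨(n : G), hNT n.2⟩) θ ≠ 0 := by
  classical
  haveI := Fintype.ofFinite (IrrCharacter T)
  have hTr : IsCharacter T (fun t : T => χ t) :=
    IsCharacter.restrict (IsIrrCharacter.isCharacter hχ) T
  have e := IsClassFunction.eq_sum (IsCharacter.isClassFunction hTr)
  have e2 : (fun n : N => χ n) = ∑ ψ : IrrCharacter T,
      classInner (fun t : T => χ t) (ψ : T → ℂ) • (fun n : N => (ψ : T → ℂ) ⟨(n : G), hNT n.2⟩) := by
    funext n
    simpa using congrFun e ⟨(n : G), hNT n.2⟩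
  rw [e2, classInner_sum_left] at h
  obtain ⟨ψ, -, hne⟩ := Finset.exists_ne_zero_of_sum_ne_zero h
  rw [classInner_smul_left] at hne
  exact ⟨ψ, ψ.2, left_ne_zero_of_mul hne, right_ne_zero_of_mul hne⟩

end Fintype

end Cfsg.Agent.Char
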