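import Cfsg.Agent.Lib.Char.Basic
import Mathlib.GroupTheory.Coset.Card

/-!
# Induced class functions
-/

set_option autoImplicit false
set_option linter.style.haveILetI false

namespace Cfsg.Agent.Char

open Cfsg
open scoped ComplexConjugate

universe u

variable {G : Type u} [Group G]

theorem extendByZero_coe (H : Subgroup G) (θ : H → ℂ) (h : H) :
    extendByZero H θ (h : G) = θ h :=
  Subtype.val_injective.extend_apply θ 0 h

theorem extendByZero_of_mem (H : Subgroup G) (θ : H → ℂ) {g : G} (hg : g ∈ H) :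
    extendByZero H θ g = θ ⟨g, hg⟩ :=
  extendByZero_coe H θ ⟨g, hg⟩

theorem extendByZero_of_notMem (H : Subgroup G) (θ : H → ℂ) {g : G} (hg : g ∉ H) :
    extendByZero H θ g = 0 :=
  Function.extend_apply' _ _ _ (by rintro ⟨h, rfl⟩; exact hg h.2)

theorem extendByZero_add (H : Subgroup G) (θ θ' : H → ℂ) :
    extendByZero H (θ + θ') = extendByZero H θ + extendByZero H θ' := by
  funext g
  by_cases hg : g ∈ H
  · simp [extendByZero_of_mem _ _ hg]
  · simp [extendByZero_of_notMem _ _ hg]

theorem extendByZero_smul (H : Subgroup G) (c : ℂ) (θ : H → ℂ) :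
    extendByZero H (c • θ) = c • extendByZero H θ := by
  funext g
  by_cases hg : g ∈ H
  · simp [extendByZero_of_mem _ _ hg]
  · simp [extendByZero_of_notMem _ _ hg]

theorem sum_extendByZero_mul [Fintype G] (H : Subgroup G) [Fintype H] (θ : H → ℂ) (f : G → ℂ) :
    ∑ g : G, extendByZero H θ g * f g = ∑ h : H, θ h * f h := by
  classical
  have e : ∑ g : G, extendByZero H θ g * f g =
      ∑ g ∈ Finset.univ.map ⟨((↑) : H → G), Subtype.val_injective⟩, extendByZero H θ g * f g := by
    refine (Finset.sum_subset (Finset.subset_univ _) fun g _ hg => ?_).symm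
    rw [extendByZero_of_notMem H θ fun hm => hg (Finset.mem_map.mpr ⟨⟨g, hm⟩, Finset.mem_univ _, rfl⟩),
      zero_mul]
  rw [e, Finset.sum_map]
  simp [extendByZero_coe]

section Ind

variable [Fintype G] (H : Subgroup G)

theorem indFun_apply (θ : H → ℂ) (g : G) :
    indFun H θ g = (Nat.card H : ℂ)⁻¹ * ∑ x : G, extendByZero H θ (x⁻¹ * g * x) := rfl

theorem indFun_add (θ θ' : H → ℂ) : indFun H (θ + θ') = indFun H θ + indFun H θ' := by
  funext g
  simp [indFun_apply, extendByZero_add, Finset.sum_add_distrib, mul_add]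

theorem indFun_smul (c : ℂ) (θ : H → ℂ) : indFun H (c • θ) = c • indFun H θ := by
  funext g
  simp [indFun_apply, extendByZero_smul, Finset.mul_sum, mul_left_comm]

theorem indFun_zero : indFun H (0 : H → ℂ) = 0 := by
  simpa using indFun_smul H 0 (0 : H → ℂ)

theorem indFun_neg (θ : H → ℂ) : indFun H (-θ) = -indFun H θ := by
  simpa using indFun_smul H (-1) θ

theorem indFun_sub (θ θ' : H → ℂ) : indFun H (θ - θ') = indFun H θ - indFun H θ' := by
  rw [sub_eq_add_neg, indFun_add, indFun_neg, ← sub_eq_add_neg]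

theorem indFun_sum {ι : Type*} (s : Finset ι) (f : ι → H → ℂ) :
    indFun H (∑ i ∈ s, f i) = ∑ i ∈ s, indFun H (f i) := by
  classical
  induction s using Finset.induction with
  | empty => simp [indFun_zero]
  | insert i s hi ih => rw [Finset.sum_insert hi, Finset.sum_insert hi, indFun_add, ih]

theorem isClassFunction_indFun (θ : H → ℂ) : IsClassFunction G (indFun H θ) := by
  intro g h
  simp only [indFun_apply]
  congr 1
  refine Fintype.sum_equiv (Equiv.mulLeft h⁻¹) _ _ fun x => ?_
  simp [mul_assoc]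

theorem indFun_one_apply (θ : H → ℂ) : indFun H θ 1 = (H.index : ℂ) * θ 1 := by
  rw [indFun_apply]
  simp only [mul_one, inv_mul_cancel]
  rw [extendByZero_of_mem H θ H.one_mem]
  simp only [Finset.sum_const, Finset.card_univ, nsmul_eq_mul, ← Nat.card_eq_fintype_card]
  rw [show (⟨1, H.one_mem⟩ : H) = 1 from rfl, ← H.index_mul_card, Nat.cast_mul]
  have : (Nat.card H : ℂ) ≠ 0 := Nat.cast_ne_zero.mpr Nat.card_pos.ne'
  field_simp

/-- Frobenius reciprocity. -/
theorem classInner_indFun [Fintype H] (θ : H → ℂ) {χ : G → ℂ} (hχ : IsClassFunction G χ) :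
    classInner (indFun H θ) χ = classInner θ (fun h : H => χ h) := by
  simp only [classInner, indFun_apply]
  rw [← sum_extendByZero_mul H θ (fun g => conj (χ g))]
  simp only [Finset.mul_sum, Finset.sum_mul]
  rw [Finset.sum_comm]
  have e : ∀ x : G, ∑ g : G, (Nat.card G : ℂ)⁻¹ *
      ((Nat.card H : ℂ)⁻¹ * extendByZero H θ (x⁻¹ * g * x) * conj (χ g)) =
      (Nat.card G : ℂ)⁻¹ * ∑ g : G, (Nat.card H : ℂ)⁻¹ * (extendByZero H θ g * conj (χ g)) := by
    intro x
    rw [Finset.mul_sum]
    refine Fintype.sum_equiv (MulAut.conj x⁻¹).toEquiv _ _ fun g => ?_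
    have : χ (x⁻¹ * (g * x)) = χ g := by simpa [mul_assoc] using hχ g x⁻¹
    simp [this, mul_assoc]
  rw [Finset.sum_congr rfl fun x _ => e x]
  simp only [Finset.sum_const, Finset.card_univ, nsmul_eq_mul, ← Nat.card_eq_fintype_card]
  rw [← mul_assoc, mul_inv_cancel₀ (Nat.cast_ne_zero.mpr Nat.card_pos.ne'), one_mul]

theorem isCharacter_indFun {θ : H → ℂ} (hθ : IsCharacter H θ) : IsCharacter G (indFun H θ) := by
  haveI := Fintype.ofFinite H
  refine isCharacter_of_classInner_nat (isClassFunction_indFun H θ) fun χ hχ => ?_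
  have hc := IsIrrCharacter.isCharacter hχ
  rw [classInner_indFun H θ (IsCharacter.isClassFunction hc)]
  exact classInner_natCast_of_isCharacter hθ (IsCharacter.restrict hc H)

/-- Transitivity of induction. -/
theorem indFun_trans (K : Subgroup G) [Fintype K] (hHK : H ≤ K) (θ : H → ℂ) :
    indFun K (indFun (H.subgroupOf K)
      (fun x => θ ⟨(x : K), Subgroup.mem_subgroupOf.mp x.2⟩)) = indFun H θ := by
  funext g
  simp only [indFun_apply]
  have hcard : Nat.card (H.subgroupOf K) = Nat.card H :=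
    Nat.card_congr (Subgroup.subgroupOfEquivOfLe hHK).toEquiv
  let ψ : (H.subgroupOf K) → ℂ := fun x => θ ⟨(x : K), Subgroup.mem_subgroupOf.mp x.2⟩
  have key : ∀ y : G, extendByZero K (indFun (H.subgroupOf K) ψ) y =
      (Nat.card H : ℂ)⁻¹ * ∑ k : K, extendByZero H θ ((k : G)⁻¹ * y * k) := by
    intro y
    by_cases hy : y ∈ K
    · rw [extendByZero_of_mem _ _ hy, indFun_apply, hcard]
      congr 1
      refine Finset.sum_congr rfl fun k _ => ?_
      by_cases hm : (k : G)⁻¹ * y * k ∈ H
      · rw [extendByZero_of_mem _ _ hm,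
          extendByZero_of_mem _ _ (show k⁻¹ * ⟨y, hy⟩ * k ∈ H.subgroupOf K from hm)]
        rfl
      · rw [extendByZero_of_notMem _ _ hm,
          extendByZero_of_notMem _ _ (show k⁻¹ * ⟨y, hy⟩ * k ∉ H.subgroupOf K from hm)]
    · rw [extendByZero_of_notMem _ _ hy, Finset.sum_eq_zero, mul_zero]
      intro k _
      refine extendByZero_of_notMem _ _ fun hm => hy ?_
      have := K.mul_mem (K.mul_mem k.2 (hHK hm)) (K.inv_mem k.2)
      simpa [mul_assoc] using this
  simp only [← indFun_apply]
  simp only [indFun_apply K]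
  simp only [ψ] at key
  simp only [key]
  rw [← Finset.mul_sum, Finset.sum_comm]
  have e : ∀ k : K, ∑ x : G, extendByZero H θ ((k : G)⁻¹ * (x⁻¹ * g * x) * k) =
      ∑ x : G, extendByZero H θ (x⁻¹ * g * x) := by
    intro k
    refine Fintype.sum_equiv (Equiv.mulRight (k : G)) _ _ fun x => ?_
    simp [mul_assoc]
  rw [Finset.sum_congr rfl fun k _ => e k]
  simp only [Finset.sum_const, Finset.card_univ, nsmul_eq_mul, ← Nat.card_eq_fintype_card]
  rw [indFun_apply]
  have : (Nat.card K : ℂ) ≠ 0 := Nat.cast_ne_zero.mpr Nat.card_pos.ne'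
  field_simp

end Ind

end Cfsg.Agent.Char
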