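import Cfsg.Agent.Lib.Char.Extension

/-!
# Cyclic quotients and uniqueness of extensions
-/

set_option autoImplicit false
set_option linter.style.haveILetI false

namespace Cfsg.Agent.Char

open Cfsg Representation Module
open scoped ComplexConjugate

universe u

variable {G : Type u} [Group G] {N : Subgroup G} [hN : N.Normal]

theorem exists_extension_of_cyclic [Finite G] (hcyc : IsCyclic (G ⧸ N)) {θ : N → ℂ}
    (hθ : IsIrrCharacter N θ) (hinv : ∀ g, conjChar N g θ = θ) :
    ∃ χ : G → ℂ, IsIrrCharacter G χ ∧ ∀ n : N, χ n = θ n := by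
  obtain ⟨d, σ, hσ, rfl⟩ := hθ
  haveI := hσ
  haveI := hcyc
  have hsurj := twistProj_surjective N σ hinv
  obtain ⟨q, hq⟩ := IsCyclic.exists_generator (α := G ⧸ N)
  obtain ⟨g, rfl⟩ := QuotientGroup.mk'_surjective N q
  obtain ⟨e, rfl⟩ := hsurj g
  have hm : N.index ≠ 0 := Subgroup.index_ne_zero_of_finite
  have hgm : (twistProj N σ e) ^ N.index ∈ N := by
    rw [← QuotientGroup.eq_one_iff, QuotientGroup.mk_pow, Subgroup.index_eq_card]
    exact pow_card_eq_one'
  obtain ⟨c, hc⟩ := exists_scalar_of_twistProj N σ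
    (e := e ^ N.index * (twistEmb N σ ⟨_, hgm⟩)⁻¹)
    (by rw [map_mul, map_inv, map_pow, twistProj_emb, mul_inv_cancel])
  obtain ⟨r, hr⟩ := IsAlgClosed.exists_pow_nat_eq (c : ℂ) (Nat.pos_of_ne_zero hm)
  have hr0 : r ≠ 0 := by
    rintro rfl
    rw [zero_pow hm] at hr
    exact c.ne_zero hr.symm
  let e' := twistScalar N σ (Units.mk0 r hr0)⁻¹ * e
  have he'proj : twistProj N σ e' = twistProj N σ e := by
    simp [e', twistProj_scalar]
  have he' : e' ^ N.index = twistEmb N σ ⟨_, hgm⟩ := by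
    simp only [e']
    rw [(Commute.mul_pow (show Commute (twistScalar N σ (Units.mk0 r hr0)⁻¹) e from
      twistScalar_comm N σ _ e)), ← map_pow, inv_pow,
      show (Units.mk0 r hr0) ^ N.index = c from Units.ext (by simpa using hr), map_inv, ← hc,
      mul_inv_rev, inv_inv, mul_assoc, inv_mul_cancel, mul_one]
  haveI hnorm : (twistEmb N σ).range.Normal := ⟨fun x hx a => by
    obtain ⟨n, rfl⟩ := hx
    exact ⟨_, (conj_twistEmb N σ a n).symm⟩⟩
  let S := Subgroup.zpowers e' ⊔ (twistEmb N σ).range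
  have hbij : Function.Bijective ((twistProj N σ).comp S.subtype) := by
    constructor
    · rw [← MonoidHom.ker_eq_bot_iff, Subgroup.eq_bot_iff_forall]
      rintro ⟨x, hx⟩ hx1
      rw [MonoidHom.mem_ker] at hx1
      obtain ⟨y, hy, z, ⟨n, rfl⟩, rfl⟩ := Subgroup.mem_sup_of_normal_right.mp hx
      obtain ⟨k, rfl⟩ := Subgroup.mem_zpowers_iff.mp hy
      apply Subtype.ext
      show e' ^ k * twistEmb N σ n = 1
      have h1 : (twistProj N σ e) ^ k * (n : G) = 1 := by
        simpa [he'proj, twistProj_emb] using hx1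
      have hk : (twistProj N σ e) ^ k ∈ N := by
        rw [eq_inv_of_mul_eq_one_left h1]; exact N.inv_mem n.2
      have hdvd : (N.index : ℤ) ∣ k := by
        rw [Subgroup.index_eq_card, ← orderOf_eq_card_of_forall_mem_zpowers hq,
          orderOf_dvd_iff_zpow_eq_one, ← map_zpow]
        exact (QuotientGroup.eq_one_iff _).mpr hk
      obtain ⟨j, rfl⟩ := hdvd
      rw [zpow_mul, zpow_natCast, he', ← map_zpow, ← map_mul,
        show (⟨_, hgm⟩ : N) ^ j * n = 1 from Subtype.ext (by
          rw [Subgroup.coe_mul, Subgroup.coe_zpow]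
          simpa [zpow_mul, zpow_natCast] using h1), map_one]
    · intro x
      obtain ⟨k, hk⟩ := Subgroup.mem_zpowers_iff.mp (hq (QuotientGroup.mk' N x))
      rw [← map_zpow] at hk
      obtain ⟨z, hz, hzx⟩ := (QuotientGroup.mk'_eq_mk' N).mp hk
      refine ⟨⟨e' ^ k * twistEmb N σ ⟨z, hz⟩, S.mul_mem (le_sup_left (a := Subgroup.zpowers e')
        (Subgroup.zpow_mem_zpowers e' k)) (le_sup_right (a := Subgroup.zpowers e') ⟨_, rfl⟩)⟩, ?_⟩
      simp [he'proj, twistProj_emb, hzx]
  let φ := MulEquiv.ofBijective _ hbij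
  let s : (⊤ : Subgroup G) →* twistGroup N σ :=
    S.subtype.comp (φ.symm.toMonoidHom.comp (⊤ : Subgroup G).subtype)
  have hsplit := hasSplit_index N σ hsurj ⊤ le_top s (fun h => φ.apply_symm_apply (h : G))
    (fun n => by
      have : φ.symm (n : G) = ⟨twistEmb N σ n,
          le_sup_right (a := Subgroup.zpowers e') ⟨n, rfl⟩⟩ := by
        rw [MulEquiv.symm_apply_eq]; rfl
      exact congrArg Subtype.val this)
  rw [Subgroup.index_top, Nat.cast_one] at hsplit
  obtain ⟨τ, hτ, hτN⟩ := exists_extension_of_hasSplit_one N σ hsurj hsplit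
  haveI := hτ
  exact ⟨τ.character, isIrrCharacter_character τ, fun n => by
    simp [Representation.character, hτN n]⟩

/-- The twist of a representation by a linear character. -/
noncomputable def twistRep (β : G →* ℂˣ) {V : Type*} [AddCommGroup V] [Module ℂ V]
    (ρ : Representation ℂ G V) : Representation ℂ G V where
  toFun g := (β g : ℂ) • ρ g
  map_one' := by simp
  map_mul' a b := by simp [smul_smul, mul_comm]

theorem twistRep_character (β : G →* ℂˣ) {V : Type*} [AddCommGroup V] [Module ℂ V]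
    [FiniteDimensional ℂ V] (ρ : Representation ℂ G V) (g : G) :
    (twistRep β ρ).character g = (β g : ℂ) * ρ.character g := by
  simp [Representation.character, twistRep]

theorem isIrreducible_twistRep (β : G →* ℂˣ) {V : Type*} [AddCommGroup V] [Module ℂ V]
    (ρ : Representation ℂ G V) [ρ.IsIrreducible] : (twistRep β ρ).IsIrreducible := by
  haveI := nontrivial_of_irreducible ρ
  have hne : (⊥ : Subrepresentation (twistRep β ρ)) ≠ ⊤ := fun e =>
    (bot_ne_top : (⊥ : Submodule ℂ V) ≠ ⊤) (congrArg Subrepresentation.toSubmodule e)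
  haveI : Nontrivial (Subrepresentation (twistRep β ρ)) := ⟨⟨⊥, ⊤, hne⟩⟩
  refine ⟨fun W => ?_⟩
  let W' : Subrepresentation ρ := ⟨W.toSubmodule, fun x v hv => by
    have := W.toSubmodule.smul_mem ((β x : ℂ))⁻¹ (W.apply_mem_toSubmodule x hv)
    simpa [twistRep, smul_smul] using this⟩
  rcases (‹ρ.IsIrreducible›).eq_bot_or_eq_top W' with e | e
  · exact Or.inl (Subrepresentation.toSubmodule_injective (congrArg Subrepresentation.toSubmodule e :))
  · exact Or.inr (Subrepresentation.toSubmodule_injective (congrArg Subrepresentation.toSubmodule e :))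

theorem exists_twist_character [Finite G] (β : G →* ℂˣ) {χ : G → ℂ} (hχ : IsIrrCharacter G χ)
    {d : ℕ} (hd : χ 1 = d) :
    IsIrrCharacter G (fun g => (β g : ℂ) * χ g) ∧
      detChar (fun g => (β g : ℂ) * χ g) = fun g => (β g : ℂ) ^ d * detChar χ g := by
  obtain ⟨m, ρ, hρ, rfl⟩ := hχ
  haveI := hρ
  have hdm : d = m := by
    rw [ρ.char_one, Module.finrank_fin_fun] at hd
    exact_mod_cast hd.symm
  haveI := isIrreducible_twistRep β ρ
  have e : (twistRep β ρ).character = fun g => (β g : ℂ) * ρ.character g :=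
    funext (twistRep_character β ρ)
  refine ⟨e ▸ isIrrCharacter_character (twistRep β ρ), funext fun g => ?_⟩
  rw [← e, detChar_eq, detChar_eq]
  show LinearMap.det ((β g : ℂ) • ρ g) = _
  rw [LinearMap.det_smul, Module.finrank_fin_fun, hdm]

/-- Two extensions differ by a linear character of the quotient. -/
theorem extension_eq_twist [Finite G] {θ : N → ℂ} (hθ : IsIrrCharacter N θ) {χ χ' : G → ℂ}
    (hχ : IsIrrCharacter G χ) (hχ' : IsIrrCharacter G χ') (he : ∀ n : N, χ n = θ n)
    (he' : ∀ n : N, χ' n = θ n) :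
    ∃ β : G →* ℂˣ, (∀ n : N, β n = 1) ∧ χ' = fun g => (β g : ℂ) * χ g := by
  haveI := Fintype.ofFinite N
  obtain ⟨m, ρ, hρ, rfl⟩ := hχ
  obtain ⟨m', ρ', hρ', rfl⟩ := hχ'
  haveI := hρ
  haveI := nontrivial_of_irreducible ρ
  let ρN : Representation ℂ N (Fin m → ℂ) := ρ.comp N.subtype
  let ρN' : Representation ℂ N (Fin m' → ℂ) := ρ'.comp N.subtype
  have hc : ρN.character = θ := funext he
  have hc' : ρN'.character = θ := funext he'
  haveI : ρN.IsIrreducible := (isIrreducible_iff_classInner ρN).mpr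
    (hc ▸ IsIrrCharacter.classInner_self hθ)
  haveI : ρN'.IsIrreducible := (isIrreducible_iff_classInner ρN').mpr
    (hc' ▸ IsIrrCharacter.classInner_self hθ)
  obtain ⟨φ⟩ := nonempty_equiv_of_character_eq ρN' ρN (hc'.trans hc.symm)
  let T : G →* ((Fin m → ℂ) →ₗ[ℂ] (Fin m → ℂ)) :=
    { toFun := fun g => φ.toLinearEquiv.conj (ρ' g)
      map_one' := by rw [map_one, Module.End.one_eq_id, LinearEquiv.conj_id]; rfl
      map_mul' := fun a b => by rw [map_mul, Module.End.mul_eq_comp, LinearEquiv.conj_comp]; rfl }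
  have hTN : ∀ n : N, T n = ρ n := fun n => Equiv.conj_apply_self n φ
  have hex : ∀ g, ∃ c : ℂ, T g = c • ρ g := by
    intro g
    obtain ⟨c, hc⟩ := isScalar_of_commute ρN (ρ g⁻¹ * T g) (fun n => by
      have h1 : T g * ρ n = ρ (MulAut.conjNormal g n : N) * T g := by
        rw [← hTN n, ← hTN, ← map_mul, ← map_mul, MulAut.conjNormal_apply, inv_mul_cancel_right]
      have h2 : ρ g⁻¹ * ρ (MulAut.conjNormal g n : N) = ρ n * ρ g⁻¹ := by
        rw [← map_mul, ← map_mul, MulAut.conjNormal_apply]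
        congr 1
        group
      show ρ g⁻¹ * T g * ρ n = ρ n * (ρ g⁻¹ * T g)
      rw [mul_assoc, h1, ← mul_assoc, h2, mul_assoc])
    refine ⟨c, ?_⟩
    have := congrArg (ρ g * ·) hc
    simp only [← mul_assoc, ← map_mul, mul_inv_cancel, map_one, one_mul, mul_smul_comm, mul_one] at this
    exact this
  choose c hc using hex
  have hcancel : ∀ (a b : ℂ) (g : G), a • ρ g = b • ρ g → a = b := by
    intro a b g hab
    have := congrArg (· * ρ g⁻¹) hab
    simp only [smul_mul_assoc, ← map_mul, mul_inv_cancel, map_one] at this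
    obtain ⟨v, hv⟩ := exists_ne (0 : Fin m → ℂ)
    exact smul_left_injective ℂ hv (LinearMap.congr_fun this v)
  let ch : G →* ℂ :=
    { toFun := c
      map_one' := hcancel _ _ 1 (by rw [← hc, one_smul, map_one, map_one])
      map_mul' := fun a b => hcancel _ _ (a * b)
        (by rw [← hc, map_mul, hc, hc, smul_mul_smul_comm, map_mul]) }
  refine ⟨ch.toHomUnits, fun n => Units.ext ?_, funext fun g => ?_⟩
  · refine hcancel _ _ n ?_
    rw [MonoidHom.coe_toHomUnits, Units.val_one, one_smul]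
    exact (hc n).symm.trans (hTN n)
  · rw [MonoidHom.coe_toHomUnits]
    have h1 : LinearMap.trace ℂ _ (T g) = ρ'.character g := LinearMap.trace_conj' _ _
    rw [hc g, map_smul, smul_eq_mul] at h1
    exact h1.symm

/-- Linear characters as functions. -/
noncomputable def linearCharHom (G : Type u) [Group G] : (G →* ℂˣ) →* (G → ℂ) where
  toFun l := fun g => (l g : ℂ)
  map_one' := rfl
  map_mul' _ _ := rfl

theorem orderOf_linearChar (l : G →* ℂˣ) : orderOf (fun g => (l g : ℂ)) = orderOf l :=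
  orderOf_injective (linearCharHom G) monoidHom_coe_injective l

theorem pow_index_eq_one [Finite G] {β : G →* ℂˣ} (h : ∀ n : N, β n = 1) : β ^ N.index = 1 := by
  refine MonoidHom.ext fun g => ?_
  have hg : g ^ N.index ∈ N := by
    rw [← QuotientGroup.eq_one_iff, QuotientGroup.mk_pow, Subgroup.index_eq_card]
    exact pow_card_eq_one'
  rw [MonoidHom.pow_apply, MonoidHom.one_apply, ← map_pow]
  exact h ⟨_, hg⟩

theorem hom_pow_pow (x : G →* ℂˣ) (m n : ℕ) : (x ^ m) ^ n = x ^ (m * n) :=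
  MonoidHom.ext fun g => by simp [pow_mul]

theorem hom_mul_pow (x y : G →* ℂˣ) (n : ℕ) : (x * y) ^ n = x ^ n * y ^ n :=
  MonoidHom.ext fun g => by simp [mul_pow]

theorem hom_inv_pow (x : G →* ℂˣ) (n : ℕ) : x⁻¹ ^ n = (x ^ n)⁻¹ :=
  MonoidHom.ext fun g => by simp

theorem hom_eq_of_mul_inv (x y : G →* ℂˣ) (h : x * y⁻¹ = 1) : x = y :=
  MonoidHom.ext fun g => mul_inv_eq_one.mp (by simpa using DFunLike.congr_fun h g)

theorem hom_one_pow (n : ℕ) : (1 : G →* ℂˣ) ^ n = 1 :=
  MonoidHom.ext fun g => by simp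

theorem hom_one_inv : (1 : G →* ℂˣ)⁻¹ = 1 :=
  MonoidHom.ext fun g => by simp

theorem orderOf_dvd_index [Finite G] {β : G →* ℂˣ} (h : ∀ n : N, β n = 1) :
    orderOf β ∣ N.index :=
  orderOf_dvd_iff_pow_eq_one.mpr ((show _ = _ from rfl).trans (pow_index_eq_one h))

theorem hom_one_mul (x : G →* ℂˣ) : 1 * x = x :=
  MonoidHom.ext fun g => by simp

theorem hom_pow_congr [Finite G] {β : G →* ℂˣ} (h : ∀ n : N, β n = 1) {a b : ℕ}
    (hab : a ≡ b [MOD N.index]) : β ^ a = β ^ b := by
  refine MonoidHom.ext fun g => ?_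
  rw [MonoidHom.pow_apply, MonoidHom.pow_apply, pow_eq_pow_iff_modEq]
  refine Nat.ModEq.of_dvd (orderOf_dvd_of_pow_eq_one ?_) hab
  rw [← MonoidHom.pow_apply, pow_index_eq_one h, MonoidHom.one_apply]

theorem hom_pow_one (x : G →* ℂˣ) : x ^ 1 = x :=
  MonoidHom.ext fun g => by simp

/-- The exponent one criterion for linear characters. -/
theorem exists_linear_extension_of_primes [Finite G] (l : N →* ℂˣ)
    (hinv : ∀ g, conjChar N g (fun n => (l n : ℂ)) = fun n => (l n : ℂ))
    (h : ∀ p : ℕ, p.Prime → p ∣ orderOf l → ∃ (H : Subgroup G) (hNH : N ≤ H) (ν : H →* ℂˣ),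
      Nat.Coprime H.index p ∧ ∀ n : N, ν ⟨n, hNH n.2⟩ = l n) :
    ∃ μ : G →* ℂˣ, ∀ n : N, μ n = l n := by
  have hθ : IsIrrCharacter N (fun n => (l n : ℂ)) := isIrrCharacter_monoidHom l
  obtain ⟨d, σ, hσ, hc⟩ := hθ
  haveI := hσ
  have hd : d = 1 := by
    have := congrFun hc 1
    rw [σ.char_one, Module.finrank_fin_fun, map_one, Units.val_one] at this
    exact_mod_cast this
  subst hd
  have hsurj := twistProj_surjective N σ (by rw [hc]; exact hinv)
  have hdet : ∀ n : N, LinearMap.det (σ n) = (l n : ℂ) := fun n => by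
    rw [← congrFun hc n, Representation.character,
      LinearMap.trace_eq_matrix_trace ℂ (Pi.basisFun ℂ (Fin 1)),
      ← LinearMap.det_toMatrix (Pi.basisFun ℂ (Fin 1)), Matrix.det_fin_one, Matrix.trace_fin_one]
  obtain ⟨τ, -, hτN⟩ := exists_extension_of_hasSplit_one N σ hsurj
    (hasSplit_one_of_primes N σ fun p hp => by
      by_cases hpo : p ∣ orderOf l
      · obtain ⟨H, hNH, ν, hcop, hν⟩ := h p hp hpo
        obtain ⟨s, hs, hsN⟩ := exists_section_of_extension N σ H hNH
          (IsIrrCharacter.isCharacter (isIrrCharacter_monoidHom ν)) (fun n => by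
            rw [hν]; exact (congrFun hc n).symm)
        exact ⟨H.index, fun hd => hp.coprime_iff_not_dvd.mp hcop.symm (by exact_mod_cast hd),
          hasSplit_index N σ hsurj H hNH s hs hsN⟩
      · refine ⟨orderOf l, fun hd => hpo (by exact_mod_cast hd), ?_⟩
        let D : twistGroup N σ →* ℂˣ :=
          ((Units.map (LinearMap.det : ((Fin 1 → ℂ) →ₗ[ℂ] (Fin 1 → ℂ)) →* ℂ)).comp
            (MonoidHom.snd G _)).comp (twistGroup N σ).subtype
        refine ⟨D ^ orderOf l, fun z => ?_, fun n => ?_⟩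
        · rw [MonoidHom.pow_apply, zpow_natCast]
          congr 1
          refine Units.ext ?_
          show LinearMap.det (algebraMap ℂ ((Fin 1 → ℂ) →ₗ[ℂ] (Fin 1 → ℂ)) (z : ℂ)) = _
          rw [Algebra.algebraMap_eq_smul_one, LinearMap.det_smul, map_one, mul_one,
            Module.finrank_fin_fun, pow_one]
        · have h1 : D (twistEmb N σ n) = l n := Units.ext (hdet n)
          rw [MonoidHom.pow_apply, h1, ← MonoidHom.pow_apply, pow_orderOf_eq_one,
            MonoidHom.one_apply])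
  refine ⟨((LinearMap.det : ((Fin 1 → ℂ) →ₗ[ℂ] (Fin 1 → ℂ)) →* ℂ).comp τ).toHomUnits, fun n => ?_⟩
  refine Units.ext ?_
  rw [MonoidHom.coe_toHomUnits, MonoidHom.comp_apply, hτN, hdet]

/-- An invariant linear character of order prime to the index has a unique extension of order
prime to the index. -/
theorem exists_linear_extension_coprime [Finite G] (l : N →* ℂˣ)
    (hinv : ∀ g, conjChar N g (fun n => (l n : ℂ)) = fun n => (l n : ℂ))
    (hcop : Nat.Coprime N.index (orderOf l)) :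
    ∃ μ : G →* ℂˣ, (∀ n : N, μ n = l n) ∧ orderOf μ = orderOf l ∧
      ∀ μ' : G →* ℂˣ, (∀ n : N, μ' n = l n) → Nat.Coprime N.index (orderOf μ') → μ' = μ := by
  obtain ⟨μ₀, hμ₀⟩ := exists_linear_extension_of_primes l hinv fun p hp hpo =>
    ⟨N, le_rfl, l, Nat.Coprime.coprime_dvd_right hpo hcop, fun _ => rfl⟩
  obtain ⟨a, ha1, ha2⟩ := Nat.chineseRemainder hcop 0 1
  have hμN : ∀ n : N, (μ₀ ^ a) n = l n := fun n => by
    rw [MonoidHom.pow_apply, hμ₀, ← MonoidHom.pow_apply,
      pow_eq_pow_iff_modEq.mpr ha2, pow_one]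
  have hres : ∀ μ : G →* ℂˣ, (∀ n : N, μ n = l n) → orderOf l ∣ orderOf μ := by
    intro μ hμ
    rw [orderOf_dvd_iff_pow_eq_one]
    refine MonoidHom.ext fun n => ?_
    rw [MonoidHom.pow_apply, ← hμ, ← MonoidHom.pow_apply, pow_orderOf_eq_one]
    rfl
  have ho : orderOf (μ₀ ^ a) = orderOf l := by
    refine Nat.dvd_antisymm ?_ (hres _ hμN)
    rw [orderOf_dvd_iff_pow_eq_one, hom_pow_pow]
    obtain ⟨j, hj⟩ := Nat.modEq_zero_iff_dvd.mp ha1
    have hβ : ∀ n : N, (μ₀ ^ orderOf l) n = 1 := fun n => by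
      rw [MonoidHom.pow_apply, hμ₀, ← MonoidHom.pow_apply, pow_orderOf_eq_one, MonoidHom.one_apply]
    rw [hj, show N.index * j * orderOf l = orderOf l * N.index * j by ring, ← hom_pow_pow,
      ← hom_pow_pow, pow_index_eq_one hβ, hom_one_pow]
  refine ⟨μ₀ ^ a, hμN, ho, fun μ' hμ' hcop' => ?_⟩
  have hβ : ∀ n : N, (μ' * (μ₀ ^ a)⁻¹) n = 1 := fun n => by
    rw [MonoidHom.mul_apply, MonoidHom.inv_apply, hμN, hμ', mul_inv_cancel]
  have h1 := pow_index_eq_one hβ
  have h2 : (μ' * (μ₀ ^ a)⁻¹) ^ (orderOf μ' * orderOf l) = 1 := by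
    rw [hom_mul_pow, hom_inv_pow, ← hom_pow_pow, pow_orderOf_eq_one, hom_one_pow, hom_one_mul,
      mul_comm (orderOf μ'), ← hom_pow_pow, ← ho, pow_orderOf_eq_one, hom_one_pow, hom_one_inv]
  have h3 : orderOf (μ' * (μ₀ ^ a)⁻¹) = 1 :=
    Nat.eq_one_of_dvd_coprimes (Nat.Coprime.mul_right hcop' hcop)
      (orderOf_dvd_of_pow_eq_one h1) (orderOf_dvd_of_pow_eq_one h2)
  rw [orderOf_eq_one_iff] at h3
  exact hom_eq_of_mul_inv _ _ h3

/-- Among the extensions of a character of degree prime to the index, exactly one has a given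
determinant. -/
theorem existsUnique_extension_det [Finite G] {θ : N → ℂ} (hθ : IsIrrCharacter N θ) {d : ℕ}
    (hd : θ 1 = d) (hcop : Nat.Coprime N.index d) {η : G → ℂ} (hη : IsIrrCharacter G η)
    (he : ∀ n : N, η n = θ n) (μ : G →* ℂˣ) (hμ : ∀ n : N, (μ n : ℂ) = detChar θ n) :
    ∃! χ : G → ℂ, IsIrrCharacter G χ ∧ (∀ n : N, χ n = θ n) ∧
      detChar χ = fun g => (μ g : ℂ) := by
  haveI := Fintype.ofFinite N
  have hηd : η 1 = d := by rw [← hd, ← he 1]; rfl
  obtain ⟨m, ρ, hρ, hρc⟩ := id hη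
  haveI := hρ
  have hdm : d = m := by
    rw [← hρc, ρ.char_one, Module.finrank_fin_fun] at hηd
    exact_mod_cast hηd.symm
  subst hdm
  let ρN : Representation ℂ N (Fin d → ℂ) := ρ.comp N.subtype
  have hcN : ρN.character = θ := funext fun n => (congrFun hρc (n : G)).trans (he n)
  haveI : ρN.IsIrreducible := (isIrreducible_iff_classInner ρN).mpr
    (hcN ▸ IsIrrCharacter.classInner_self hθ)
  let dη : G →* ℂˣ :=
    ((LinearMap.det : ((Fin d → ℂ) →ₗ[ℂ] (Fin d → ℂ)) →* ℂ).comp ρ).toHomUnits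
  have hdetη : detChar η = fun g => (dη g : ℂ) := funext fun g => by
    rw [← hρc, detChar_eq]; rfl
  have hdetN : ∀ n : N, dη n = μ n := fun n => Units.ext (by
    rw [hμ, ← hcN, detChar_eq]; rfl)
  let q := μ * dη⁻¹
  have hq : ∀ n : N, q n = 1 := fun n => by
    rw [MonoidHom.mul_apply, MonoidHom.inv_apply, hdetN, mul_inv_cancel]
  obtain ⟨a, ha⟩ : ∃ a : ℕ, a * d ≡ 1 [MOD N.index] := by
    rcases Nat.eq_or_lt_of_le (Nat.one_le_iff_ne_zero.mpr (Subgroup.index_ne_zero_of_finite (H := N)))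
      with h1 | h1
    · exact ⟨0, by rw [← h1]; exact Nat.modEq_one⟩
    · obtain ⟨a, -, ha⟩ := Nat.exists_mul_mod_eq_one_of_coprime hcop.symm h1
      exact ⟨a, by rw [mul_comm]; exact ha.trans (Nat.one_mod_eq_one.mpr h1.ne').symm⟩
  have hqa : (q ^ a) ^ d = q := by
    rw [hom_pow_pow, hom_pow_congr hq ha, hom_pow_one]
  obtain ⟨hir, hdet⟩ := exists_twist_character (q ^ a) hη hηd
  refine ⟨fun g => ((q ^ a) g : ℂ) * η g, ⟨hir, fun n => ?_, ?_⟩, fun χ ⟨hχ, hχN, hχd⟩ => ?_⟩
  · simp [MonoidHom.pow_apply, hq n, he n]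
  · rw [hdet, hdetη]
    funext g
    rw [← Units.val_pow_eq_pow_val, ← MonoidHom.pow_apply, hqa, ← Units.val_mul,
      ← MonoidHom.mul_apply, show q * dη = μ from MonoidHom.ext fun g => by simp [q]]
  · obtain ⟨β, hβN, rfl⟩ := extension_eq_twist hθ hη hχ he hχN
    obtain ⟨-, hdetβ⟩ := exists_twist_character β hη hηd
    rw [hdetβ, hdetη] at hχd
    have hβd : β ^ d = q := by
      refine MonoidHom.ext fun g => Units.ext ?_
      have := congrFun hχd g
      simp only [q, MonoidHom.mul_apply, MonoidHom.inv_apply, MonoidHom.pow_apply,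
        Units.val_pow_eq_pow_val, Units.val_mul, Units.val_inv_eq_inv_val]
      rw [← this, mul_inv_cancel_right₀ (dη g).ne_zero]
    have : β = q ^ a := by
      rw [← hβd, hom_pow_pow, mul_comm d a, hom_pow_congr hβN ha, hom_pow_one]
    rw [this]

end Cfsg.Agent.Char

namespace Cfsg.Agent.Char

open Cfsg Representation Module

universe u

variable {G : Type u} [Group G] {N : Subgroup G} [hN : N.Normal]

/-- The determinantal character is a linear character. -/
theorem exists_detHom [Finite G] {χ : G → ℂ} (hχ : IsIrrCharacter G χ) :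
    ∃ μ : G →* ℂˣ, detChar χ = fun g => (μ g : ℂ) := by
  obtain ⟨m, ρ, hρ, rfl⟩ := hχ
  haveI := hρ
  exact ⟨((LinearMap.det : ((Fin m → ℂ) →ₗ[ℂ] (Fin m → ℂ)) →* ℂ).comp ρ).toHomUnits,
    funext fun g => detChar_eq ρ g⟩

/-- The determinantal character of an extension restricts to the determinantal character. -/
theorem detChar_restrict [Finite G] {θ : N → ℂ} (hθ : IsIrrCharacter N θ) {χ : G → ℂ}
    (hχ : IsIrrCharacter G χ) (he : ∀ n : N, χ n = θ n) (n : N) :
    detChar χ n = detChar θ n := by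
  haveI := Fintype.ofFinite N
  obtain ⟨m, ρ, hρ, rfl⟩ := hχ
  haveI := hρ
  let ρN : Representation ℂ N (Fin m → ℂ) := ρ.comp N.subtype
  have hc : ρN.character = θ := funext he
  haveI : ρN.IsIrreducible := (isIrreducible_iff_classInner ρN).mpr
    (hc ▸ IsIrrCharacter.classInner_self hθ)
  rw [detChar_eq ρ, ← hc, detChar_eq ρN]
  rfl

/-- An invariant character has an invariant determinantal character. -/
theorem detChar_conj [Finite G] {θ : N → ℂ} (hθ : IsIrrCharacter N θ) (g : G)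
    (hinv : conjChar N g θ = θ) : conjChar N g (detChar θ) = detChar θ := by
  haveI := Fintype.ofFinite N
  obtain ⟨m, σ, hσ, rfl⟩ := hθ
  haveI := hσ
  let σg : Representation ℂ N (Fin m → ℂ) := σ.comp (MulAut.conjNormal g : MulAut N).toMonoidHom
  have hc : σg.character = σ.character := hinv
  haveI : σg.IsIrreducible := (isIrreducible_iff_classInner σg).mpr
    (hc ▸ (isIrreducible_iff_classInner σ).mp hσ)
  funext n
  show detChar σ.character _ = _
  rw [detChar_eq σ, detChar_eq σ]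
  exact (det_eq_of_character_eq σg σ hc n)

/-- Invariant characters whose degree and determinantal order are prime to the index. -/
theorem exists_unique_extension_coprime [Finite G] {θ : N → ℂ} (hθ : IsIrrCharacter N θ)
    (hinv : ∀ g, conjChar N g θ = θ) {d : ℕ} (hd : θ 1 = d)
    (hcop : Nat.Coprime N.index (detOrder θ * d)) :
    ∃ χ : G → ℂ, (IsIrrCharacter G χ ∧ (∀ n : N, χ n = θ n) ∧ detOrder χ = detOrder θ) ∧
      ∀ χ' : G → ℂ, IsIrrCharacter G χ' → (∀ n : N, χ' n = θ n) →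
        Nat.Coprime N.index (detOrder χ') → χ' = χ := by
  obtain ⟨l, hl⟩ := exists_detHom hθ
  have hol : detOrder θ = orderOf l := by rw [detOrder, hl, orderOf_linearChar]
  have hlinv : ∀ g, conjChar N g (fun n => (l n : ℂ)) = fun n => (l n : ℂ) := fun g =>
    hl ▸ detChar_conj hθ g (hinv g)
  have hcd : Nat.Coprime N.index d := Nat.Coprime.coprime_mul_left_right hcop
  have hco : Nat.Coprime N.index (orderOf l) := hol ▸ Nat.Coprime.coprime_mul_right_right hcop
  obtain ⟨μ, hμN, hμo, hμu⟩ := exists_linear_extension_coprime l hlinv hco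
  have hμN' : ∀ n : N, (μ n : ℂ) = detChar θ n := fun n => by rw [hμN, hl]
  obtain ⟨η, hη, he⟩ := exists_extension_of_det hθ hinv hd hcd μ hμN'
  obtain ⟨χ, ⟨hχ, hχN, hχd⟩, hu⟩ := existsUnique_extension_det hθ hd hcd hη he μ hμN'
  refine ⟨χ, ⟨hχ, hχN, by rw [detOrder, hχd, orderOf_linearChar, hμo, hol]⟩,
    fun χ' hχ' hN' hc' => hu χ' ⟨hχ', hN', ?_⟩⟩
  obtain ⟨ν, hν⟩ := exists_detHom hχ'
  rw [hν]
  have : ν = μ := hμu ν (fun n => Units.ext ((congrFun hν (n : G)).symm.trans
    ((detChar_restrict hθ hχ' hN' n).trans (congrFun hl n)))) (by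
      rwa [detOrder, hν, orderOf_linearChar] at hc')
  rw [this]

end Cfsg.Agent.Char
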