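import Cfsg.Agent.Lib.Char.Induction
import Cfsg.Agent.Lib.Char.Monomial
import Mathlib.GroupTheory.GroupAction.Quotient

/-!
# Permutation characters
-/

set_option autoImplicit false
set_option linter.style.haveILetI false

namespace Cfsg.Agent.Char

open Cfsg
open scoped ComplexConjugate

universe u

variable {G : Type u} [Group G]

/-- Projection formula. -/
theorem indFun_mul [Fintype G] (H : Subgroup G) (θ : H → ℂ) {f : G → ℂ}
    (hf : IsClassFunction G f) :
    indFun H (fun h : H => f h * θ h) = f * indFun H θ := by
  funext g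
  simp only [Pi.mul_apply, indFun_apply]
  rw [mul_left_comm (f g), Finset.mul_sum (a := f g)]
  congr 1
  refine Finset.sum_congr rfl fun x _ => ?_
  by_cases hm : x⁻¹ * g * x ∈ H
  · rw [extendByZero_of_mem _ _ hm, extendByZero_of_mem _ _ hm]
    have := hf g x⁻¹
    rw [inv_inv] at this
    simp only [this]
  · rw [extendByZero_of_notMem _ _ hm, extendByZero_of_notMem _ _ hm, mul_zero]

theorem sum_extendByZero_one [Fintype G] (H : Subgroup G) (g : G) [DecidablePred (· ∈ H)] :
    ∑ x : G, extendByZero H (fun _ => (1 : ℂ)) (x⁻¹ * g * x) =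
      ((Finset.univ.filter fun x : G => x⁻¹ * g * x ∈ H).card : ℂ) := by
  rw [Finset.card_eq_sum_ones, Finset.sum_filter, Nat.cast_sum]
  refine Finset.sum_congr rfl fun x _ => ?_
  split_ifs with h
  · rw [extendByZero_of_mem _ _ h, Nat.cast_one]
  · rw [extendByZero_of_notMem _ _ h, Nat.cast_zero]

open Classical in
/-- Induction of the trivial character of a stabilizer counts fixed points in the orbit. -/
theorem indFun_stabilizer_one [Fintype G] {X : Type*} [MulAction G X] [Finite X] (x : X) (g : G) :
    indFun (MulAction.stabilizer G x) (fun _ => (1 : ℂ)) g =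
      (Nat.card {y : X // y ∈ MulAction.orbit G x ∧ g • y = y} : ℂ) := by
  haveI := Fintype.ofFinite X
  rw [indFun_apply, sum_extendByZero_one, Nat.card_eq_fintype_card (α := {y : X // _}),
    Fintype.card_subtype]
  have h : (Finset.univ.filter fun z : G => z⁻¹ * g * z ∈ MulAction.stabilizer G x).card =
      (Finset.univ.filter fun y : X => y ∈ MulAction.orbit G x ∧ g • y = y).card *
        Nat.card (MulAction.stabilizer G x) := by
    rw [Finset.card_eq_sum_card_fiberwise (f := fun z : G => z • x)
      (t := Finset.univ.filter fun y : X => y ∈ MulAction.orbit G x ∧ g • y = y)]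
    · rw [Finset.sum_congr rfl fun y hy => ?_, Finset.sum_const, smul_eq_mul]
      simp only [Finset.mem_filter, Finset.mem_univ, true_and] at hy
      obtain ⟨⟨z₀, rfl⟩, hfix⟩ := hy
      rw [Nat.card_eq_fintype_card]
      change _ = Fintype.card {z // z ∈ MulAction.stabilizer G x}
      rw [Fintype.card_subtype]
      refine Finset.card_equiv (Equiv.mulLeft z₀⁻¹) fun z => ?_
      simp only [Finset.mem_filter, Finset.mem_univ, true_and, Equiv.coe_mulLeft,
        MulAction.mem_stabilizer_iff, mul_smul, inv_smul_eq_iff]
      exact ⟨fun h => h.2, fun h => ⟨by rw [h]; exact hfix, h⟩⟩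
    · intro z hz
      simp only [Finset.mem_filter, Finset.mem_univ, true_and, MulAction.mem_stabilizer_iff,
        mul_smul, inv_smul_eq_iff, Finset.coe_filter, Set.mem_ofPred_eq] at hz ⊢
      exact ⟨MulAction.mem_orbit x z, hz⟩
  rw [h, Nat.cast_mul]
  have : (Nat.card (MulAction.stabilizer G x) : ℂ) ≠ 0 := Nat.cast_ne_zero.mpr Nat.card_pos.ne'
  field_simp

theorem indFun_one_eq_card_fixed [Fintype G] (H : Subgroup G) (g : G) :
    indFun H (fun _ => (1 : ℂ)) g = (Nat.card (MulAction.fixedBy (G ⧸ H) g) : ℂ) := by
  have h := indFun_stabilizer_one (G := G) (X := G ⧸ H) ((1 : G) : G ⧸ H) g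
  rw [indFun_congr (MulAction.stabilizer_quotient H) (fun _ => (1 : ℂ)) (fun _ => (1 : ℂ))
    fun _ _ _ => rfl] at h
  rw [h]
  congr 1
  exact Nat.card_congr (Equiv.subtypeEquivRight fun y =>
    and_iff_right (MulAction.exists_smul_eq G ((1 : G) : G ⧸ H) y))

open Classical in
/-- A permutation character is a sum of induced trivial characters, one for each orbit. -/
theorem card_fixed_eq_sum_orbits [Fintype G] {X : Type*} [MulAction G X] [Finite X]
    [Fintype (Quotient (MulAction.orbitRel G X))] (g : G) :
    (Nat.card (MulAction.fixedBy X g) : ℂ) =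
      ∑ q : Quotient (MulAction.orbitRel G X),
        indFun (MulAction.stabilizer G q.out) (fun _ => (1 : ℂ)) g := by
  haveI := Fintype.ofFinite X
  rw [Finset.sum_congr rfl fun q _ => indFun_stabilizer_one q.out g, ← Nat.cast_sum]
  congr 1
  have e : Nat.card (MulAction.fixedBy X g) = Nat.card {y : X // g • y = y} := rfl
  rw [e, ← Nat.card_sigma]
  exact Nat.card_congr
    { toFun := fun y => ⟨Quotient.mk (MulAction.orbitRel G X) y.1, y.1, by
        rw [← MulAction.orbitRel_apply]
        exact (MulAction.orbitRel G X).symm (@Quotient.mk_out X (MulAction.orbitRel G X) y.1), y.2⟩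
      invFun := fun p => ⟨p.2.1, p.2.2.2⟩
      left_inv := fun y => rfl
      right_inv := fun p => by
        obtain ⟨q, y, hy, hg⟩ := p
        rw [← MulAction.orbitRel_apply] at hy
        have : Quotient.mk (MulAction.orbitRel G X) y = q := by
          rw [← Quotient.out_eq q]; exact Quotient.sound hy
        subst this
        rfl }

open Classical in
/-- The product of two permutation characters on cosets. -/
theorem indFun_one_mul_indFun_one [Fintype G] (H K : Subgroup G) :
    indFun H (fun _ => (1 : ℂ)) * indFun K (fun _ => (1 : ℂ)) =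
      ∑ q : Quotient (MulAction.orbitRel H (G ⧸ K)),
        indFun ((MulAction.stabilizer H q.out).map H.subtype) (fun _ => (1 : ℂ)) := by
  haveI := Fintype.ofFinite H
  rw [mul_comm, ← indFun_mul H _ (isClassFunction_indFun K _)]
  have e : (fun h : H => indFun K (fun _ => (1 : ℂ)) (h : G) * 1) =
      ∑ q : Quotient (MulAction.orbitRel H (G ⧸ K)),
        indFun (MulAction.stabilizer H q.out) (fun _ => (1 : ℂ)) := by
    funext h
    rw [mul_one, indFun_one_eq_card_fixed, Finset.sum_apply]
    exact card_fixed_eq_sum_orbits (X := G ⧸ K) h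
  rw [e, indFun_sum]
  exact Finset.sum_congr rfl fun q _ => indFun_map_subtype H _ _ _ fun _ => rfl

end Cfsg.Agent.Char
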