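import Cfsg.Agent.Lib.Char.Integral
import Mathlib.GroupTheory.OrderOfElement
import Mathlib.Data.ZMod.Basic
import Mathlib.Algebra.BigOperators.Group.Finset.Basic

/-!
# Permutations of characters and classes
-/

set_option autoImplicit false
set_option linter.style.haveILetI false

namespace Cfsg.Agent.Char

open Cfsg Representation Module
open scoped ComplexConjugate

universe u

variable {G : Type u} [Group G]

/-- Brauer's permutation lemma. -/
theorem card_fixed_irr [Finite G] (π : IrrCharacter G ≃ IrrCharacter G)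
    (σ : ConjClasses G ≃ ConjClasses G)
    (h : ∀ (χ : IrrCharacter G) (g g' : G), ConjClasses.mk g' = σ (ConjClasses.mk g) →
      (π χ : G → ℂ) g' = (χ : G → ℂ) g) :
    Nat.card {χ // π χ = χ} = Nat.card {C // σ C = C} := by
  classical
  haveI := Fintype.ofFinite G
  haveI := Fintype.ofFinite (IrrCharacter G)
  haveI := Fintype.ofFinite (ConjClasses G)
  let τ : G → G := fun g => (σ.symm (ConjClasses.mk g)).out
  have hτ : ∀ g, ConjClasses.mk (τ g) = σ.symm (ConjClasses.mk g) := fun g => Quotient.out_eq _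
  have hπ : ∀ (χ : IrrCharacter G) g, (π χ : G → ℂ) g = (χ : G → ℂ) (τ g) := fun χ g =>
    h χ (τ g) g (by rw [hτ, Equiv.apply_symm_apply])
  have hk : (Nat.card G : ℂ) ≠ 0 := Nat.cast_ne_zero.mpr Nat.card_pos.ne'
  have h1 : (Nat.card {χ // π χ = χ} : ℂ) =
      ∑ χ : IrrCharacter G, classInner (π χ : G → ℂ) (χ : G → ℂ) := by
    simp only [classInner_irr]
    rw [Nat.card_eq_fintype_card, Fintype.card_subtype, Finset.card_filter, Nat.cast_sum]
    exact Finset.sum_congr rfl fun χ _ => by split_ifs <;> simp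
  have h2 : ∑ χ : IrrCharacter G, classInner (π χ : G → ℂ) (χ : G → ℂ) =
      (Nat.card {C // σ C = C} : ℂ) := by
    simp only [classInner, hπ, ← Finset.mul_sum]
    rw [Finset.sum_comm]
    simp only [second_orthogonality]
    rw [← Finset.sum_fiberwise Finset.univ (ConjClasses.mk : G → ConjClasses G), Finset.mul_sum,
      Nat.card_eq_fintype_card (α := {C // σ C = C}), Fintype.card_subtype, Finset.card_filter,
      Nat.cast_sum]
    refine Finset.sum_congr rfl fun C _ => ?_
    obtain ⟨x, rfl⟩ := ConjClasses.exists_rep C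
    have hcond : ∀ g ∈ Finset.univ.filter (fun g => ConjClasses.mk g = ConjClasses.mk x),
        (IsConj (τ g) g ↔ σ (ConjClasses.mk x) = ConjClasses.mk x) := fun g hg => by
      rw [← ConjClasses.mk_eq_mk_iff_isConj, hτ, (Finset.mem_filter.mp hg).2, Equiv.symm_apply_eq,
        eq_comm]
    by_cases hx : σ (ConjClasses.mk x) = ConjClasses.mk x
    · rw [if_pos hx, Finset.sum_congr rfl fun g hg => by rw [if_pos ((hcond g hg).mpr hx)]]
      have hg : ∀ g ∈ Finset.univ.filter (fun g => ConjClasses.mk g = ConjClasses.mk x),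
          (Nat.card (Subgroup.centralizer ({τ g} : Set G)) : ℂ) =
            Nat.card (Subgroup.centralizer ({x} : Set G)) := fun g hg => by
        have e : IsConj (τ g) x := ((hcond g hg).mpr hx).trans
          (ConjClasses.mk_eq_mk_iff_isConj.mp (Finset.mem_filter.mp hg).2)
        congr 1
        have i1 := card_isConj_eq_index (τ g)
        have i2 := card_isConj_eq_index x
        rw [Nat.card_congr (Equiv.subtypeEquivRight fun y =>
          ⟨fun z => e.symm.trans z, fun z => e.trans z⟩), i2] at i1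
        have j1 := (Subgroup.centralizer ({τ g} : Set G)).index_mul_card
        have j2 := (Subgroup.centralizer ({x} : Set G)).index_mul_card
        rw [← i1] at j1
        exact Nat.eq_of_mul_eq_mul_left (Nat.pos_of_ne_zero Subgroup.index_ne_zero_of_finite)
          (j1.trans j2.symm)
      rw [Finset.sum_congr rfl hg, Finset.sum_const, nsmul_eq_mul, ← Fintype.card_subtype,
        ← Nat.card_eq_fintype_card,
        Nat.card_congr (Equiv.subtypeEquivRight (q := IsConj x) fun y => by
          rw [ConjClasses.mk_eq_mk_iff_isConj, isConj_comm]),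
        card_isConj_eq_index, ← Nat.cast_mul, Subgroup.index_mul_card, inv_mul_cancel₀ hk,
        Nat.cast_one]
    · rw [if_neg hx, Finset.sum_eq_zero fun g hg => if_neg fun e => hx ((hcond g hg).mp e),
        mul_zero, Nat.cast_zero]
  exact_mod_cast h1.trans h2

/-- Complex conjugation of irreducible characters. -/
noncomputable def conjIrr [Finite G] : IrrCharacter G ≃ IrrCharacter G :=
  Function.Involutive.toPerm (fun χ => ⟨fun g => conj ((χ : G → ℂ) g), IsIrrCharacter.conj χ.2⟩)
    (fun χ => Subtype.ext (funext fun g => Complex.conj_conj _))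

theorem conjIrr_apply [Finite G] (χ : IrrCharacter G) (g : G) :
    (conjIrr χ : G → ℂ) g = conj ((χ : G → ℂ) g) := rfl

theorem conjIrr_eq_iff [Finite G] (χ : IrrCharacter G) :
    conjIrr χ = χ ↔ ∀ g, ((χ : G → ℂ) g).im = 0 := by
  rw [Subtype.ext_iff, funext_iff]
  exact forall_congr' fun g => Complex.conj_eq_iff_im

/-- Inversion of classes. -/
noncomputable def invClasses : ConjClasses G ≃ ConjClasses G :=
  Function.Involutive.toPerm
    (Quotient.map (fun g : G => g⁻¹) fun a b hab => by
      obtain ⟨c, hc⟩ := isConj_iff.mp hab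
      exact isConj_iff.mpr ⟨c, by rw [← hc]; group⟩)
    (fun C => Quotient.inductionOn C fun g => congrArg (Quotient.mk _) (inv_inv g))

theorem invClasses_mk (g : G) : invClasses (ConjClasses.mk g) = ConjClasses.mk g⁻¹ := rfl

/-- The real characters are as many as the real classes. -/
theorem card_real_irr [Finite G] :
    Nat.card {χ : IrrCharacter G // ∀ g : G, ((χ : G → ℂ) g).im = 0} =
      Nat.card {C : ConjClasses G // ∀ g : G, ConjClasses.mk g = C → IsConj g g⁻¹} := by
  rw [← Nat.card_congr (Equiv.subtypeEquivRight conjIrr_eq_iff),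
    card_fixed_irr conjIrr invClasses fun χ g g' hg => ?_]
  · refine Nat.card_congr (Equiv.subtypeEquivRight fun C => ?_)
    obtain ⟨x, rfl⟩ := ConjClasses.exists_rep C
    rw [invClasses_mk, ConjClasses.mk_eq_mk_iff_isConj]
    constructor
    · intro hx g hg
      obtain ⟨c, hc⟩ := isConj_iff.mp (ConjClasses.mk_eq_mk_iff_isConj.mp hg)
      obtain ⟨d, hd⟩ := isConj_iff.mp hx.symm
      exact isConj_iff.mpr ⟨c⁻¹ * d * c, by
        calc c⁻¹ * d * c * g * (c⁻¹ * d * c)⁻¹ = c⁻¹ * (d * (c * g * c⁻¹) * d⁻¹) * c := by group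
          _ = c⁻¹ * x⁻¹ * c := by rw [hc, hd]
          _ = g⁻¹ := by rw [← hc]; group⟩
    · intro hx
      exact (hx x rfl).symm
  · rw [invClasses_mk, ConjClasses.mk_eq_mk_iff_isConj] at hg
    rw [conjIrr_apply, IsIrrCharacter.apply_isConj χ.2 hg,
      IsCharacter.map_inv (IsIrrCharacter.isCharacter χ.2), Complex.conj_conj]

/-- In a group of odd order only the principal character is real. -/
theorem real_irr_eq_one [Finite G] (hodd : Odd (Nat.card G)) (χ : IrrCharacter G)
    (hreal : ∀ g : G, ((χ : G → ℂ) g).im = 0) : (χ : G → ℂ) = fun _ => 1 := by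
  have hsub : Subsingleton {C : ConjClasses G // ∀ g : G, ConjClasses.mk g = C → IsConj g g⁻¹} := by
    refine ⟨fun a b => ?_⟩
    have key : ∀ C : ConjClasses G, (∀ g : G, ConjClasses.mk g = C → IsConj g g⁻¹) →
        C = ConjClasses.mk 1 := by
      intro C hC
      obtain ⟨x, rfl⟩ := ConjClasses.exists_rep C
      obtain ⟨c, hc⟩ := isConj_iff.mp (hC x rfl)
      have h2 : c * c * x * (c * c)⁻¹ = x := by
        calc c * c * x * (c * c)⁻¹ = c * (c * x * c⁻¹) * c⁻¹ := by group
          _ = c * x⁻¹ * c⁻¹ := by rw [hc]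
          _ = (c * x * c⁻¹)⁻¹ := by group
          _ = x := by rw [hc, inv_inv]
      have hco : Odd (orderOf c) := Odd.of_dvd_nat hodd (orderOf_dvd_natCard c)
      have hcc : Commute (c * c) x := mul_inv_eq_iff_eq_mul.mp h2
      obtain ⟨m, hm⟩ := hco
      have hc2 : c = (c * c) ^ (m + 1) := by
        rw [← pow_two, ← pow_mul, show 2 * (m + 1) = orderOf c + 1 by omega, pow_succ,
          pow_orderOf_eq_one, one_mul]
      have hcx : Commute c x := hc2 ▸ hcc.pow_left (m + 1)
      rw [hcx.eq, mul_inv_cancel_right] at hc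
      have hx2 : x ^ 2 = 1 := by
        rw [pow_two]
        conv_lhs => arg 2; rw [hc]
        rw [mul_inv_cancel]
      have : orderOf x = 1 := by
        have h3 := orderOf_dvd_of_pow_eq_one hx2
        have h4 : Odd (orderOf x) := Odd.of_dvd_nat hodd (orderOf_dvd_natCard x)
        rcases (Nat.dvd_prime Nat.prime_two).mp h3 with e | e
        · exact e
        · rw [e] at h4; exact absurd h4 (by decide)
      rw [orderOf_eq_one_iff.mp this]
    exact Subtype.ext ((key a a.2).trans (key b b.2).symm)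
  have hsub' : Subsingleton {ψ : IrrCharacter G // ∀ g : G, ((ψ : G → ℂ) g).im = 0} := by
    rw [← Finite.card_le_one_iff_subsingleton, card_real_irr, Finite.card_le_one_iff_subsingleton]
    exact hsub
  have := hsub'.elim ⟨χ, hreal⟩ ⟨⟨1, isIrrCharacter_one⟩, fun g => Complex.one_im⟩
  exact congrArg (fun ψ : {ψ : IrrCharacter G // _} => ((ψ.1 : IrrCharacter G) : G → ℂ)) this

/-- The congruence modulo sixteen for groups of odd order. -/
theorem card_modEq_card_classes [Finite G] (hodd : Odd (Nat.card G)) :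
    Nat.card G ≡ Nat.card (ConjClasses G) [MOD 16] := by
  classical
  haveI := Fintype.ofFinite G
  haveI := Fintype.ofFinite (IrrCharacter G)
  let d : IrrCharacter G → ℕ := fun χ => (IsIrrCharacter.degree_pos χ.2).choose
  have hd : ∀ χ : IrrCharacter G, (χ : G → ℂ) 1 = d χ := fun χ =>
    (IsIrrCharacter.degree_pos χ.2).choose_spec.2
  have hsum : ∑ χ, d χ ^ 2 = Nat.card G := by
    have := sum_sq_degree (G := G)
    simp only [hd] at this
    exact_mod_cast this
  let f : IrrCharacter G → ZMod 16 := fun χ => ((d χ ^ 2 : ℕ) : ZMod 16) - 1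
  have hf8 : ∀ χ, f χ + f χ = 0 := by
    intro χ
    obtain ⟨m, hm⟩ := Odd.of_dvd_nat hodd (degree_dvd_card χ.2 (d χ) (hd χ))
    obtain ⟨k, hk⟩ := Nat.even_mul_succ_self m
    have : d χ ^ 2 = 8 * k + 1 := by
      rw [hm, show (2 * m + 1) ^ 2 = 4 * (m * (m + 1)) + 1 by ring, hk]
      ring
    simp only [f, this]
    push_cast
    rw [show (8 * (k : ZMod 16) + 1 - 1 + (8 * (k : ZMod 16) + 1 - 1)) = 16 * (k : ZMod 16) by ring,
      show (16 : ZMod 16) = 0 from rfl, zero_mul]
  have hdc : ∀ χ, d (conjIrr χ) = d χ := by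
    intro χ
    have := hd (conjIrr χ)
    rw [conjIrr_apply, conj_irr_one, hd] at this
    exact_mod_cast this.symm
  have h0 : ∑ χ, f χ = 0 := by
    refine Finset.sum_involution (fun χ _ => conjIrr χ) (fun χ _ => ?_) (fun χ _ hne => ?_)
      (fun _ _ => Finset.mem_univ _) (fun χ _ => Subtype.ext (funext fun g => Complex.conj_conj _))
    · simp only [f, hdc]
      exact hf8 χ
    · intro e
      apply hne
      have h1 : (χ : G → ℂ) = fun _ => 1 := real_irr_eq_one hodd χ ((conjIrr_eq_iff χ).mp e)
      have h2 := hd χ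
      simp only [h1] at h2
      have : d χ = 1 := by exact_mod_cast h2.symm
      simp [f, this]
  rw [← card_irrCharacter, Nat.card_eq_fintype_card (α := IrrCharacter G), ← hsum,
    ← ZMod.natCast_eq_natCast_iff]
  simp only [f, Finset.sum_sub_distrib, Finset.sum_const, Finset.card_univ, nsmul_eq_mul,
    mul_one, sub_eq_zero] at h0
  rw [Nat.cast_sum]
  exact h0

/-- Outer products are irreducible. -/
theorem isIrrCharacter_outer {H : Type*} [Group H] [Finite G] [Finite H] {φ : G → ℂ} {ψ : H → ℂ}
    (hφ : IsIrrCharacter G φ) (hψ : IsIrrCharacter H ψ) :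
    IsIrrCharacter (G × H) (fun x => φ x.1 * ψ x.2) := by
  haveI := Fintype.ofFinite G
  haveI := Fintype.ofFinite H
  refine isIrrCharacter_iff.mpr ⟨?_, ?_⟩
  · exact isCharacter_mul (isCharacter_comp (IsIrrCharacter.isCharacter hφ) (MonoidHom.fst G H))
      (isCharacter_comp (IsIrrCharacter.isCharacter hψ) (MonoidHom.snd G H))
  · have e : classInner (fun x : G × H => φ x.1 * ψ x.2) (fun x => φ x.1 * ψ x.2) =
        classInner φ φ * classInner ψ ψ := by
      simp only [classInner, Nat.card_prod, Nat.cast_mul, map_mul, Fintype.sum_prod_type, mul_inv]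
      rw [mul_mul_mul_comm, Finset.sum_mul_sum]
      congr 1
      exact Finset.sum_congr rfl fun x _ => Finset.sum_congr rfl fun y _ => by ring
    rw [e, IsIrrCharacter.classInner_self hφ, IsIrrCharacter.classInner_self hψ, mul_one]

/-- The irreducible characters of a product. -/
theorem isIrrCharacter_prod_iff {H : Type*} [Group H] [Finite G] [Finite H] (θ : G × H → ℂ) :
    IsIrrCharacter (G × H) θ ↔ ∃ (φ : G → ℂ) (ψ : H → ℂ), IsIrrCharacter G φ ∧
      IsIrrCharacter H ψ ∧ θ = fun x => φ x.1 * ψ x.2 := by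
  classical
  refine ⟨fun hθ => ?_, fun ⟨φ, ψ, hφ, hψ, e⟩ => e ▸ isIrrCharacter_outer hφ hψ⟩
  haveI := Fintype.ofFinite G
  haveI := Fintype.ofFinite H
  haveI := Fintype.ofFinite (IrrCharacter G)
  haveI := Fintype.ofFinite (IrrCharacter H)
  by_contra hne
  simp only [not_exists, not_and] at hne
  have h0 : ∀ (φ : IrrCharacter G) (ψ : IrrCharacter H),
      ∑ x : G × H, θ x * conj ((φ : G → ℂ) x.1 * (ψ : H → ℂ) x.2) = 0 := by
    intro φ ψ
    have := IsIrrCharacter.classInner_eq_zero hθ (isIrrCharacter_outer φ.2 ψ.2)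
      (hne _ _ φ.2 ψ.2)
    rw [classInner] at this
    exact (mul_eq_zero.mp this).resolve_left (inv_ne_zero (Nat.cast_ne_zero.mpr Nat.card_pos.ne'))
  have key : ∑ x : G × H, θ x *
      ((∑ φ : IrrCharacter G, (φ : G → ℂ) 1 * conj ((φ : G → ℂ) x.1)) *
        (∑ ψ : IrrCharacter H, (ψ : H → ℂ) 1 * conj ((ψ : H → ℂ) x.2))) = 0 := by
    rw [Finset.sum_congr rfl fun x _ => by rw [Finset.sum_mul_sum, Finset.mul_sum], Finset.sum_comm]
    refine Finset.sum_eq_zero fun φ _ => ?_
    rw [Finset.sum_congr rfl fun x _ => Finset.mul_sum _ _ _, Finset.sum_comm]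
    refine Finset.sum_eq_zero fun ψ _ => ?_
    calc _ = (φ : G → ℂ) 1 * (ψ : H → ℂ) 1 *
          ∑ x : G × H, θ x * conj ((φ : G → ℂ) x.1 * (ψ : H → ℂ) x.2) := by
            rw [Finset.mul_sum]
            exact Finset.sum_congr rfl fun x _ => by rw [map_mul]; ring
      _ = 0 := by rw [h0, mul_zero]
  have hG : ∀ g : G, ∑ φ : IrrCharacter G, (φ : G → ℂ) 1 * conj ((φ : G → ℂ) g) =
      if g = 1 then (Nat.card G : ℂ) else 0 := fun g => by
    have h' := regular_eq g⁻¹
    simp only [inv_eq_one] at h'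
    rw [← h']
    exact Finset.sum_congr rfl fun φ _ => by
      rw [IsCharacter.map_inv (IsIrrCharacter.isCharacter φ.2)]
  have hH : ∀ g : H, ∑ φ : IrrCharacter H, (φ : H → ℂ) 1 * conj ((φ : H → ℂ) g) =
      if g = 1 then (Nat.card H : ℂ) else 0 := fun g => by
    have h' := regular_eq g⁻¹
    simp only [inv_eq_one] at h'
    rw [← h']
    exact Finset.sum_congr rfl fun φ _ => by
      rw [IsCharacter.map_inv (IsIrrCharacter.isCharacter φ.2)]
  simp only [hG, hH] at key
  rw [Finset.sum_eq_single (1 : G × H)] at key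
  · simp only [Prod.fst_one, Prod.snd_one, if_true] at key
    exact (mul_ne_zero (IsIrrCharacter.apply_one_ne_zero hθ) (mul_ne_zero
      (Nat.cast_ne_zero.mpr Nat.card_pos.ne') (Nat.cast_ne_zero.mpr Nat.card_pos.ne'))) key
  · intro x _ hx
    rcases x with ⟨a, b⟩
    by_cases ha : a = 1
    · subst ha
      have hb : b ≠ 1 := fun hb => hx (by rw [hb]; rfl)
      simp [hb]
    · simp [ha]
  · simp

end Cfsg.Agent.Char
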