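import Cfsg.Agent.Lib.Char.Clifford
import Cfsg.Agent.Lib.Char.Perm
import Cfsg.Agent.Lib.Block.Rational
import Mathlib.RepresentationTheory.Character
import Mathlib.Analysis.SpecialFunctions.Log.Basic

/-!
# Vanishing of characters
-/

set_option autoImplicit false
set_option linter.style.haveILetI false

namespace Cfsg.Agent.Char

open Cfsg Representation Module
open scoped ComplexConjugate

universe u

variable {G : Type u} [Group G]

/-- The average over a normal subgroup that is not in the kernel is zero. -/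
theorem sum_rep_eq_zero [Finite G] {V : Type*} [AddCommGroup V] [Module ℂ V]
    (ρ : Representation ℂ G V) [hρ : ρ.IsIrreducible] (H : Subgroup G) [hH : H.Normal] [Fintype H]
    (hker : ∃ h ∈ H, ρ h ≠ LinearMap.id) : ∑ h : H, ρ h = 0 := by
  let W : Subrepresentation ρ :=
    ⟨{ carrier := {v | ∀ h : H, ρ h v = v}
       add_mem' := fun {a b} ha hb h => by rw [map_add, ha, hb]
       zero_mem' := fun h => map_zero _
       smul_mem' := fun c a ha h => by rw [map_smul, ha] }, fun g v hv h => by
      have h1 : ρ (g⁻¹ * h * g) v = v := hv ⟨_, by simpa using hH.conj_mem _ h.2 g⁻¹⟩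
      calc ρ h (ρ g v) = ρ g (ρ (g⁻¹ * h * g) v) := by
            rw [← Module.End.mul_apply, ← Module.End.mul_apply, ← map_mul, ← map_mul]
            simp [mul_assoc]
        _ = ρ g v := by rw [h1]⟩
  have hW : W = ⊥ := by
    refine (hρ.eq_bot_or_eq_top W).resolve_right fun e => ?_
    obtain ⟨h, hh, hne⟩ := hker
    refine hne (LinearMap.ext fun v => ?_)
    have hv : v ∈ W.toSubmodule := by rw [e]; exact Submodule.mem_top
    exact hv ⟨h, hh⟩
  refine LinearMap.ext fun v => ?_
  have hv : (∑ h : H, ρ h) v ∈ W.toSubmodule := fun h => by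
    simp only [LinearMap.coe_sum, Finset.sum_apply, map_sum]
    exact Fintype.sum_equiv (Equiv.mulLeft h) _ _ fun x => by
      simp [← Module.End.mul_apply, ← map_mul]
  rw [hW] at hv
  exact (Submodule.mem_bot ℂ).mp hv

/-- Characters vanish where a normal subgroup outside the kernel acts freely. -/
theorem character_eq_zero_of_free [Finite G] {V : Type*} [AddCommGroup V] [Module ℂ V]
    [FiniteDimensional ℂ V] (ρ : Representation ℂ G V) [ρ.IsIrreducible] (H : Subgroup G)
    [hH : H.Normal] (hker : ∃ h ∈ H, ρ h ≠ LinearMap.id) (g : G)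
    (hg : ∀ h ∈ H, h * g = g * h → h = 1) : ρ.character g = 0 := by
  haveI := Fintype.ofFinite H
  have hinj : Function.Injective (fun h : H =>
      (⟨(h : G) * g * (h : G)⁻¹ * g⁻¹, by
        simpa [mul_assoc] using H.mul_mem h.2 (hH.conj_mem _ (H.inv_mem h.2) g)⟩ : H)) := by
    intro a b e
    have e' : (a : G) * g * (a : G)⁻¹ = (b : G) * g * (b : G)⁻¹ :=
      mul_right_cancel (congrArg Subtype.val e)
    have h1 : ((b : G)⁻¹ * a) * g = g * ((b : G)⁻¹ * a) := by
      calc ((b : G)⁻¹ * a) * g = (b : G)⁻¹ * ((a : G) * g * (a : G)⁻¹) * a := by group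
        _ = g * ((b : G)⁻¹ * a) := by rw [e']; group
    exact Subtype.ext (inv_mul_eq_one.mp (hg _ (H.mul_mem (H.inv_mem b.2) a.2) h1)).symm
  have hconst : ∀ h : H, ρ.character ((h : G) * g) = ρ.character g := by
    intro h
    obtain ⟨x, hx⟩ := (Finite.injective_iff_surjective.mp hinj) h
    have : (h : G) * g = (x : G) * g * (x : G)⁻¹ := by rw [← hx]; group
    rw [this, Representation.char_conj]
  have h0 : ∑ h : H, ρ.character ((h : G) * g) = 0 := by
    have := congrArg (fun A : V →ₗ[ℂ] V => LinearMap.trace ℂ V (A * ρ g)) (sum_rep_eq_zero ρ H hker)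
    simp only [Finset.sum_mul, zero_mul, map_zero, map_sum, ← map_mul] at this
    exact this
  simp only [hconst, Finset.sum_const, Finset.card_univ, nsmul_eq_mul, mul_eq_zero,
    Nat.cast_eq_zero] at h0
  exact h0.resolve_left Fintype.card_ne_zero

/-- The generators of a finite cyclic subgroup. -/
theorem zpowers_eq_zpowers_iff [Finite G] {x y : G} :
    Subgroup.zpowers x = Subgroup.zpowers y ↔
      x ∈ Subgroup.zpowers y ∧ y ∈ Subgroup.zpowers x := by
  constructor
  · intro h
    exact ⟨h ▸ Subgroup.mem_zpowers x, h ▸ Subgroup.mem_zpowers y⟩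
  · exact fun h => le_antisymm (Subgroup.zpowers_le.mpr h.1) (Subgroup.zpowers_le.mpr h.2)

/-- The product of a character over the generators of a cyclic subgroup is a rational integer. -/
theorem prod_generators_int [Fintype G] [DecidableEq (Subgroup G)] {χ : G → ℂ}
    (hχ : IsCharacter G χ) (g : G) :
    ∃ z : ℤ, ∏ x ∈ Finset.univ.filter (fun x => Subgroup.zpowers x = Subgroup.zpowers g), χ x = z := by
  classical
  set n := orderOf g with hn
  have hn0 : 0 < n := orderOf_pos g
  let C := Subgroup.zpowers g
  let P : Finset ℕ := (Finset.range n).filter fun m => Nat.Coprime m n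
  let θ : C → ℂ := ∏ m ∈ P, fun x : C => χ ((x : G) ^ m)
  have hθ : IsCharacter C θ := by
    refine Finset.prod_induction _ (IsCharacter C) (fun a b => isCharacter_mul) isCharacter_one
      fun m _ => ?_
    exact isCharacter_comp hχ
      ({ toFun := fun x : C => (x : G) ^ m
         map_one' := one_pow m
         map_mul' := fun a b => by
          obtain ⟨i, hi⟩ := Subgroup.mem_zpowers_iff.mp a.2
          obtain ⟨j, hj⟩ := Subgroup.mem_zpowers_iff.mp b.2
          rw [Subgroup.coe_mul]
          exact Commute.mul_pow (hi ▸ hj ▸ Commute.zpow_zpow_self g i j) m } : C →* G)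
  have hgen : ∀ x : G, Subgroup.zpowers x = C → ∏ m ∈ P, χ (x ^ m) =
      ∏ y ∈ Finset.univ.filter (fun y => Subgroup.zpowers y = C), χ y := by
    intro x hx
    have hox : orderOf x = n := by rw [← Nat.card_zpowers, hx, Nat.card_zpowers]
    refine Finset.prod_bij (fun m _ => x ^ m) (fun m hm => ?_) (fun a ha b hb e => ?_)
      (fun y hy => ?_) fun m _ => rfl
    · obtain ⟨-, hm⟩ := Finset.mem_filter.mp hm
      refine Finset.mem_filter.mpr ⟨Finset.mem_univ _, ?_⟩
      rw [← hx]
      refine Subgroup.eq_of_le_of_card_ge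
        (Subgroup.zpowers_le.mpr ((Subgroup.zpowers x).pow_mem (Subgroup.mem_zpowers x) m)) ?_
      rw [Nat.card_zpowers, Nat.card_zpowers, Nat.Coprime.orderOf_pow (hox ▸ hm.symm)]
    · exact pow_injOn_Iio_orderOf (by rw [hox]; exact Finset.mem_range.mp (Finset.mem_filter.mp ha).1)
        (by rw [hox]; exact Finset.mem_range.mp (Finset.mem_filter.mp hb).1) e
    · obtain ⟨-, hy⟩ := Finset.mem_filter.mp hy
      have hy' : y ∈ Subgroup.zpowers x := by rw [hx, ← hy]; exact Subgroup.mem_zpowers y
      rw [← mem_powers_iff_mem_zpowers] at hy'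
      obtain ⟨m, rfl⟩ := hy'
      refine ⟨m % n, Finset.mem_filter.mpr ⟨Finset.mem_range.mpr (Nat.mod_lt _ hn0), ?_⟩, ?_⟩
      · have e1 : orderOf (x ^ m) = orderOf x := by
          rw [← Nat.card_zpowers, hy, Nat.card_zpowers, hox]
        rw [orderOf_pow, Nat.div_eq_self] at e1
        have hcop : Nat.Coprime (orderOf x) m := e1.resolve_left (orderOf_pos x).ne'
        rw [hox] at hcop
        show Nat.gcd (m % n) n = 1
        rw [← Nat.gcd_rec]
        exact hcop
      · show x ^ (m % n) = x ^ m
        rw [← hox, pow_mod_orderOf]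
  obtain ⟨z, hz⟩ := Cfsg.Agent.Block.sum_mem_int_of_stable hθ
    (Finset.univ.filter fun x : C => Subgroup.zpowers (x : G) = C) fun x y hxy hx => by
      refine Finset.mem_filter.mpr ⟨Finset.mem_univ _, ?_⟩
      have := congrArg (Subgroup.map C.subtype) hxy
      rw [MonoidHom.map_zpowers, MonoidHom.map_zpowers] at this
      rw [show Subgroup.zpowers (y : G) = Subgroup.zpowers (x : G) from this.symm]
      exact (Finset.mem_filter.mp hx).2
  set Pv := ∏ y ∈ Finset.univ.filter (fun y => Subgroup.zpowers y = C), χ y with hPv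
  have hθv : ∀ x : C, Subgroup.zpowers (x : G) = C → θ x = Pv := fun x hx => by
    simp only [θ, Finset.prod_apply]
    exact hgen x hx
  rw [Finset.sum_congr rfl fun x hx => hθv x (Finset.mem_filter.mp hx).2, Finset.sum_const,
    nsmul_eq_mul] at hz
  have hpos : 0 < (Finset.univ.filter fun x : C => Subgroup.zpowers (x : G) = C).card :=
    Finset.card_pos.mpr ⟨⟨g, Subgroup.mem_zpowers g⟩, by simp [C]⟩
  have hint : IsIntegral ℤ Pv := IsIntegral.prod _ fun y _ => IsCharacter.isIntegral hχ y
  generalize hc : (Finset.univ.filter fun x : C => Subgroup.zpowers (x : G) = C).card = c at hz hpos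
  have hq : Pv = (((z : ℚ) / c : ℚ) : ℂ) := by
    push_cast
    rw [eq_div_iff (Nat.cast_ne_zero.mpr hpos.ne'), mul_comm, hz]
  rw [hq] at hint
  obtain ⟨w, hw⟩ := rat_eq_int_of_isIntegral hint
  refine ⟨w, ?_⟩
  rw [hw] at hq
  exact hq.trans (Rat.cast_intCast w)

/-- A nonlinear irreducible character vanishes somewhere. -/
theorem exists_zero [Finite G] {χ : G → ℂ} (hχ : IsIrrCharacter G χ) {d : ℕ} (hd : χ 1 = d)
    (h1 : 1 < d) : ∃ g, χ g = 0 := by
  classical
  haveI := Fintype.ofFinite G
  by_contra hne
  push Not at hne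
  let f : G → ℝ := fun g => Complex.normSq (χ g)
  have hc := IsIrrCharacter.isCharacter hχ
  have hsum : ∑ g, f g = Nat.card G := by
    have h2 := IsIrrCharacter.classInner_self hχ
    simp only [classInner, Complex.mul_conj] at h2
    rw [inv_mul_eq_div, div_eq_one_iff_eq (Nat.cast_ne_zero.mpr Nat.card_pos.ne'),
      ← Complex.ofReal_sum] at h2
    exact_mod_cast h2
  have hfib : ∀ C ∈ Finset.univ.image (Subgroup.zpowers : G → Subgroup G),
      ((Finset.univ.filter fun x => Subgroup.zpowers x = C).card : ℝ) ≤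
        ∑ x ∈ Finset.univ.filter (fun x => Subgroup.zpowers x = C), f x := by
    intro C hC
    obtain ⟨g, -, rfl⟩ := Finset.mem_image.mp hC
    obtain ⟨z, hz⟩ := prod_generators_int hc g
    have hz0 : z ≠ 0 := by
      intro e
      rw [e, Int.cast_zero, Finset.prod_eq_zero_iff] at hz
      obtain ⟨x, -, hx⟩ := hz
      exact hne x hx
    have hp : (1 : ℝ) ≤ ∏ x ∈ Finset.univ.filter (fun x => Subgroup.zpowers x = Subgroup.zpowers g),
        f x := by
      simp only [f, ← map_prod, hz]
      rw [Complex.normSq_intCast, ← sq]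
      have : (1 : ℤ) ≤ z ^ 2 := by
        have := sq_pos_of_ne_zero hz0
        omega
      exact_mod_cast this
    have hlog : (0 : ℝ) ≤ ∑ x ∈ Finset.univ.filter
        (fun x => Subgroup.zpowers x = Subgroup.zpowers g), Real.log (f x) := by
      rw [← Real.log_prod fun x _ => (Complex.normSq_pos.mpr (hne x)).ne']
      exact Real.log_nonneg hp
    have := Finset.sum_le_sum (s := Finset.univ.filter
      (fun x => Subgroup.zpowers x = Subgroup.zpowers g))
      (fun x _ => Real.log_le_sub_one_of_pos (Complex.normSq_pos.mpr (hne x)))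
    rw [Finset.sum_sub_distrib, Finset.sum_const, nsmul_eq_mul, mul_one] at this
    simp only [f] at hlog ⊢
    linarith
  have hone : Finset.univ.filter (fun x : G => Subgroup.zpowers x = Subgroup.zpowers (1 : G)) =
      {1} := by
    ext x
    simp
  rw [← Finset.sum_fiberwise_of_maps_to (g := (Subgroup.zpowers : G → Subgroup G))
    (t := Finset.univ.image (Subgroup.zpowers : G → Subgroup G))
    (fun x _ => Finset.mem_image_of_mem _ (Finset.mem_univ x))] at hsum
  have hlt : ∑ C ∈ Finset.univ.image (Subgroup.zpowers : G → Subgroup G),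
      ((Finset.univ.filter fun x => Subgroup.zpowers x = C).card : ℝ) <
      ∑ C ∈ Finset.univ.image (Subgroup.zpowers : G → Subgroup G),
        ∑ x ∈ Finset.univ.filter (fun x => Subgroup.zpowers x = C), f x := by
    refine Finset.sum_lt_sum hfib ⟨Subgroup.zpowers 1, Finset.mem_image_of_mem _ (Finset.mem_univ _), ?_⟩
    rw [hone, Finset.card_singleton, Finset.sum_singleton]
    simp only [f, hd, Complex.normSq_natCast]
    have : (1 : ℝ) < d := by exact_mod_cast h1
    push_cast
    nlinarith
  have htc := Finset.card_eq_sum_card_fiberwise (s := (Finset.univ : Finset G))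
    (f := (Subgroup.zpowers : G → Subgroup G))
    (t := Finset.univ.image (Subgroup.zpowers : G → Subgroup G))
    (fun x _ => Finset.mem_image_of_mem _ (Finset.mem_univ x))
  rw [hsum, ← Nat.cast_sum, ← htc, Finset.card_univ, Nat.card_eq_fintype_card] at hlt
  exact lt_irrefl _ hlt

/-- A character vanishing on the nontrivial elements of a subgroup has degree divisible by its
order. -/
theorem card_dvd_degree_of_vanish [Finite G] {χ : G → ℂ} (hχ : IsCharacter G χ) (P : Subgroup G)
    (hvan : ∀ g ∈ P, g ≠ 1 → χ g = 0) : ∃ k : ℕ, χ 1 = (Nat.card P : ℂ) * k := by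
  classical
  haveI := Fintype.ofFinite P
  obtain ⟨k, hk⟩ := classInner_natCast_of_isCharacter (IsCharacter.restrict hχ P)
    (isCharacter_one (G := P))
  refine ⟨k, ?_⟩
  rw [← hk, classInner, ← mul_assoc, mul_inv_cancel₀ (Nat.cast_ne_zero.mpr Nat.card_pos.ne'),
    one_mul, Finset.sum_eq_single (1 : P) (fun x _ hx => ?_) (by simp)]
  · simp
  · simp [hvan x x.2 fun e => hx (Subtype.ext e)]

theorem finrank_invariants_cast [Finite G] (H : Subgroup G) [Fintype H] {V : Type*} [AddCommGroup V]
    [Module ℂ V] [FiniteDimensional ℂ V] (ρ : Representation ℂ G V) :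
    classInner (fun x : H => ρ.character x) (fun _ => 1) =
      (finrank ℂ (Representation.invariants (ρ.comp H.subtype : Representation ℂ H V)) : ℂ) := by
  haveI : Invertible (Nat.card H : ℂ) := invertibleOfNonzero (Nat.cast_ne_zero.mpr Nat.card_pos.ne')
  rw [← Representation.card_inv_mul_sum_char_eq_finrank]
  simp [classInner]
  rfl

end Cfsg.Agent.Char
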