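import Cfsg.Agent.Lib.Char.Clifford
import Cfsg.Agent.Lib.Char.Linear
import Cfsg.Agent.Lib.Char.PermChar
import Cfsg.Agent.Lib.Char.Zero

/-!
# The correspondence of Gallagher
-/

set_option autoImplicit false
set_option linter.style.haveILetI false

namespace Cfsg.Agent.Char

open Cfsg Representation Module
open scoped ComplexConjugate

universe u

variable {G : Type u} [Group G] [Fintype G] (N : Subgroup G) [hN : N.Normal] [Fintype N]

theorem sum_nat_eq_of_diag {ι : Type*} [Fintype ι] [DecidableEq ι] (e : ι → ℕ) (M : ι → ι → ℕ)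
    (hdiag : ∀ i, 1 ≤ M i i) (h : ∑ i, ∑ j, e i * e j * M i j = ∑ i, e i * e i) {i j : ι}
    (hi : e i ≠ 0) (hj : e j ≠ 0) : M i j = if i = j then 1 else 0 := by
  have h1 : ∀ a, e a * e a + ∑ b ∈ Finset.univ.erase a, e a * e b * M a b ≤
      ∑ b, e a * e b * M a b := fun a => by
    rw [← Finset.add_sum_erase _ _ (Finset.mem_univ a)]
    exact Nat.add_le_add_right (Nat.le_mul_of_pos_right _ (hdiag a)) _
  have h2 : ∀ a, e a * e a ≤ ∑ b, e a * e b * M a b := fun a =>
    le_trans (Nat.le_add_right _ _) (h1 a)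
  have h3 : ∀ a, ∑ b, e a * e b * M a b = e a * e a := fun a =>
    ((Finset.sum_eq_sum_iff_of_le fun b _ => h2 b).mp h.symm a (Finset.mem_univ a)).symm
  have h4 := h3 i
  rw [← Finset.add_sum_erase _ _ (Finset.mem_univ i)] at h4
  have hp : 0 < e i * e i := Nat.mul_pos (Nat.pos_of_ne_zero hi) (Nat.pos_of_ne_zero hi)
  split_ifs with hij
  · subst hij
    refine le_antisymm (Nat.le_of_mul_le_mul_left (c := e i * e i) ?_ hp) (hdiag i)
    rw [mul_one]
    exact le_trans (Nat.le_add_right _ _) h4.le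
  · have h5 : e i * e i ≤ e i * e i * M i i := Nat.le_mul_of_pos_right _ (hdiag i)
    have h6 : e i * e j * M i j ≤ ∑ b ∈ Finset.univ.erase i, e i * e b * M i b :=
      Finset.single_le_sum (f := fun b => e i * e b * M i b) (fun b _ => Nat.zero_le _)
        (Finset.mem_erase.mpr ⟨Ne.symm hij, Finset.mem_univ j⟩)
    have h7 : e i * e j * M i j = 0 := by omega
    simpa [hi, hj] using h7

/-- The norm of the induced character of an invariant character. -/
theorem classInner_indFun_self_of_invariant {θ : N → ℂ} (hθ : IsIrrCharacter N θ)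
    (hinv : ∀ g, conjChar N g θ = θ) :
    classInner (indFun N θ) (indFun N θ) = (N.index : ℂ) := by
  classical
  rw [classInner_indFun_indFun N hθ hθ, Finset.filter_true_of_mem fun g _ => hinv g,
    Finset.card_univ, ← Nat.card_eq_fintype_card (α := G), ← N.index_mul_card, Nat.cast_mul,
    mul_div_assoc, div_self (Nat.cast_ne_zero.mpr Nat.card_pos.ne'), mul_one]

/-- Multiplication by an extension is a bijection between the characters over two invariant
characters. -/
theorem gallagher {φ θ : N → ℂ} (hφ : IsIrrCharacter N φ) (hφinv : ∀ g, conjChar N g φ = φ)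
    (hθinv : ∀ g, conjChar N g θ = θ) (hprod : IsIrrCharacter N (φ * θ)) {χ : G → ℂ}
    (hχ : IsIrrCharacter G χ) (hext : ∀ n : N, χ n = θ n) :
    Set.BijOn (fun β : G → ℂ => β * χ)
      {β : G → ℂ | IsIrrCharacter G β ∧ classInner (indFun N φ) β ≠ 0}
      {ψ : G → ℂ | IsIrrCharacter G ψ ∧ classInner (indFun N (φ * θ)) ψ ≠ 0} := by
  classical
  haveI := Fintype.ofFinite (IrrCharacter G)
  have hχc := IsIrrCharacter.isCharacter hχ
  have hprodinv : ∀ g, conjChar N g (φ * θ) = φ * θ := fun g => by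
    funext n
    have h1 := congrFun (hφinv g) n
    have h2 := congrFun (hθinv g) n
    simp only [conjChar, Pi.mul_apply] at h1 h2 ⊢
    rw [h1, h2]
  have hind : indFun N (φ * θ) = indFun N φ * χ := by
    rw [mul_comm (indFun N φ), ← indFun_mul N φ (IsCharacter.isClassFunction hχc)]
    congr 1
    funext n
    rw [Pi.mul_apply, hext, mul_comm]
  have hnat : ∀ β : IrrCharacter G, ∃ e : ℕ, classInner (indFun N φ) (β : G → ℂ) = e := fun β =>
    classInner_natCast_of_isCharacter (isCharacter_indFun N (IsIrrCharacter.isCharacter hφ))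
      (IsIrrCharacter.isCharacter β.2)
  choose e he using hnat
  have hM : ∀ β β' : IrrCharacter G, ∃ m : ℕ,
      classInner ((β : G → ℂ) * χ) ((β' : G → ℂ) * χ) = m := fun β β' =>
    classInner_natCast_of_isCharacter (isCharacter_mul (IsIrrCharacter.isCharacter β.2) hχc)
      (isCharacter_mul (IsIrrCharacter.isCharacter β'.2) hχc)
  choose M hM using hM
  have hdiag : ∀ β, 1 ≤ M β β := by
    intro β
    rw [Nat.one_le_iff_ne_zero]
    intro h0
    have h1 := hM β β
    rw [h0, Nat.cast_zero] at h1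
    have h2 := congrFun (classInner_self_eq_zero h1) 1
    exact mul_ne_zero (IsIrrCharacter.apply_one_ne_zero β.2) (IsIrrCharacter.apply_one_ne_zero hχ) h2
  have hdec : indFun N φ = ∑ β : IrrCharacter G, (e β : ℂ) • (β : G → ℂ) := by
    simp only [← he]
    exact IsClassFunction.eq_sum (isClassFunction_indFun N φ)
  have hdec' : indFun N (φ * θ) = ∑ β : IrrCharacter G, (e β : ℂ) • ((β : G → ℂ) * χ) := by
    rw [hind, hdec, Finset.sum_mul]
    exact Finset.sum_congr rfl fun β _ => smul_mul_assoc _ _ _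
  have hsum : ∑ β, ∑ β', e β * e β' * M β β' = ∑ β, e β * e β := by
    have h1 := classInner_indFun_self_of_invariant N hφ hφinv
    have h2 := classInner_indFun_self_of_invariant N hprod hprodinv
    rw [hdec, classInner_sum_sum] at h1
    rw [hdec', classInner_sum_left] at h2
    simp only [classInner_sum_right, classInner_smul_left, classInner_smul_right, hM,
      Complex.conj_natCast] at h2
    rw [← h1] at h2
    simp only [Complex.conj_natCast, Finset.mul_sum, ← mul_assoc] at h2
    have h3 : ∑ x, ∑ y, e y * e x * M x y = ∑ x, e x * e x := by exact_mod_cast h2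
    rw [← h3]
    exact Finset.sum_congr rfl fun x _ => Finset.sum_congr rfl fun y _ => by rw [mul_comm (e x)]
  have hirr : ∀ β : IrrCharacter G, e β ≠ 0 → IsIrrCharacter G ((β : G → ℂ) * χ) := fun β hβ =>
    isIrrCharacter_iff.mpr ⟨isCharacter_mul (IsIrrCharacter.isCharacter β.2) hχc, by
      rw [hM, sum_nat_eq_of_diag e M hdiag hsum hβ hβ, if_pos rfl, Nat.cast_one]⟩
  have hinner : ∀ β : IrrCharacter G, e β ≠ 0 →
      classInner (indFun N (φ * θ)) ((β : G → ℂ) * χ) = e β := by
    intro β hβ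
    rw [hdec', classInner_sum_left, Finset.sum_eq_single β]
    · rw [classInner_smul_left, hM, sum_nat_eq_of_diag e M hdiag hsum hβ hβ, if_pos rfl,
        Nat.cast_one, mul_one]
    · intro b _ hb
      rw [classInner_smul_left, hM]
      by_cases hb0 : e b = 0
      · simp [hb0]
      · rw [sum_nat_eq_of_diag e M hdiag hsum hb0 hβ, if_neg hb, Nat.cast_zero, mul_zero]
    · simp
  refine ⟨fun β hβ => ?_, fun β hβ β' hβ' h => ?_, fun ψ hψ => ?_⟩
  · obtain ⟨hβi, hβne⟩ := hβ
    have hne : e ⟨β, hβi⟩ ≠ 0 := fun h0 => hβne (by simpa [h0] using he ⟨β, hβi⟩)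
    refine ⟨hirr ⟨β, hβi⟩ hne, ?_⟩
    dsimp only
    rw [show β * χ = ((⟨β, hβi⟩ : IrrCharacter G) : G → ℂ) * χ from rfl, hinner _ hne]
    exact Nat.cast_ne_zero.mpr hne
  · obtain ⟨hβi, hβne⟩ := hβ
    obtain ⟨hβi', hβne'⟩ := hβ'
    have hne : e ⟨β, hβi⟩ ≠ 0 := fun h0 => hβne (by simpa [h0] using he ⟨β, hβi⟩)
    have hne' : e ⟨β', hβi'⟩ ≠ 0 := fun h0 => hβne' (by simpa [h0] using he ⟨β', hβi'⟩)
    by_contra hbb
    have h1 := sum_nat_eq_of_diag e M hdiag hsum hne hne'
    rw [if_neg (fun hh => hbb (congrArg Subtype.val hh))] at h1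
    have h2 := hM ⟨β, hβi⟩ ⟨β', hβi'⟩
    rw [h1, show (β : G → ℂ) * χ = β' * χ from h,
      IsIrrCharacter.classInner_self (hirr ⟨β', hβi'⟩ hne'), Nat.cast_zero] at h2
    exact one_ne_zero h2
  · obtain ⟨hψi, hψne⟩ := hψ
    rw [hdec', classInner_sum_left] at hψne
    obtain ⟨β, -, hβ⟩ := Finset.exists_ne_zero_of_sum_ne_zero hψne
    rw [classInner_smul_left] at hβ
    have hβ0 : e β ≠ 0 := fun h => (left_ne_zero_of_mul hβ) (by simp [h])
    refine ⟨(β : G → ℂ), ⟨β.2, by rw [he]; exact Nat.cast_ne_zero.mpr hβ0⟩, ?_⟩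
    by_contra hne
    exact (right_ne_zero_of_mul hβ)
      (IsIrrCharacter.classInner_eq_zero (hirr β hβ0) hψi hne)

/-- Constituents of the induced trivial character are trivial on the normal subgroup. -/
theorem apply_mul_eq_of_over_one {β : G → ℂ} (hβ : IsIrrCharacter G β)
    (h : classInner (indFun N (1 : N → ℂ)) β ≠ 0) (n : N) (g : G) : β ((n : G) * g) = β g := by
  have hres : classInner (fun x : N => β x) (1 : N → ℂ) ≠ 0 := by
    rw [classInner_indFun N _ (IsCharacter.isClassFunction (IsIrrCharacter.isCharacter hβ))] at h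
    intro h0
    apply h
    rw [← classInner_conj_symm, h0, map_zero]
  have hr := restrict_eq_smul_of_inertia_top N hβ isIrrCharacter_one hres (fun g => rfl)
  have h1 : β (n : G) = β 1 := by
    have e1 := congrFun hr n
    have e2 := congrFun hr 1
    simp only [Pi.smul_apply, Pi.one_apply, OneMemClass.coe_one] at e1 e2
    rw [e1, e2]
  exact (IsCharacter.apply_mul_of_eq_one (IsIrrCharacter.isCharacter hβ) h1 g).1

theorem mem_over_one_of_trivial {β : G → ℂ} (hβ : IsIrrCharacter G β)
    (h : ∀ n : N, β n = β 1) : classInner (indFun N (1 : N → ℂ)) β ≠ 0 := by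
  rw [classInner_indFun N _ (IsCharacter.isClassFunction (IsIrrCharacter.isCharacter hβ))]
  simp only [classInner, h, Pi.one_apply, one_mul, Finset.sum_const, Finset.card_univ, nsmul_eq_mul,
    ← Nat.card_eq_fintype_card (α := N)]
  rw [← mul_assoc, inv_mul_cancel₀ (Nat.cast_ne_zero.mpr Nat.card_pos.ne'), one_mul]
  exact (map_ne_zero _).mpr (IsIrrCharacter.apply_one_ne_zero hβ)

/-- The average over a coset of the product of a character with an extension. -/
noncomputable def cosetAverage (χ ψ : G → ℂ) : G → ℂ :=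
  fun g => (Nat.card N : ℂ)⁻¹ * ∑ n : N, ψ ((n : G) * g) * conj (χ ((n : G) * g))

theorem isClassFunction_cosetAverage {χ ψ : G → ℂ} (hχ : IsClassFunction G χ)
    (hψ : IsClassFunction G ψ) : IsClassFunction G (cosetAverage N χ ψ) := by
  intro g x
  simp only [cosetAverage]
  congr 1
  refine Fintype.sum_equiv (MulAut.conjNormal x⁻¹ : MulAut N).toEquiv _ _ fun n => ?_
  have e : (n : G) * (x * g * x⁻¹) = x * (((MulAut.conjNormal x⁻¹ : MulAut N) n : G) * g) * x⁻¹ := by
    rw [MulAut.conjNormal_apply]; group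
  simp only [e, hψ _ x, hχ _ x]
  rfl

theorem classInner_cosetAverage_trivial {χ ψ β : G → ℂ}
    (hβ : ∀ (n : N) (g : G), β ((n : G) * g) = β g) :
    classInner (cosetAverage N χ ψ) β = classInner ψ (β * χ) := by
  simp only [classInner, cosetAverage, Pi.mul_apply, Finset.mul_sum, Finset.sum_mul]
  rw [Finset.sum_comm]
  have hN0 : (Nat.card N : ℂ) ≠ 0 := Nat.cast_ne_zero.mpr Nat.card_pos.ne'
  have key : ∀ n : N, ∑ g : G, (Nat.card G : ℂ)⁻¹ * ((Nat.card N : ℂ)⁻¹ *
      (ψ ((n : G) * g) * conj (χ ((n : G) * g))) * conj (β g)) =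
      ∑ g : G, (Nat.card G : ℂ)⁻¹ * ((Nat.card N : ℂ)⁻¹ * (ψ g * conj (χ g)) * conj (β g)) :=
    fun n => by
      refine Fintype.sum_equiv (Equiv.mulLeft (n : G)) _ _ fun g => ?_
      simp only [Equiv.coe_mulLeft, hβ n g]
  rw [Finset.sum_congr rfl fun n _ => key n, Finset.sum_const, Finset.card_univ, nsmul_eq_mul,
    Finset.mul_sum, ← Nat.card_eq_fintype_card (α := N)]
  refine Finset.sum_congr rfl fun g _ => ?_
  rw [map_mul]
  field_simp

theorem classInner_cosetAverage_nontrivial {χ ψ β : G → ℂ} (hβ : IsIrrCharacter G β)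
    (hne : ∃ n : N, β n ≠ β 1) : classInner (cosetAverage N χ ψ) β = 0 := by
  obtain ⟨d, ρ, hρ, rfl⟩ := hβ
  haveI := hρ
  obtain ⟨n₀, hn₀⟩ := hne
  have hz := sum_rep_eq_zero ρ N ⟨n₀, n₀.2, fun h => hn₀ (by
    show LinearMap.trace ℂ _ (ρ n₀) = LinearMap.trace ℂ _ (ρ 1)
    rw [h, map_one]; rfl)⟩
  have hinv : ∀ (m : N) (g : G), cosetAverage N χ ψ ((m : G) * g) = cosetAverage N χ ψ g := fun m g => by
    simp only [cosetAverage]
    congr 1
    exact Fintype.sum_equiv (Equiv.mulRight m) _ _ fun n => by simp [mul_assoc]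
  simp only [classInner]
  have key : ∀ m : N, ∑ g : G, cosetAverage N χ ψ g * conj (ρ.character g) =
      ∑ g : G, cosetAverage N χ ψ g * conj (ρ.character ((m : G) * g)) := fun m => by
    refine (Fintype.sum_equiv (Equiv.mulLeft (m : G)) _ _ fun g => ?_).symm
    simp only [Equiv.coe_mulLeft, hinv]
  have hN0 : (Fintype.card N : ℂ) ≠ 0 := Nat.cast_ne_zero.mpr Fintype.card_ne_zero
  have h1 : (Fintype.card N : ℂ) * ∑ g : G, cosetAverage N χ ψ g * conj (ρ.character g) = 0 := by
    rw [← nsmul_eq_mul, ← Finset.card_univ, ← Finset.sum_const,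
      Finset.sum_congr rfl fun m _ => key m, Finset.sum_comm]
    refine Finset.sum_eq_zero fun g _ => ?_
    rw [← Finset.mul_sum, ← map_sum]
    have h0 : ∑ m : N, ρ.character ((m : G) * g) = 0 := by
      have := congrArg (fun A : (Fin d → ℂ) →ₗ[ℂ] (Fin d → ℂ) => LinearMap.trace ℂ _ (A * ρ g)) hz
      simp only [Finset.sum_mul, zero_mul, map_zero, map_sum, ← map_mul] at this
      exact this
    rw [h0, map_zero, mul_zero]
  rw [(mul_eq_zero.mp h1).resolve_left hN0, mul_zero]

/-- The coset average against an extension. -/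
theorem cosetAverage_spec {χ : G → ℂ} (hχ : IsIrrCharacter G χ)
    (hχN : IsIrrCharacter N (fun n : N => χ n)) {ψ : G → ℂ} (hψ : IsIrrCharacter G ψ) :
    (classInner (fun n : N => ψ n) (fun n : N => χ n) ≠ 0 →
        IsIrrCharacter G (cosetAverage N χ ψ)) ∧
      (classInner (fun n : N => ψ n) (fun n : N => χ n) = 0 → cosetAverage N χ ψ = 0) ∧
      (ψ = χ → cosetAverage N χ ψ = fun _ => 1) := by
  classical
  have hχcf := IsCharacter.isClassFunction (IsIrrCharacter.isCharacter hχ)
  have hψcf := IsCharacter.isClassFunction (IsIrrCharacter.isCharacter hψ)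
  have hinv : ∀ g, conjChar N g (fun n : N => χ n) = fun n : N => χ n := fun g => by
    funext n
    exact hχcf (n : G) g
  have hone : ((1 : N → ℂ) * fun n : N => χ n) = fun n : N => χ n := one_mul _
  have hbij := gallagher N isIrrCharacter_one (fun g => rfl) hinv (hone.symm ▸ hχN) hχ (fun n => rfl)
  rw [hone] at hbij
  have hcf := isClassFunction_cosetAverage N hχcf hψcf
  have hmain : ∀ β₀ : G → ℂ, IsIrrCharacter G β₀ →
      classInner (indFun N (1 : N → ℂ)) β₀ ≠ 0 → β₀ * χ = ψ → cosetAverage N χ ψ = β₀ := by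
    intro β₀ hβ₀ hβ₀ne he
    rw [← sub_eq_zero]
    refine eq_zero_of_classInner_eq_zero (fun g x => by
      simp only [Pi.sub_apply, hcf g x,
        IsCharacter.isClassFunction (IsIrrCharacter.isCharacter hβ₀) g x]) fun β hβ => ?_
    rw [classInner_sub_left]
    by_cases ht : ∀ n : N, β n = β 1
    · have hbne := mem_over_one_of_trivial N hβ ht
      rw [classInner_cosetAverage_trivial N (apply_mul_eq_of_over_one N hβ hbne)]
      by_cases hb : β = β₀
      · subst hb
        rw [he, IsIrrCharacter.classInner_self hψ, IsIrrCharacter.classInner_self hβ, sub_self]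
      · rw [IsIrrCharacter.classInner_eq_zero hβ₀ hβ (Ne.symm hb),
          IsIrrCharacter.classInner_eq_zero hψ (hbij.mapsTo ⟨hβ, hbne⟩).1
            (fun h => hb (hbij.injOn ⟨hβ, hbne⟩ ⟨hβ₀, hβ₀ne⟩ (h.symm.trans he.symm))), sub_zero]
    · push Not at ht
      have hb : β₀ ≠ β := fun h => by
        obtain ⟨n, hn⟩ := ht
        subst h
        have := apply_mul_eq_of_over_one N hβ₀ hβ₀ne n 1
        rw [mul_one] at this
        exact hn this
      rw [classInner_cosetAverage_nontrivial N hβ ht, IsIrrCharacter.classInner_eq_zero hβ₀ hβ hb,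
        sub_zero]
  refine ⟨fun h => ?_, fun h => ?_, fun h => ?_⟩
  · have h1 : classInner (indFun N (fun n : N => χ n)) ψ ≠ 0 := by
      rw [classInner_indFun N _ hψcf, ← classInner_conj_symm]
      exact (map_ne_zero _).mpr h
    obtain ⟨β₀, ⟨hβ₀, hβ₀ne⟩, he⟩ := hbij.surjOn ⟨hψ, h1⟩
    rw [hmain β₀ hβ₀ hβ₀ne he]
    exact hβ₀
  · refine eq_zero_of_classInner_eq_zero hcf fun β hβ => ?_
    by_cases ht : ∀ n : N, β n = β 1
    · have hbne := mem_over_one_of_trivial N hβ ht
      rw [classInner_cosetAverage_trivial N (apply_mul_eq_of_over_one N hβ hbne)]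
      obtain ⟨hi, hin⟩ := hbij.mapsTo ⟨hβ, hbne⟩
      refine IsIrrCharacter.classInner_eq_zero hψ hi fun e => ?_
      dsimp only at hin e
      rw [← e, classInner_indFun N _ hψcf, ← classInner_conj_symm, h, map_zero] at hin
      exact hin rfl
    · push Not at ht
      exact classInner_cosetAverage_nontrivial N hβ ht
  · exact hmain 1 isIrrCharacter_one (mem_over_one_of_trivial N isIrrCharacter_one fun n => rfl)
      (by rw [h, one_mul])

/-- The value of a generalized sum at the fully ramified situation. -/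
theorem fully_ramified_iff {χ : G → ℂ} (hχ : IsIrrCharacter G χ) {θ : N → ℂ}
    (hθ : IsIrrCharacter N θ) (hcon : classInner (fun n : N => χ n) θ ≠ 0) :
    ((∃ e : ℕ, (fun n : N => χ n) = (e : ℂ) • θ ∧ e ^ 2 = N.index) ↔
        ((∀ g : G, g ∉ N → χ g = 0) ∧ ∀ g, conjChar N g θ = θ)) ∧
      ((∃ e : ℕ, (fun n : N => χ n) = (e : ℂ) • θ ∧ e ^ 2 = N.index) ↔
        ((∀ g, conjChar N g θ = θ) ∧
          ∀ ψ : G → ℂ, IsIrrCharacter G ψ → classInner (indFun N θ) ψ ≠ 0 → ψ = χ)) := by
  classical
  haveI := Fintype.ofFinite (IrrCharacter G)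
  have hχc := IsIrrCharacter.isCharacter hχ
  have hk : (Nat.card G : ℂ) ≠ 0 := Nat.cast_ne_zero.mpr Nat.card_pos.ne'
  have hN0 : (Nat.card N : ℂ) ≠ 0 := Nat.cast_ne_zero.mpr Nat.card_pos.ne'
  obtain ⟨e₀, he₀⟩ := classInner_natCast_of_isCharacter (IsCharacter.restrict hχc N)
    (IsIrrCharacter.isCharacter hθ)
  have hsplit : ∑ g : G, Complex.normSq (χ g) = ∑ n : N, Complex.normSq (χ n) +
      ∑ g ∈ Finset.univ.filter (fun g : G => g ∉ N), Complex.normSq (χ g) := by
    rw [← Finset.sum_filter_add_sum_filter_not Finset.univ (fun g : G => g ∈ N)]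
    congr 1
    exact Finset.sum_subtype _ (fun x => by simp) _
  have htot : ∑ g : G, Complex.normSq (χ g) = (Nat.card G : ℝ) := by
    have h := IsIrrCharacter.classInner_self hχ
    simp only [classInner, Complex.mul_conj] at h
    rw [inv_mul_eq_div, div_eq_one_iff_eq hk, ← Complex.ofReal_sum] at h
    exact_mod_cast h
  have hA : ∀ e : ℕ, (fun n : N => χ n) = (e : ℂ) • θ →
      ∑ n : N, Complex.normSq (χ n) = (e : ℝ) ^ 2 * Nat.card N := by
    intro e he
    have h := IsIrrCharacter.classInner_self hθ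
    simp only [classInner, Complex.mul_conj] at h
    rw [inv_mul_eq_div, div_eq_one_iff_eq hN0, ← Complex.ofReal_sum] at h
    have h' : ∑ n : N, Complex.normSq (θ n) = (Nat.card N : ℝ) := by exact_mod_cast h
    rw [← h', Finset.mul_sum]
    refine Finset.sum_congr rfl fun n _ => ?_
    rw [show χ n = (e : ℂ) * θ n from congrFun he n, map_mul, Complex.normSq_natCast, sq]
  have hinv : ∀ e : ℕ, (fun n : N => χ n) = (e : ℂ) • θ → ∀ g, conjChar N g θ = θ := by
    intro e he g
    have he0 : (e : ℂ) ≠ 0 := fun h => hcon (by rw [he, h, zero_smul, classInner_zero_left])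
    funext n
    have h1 := congrFun he ⟨g * n * g⁻¹, hN.conj_mem n n.2 g⟩
    have h2 := congrFun he n
    simp only [Pi.smul_apply, smul_eq_mul] at h1 h2
    rw [IsCharacter.isClassFunction hχc (n : G) g, h2] at h1
    exact mul_left_cancel₀ he0 h1.symm
  have hres : (∀ g, conjChar N g θ = θ) → (fun n : N => χ n) = (e₀ : ℂ) • θ := fun h => by
    rw [← he₀]; exact restrict_eq_smul_of_inertia_top N hχ hθ hcon h
  have hidx : (Nat.card G : ℝ) = (N.index : ℝ) * Nat.card N := by
    rw [← N.index_mul_card, Nat.cast_mul]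
  have hNR : (0 : ℝ) < Nat.card N := Nat.cast_pos.mpr Nat.card_pos
  constructor
  · constructor
    · rintro ⟨e, he, he2⟩
      refine ⟨fun g hg => ?_, hinv e he⟩
      have h := hsplit
      rw [htot, hA e he, show ((e : ℝ)) ^ 2 = (N.index : ℝ) by exact_mod_cast he2, ← hidx] at h
      have h0 : ∑ g ∈ Finset.univ.filter (fun g : G => g ∉ N), Complex.normSq (χ g) = 0 := by
        linarith
      exact Complex.normSq_eq_zero.mp ((Finset.sum_eq_zero_iff_of_nonneg
        fun x _ => Complex.normSq_nonneg _).mp h0 g (by simpa using hg))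
    · rintro ⟨hz, hi⟩
      refine ⟨e₀, hres hi, ?_⟩
      have h := hsplit
      rw [htot, hA e₀ (hres hi), Finset.sum_eq_zero fun g hg => by
        rw [hz g (Finset.mem_filter.mp hg).2, map_zero], add_zero, hidx] at h
      exact_mod_cast (mul_right_cancel₀ hNR.ne' h).symm
  · have hnat : ∀ ψ : IrrCharacter G, ∃ k : ℕ, classInner (indFun N θ) (ψ : G → ℂ) = k := fun ψ =>
      classInner_natCast_of_isCharacter (isCharacter_indFun N (IsIrrCharacter.isCharacter hθ))
        (IsIrrCharacter.isCharacter ψ.2)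
    choose k hk' using hnat
    have hkχ : k ⟨χ, hχ⟩ = e₀ := by
      have h1 := hk' ⟨χ, hχ⟩
      rw [classInner_indFun N θ (IsCharacter.isClassFunction hχc), ← classInner_conj_symm, he₀,
        Complex.conj_natCast] at h1
      exact_mod_cast h1.symm
    have hsq : (∀ g, conjChar N g θ = θ) → ∑ ψ, k ψ * k ψ = N.index := fun hi => by
      have h1 := classInner_indFun_self_of_invariant N hθ hi
      rw [classInner_eq_sum_mul (isClassFunction_indFun N θ) (isClassFunction_indFun N θ)] at h1
      simp only [hk', Complex.conj_natCast] at h1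
      exact_mod_cast h1
    constructor
    · rintro ⟨e, he, he2⟩
      refine ⟨hinv e he, fun ψ hψ hne => ?_⟩
      have hee : e = e₀ := by
        have h1 := he₀
        rw [he, classInner_smul_left, IsIrrCharacter.classInner_self hθ, mul_one] at h1
        exact_mod_cast h1
      by_contra hψχ
      have h1 := hsq (hinv e he)
      rw [← he2, hee, ← Finset.add_sum_erase _ _ (Finset.mem_univ (⟨χ, hχ⟩ : IrrCharacter G)), hkχ,
        sq, add_eq_left, Finset.sum_eq_zero_iff] at h1
      have h2 := h1 ⟨ψ, hψ⟩ (Finset.mem_erase.mpr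
        ⟨fun h => hψχ (congrArg Subtype.val h), Finset.mem_univ _⟩)
      exact hne (by
        rw [show ψ = ((⟨ψ, hψ⟩ : IrrCharacter G) : G → ℂ) from rfl, hk', mul_self_eq_zero.mp h2,
          Nat.cast_zero])
    · rintro ⟨hi, huniq⟩
      refine ⟨e₀, hres hi, ?_⟩
      rw [← hsq hi, Finset.sum_eq_single (⟨χ, hχ⟩ : IrrCharacter G), hkχ, sq]
      · intro ψ _ hne
        have : k ψ = 0 := by
          by_contra h0
          exact hne (Subtype.ext (huniq ψ ψ.2 (by rw [hk']; exact Nat.cast_ne_zero.mpr h0)))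
        rw [this, mul_zero]
      · simp

end Cfsg.Agent.Char
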