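import Cfsg.Agent.Lib.Char.Integral
import Cfsg.Prelude.Def_Blocks

/-!
# Central characters
-/

set_option autoImplicit false
set_option linter.style.haveILetI false

namespace Cfsg.Agent.Char

open Cfsg Representation Module
open scoped ComplexConjugate

universe u

variable {G : Type u} [Group G]

/-- A class function combination of an irreducible representation is a scalar. -/
theorem sum_smul_rep_eq_smul_id [Fintype G] {V : Type*} [AddCommGroup V] [Module ℂ V]
    [FiniteDimensional ℂ V] (ρ : Representation ℂ G V) [ρ.IsIrreducible] {f : G → ℂ}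
    (hf : IsClassFunction G f) :
    (∑ g, f g • ρ g) =
      ((∑ g, f g * ρ.character g) / (finrank ℂ V : ℂ)) • (LinearMap.id : V →ₗ[ℂ] V) := by
  haveI := nontrivial_of_irreducible ρ
  let T : IntertwiningMap ρ ρ := ⟨∑ g, f g • ρ g, by
    intro x
    apply LinearMap.ext
    intro v
    simp only [LinearMap.coe_comp, Function.comp_apply, LinearMap.coe_sum, Finset.sum_apply,
      LinearMap.smul_apply, map_sum, map_smul]
    refine Fintype.sum_equiv (MulAut.conj x⁻¹).toEquiv _ _ fun g => ?_
    have := hf g x⁻¹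
    rw [inv_inv] at this
    simp [← Module.End.mul_apply, ← map_mul, mul_assoc]
    rw [← mul_assoc, this]⟩
  obtain ⟨c, hc⟩ :=
    (IsIrreducible.algebraMap_intertwiningMap_bijective_of_isAlgClosed (ρ := ρ)).2 T
  have hT : (∑ g, f g • ρ g) = c • (LinearMap.id : V →ₗ[ℂ] V) := by
    have := congrArg IntertwiningMap.toLinearMap hc
    simp only [T] at this
    rw [← this, Algebra.algebraMap_eq_smul_one]
    rfl
  have h2 := congrArg (LinearMap.trace ℂ V) hT
  simp only [map_sum, map_smul, smul_eq_mul, LinearMap.trace_id] at h2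
  rw [hT]
  congr 1
  rw [eq_div_iff (Nat.cast_ne_zero.mpr Module.finrank_pos.ne')]
  exact h2.symm

/-- Multiplicativity of the central character on class functions. -/
theorem sum_mul_sum_eq_degree_mul_sum [Fintype G] {χ : G → ℂ} (hχ : IsIrrCharacter G χ)
    {f f' : G → ℂ} (hf : IsClassFunction G f) (hf' : IsClassFunction G f') :
    (∑ x, f x * χ x) * (∑ y, f' y * χ y) = χ 1 * ∑ x, ∑ y, f x * f' y * χ (x * y) := by
  obtain ⟨n, ρ, hρ, rfl⟩ := hχ
  haveI := hρ
  haveI := nontrivial_of_irreducible ρ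
  have h := congrArg₂ (fun A B : (Fin n → ℂ) →ₗ[ℂ] (Fin n → ℂ) => LinearMap.trace ℂ _ (A * B))
    (sum_smul_rep_eq_smul_id ρ hf) (sum_smul_rep_eq_smul_id ρ hf')
  simp only [Finset.sum_mul, Finset.mul_sum, smul_mul_smul_comm, ← map_mul, map_sum, map_smul,
    smul_eq_mul] at h
  have hn : (finrank ℂ (Fin n → ℂ) : ℂ) ≠ 0 := Nat.cast_ne_zero.mpr Module.finrank_pos.ne'
  have h' : ∑ x, ∑ y, f x * f' y * ρ.character (x * y) =
      (∑ x, f x * ρ.character x) / (finrank ℂ (Fin n → ℂ) : ℂ) *
        ((∑ y, f' y * ρ.character y) / (finrank ℂ (Fin n → ℂ) : ℂ)) *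
        (finrank ℂ (Fin n → ℂ) : ℂ) := by
    rw [show (LinearMap.id : (Fin n → ℂ) →ₗ[ℂ] (Fin n → ℂ)) * LinearMap.id = LinearMap.id from rfl] at h
    rw [LinearMap.trace_id] at h
    rw [Finset.sum_comm]
    exact h
  rw [h', ρ.char_one]
  field_simp

theorem centralChar_mul [Fintype G] [DecidableRel (IsConj : G → G → Prop)] {χ : G → ℂ}
    (hχ : IsIrrCharacter G χ) (a b : G) :
    centralChar χ a * centralChar χ b =
      (∑ x ∈ Finset.univ.filter (IsConj a), ∑ y ∈ Finset.univ.filter (IsConj b), χ (x * y)) /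
        χ 1 := by
  have hcf : ∀ c : G, IsClassFunction G (fun x => if IsConj c x then (1 : ℂ) else 0) := fun c x y => by
    have e : IsConj c (y * x * y⁻¹) ↔ IsConj c x :=
      ⟨fun e => e.trans (isConj_iff.mpr ⟨y, rfl⟩).symm, fun e => e.trans (isConj_iff.mpr ⟨y, rfl⟩)⟩
    simp only [e]
  have hsum : ∀ c : G, ∑ x, (if IsConj c x then (1 : ℂ) else 0) * χ x =
      ((Subgroup.centralizer ({c} : Set G)).index : ℂ) * χ c := by
    intro c
    simp only [ite_mul, one_mul, zero_mul, ← Finset.sum_filter]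
    rw [Finset.sum_congr rfl fun x hx => by
      rw [← IsIrrCharacter.apply_isConj hχ (Finset.mem_filter.mp hx).2], Finset.sum_const,
      nsmul_eq_mul, ← Fintype.card_subtype, ← Nat.card_eq_fintype_card, card_isConj_eq_index]
  have h := sum_mul_sum_eq_degree_mul_sum hχ (hcf a) (hcf b)
  rw [hsum, hsum] at h
  have hr : ∑ x, ∑ y, (if IsConj a x then (1 : ℂ) else 0) * (if IsConj b y then 1 else 0) * χ (x * y) =
      ∑ x ∈ Finset.univ.filter (IsConj a), ∑ y ∈ Finset.univ.filter (IsConj b), χ (x * y) := by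
    rw [Finset.sum_filter]
    refine Finset.sum_congr rfl fun x _ => ?_
    split_ifs with hx
    · rw [Finset.sum_filter]
      exact Finset.sum_congr rfl fun y _ => by split_ifs <;> simp
    · simp
  rw [hr] at h
  have h1 : χ 1 ≠ 0 := IsIrrCharacter.apply_one_ne_zero hχ
  simp only [centralChar]
  rw [div_mul_div_comm, h, mul_div_mul_left _ _ h1]

end Cfsg.Agent.Char
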