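import Cfsg.Agent.Lib.Char.Basic
import Mathlib.GroupTheory.GroupAction.ConjAct
import Mathlib.LinearAlgebra.Dimension.Constructions
import Mathlib.GroupTheory.Rank
import Mathlib.Algebra.Group.ConjFinite
import Mathlib.GroupTheory.GroupAction.Quotient

/-!
# Second orthogonality and the number of irreducible characters
-/

set_option autoImplicit false
set_option linter.style.haveILetI false

namespace Cfsg.Agent.Char

open Cfsg Representation Module
open scoped ComplexConjugate

universe u

variable {G : Type u} [Group G]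

theorem IsClassFunction.apply_isConj {f : G → ℂ} (hf : IsClassFunction G f) {g h : G}
    (hc : IsConj g h) : f g = f h := by
  obtain ⟨c, rfl⟩ := isConj_iff.mp hc
  exact (hf g c).symm

theorem IsIrrCharacter.apply_isConj {χ : G → ℂ} (hχ : IsIrrCharacter G χ) {g h : G}
    (hc : IsConj g h) : χ g = χ h :=
  IsClassFunction.apply_isConj (IsCharacter.isClassFunction (IsIrrCharacter.isCharacter hχ)) hc

theorem card_isConj_mul_card_centralizer [Finite G] (g : G) :
    Nat.card {x : G // IsConj g x} * Nat.card (Subgroup.centralizer ({g} : Set G)) = Nat.card G := by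
  haveI : Finite (ConjAct G) := Finite.of_equiv G ConjAct.toConjAct.toEquiv
  have h1 := Nat.card_congr (MulAction.orbitEquivQuotientStabilizer (ConjAct G) g)
  have h2 : Nat.card {x : G // IsConj g x} = Nat.card (MulAction.orbit (ConjAct G) g) :=
    Nat.card_congr (Equiv.subtypeEquivRight fun x => by
      rw [ConjAct.orbit_eq_carrier_conjClasses, ConjClasses.mem_carrier_iff_mk_eq,
        ConjClasses.mk_eq_mk_iff_isConj, isConj_comm])
  rw [h2, h1, Subgroup.nat_card_centralizer_nat_card_stabilizer,
    ← Subgroup.card_eq_card_quotient_mul_card_subgroup]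
  exact Nat.card_congr ConjAct.ofConjAct.toEquiv

theorem card_isConj_eq_index [Finite G] (g : G) :
    Nat.card {x : G // IsConj g x} = (Subgroup.centralizer ({g} : Set G)).index := by
  have h := card_isConj_mul_card_centralizer g
  rw [← (Subgroup.centralizer ({g} : Set G)).index_mul_card] at h
  exact Nat.eq_of_mul_eq_mul_right Nat.card_pos h

theorem classInner_indicator_class [Fintype G] [DecidableRel (IsConj : G → G → Prop)] (h : G)
    {χ : G → ℂ} (hχ : IsCharacter G χ) :
    classInner (fun x => if IsConj h x then (1 : ℂ) else 0) χ =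
      (Nat.card G : ℂ)⁻¹ * (Nat.card {x : G // IsConj h x} : ℂ) * conj (χ h) := by
  simp only [classInner, ite_mul, one_mul, zero_mul]
  rw [← Finset.sum_filter, mul_assoc]
  congr 1
  rw [Finset.sum_congr rfl fun x hx => by
    rw [← IsClassFunction.apply_isConj (IsCharacter.isClassFunction hχ) (Finset.mem_filter.mp hx).2]]
  rw [Finset.sum_const, nsmul_eq_mul, Nat.card_eq_fintype_card, Fintype.card_subtype]

/-- Second orthogonality relation. -/
theorem second_orthogonality [Finite G] (g h : G) [Decidable (IsConj g h)]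
    [Fintype (IrrCharacter G)] :
    ∑ χ : IrrCharacter G, (χ : G → ℂ) g * conj ((χ : G → ℂ) h) =
      if IsConj g h then (Nat.card (Subgroup.centralizer ({g} : Set G)) : ℂ) else 0 := by
  classical
  haveI := Fintype.ofFinite G
  let f : G → ℂ := fun x => if IsConj h x then 1 else 0
  have hf : IsClassFunction G f := fun x y => by
    have : IsConj h (y * x * y⁻¹) ↔ IsConj h x :=
      ⟨fun e => e.trans (isConj_iff.mpr ⟨y, rfl⟩).symm, fun e => e.trans (isConj_iff.mpr ⟨y, rfl⟩)⟩
    simp only [f, this]
  have hexp := congrFun (IsClassFunction.eq_sum hf) g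
  simp only [Finset.sum_apply, Pi.smul_apply, smul_eq_mul] at hexp
  have hk : (Nat.card G : ℂ) ≠ 0 := Nat.cast_ne_zero.mpr Nat.card_pos.ne'
  have key : ∑ χ : IrrCharacter G, (χ : G → ℂ) g * conj ((χ : G → ℂ) h) *
      (Nat.card {x : G // IsConj h x} : ℂ) = f g * Nat.card G := by
    rw [hexp, Finset.sum_mul]
    refine Finset.sum_congr rfl fun χ _ => ?_
    rw [classInner_indicator_class h (IsIrrCharacter.isCharacter χ.2)]
    field_simp
  rw [← Finset.sum_mul] at key
  have hcl : (Nat.card {x : G // IsConj h x} : ℂ) ≠ 0 :=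
    haveI : Nonempty {x : G // IsConj h x} := ⟨⟨h, IsConj.refl h⟩⟩
    Nat.cast_ne_zero.mpr Nat.card_pos.ne'
  apply mul_right_cancel₀ hcl
  rw [key]
  by_cases hgh : IsConj g h
  · have e : Nat.card {x : G // IsConj h x} = Nat.card {x : G // IsConj g x} :=
      Nat.card_congr (Equiv.subtypeEquivRight fun x => ⟨fun e => hgh.trans e, fun e => hgh.symm.trans e⟩)
    simp only [f, if_pos hgh, if_pos hgh.symm, one_mul, e]
    exact_mod_cast (card_isConj_mul_card_centralizer g).symm.trans (Nat.mul_comm _ _)
  · simp only [f, if_neg hgh, if_neg fun e : IsConj h g => hgh e.symm, zero_mul]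

/-- Evaluation of a family of coefficients as a function on conjugacy classes. -/
noncomputable def irrCombination (G : Type u) [Group G] [Fintype (IrrCharacter G)] :
    (IrrCharacter G → ℂ) →ₗ[ℂ] (ConjClasses G → ℂ) where
  toFun c C := ∑ χ : IrrCharacter G, c χ * (χ : G → ℂ) (Quotient.out C)
  map_add' c d := by funext C; simp [add_mul, Finset.sum_add_distrib]
  map_smul' r c := by funext C; simp [Finset.mul_sum, mul_assoc]

theorem irrCombination_mk [Fintype (IrrCharacter G)] (c : IrrCharacter G → ℂ) (g : G) :
    irrCombination G c (ConjClasses.mk g) = (∑ χ : IrrCharacter G, c χ • (χ : G → ℂ)) g := by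
  simp only [irrCombination, LinearMap.coe_mk, AddHom.coe_mk, Finset.sum_apply, Pi.smul_apply,
    smul_eq_mul]
  refine Finset.sum_congr rfl fun χ _ => ?_
  rw [IsIrrCharacter.apply_isConj χ.2 (Quotient.exact (Quotient.out_eq (ConjClasses.mk g)))]

theorem card_irrCharacter [Finite G] : Nat.card (IrrCharacter G) = Nat.card (ConjClasses G) := by
  classical
  haveI := Fintype.ofFinite G
  haveI := Fintype.ofFinite (IrrCharacter G)
  haveI := Fintype.ofFinite (ConjClasses G)
  have hbij : Function.Bijective (irrCombination G) := by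
    constructor
    · intro c d hcd
      have h0 : ∑ χ : IrrCharacter G, (c χ - d χ) • (χ : G → ℂ) = 0 := by
        funext g
        have := congrFun hcd (ConjClasses.mk g)
        rw [irrCombination_mk, irrCombination_mk] at this
        simp [sub_smul, Finset.sum_sub_distrib] at this ⊢
        rw [this, sub_self]
      funext χ
      exact sub_eq_zero.mp (Fintype.linearIndependent_iff.mp linearIndependent_irr _ h0 χ)
    · intro F
      have hf : IsClassFunction G (fun g => F (ConjClasses.mk g)) := fun g h => by
        simp only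
        rw [ConjClasses.mk_eq_mk_iff_isConj.mpr (isConj_iff.mpr ⟨h, rfl⟩ : IsConj g (h * g * h⁻¹))]
      refine ⟨fun χ => classInner (fun g => F (ConjClasses.mk g)) (χ : G → ℂ), ?_⟩
      funext C
      obtain ⟨g, rfl⟩ := ConjClasses.exists_rep C
      rw [irrCombination_mk, ← IsClassFunction.eq_sum hf]
  have := (LinearEquiv.ofBijective _ hbij).finrank_eq
  rw [finrank_fintype_fun_eq_card, finrank_fintype_fun_eq_card] at this
  simpa [Nat.card_eq_fintype_card] using this

theorem isConj_iff_irr [Finite G] (g h : G) :
    IsConj g h ↔ ∀ χ : IrrCharacter G, (χ : G → ℂ) g = (χ : G → ℂ) h := by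
  classical
  haveI := Fintype.ofFinite (IrrCharacter G)
  refine ⟨fun hc χ => IsIrrCharacter.apply_isConj χ.2 hc, fun hall => ?_⟩
  by_contra hn
  have h1 := second_orthogonality g h
  have h2 := second_orthogonality g g
  rw [if_neg hn] at h1
  rw [if_pos (IsConj.refl g)] at h2
  simp only [← hall] at h1
  rw [h1] at h2
  exact Nat.card_pos.ne' (by exact_mod_cast h2.symm)

theorem conj_irr_one (χ : IrrCharacter G) : conj ((χ : G → ℂ) 1) = (χ : G → ℂ) 1 := by
  obtain ⟨n, -, hn⟩ := IsIrrCharacter.degree_pos χ.2
  simp [hn]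

theorem sum_sq_degree [Finite G] [Fintype (IrrCharacter G)] :
    ∑ χ : IrrCharacter G, (χ : G → ℂ) 1 ^ 2 = (Nat.card G : ℂ) := by
  classical
  have h := second_orthogonality (1 : G) 1
  rw [if_pos (IsConj.refl _)] at h
  simp only [conj_irr_one] at h
  simp only [sq, h]
  have hc : Subgroup.centralizer ({1} : Set G) = ⊤ := by
    ext x; simp [Subgroup.mem_centralizer_singleton_iff]
  rw [hc, Subgroup.card_top]

theorem regular_eq [Finite G] [DecidableEq G] [Fintype (IrrCharacter G)] (g : G) :
    ∑ χ : IrrCharacter G, (χ : G → ℂ) 1 * (χ : G → ℂ) g =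
      if g = 1 then (Nat.card G : ℂ) else 0 := by
  classical
  by_cases hg : g = 1
  · subst hg
    simpa [sq] using sum_sq_degree (G := G)
  · rw [if_neg hg]
    have h := second_orthogonality g (1 : G)
    rw [if_neg (fun e => hg (isConj_one_left.mp e))] at h
    rw [← h]
    exact Finset.sum_congr rfl fun χ _ => by rw [conj_irr_one, mul_comm]

end Cfsg.Agent.Char
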