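import Cfsg.Agent.Lib.Char.Perm
import Mathlib.LinearAlgebra.Matrix.StdBasis
import Mathlib.LinearAlgebra.Matrix.ToLin
import Mathlib.LinearAlgebra.Matrix.Determinant.Basic

/-!
# The indicator of Frobenius and Schur
-/

set_option autoImplicit false
set_option linter.style.haveILetI false

namespace Cfsg.Agent.Char

open Cfsg Representation Module Matrix
open scoped ComplexConjugate

universe u

variable {G : Type u} [Group G] {n : ℕ}

/-- The matrix of a group element. -/
noncomputable def repMatrix (ρ : Representation ℂ G (Fin n → ℂ)) (g : G) :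
    Matrix (Fin n) (Fin n) ℂ :=
  LinearMap.toMatrix' (ρ g)

theorem repMatrix_mul (ρ : Representation ℂ G (Fin n → ℂ)) (a b : G) :
    repMatrix ρ (a * b) = repMatrix ρ a * repMatrix ρ b := by
  rw [repMatrix, map_mul, Module.End.mul_eq_comp, LinearMap.toMatrix'_comp]; rfl

theorem repMatrix_one (ρ : Representation ℂ G (Fin n → ℂ)) : repMatrix ρ 1 = 1 := by
  rw [repMatrix, map_one, Module.End.one_eq_id, LinearMap.toMatrix'_id]

theorem trace_repMatrix (ρ : Representation ℂ G (Fin n → ℂ)) (g : G) :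
    (repMatrix ρ g).trace = ρ.character g :=
  (LinearMap.trace_eq_matrix_trace ℂ (Pi.basisFun ℂ (Fin n)) (ρ g)).symm

/-- The action on bilinear forms. -/
noncomputable def formRep (ρ : Representation ℂ G (Fin n → ℂ)) :
    Representation ℂ G (Matrix (Fin n) (Fin n) ℂ) where
  toFun g :=
    { toFun := fun X => repMatrix ρ g * X * (repMatrix ρ g)ᵀ
      map_add' := fun X Y => by simp [Matrix.mul_add, Matrix.add_mul]
      map_smul' := fun c X => by simp }
  map_one' := LinearMap.ext fun X => by simp [repMatrix_one]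
  map_mul' a b := LinearMap.ext fun X => by
    simp [repMatrix_mul, Matrix.transpose_mul, Matrix.mul_assoc]

theorem formRep_apply (ρ : Representation ℂ G (Fin n → ℂ)) (g : G) (X : Matrix (Fin n) (Fin n) ℂ) :
    formRep ρ g X = repMatrix ρ g * X * (repMatrix ρ g)ᵀ := rfl

theorem trace_mul_mul_transpose (A B : Matrix (Fin n) (Fin n) ℂ) (p : Fin n × Fin n → Fin n × Fin n) :
    ∑ ij : Fin n × Fin n, (A * Matrix.single (p ij).1 (p ij).2 (1 : ℂ) * B : Matrix (Fin n) (Fin n) ℂ) ij.1 ij.2 =
      ∑ ij : Fin n × Fin n, A ij.1 (p ij).1 * B (p ij).2 ij.2 := by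
  refine Finset.sum_congr rfl fun ij _ => ?_
  rw [Matrix.mul_apply, Finset.sum_eq_single (p ij).2]
  · rw [Matrix.mul_apply, Finset.sum_eq_single (p ij).1]
    · simp
    · intro b _ hb; simp [Matrix.single, Ne.symm hb]
    · simp
  · intro b _ hb
    rw [Matrix.mul_apply, Finset.sum_eq_zero fun c _ => by simp [Matrix.single, Ne.symm hb], zero_mul]
  · simp

theorem stdBasis_apply' (ij : Fin n × Fin n) :
    Matrix.stdBasis ℂ (Fin n) (Fin n) ij = Matrix.single ij.1 ij.2 1 :=
  Matrix.stdBasis_eq_single _ _ _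

theorem transpose_apply' (Y : Matrix (Fin n) (Fin n) ℂ) :
    Matrix.transposeLinearEquiv (Fin n) (Fin n) ℂ ℂ Y = Yᵀ := rfl

theorem trace_formRep (ρ : Representation ℂ G (Fin n → ℂ)) (g : G) :
    (formRep ρ).character g = ρ.character g ^ 2 := by
  rw [Representation.character, LinearMap.trace_eq_matrix_trace ℂ (Matrix.stdBasis ℂ (Fin n) (Fin n)),
    Matrix.trace]
  simp only [Matrix.diag_apply, LinearMap.toMatrix_apply, stdBasis_apply', formRep_apply]
  have h := trace_mul_mul_transpose (repMatrix ρ g) (repMatrix ρ g)ᵀ id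
  have e : ∀ ij : Fin n × Fin n, ∀ Y : Matrix (Fin n) (Fin n) ℂ,
      (Matrix.stdBasis ℂ (Fin n) (Fin n)).repr Y ij = Y ij.1 ij.2 := fun ij Y => by
    simp [Matrix.stdBasis]
  simp only [e]
  refine h.trans ?_
  rw [← trace_repMatrix, sq, Matrix.trace, Finset.sum_mul_sum, Fintype.sum_prod_type]
  rfl

theorem trace_transpose_formRep (ρ : Representation ℂ G (Fin n → ℂ)) (g : G) :
    LinearMap.trace ℂ _ ((Matrix.transposeLinearEquiv (Fin n) (Fin n) ℂ ℂ).toLinearMap ∘ₗ
      formRep ρ g) = ρ.character (g * g) := by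
  rw [LinearMap.trace_eq_matrix_trace ℂ (Matrix.stdBasis ℂ (Fin n) (Fin n)), Matrix.trace]
  simp only [Matrix.diag_apply, LinearMap.toMatrix_apply, stdBasis_apply',
    LinearMap.coe_comp, Function.comp_apply, formRep_apply, LinearEquiv.coe_coe,
    transpose_apply']
  have e : ∀ ij : Fin n × Fin n, ∀ Y : Matrix (Fin n) (Fin n) ℂ,
      (Matrix.stdBasis ℂ (Fin n) (Fin n)).repr Y ij = Y ij.1 ij.2 := fun ij Y => by
    simp [Matrix.stdBasis]
  simp only [e, Matrix.transpose_mul, Matrix.transpose_transpose, Matrix.transpose_single,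
    ← Matrix.mul_assoc]
  refine (trace_mul_mul_transpose (repMatrix ρ g) (repMatrix ρ g)ᵀ Prod.swap).trans ?_
  rw [← trace_repMatrix, repMatrix_mul, Matrix.trace, Fintype.sum_prod_type]
  simp [Matrix.mul_apply]

/-- The indicator. -/
noncomputable def indicatorFS [Fintype G] (χ : G → ℂ) : ℂ :=
  (Nat.card G : ℂ)⁻¹ * ∑ s : G, χ (s * s)

theorem indicatorFS_core [Fintype G] (ρ : Representation ℂ G (Fin n → ℂ)) [hρ : ρ.IsIrreducible] :
    ((∀ s, (ρ.character s).im = 0) ∧ (indicatorFS ρ.character = 1 ∨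
        (indicatorFS ρ.character = -1 ∧ Even n))) ∨
      ((∃ s, (ρ.character s).im ≠ 0) ∧ indicatorFS ρ.character = 0) := by
  classical
  haveI : Invertible (Nat.card G : ℂ) :=
    invertibleOfNonzero (Nat.cast_ne_zero.mpr Nat.card_pos.ne')
  let S : Matrix (Fin n) (Fin n) ℂ →ₗ[ℂ] Matrix (Fin n) (Fin n) ℂ :=
    (Matrix.transposeLinearEquiv (Fin n) (Fin n) ℂ ℂ).toLinearMap
  let P : Matrix (Fin n) (Fin n) ℂ →ₗ[ℂ] Matrix (Fin n) (Fin n) ℂ :=
    (Nat.card G : ℂ)⁻¹ • ∑ g : G, formRep ρ g
  have hfix : ∀ (X : Matrix (Fin n) (Fin n) ℂ) (h : G), formRep ρ h (P X) = P X := by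
    intro X h
    simp only [P, LinearMap.smul_apply, map_smul, LinearMap.coe_sum, Finset.sum_apply, map_sum]
    congr 1
    exact Fintype.sum_equiv (Equiv.mulLeft h) _ _ fun x => by
      rw [← Module.End.mul_apply, ← map_mul]; rfl
  have htrP : LinearMap.trace ℂ _ P = classInner ρ.character (fun g => conj (ρ.character g)) := by
    simp only [P, map_smul, map_sum, classInner, smul_eq_mul, Complex.conj_conj]
    congr 1
    exact Finset.sum_congr rfl fun g _ => by rw [← sq]; exact trace_formRep ρ g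
  have hfs : LinearMap.trace ℂ _ (S ∘ₗ P) = indicatorFS ρ.character := by
    simp only [P, LinearMap.comp_smul, map_smul, smul_eq_mul, indicatorFS]
    congr 1
    rw [show S ∘ₗ (∑ g : G, formRep ρ g) = ∑ g : G, S ∘ₗ formRep ρ g from
      LinearMap.ext fun X => by simp, map_sum]
    exact Finset.sum_congr rfl fun g _ => trace_transpose_formRep ρ g
  have hdim : (finrank ℂ (Representation.invariants (formRep ρ)) : ℂ) =
      classInner ρ.character (fun g => conj (ρ.character g)) := by
    rw [← Representation.card_inv_mul_sum_char_eq_finrank (formRep ρ), classInner]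
    congr 1
    exact Finset.sum_congr rfl fun g _ => by rw [trace_formRep, Complex.conj_conj, sq]
  have hir := isIrrCharacter_character ρ
  by_cases hreal : ∀ s, (ρ.character s).im = 0
  · refine Or.inl ⟨hreal, ?_⟩
    have hc : (fun g => conj (ρ.character g)) = ρ.character :=
      funext fun g => Complex.conj_eq_iff_im.mpr (hreal g)
    rw [hc, IsIrrCharacter.classInner_self hir] at hdim htrP
    have hd1 : finrank ℂ (Representation.invariants (formRep ρ)) = 1 := by exact_mod_cast hdim
    obtain ⟨⟨X₀, hX₀⟩, hX₀ne, hspan⟩ := finrank_eq_one_iff'.mp hd1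
    have hX0 : X₀ ≠ 0 := fun h => hX₀ne (Subtype.ext h)
    have hmem : ∀ X, ∃ c : ℂ, c • X₀ = P X := fun X => by
      obtain ⟨c, hc⟩ := hspan ⟨P X, hfix X⟩
      exact ⟨c, congrArg Subtype.val hc⟩
    have hTinv : ∀ h, formRep ρ h X₀ᵀ = X₀ᵀ := fun h => by
      conv_rhs => rw [← hX₀ h]
      simp [formRep_apply, Matrix.transpose_mul, Matrix.mul_assoc]
    obtain ⟨ε, hε⟩ := hspan ⟨X₀ᵀ, hTinv⟩
    have hε' : ε • X₀ = X₀ᵀ := congrArg Subtype.val hε
    have hεsq : ε * ε = 1 := by
      have h1 : X₀ = (ε * ε) • X₀ := by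
        conv_lhs => rw [← Matrix.transpose_transpose X₀, ← hε', Matrix.transpose_smul, ← hε', smul_smul]
      exact (smul_left_injective ℂ hX0 (by simpa using h1)).symm
    have hSP : S ∘ₗ P = ε • P := LinearMap.ext fun X => by
      obtain ⟨c, hc⟩ := hmem X
      simp only [LinearMap.coe_comp, Function.comp_apply, LinearMap.smul_apply, ← hc, map_smul]
      rw [show S X₀ = X₀ᵀ from rfl, ← hε', smul_comm]
    rw [hSP, map_smul, htrP, smul_eq_mul, mul_one] at hfs
    rcases mul_self_eq_one_iff.mp hεsq with e | e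
    · exact Or.inl (hfs ▸ e)
    refine Or.inr ⟨hfs ▸ e, ?_⟩
    by_contra hodd
    have hdet : X₀.det = 0 := by
      have h1 : X₀ᵀ.det = (ε • X₀).det := by rw [hε']
      rw [Matrix.det_transpose, Matrix.det_smul, Fintype.card_fin, e,
        (Nat.not_even_iff_odd.mp hodd).neg_one_pow] at h1
      linear_combination h1 / 2
    let W : Subrepresentation ρ := ⟨LinearMap.range (Matrix.toLin' X₀), fun g v hv => by
      obtain ⟨w, rfl⟩ := hv
      refine ⟨Matrix.toLin' (repMatrix ρ g⁻¹)ᵀ w, ?_⟩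
      have key : repMatrix ρ g * X₀ = X₀ * (repMatrix ρ g⁻¹)ᵀ := by
        conv_lhs => rw [← hX₀ g⁻¹, formRep_apply]
        rw [← Matrix.mul_assoc, ← Matrix.mul_assoc, ← repMatrix_mul, mul_inv_cancel, repMatrix_one,
          Matrix.one_mul]
      rw [← LinearMap.comp_apply, ← Matrix.toLin'_mul, ← key, Matrix.toLin'_mul,
        LinearMap.comp_apply]
      simp [repMatrix]⟩
    have hW : W = ⊤ := by
      refine (hρ.eq_bot_or_eq_top W).resolve_left fun h => hX0 ?_
      have hr : LinearMap.range (Matrix.toLin' X₀) = ⊥ := congrArg Subrepresentation.toSubmodule h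
      rw [LinearMap.range_eq_bot] at hr
      exact Matrix.toLin'.injective (hr.trans (map_zero _).symm)
    have hsur : Function.Surjective (Matrix.toLin' X₀) :=
      LinearMap.range_eq_top.mp (congrArg Subrepresentation.toSubmodule hW)
    have hinj := LinearMap.injective_iff_surjective.mpr hsur
    obtain ⟨v, hv, hv0⟩ := Matrix.exists_mulVec_eq_zero_iff.mpr hdet
    exact hv (hinj (by rw [map_zero, Matrix.toLin'_apply]; exact hv0))
  · refine Or.inr ⟨by push Not at hreal; exact hreal, ?_⟩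
    have hne : ρ.character ≠ fun g => conj (ρ.character g) := fun h =>
      hreal fun s => Complex.conj_eq_iff_im.mp (congrFun h s).symm
    rw [IsIrrCharacter.classInner_eq_zero hir (IsIrrCharacter.conj hir) hne, Nat.cast_eq_zero,
      Submodule.finrank_eq_zero] at hdim
    have hP : P = 0 := LinearMap.ext fun X => by
      have : P X ∈ Representation.invariants (formRep ρ) := hfix X
      rw [hdim] at this
      exact (Submodule.mem_bot ℂ).mp this
    rw [← hfs, hP, LinearMap.comp_zero, map_zero]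

/-- The values of the indicator. -/
theorem indicatorFS_trichotomy [Fintype G] {χ : G → ℂ} (hχ : IsIrrCharacter G χ) :
    ((∀ s, (χ s).im = 0) ∧ (indicatorFS χ = 1 ∨
        (indicatorFS χ = -1 ∧ ∀ d : ℕ, χ 1 = d → Even d))) ∨
      ((∃ s, (χ s).im ≠ 0) ∧ indicatorFS χ = 0) := by
  obtain ⟨n, ρ, hρ, rfl⟩ := hχ
  haveI := hρ
  rcases indicatorFS_core ρ with ⟨h1, h2 | ⟨h2, h3⟩⟩ | h
  · exact Or.inl ⟨h1, Or.inl h2⟩
  · refine Or.inl ⟨h1, Or.inr ⟨h2, fun d hd => ?_⟩⟩
    rw [ρ.char_one, finrank_fin_fun] at hd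
    have : n = d := by exact_mod_cast hd
    exact this ▸ h3
  · exact Or.inr h

/-- The number of square roots of one. -/
theorem card_sqrt_one [Fintype G] :
    (Nat.card {s : G // s * s = 1} : ℂ) =
      ∑ᶠ χ : IrrCharacter G, indicatorFS (χ : G → ℂ) * (χ : G → ℂ) 1 := by
  classical
  haveI := Fintype.ofFinite (IrrCharacter G)
  rw [finsum_eq_sum_of_fintype]
  simp only [indicatorFS, mul_assoc, Finset.sum_mul, ← Finset.mul_sum]
  rw [Finset.sum_comm]
  simp only [mul_comm _ ((_ : IrrCharacter G).1 1), regular_eq]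
  rw [← Finset.sum_filter, Finset.sum_const, nsmul_eq_mul, Nat.card_eq_fintype_card (α := {s : G // _}),
    Fintype.card_subtype]
  rw [mul_left_comm, inv_mul_cancel₀ (Nat.cast_ne_zero.mpr Nat.card_pos.ne'), mul_one]

end Cfsg.Agent.Char
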