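import Cfsg.Agent.Lib.Char.Integral
import Cfsg.Agent.Lib.Char.Schur
import Mathlib.Analysis.CStarAlgebra.Matrix
import Mathlib.Analysis.Matrix.Order
import Mathlib.Analysis.CStarAlgebra.Spectrum
import Mathlib.Analysis.SpecialFunctions.Complex.Arg
import Mathlib.LinearAlgebra.Eigenspace.Triangularizable

/-!
# Unitary matrix groups: small elements commute, abelian subgroups

Elements of a finite unitary group whose distance from a scalar is less than `1/2` commute, which
gives an abelian normal subgroup of bounded relative index in every abelian subgroup.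
-/

set_option autoImplicit false
set_option linter.style.haveILetI false

namespace Cfsg.Agent.Char.Blichfeldt

open Cfsg Matrix
open scoped ComplexConjugate Matrix.Norms.L2Operator MatrixOrder ComplexOrder

universe u

variable {G : Type u} [Group G] {n : ℕ}

/-- A finite matrix group is conjugate to a unitary one. -/
theorem exists_unitary [Finite G] (M : G →* Matrix (Fin n) (Fin n) ℂ) :
    ∃ (U : G →* Matrix (Fin n) (Fin n) ℂ), (∀ g, star (U g) * U g = 1) ∧
      ∀ g, U g = 1 → M g = 1 := by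
  classical
  haveI := Fintype.ofFinite G
  set H : Matrix (Fin n) (Fin n) ℂ := ∑ g, (M g)ᴴ * M g with hH
  have hpos : H.PosDef := by
    rw [hH, ← Finset.add_sum_erase _ _ (Finset.mem_univ (1 : G))]
    refine Matrix.PosDef.add_posSemidef (by rw [map_one]; simpa using Matrix.PosDef.one) ?_
    exact Matrix.posSemidef_sum _ fun g _ => Matrix.posSemidef_conjTranspose_mul_self _
  set S := CFC.sqrt H with hS
  have hSS : S * S = H := CFC.sqrt_mul_sqrt_self H (Matrix.nonneg_iff_posSemidef.mpr hpos.posSemidef)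
  have hSh : Sᴴ = S := (IsSelfAdjoint.of_nonneg (CFC.sqrt_nonneg H)).star_eq
  have hSu : IsUnit S.det := by
    have h := (Matrix.isUnit_iff_isUnit_det H).mp hpos.isUnit
    rw [← hSS, Matrix.det_mul] at h
    exact isUnit_of_mul_isUnit_left h
  have hinv : ∀ g : G, (M g)ᴴ * H * M g = H := by
    intro g
    rw [hH, Finset.mul_sum, Finset.sum_mul]
    refine Fintype.sum_equiv (Equiv.mulRight g) _ _ fun x => ?_
    simp [Matrix.conjTranspose_mul, mul_assoc]
  refine ⟨{ toFun := fun g => S * M g * S⁻¹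
            map_one' := by rw [map_one, mul_one, Matrix.mul_nonsing_inv S hSu]
            map_mul' := fun a b => by
              rw [map_mul]
              calc S * (M a * M b) * S⁻¹ = S * M a * (S⁻¹ * S) * M b * S⁻¹ := by
                    rw [Matrix.nonsing_inv_mul S hSu, mul_one]; simp only [mul_assoc]
                _ = S * M a * S⁻¹ * (S * M b * S⁻¹) := by simp only [mul_assoc] }, fun g => ?_, fun g hg => ?_⟩
  · show (S * M g * S⁻¹)ᴴ * (S * M g * S⁻¹) = 1
    rw [Matrix.conjTranspose_mul, Matrix.conjTranspose_mul, Matrix.conjTranspose_nonsing_inv, hSh]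
    calc S⁻¹ * ((M g)ᴴ * S) * (S * M g * S⁻¹) = S⁻¹ * ((M g)ᴴ * (S * S) * M g) * S⁻¹ := by
          simp only [mul_assoc]
      _ = S⁻¹ * S * (S * S⁻¹) := by rw [hSS, hinv g, ← hSS]; simp only [mul_assoc]
      _ = 1 := by rw [Matrix.nonsing_inv_mul S hSu, Matrix.mul_nonsing_inv S hSu, one_mul]
  · have h : S * M g * S⁻¹ = 1 := hg
    calc M g = S⁻¹ * (S * M g * S⁻¹) * S := by
          simp only [← mul_assoc, Matrix.nonsing_inv_mul S hSu, one_mul]
          rw [mul_assoc, Matrix.nonsing_inv_mul S hSu, mul_one]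
      _ = 1 := by rw [h, mul_one, Matrix.nonsing_inv_mul S hSu]

/-- The associated representation. -/
noncomputable def linRep (U : G →* Matrix (Fin n) (Fin n) ℂ) : Representation ℂ G (Fin n → ℂ) where
  toFun g := Matrix.toLin' (U g)
  map_one' := by rw [map_one, Matrix.toLin'_one]; rfl
  map_mul' a b := by rw [map_mul, Matrix.toLin'_mul]; rfl

@[simp] theorem linRep_apply (U : G →* Matrix (Fin n) (Fin n) ℂ) (g : G) (v : Fin n → ℂ) :
    linRep U g v = U g *ᵥ v := Matrix.toLin'_apply _ _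

/-- Centre of the small ball. -/
noncomputable def lam : ℂ := ((Real.sqrt 3 / 2 : ℝ) : ℂ)

/-- Unit complex numbers with arguments closer than `π/6`. -/
theorem norm_mul_conj_sub_lam {z w : ℂ} (hz : ‖z‖ = 1) (hw : ‖w‖ = 1)
    (h : |z.arg - w.arg| < Real.pi / 6) : ‖z * conj w - lam‖ < 1 / 2 := by
  have hz0 : z ≠ 0 := norm_ne_zero_iff.mp (by rw [hz]; norm_num)
  have hw0 : w ≠ 0 := norm_ne_zero_iff.mp (by rw [hw]; norm_num)
  have hre : (z * conj w).re = Real.cos (z.arg - w.arg) := by
    rw [Real.cos_sub, Complex.cos_arg hz0, Complex.cos_arg hw0, Complex.sin_arg, Complex.sin_arg,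
      hz, hw]
    simp
  have hns : Complex.normSq (z * conj w) = 1 := by
    rw [map_mul, Complex.normSq_conj, Complex.normSq_eq_norm_sq, Complex.normSq_eq_norm_sq, hz, hw]
    norm_num
  have hcos : Real.sqrt 3 / 2 < Real.cos (z.arg - w.arg) := by
    rw [← Real.cos_abs (z.arg - w.arg), ← Real.cos_pi_div_six]
    exact Real.cos_lt_cos_of_nonneg_of_le_pi_div_two (abs_nonneg _)
      (by linarith [Real.pi_pos]) h
  have h3 : Real.sqrt 3 * Real.sqrt 3 = 3 := Real.mul_self_sqrt (by norm_num)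
  have h3p : 0 < Real.sqrt 3 := Real.sqrt_pos.mpr (by norm_num)
  have hsq : Complex.normSq (z * conj w - lam) < (1 / 2) ^ 2 := by
    rw [Complex.normSq_apply] at hns ⊢
    simp only [lam, Complex.sub_re, Complex.sub_im, Complex.ofReal_re, Complex.ofReal_im]
    nlinarith [mul_lt_mul_of_pos_left hcos h3p]
  rw [Complex.normSq_eq_norm_sq] at hsq
  exact lt_of_pow_lt_pow_left₀ 2 (by norm_num) hsq

section Unitary

variable (U : G →* Matrix (Fin n) (Fin n) ℂ) (hU : ∀ g, star (U g) * U g = 1)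
include hU

theorem star_eq (g : G) : star (U g) = U g⁻¹ := by
  calc star (U g) = star (U g) * (U g * U g⁻¹) := by rw [← map_mul, mul_inv_cancel, map_one, mul_one]
    _ = U g⁻¹ := by rw [← mul_assoc, hU, one_mul]

theorem mem_unitary (g : G) : U g ∈ unitary (Matrix (Fin n) (Fin n) ℂ) :=
  Unitary.mem_iff.mpr ⟨hU g, by rw [star_eq U hU, ← map_mul, mul_inv_cancel, map_one]⟩

theorem norm_mul_left' (g : G) (X : Matrix (Fin n) (Fin n) ℂ) : ‖U g * X‖ = ‖X‖ :=
  CStarRing.norm_coe_unitary_mul ⟨U g, mem_unitary U hU g⟩ X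

theorem norm_mul_right' (g : G) (X : Matrix (Fin n) (Fin n) ℂ) : ‖X * U g‖ = ‖X‖ :=
  CStarRing.norm_mul_coe_unitary X ⟨U g, mem_unitary U hU g⟩

theorem norm_conj_sub (x g : G) (c : ℂ) : ‖U (x * g * x⁻¹) - c • 1‖ = ‖U g - c • 1‖ := by
  have e : U (x * g * x⁻¹) - c • 1 = U x * (U g - c • 1) * U x⁻¹ := by
    rw [mul_sub, sub_mul, ← map_mul, ← map_mul, mul_smul_comm, mul_one, smul_mul_assoc, ← map_mul,
      mul_inv_cancel, map_one]
  rw [e, norm_mul_right' U hU, norm_mul_left' U hU]

/-- The commutator contraction. -/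
theorem norm_comm_sub_one_le (a b : G) (c : ℂ) :
    ‖U (a * b * a⁻¹ * b⁻¹) - 1‖ ≤ 2 * ‖U a - c • 1‖ * ‖U b - 1‖ := by
  have e : U (a * b * a⁻¹ * b⁻¹) - 1 = (U a * U b - U b * U a) * U (a⁻¹ * b⁻¹) := by
    rw [sub_mul, ← map_mul, ← map_mul, ← map_mul, ← map_mul]
    rw [show b * a * (a⁻¹ * b⁻¹) = 1 by group, map_one,
      show a * b * (a⁻¹ * b⁻¹) = a * b * a⁻¹ * b⁻¹ by group]
  have e2 : U a * U b - U b * U a =
      (U a - c • 1) * (U b - 1) - (U b - 1) * (U a - c • 1) := by
    simp only [sub_mul, mul_sub, smul_mul_assoc, mul_smul_comm, one_mul, mul_one]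
    module
  rw [e, norm_mul_right' U hU, e2]
  refine (norm_sub_le _ _).trans ?_
  have h1 := norm_mul_le (U a - c • 1) (U b - 1)
  have h2 := norm_mul_le (U b - 1) (U a - c • 1)
  linarith

/-- Frobenius' lemma. -/
theorem eq_one_of_comm [Finite G] (hinj : ∀ g, U g = 1 → g = 1) {a b : G}
    (hc : a * (a * b * a⁻¹ * b⁻¹) = (a * b * a⁻¹ * b⁻¹) * a) (hb : ‖U b - 1‖ < Real.sqrt 2) :
    a * b * a⁻¹ * b⁻¹ = 1 := by
  by_contra hne
  set a' := b * a * b⁻¹ with ha'
  have hc' : a * a' = a' * a := by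
    have e1 : a' = (a * b * a⁻¹ * b⁻¹)⁻¹ * a := by rw [ha']; group
    rw [e1]
    have h2 : Commute a (a * b * a⁻¹ * b⁻¹) := hc
    exact (h2.inv_right.mul_right (Commute.refl a)).eq
  set u := a⁻¹ * a' with hu
  have hu1 : u ≠ 1 := fun e => hne (by
    have e1 : a = a' := inv_mul_eq_one.mp e
    have e2 : a * b = b * a := by
      calc a * b = a' * b := by rw [← e1]
        _ = b * a := by rw [ha']; group
    rw [e2]; group)
  have hua : a * u = u * a := by
    calc a * u = a' := by rw [hu]; group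
      _ = a⁻¹ * (a * a') := by group
      _ = u * a := by rw [hc', hu]; group
  obtain ⟨ω, hω, hω1⟩ : ∃ ω ∈ eigenvalues (linRep U) u, ω ≠ 1 := by
    by_contra h
    push Not at h
    refine hu1 (hinj u ?_)
    have hs : (eigenvalues (linRep U) u).sum =
        (Multiset.card (eigenvalues (linRep U) u) : ℂ) := by
      rw [Multiset.eq_replicate_card.mpr h, Multiset.sum_replicate, Multiset.card_replicate]
      simp
    rw [sum_eigenvalues, card_eigenvalues, character_eq_finrank_iff] at hs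
    have h2 : Matrix.toLin' (U u) = Matrix.toLin' 1 := by rw [Matrix.toLin'_one]; exact hs
    exact Matrix.toLin'.injective h2
  have hev : Module.End.HasEigenvalue (linRep U u) ω :=
    (Module.End.hasEigenvalue_iff_isRoot_charpoly _ _).mpr (Polynomial.mem_roots'.mp hω).2
  set W := Module.End.eigenspace (linRep U u) ω with hW
  have hWne : W ≠ ⊥ := hev
  have hWa : ∀ v ∈ W, linRep U a v ∈ W := by
    intro v hv
    rw [hW, Module.End.mem_eigenspace_iff] at hv ⊢
    rw [← Module.End.mul_apply, ← map_mul, ← hua, map_mul, Module.End.mul_apply, hv, map_smul]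
  haveI : Nontrivial W := Submodule.nontrivial_iff_ne_bot.mpr hWne
  obtain ⟨α, hα⟩ := Module.End.exists_eigenvalue ((linRep U a).restrict hWa : Module.End ℂ W)
  obtain ⟨⟨v, hvW⟩, hv⟩ := hα.exists_hasEigenvector
  have hv0 : v ≠ 0 := fun e => hv.2 (Subtype.ext e)
  have hav : U a *ᵥ v = α • v := by
    have := congrArg Subtype.val hv.apply_eq_smul
    simpa using this
  have huv : U u *ᵥ v = ω • v := by
    have := Module.End.mem_eigenspace_iff.mp hvW
    simpa using this
  have ha'v : U a' *ᵥ v = (α * ω) • v := by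
    rw [show a' = a * u by rw [hu]; group, map_mul, ← Matrix.mulVec_mulVec, huv, Matrix.mulVec_smul,
      hav, smul_smul, mul_comm]
  set w := U b⁻¹ *ᵥ v with hw
  have haw : U a *ᵥ w = (α * ω) • w := by
    rw [hw, Matrix.mulVec_mulVec, ← map_mul,
      show a * b⁻¹ = b⁻¹ * a' by rw [ha']; group, map_mul, ← Matrix.mulVec_mulVec, ha'v,
      Matrix.mulVec_smul]
  have key : ∀ x y : Fin n → ℂ, ∀ g : G, star (U g *ᵥ x) ⬝ᵥ (U g *ᵥ y) = star x ⬝ᵥ y := by
    intro x y g
    rw [Matrix.star_mulVec, ← Matrix.dotProduct_mulVec, Matrix.mulVec_mulVec,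
      ← Matrix.star_eq_conjTranspose, hU, Matrix.one_mulVec]
  have hα1 : conj α * α = 1 := by
    have := key v v a
    rw [hav, star_smul, smul_dotProduct, dotProduct_smul, smul_smul] at this
    simp only [smul_eq_mul] at this
    exact (mul_eq_right₀ fun e => hv0 (dotProduct_star_self_eq_zero.mp e)).mp this
  have horth : star v ⬝ᵥ w = 0 := by
    have := key v w a
    rw [hav, haw, star_smul, smul_dotProduct, dotProduct_smul, smul_smul] at this
    simp only [smul_eq_mul] at this
    rw [show (star α : ℂ) * (α * ω) = ω by rw [← mul_assoc]; change conj α * α * ω = ω; rw [hα1, one_mul]] at this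
    by_contra h0
    exact hω1 ((mul_eq_right₀ h0).mp this)
  have hnorm : star w ⬝ᵥ w = star v ⬝ᵥ v := key v v b⁻¹
  have horth' : star w ⬝ᵥ v = 0 := by
    rw [Matrix.star_dotProduct, horth, star_zero]
  have hsq : ∀ x : Fin n → ℂ, (‖WithLp.toLp 2 x‖ : ℝ) ^ 2 = (star x ⬝ᵥ x).re := by
    intro x
    rw [← @inner_self_eq_norm_sq ℂ, EuclideanSpace.inner_eq_star_dotProduct]
    simp [dotProduct_comm]
  have hv2 : 0 < ‖WithLp.toLp 2 v‖ := by
    rw [norm_pos_iff]
    exact fun e => hv0 (WithLp.toLp_injective 2 (e.trans (WithLp.toLp_zero 2).symm))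
  have hop : ‖WithLp.toLp 2 ((U b⁻¹ - 1) *ᵥ v)‖ ≤ ‖U b⁻¹ - 1‖ * ‖WithLp.toLp 2 v‖ :=
    Matrix.l2_opNorm_mulVec (U b⁻¹ - 1) (WithLp.toLp 2 v)
  have hbinv : ‖U b⁻¹ - 1‖ = ‖U b - 1‖ := by
    have e : U b⁻¹ - 1 = -(U b⁻¹ * (U b - 1)) := by
      rw [mul_sub, mul_one, ← map_mul, inv_mul_cancel, map_one, neg_sub]
    rw [e, norm_neg, norm_mul_left' U hU]
  have hsum : ‖WithLp.toLp 2 ((U b⁻¹ - 1) *ᵥ v)‖ ^ 2 = 2 * ‖WithLp.toLp 2 v‖ ^ 2 := by
    rw [hsq, hsq, Matrix.sub_mulVec, Matrix.one_mulVec, ← hw, star_sub, sub_dotProduct,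
      dotProduct_sub, dotProduct_sub, hnorm, horth, horth']
    simp
    ring
  have h2 : ‖WithLp.toLp 2 ((U b⁻¹ - 1) *ᵥ v)‖ < Real.sqrt 2 * ‖WithLp.toLp 2 v‖ :=
    lt_of_le_of_lt hop (by rw [hbinv]; exact mul_lt_mul_of_pos_right hb hv2)
  have h3 := pow_lt_pow_left₀ h2 (norm_nonneg _) two_ne_zero
  rw [hsum, mul_pow, Real.sq_sqrt (by norm_num)] at h3
  exact lt_irrefl _ h3

/-- Small elements commute. -/
theorem comm_of_small [Finite G] (hinj : ∀ g, U g = 1 → g = 1) {a b : G}
    (ha : ‖U a - lam • 1‖ < 1 / 2) (hb : ‖U b - lam • 1‖ < 1 / 2) : a * b = b * a := by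
  classical
  haveI := Fintype.ofFinite G
  set f : G → G := fun x => a * x * a⁻¹ * x⁻¹ with hf
  set δ := 2 * ‖U a - lam • 1‖ with hδ
  have hδ0 : 0 ≤ δ := by positivity
  have hδ1 : δ < 1 := by rw [hδ]; linarith
  have hstep : ∀ x, ‖U (f x) - 1‖ ≤ δ * ‖U x - 1‖ := fun x => norm_comm_sub_one_le U hU a x lam
  have hpow : ∀ k, ‖U (f^[k] b) - 1‖ ≤ δ ^ k * ‖U b - 1‖ := by
    intro k
    induction k with
    | zero => simp
    | succ k ih =>
      rw [Function.iterate_succ_apply', pow_succ']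
      exact (hstep _).trans ((mul_le_mul_of_nonneg_left ih hδ0).trans (le_of_eq (mul_assoc _ _ _).symm))
  have hbs : ‖U b - 1‖ < Real.sqrt 2 := by
    have h1 : ‖U b - 1‖ ≤ ‖U b - lam • 1‖ + ‖(lam - 1) • (1 : Matrix (Fin n) (Fin n) ℂ)‖ := by
      refine le_trans (le_of_eq ?_) (norm_add_le _ _)
      rw [sub_smul, one_smul, sub_add_sub_cancel]
    have h2 : ‖(lam - 1) • (1 : Matrix (Fin n) (Fin n) ℂ)‖ ≤ 1 / 2 := by
      rw [norm_smul]
      have h3 : ‖lam - 1‖ ≤ 1 / 2 := by
        rw [lam, ← Complex.ofReal_one, ← Complex.ofReal_sub, Complex.norm_real, Real.norm_eq_abs,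
          abs_le]
        have h31 : 1 ≤ Real.sqrt 3 := Real.one_le_sqrt.mpr (by norm_num)
        have h32 : Real.sqrt 3 ≤ 2 := by rw [Real.sqrt_le_iff]; norm_num
        constructor <;> linarith
      have h4 : ‖(1 : Matrix (Fin n) (Fin n) ℂ)‖ ≤ 1 := by
        rcases subsingleton_or_nontrivial (Matrix (Fin n) (Fin n) ℂ) with h | h
        · simp [Subsingleton.elim (1 : Matrix (Fin n) (Fin n) ℂ) 0]
        · rw [CStarRing.norm_one]
      calc ‖lam - 1‖ * ‖(1 : Matrix (Fin n) (Fin n) ℂ)‖ ≤ 1 / 2 * 1 :=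
            mul_le_mul h3 h4 (norm_nonneg _) (by norm_num)
        _ = 1 / 2 := by norm_num
    have h5 : 1 ≤ Real.sqrt 2 := Real.one_le_sqrt.mpr (by norm_num)
    linarith
  obtain ⟨k, hk⟩ : ∃ k, f^[k] b = 1 := by
    set T := (Finset.univ : Finset G).filter fun g => g ≠ 1 with hT
    by_cases hTe : T.Nonempty
    · obtain ⟨g₀, hg₀, hmin⟩ := T.exists_min_image (fun g => ‖U g - 1‖) hTe
      have hpos : 0 < ‖U g₀ - 1‖ :=
        norm_pos_iff.mpr fun e => (Finset.mem_filter.mp hg₀).2 (hinj _ (sub_eq_zero.mp e))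
      rcases (norm_nonneg (U b - 1)).eq_or_lt with h0 | h0
      · exact ⟨0, hinj b (sub_eq_zero.mp (norm_eq_zero.mp h0.symm))⟩
      obtain ⟨k, hk⟩ := exists_pow_lt_of_lt_one (div_pos hpos h0) hδ1
      refine ⟨k, ?_⟩
      by_contra hne
      have h1 := hmin _ (Finset.mem_filter.mpr ⟨Finset.mem_univ _, hne⟩)
      rw [lt_div_iff₀ h0] at hk
      have := hpow k
      linarith
    · refine ⟨0, ?_⟩
      by_contra hne
      exact hTe ⟨b, Finset.mem_filter.mpr ⟨Finset.mem_univ _, hne⟩⟩
  have down : ∀ j x, ‖U x - 1‖ < Real.sqrt 2 → f^[j] x = 1 → f x = 1 := by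
    intro j
    induction j with
    | zero => intro x _ h; simp only [Function.iterate_zero, id] at h; simp [hf, h]
    | succ j ih =>
      intro x hx h
      rw [Function.iterate_succ_apply] at h
      have hfx : ‖U (f x) - 1‖ < Real.sqrt 2 := by
        refine lt_of_le_of_lt (hstep x) (lt_of_le_of_lt ?_ hx)
        exact mul_le_of_le_one_left (norm_nonneg _) hδ1.le
      have h1 : a * f x * a⁻¹ * (f x)⁻¹ = 1 := ih (f x) hfx h
      refine eq_one_of_comm U hU hinj ?_ hx
      have := mul_inv_eq_one.mp h1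
      exact mul_inv_eq_iff_eq_mul.mp this
  have h := down k b hbs hk
  have := mul_inv_eq_one.mp h
  exact mul_inv_eq_iff_eq_mul.mp this

/-- The small elements generate an abelian normal subgroup. -/
theorem exists_small_subgroup [Finite G] (hinj : ∀ g, U g = 1 → g = 1) :
    ∃ A : Subgroup G, A.Normal ∧ (∀ x ∈ A, ∀ y ∈ A, x * y = y * x) ∧
      ∀ g, ‖U g - lam • 1‖ < 1 / 2 → g ∈ A := by
  set X := {g : G | ‖U g - lam • 1‖ < 1 / 2} with hX
  have hXc : ∀ g ∈ X, ∀ x : G, x * g * x⁻¹ ∈ X := fun g hg x => by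
    show ‖U (x * g * x⁻¹) - lam • 1‖ < 1 / 2
    rw [norm_conj_sub U hU]; exact hg
  refine ⟨Subgroup.closure X, ⟨fun w hw x => ?_⟩, ?_, fun g hg => Subgroup.subset_closure hg⟩
  · have hle : (Subgroup.closure X).map (MulAut.conj x).toMonoidHom ≤ Subgroup.closure X := by
      rw [MonoidHom.map_closure, Subgroup.closure_le]
      rintro _ ⟨g, hg, rfl⟩
      exact Subgroup.subset_closure (hXc g hg x)
    exact hle ⟨w, hw, rfl⟩
  · have h1 : Subgroup.closure X ≤ Subgroup.centralizer X := by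
      rw [Subgroup.closure_le]
      exact fun g hg => Subgroup.mem_centralizer_iff.mpr fun y hy => comm_of_small U hU hinj hy hg
    have h2 : Subgroup.closure X ≤
        Subgroup.centralizer ((Subgroup.closure X : Subgroup G) : Set G) := by
      rw [Subgroup.closure_le]
      exact fun g hg => Subgroup.mem_centralizer_iff.mpr fun y hy =>
        (Subgroup.mem_centralizer_iff.mp (h1 hy) g hg).symm
    exact fun x hx y hy => Subgroup.mem_centralizer_iff.mp (h2 hy) x hx

end Unitary

/-- A commutative set of operators has a common eigenvector in a stable subspace. -/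
theorem exists_common_eigvec {V : Type*} [AddCommGroup V] [Module ℂ V] [FiniteDimensional ℂ V]
    {ι : Type*} (T : ι → Module.End ℂ V) (hT : ∀ i j, T i * T j = T j * T i) :
    ∀ (m : ℕ) (W : Submodule ℂ V), Module.finrank ℂ W ≤ m → W ≠ ⊥ →
      (∀ i, ∀ v ∈ W, T i v ∈ W) → ∃ v ∈ W, v ≠ 0 ∧ ∀ i, ∃ c : ℂ, T i v = c • v := by
  intro m
  induction m with
  | zero => intro W h hne _; exact absurd (Submodule.finrank_eq_zero.mp (Nat.le_zero.mp h)) hne
  | succ m ih =>
    intro W hm hne hinv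
    by_cases hall : ∀ i, ∃ c : ℂ, ∀ v ∈ W, T i v = c • v
    · obtain ⟨v, hv, hv0⟩ := (Submodule.ne_bot_iff W).mp hne
      exact ⟨v, hv, hv0, fun i => (hall i).imp fun c h => h v hv⟩
    push Not at hall
    obtain ⟨i, hi⟩ := hall
    haveI : Nontrivial W := Submodule.nontrivial_iff_ne_bot.mpr hne
    obtain ⟨c, hc⟩ := Module.End.exists_eigenvalue ((T i).restrict (hinv i) : Module.End ℂ W)
    obtain ⟨⟨u, huW⟩, hu⟩ := hc.exists_hasEigenvector
    set W' := W ⊓ Module.End.eigenspace (T i) c with hW'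
    have hu' : u ∈ W' := ⟨huW, Module.End.mem_eigenspace_iff.mpr (by
      have := congrArg Subtype.val hu.apply_eq_smul
      simpa using this)⟩
    have hlt : W' < W := by
      refine lt_of_le_of_ne inf_le_left fun e => ?_
      obtain ⟨w, hw, hwc⟩ := hi c
      exact hwc (Module.End.mem_eigenspace_iff.mp (e.symm.le hw).2)
    obtain ⟨v, hv, hv0, hvT⟩ := ih W' (by have := Submodule.finrank_lt_finrank_of_lt hlt; omega)
      (fun e => hu.2 (Subtype.ext ((Submodule.eq_bot_iff _).mp e u hu'))) (fun j w hw =>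
        ⟨hinv j w hw.1, Module.End.mem_eigenspace_iff.mpr (by
          have h1 := Module.End.mem_eigenspace_iff.mp hw.2
          rw [← Module.End.mul_apply, hT i j, Module.End.mul_apply, h1, map_smul])⟩)
    exact ⟨v, hv.1, hv0, hvT⟩

/-- An abelian group of unitary matrices maps to at most `12 ^ n` boxes, each a coset of small
elements. -/
theorem exists_boxes (U : G →* Matrix (Fin n) (Fin n) ℂ) (hU : ∀ g, star (U g) * U g = 1)
    [Finite G] (H : Subgroup G) (hH : ∀ x ∈ H, ∀ y ∈ H, x * y = y * x) (hn : 0 < n) :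
    ∃ (B : Type) (_ : Fintype B) (F : H → B), Fintype.card B ≤ 12 ^ n ∧
      ∀ x y, F x = F y → ‖U ((x : G) * (y : G)⁻¹) - lam • 1‖ < 1 / 2 := by
  classical
  haveI := Fintype.ofFinite G
  haveI : Nonempty (Fin n) := ⟨⟨0, hn⟩⟩
  let T : H → Module.End ℂ (Fin n → ℂ) := fun h => linRep U (h : G)
  have hT : ∀ i j, T i * T j = T j * T i := fun i j => by
    simp only [T, ← map_mul, hH i i.2 j j.2]
  let IsC : (H →* ℂ) → Prop := fun l => ∃ v : Fin n → ℂ, v ≠ 0 ∧ ∀ h : H, T h v = l h • v
  haveI : Finite {l : H →* ℂ // IsC l} := by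
    haveI : Finite (H →* ℂ) := by
      haveI : Finite (H →* ℂˣ) := inferInstance
      exact Finite.of_injective (fun l => l.toHomUnits) fun a b e => MonoidHom.ext fun x =>
        congrArg Units.val (DFunLike.congr_fun e x)
    infer_instance
  haveI := Fintype.ofFinite {l : H →* ℂ // IsC l}
  choose vec hvec0 hvec using fun l : {l : H →* ℂ // IsC l} => l.2
  have hli : ∀ (s : Finset {l : H →* ℂ // IsC l}) (c : {l : H →* ℂ // IsC l} → ℂ),
      ∑ l ∈ s, c l • vec l = 0 → ∀ l ∈ s, c l = 0 := by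
    intro s
    induction s using Finset.induction_on with
    | empty => simp
    | insert a s ha ih =>
      intro c hc
      rw [Finset.sum_insert ha] at hc
      have hs : ∀ l ∈ s, c l = 0 := by
        intro l hl
        obtain ⟨h, hh⟩ : ∃ h : H, (l.1 : H →* ℂ) h ≠ a.1 h := by
          by_contra hcon; push Not at hcon
          exact ha (by rwa [← Subtype.ext (MonoidHom.ext hcon) ])
        have h1 := congrArg (T h) hc
        rw [map_add, map_smul, map_sum, map_zero, hvec] at h1
        simp only [map_smul, hvec, smul_smul] at h1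
        have h2 := congrArg (fun x => a.1 h • x) hc
        simp only [smul_add, Finset.smul_sum, smul_smul, smul_zero] at h2
        have h3 : ∑ k ∈ s, (c k * (k.1 h - a.1 h)) • vec k = 0 := by
          have h4 := h1.trans h2.symm
          rw [mul_comm (c a), add_right_inj] at h4
          simp only [mul_sub, sub_smul, Finset.sum_sub_distrib]
          rw [h4, sub_eq_zero]
          exact Finset.sum_congr rfl fun k _ => by rw [mul_comm]
        exact (mul_eq_zero.mp (ih _ h3 l hl)).resolve_right (sub_ne_zero.mpr hh)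
      intro l hl
      rcases Finset.mem_insert.mp hl with rfl | hl
      · rw [Finset.sum_eq_zero (fun k hk => by rw [hs k hk, zero_smul]), add_zero] at hc
        exact (smul_eq_zero.mp hc).resolve_right (hvec0 _)
      · exact hs l hl
  have hcard : Fintype.card {l : H →* ℂ // IsC l} ≤ n := by
    have := (linearIndependent_iff'.mpr hli).fintype_card_le_finrank
    simpa using this
  have hnorm : ∀ (l : {l : H →* ℂ // IsC l}) (h : H), ‖l.1 h‖ = 1 := by
    intro l h
    have hfin : IsOfFinOrder (l.1 h) := (l.1).isOfFinOrder (isOfFinOrder_of_finite h)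
    exact hfin.norm_eq_one
  let box : ℂ → Fin 12 := fun z =>
    ⟨min 11 (⌈(z.arg + Real.pi) / (Real.pi / 6)⌉₊ - 1), by omega⟩
  have hbox : ∀ z w : ℂ, box z = box w → |z.arg - w.arg| < Real.pi / 6 := by
    intro z w e
    have hp : 0 < Real.pi / 6 := by linarith [Real.pi_pos]
    have hr : ∀ x : ℂ, 0 < (x.arg + Real.pi) / (Real.pi / 6) ∧
        ⌈(x.arg + Real.pi) / (Real.pi / 6)⌉₊ ≤ 12 := by
      intro x
      refine ⟨div_pos (by linarith [Complex.neg_pi_lt_arg x]) hp, ?_⟩
      rw [Nat.ceil_le, div_le_iff₀ hp]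
      have := Complex.arg_le_pi x
      push_cast
      linarith
    have hz := hr z
    have hw := hr w
    have e' : ⌈(z.arg + Real.pi) / (Real.pi / 6)⌉₊ = ⌈(w.arg + Real.pi) / (Real.pi / 6)⌉₊ := by
      have e0 := congrArg Fin.val e
      simp only [box] at e0
      have := Nat.ceil_pos.mpr hz.1
      have := Nat.ceil_pos.mpr hw.1
      omega
    have a1 := Nat.ceil_lt_add_one hz.1.le
    have a2 := Nat.ceil_lt_add_one hw.1.le
    have b1 := Nat.le_ceil ((z.arg + Real.pi) / (Real.pi / 6))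
    have b2 := Nat.le_ceil ((w.arg + Real.pi) / (Real.pi / 6))
    rw [e'] at a1 b1
    have hd : |(z.arg + Real.pi) / (Real.pi / 6) - (w.arg + Real.pi) / (Real.pi / 6)| < 1 := by
      rw [abs_lt]; constructor <;> linarith
    rw [← sub_div, add_sub_add_right_eq_sub, abs_div, abs_of_pos hp, div_lt_one hp] at hd
    exact hd
  refine ⟨Fin (Fintype.card {l : H →* ℂ // IsC l}) → Fin 12, inferInstance,
    fun x i => box (((Fintype.equivFin _).symm i).1 x), ?_, fun x y hxy => ?_⟩
  · rw [Fintype.card_fun, Fintype.card_fin, Fintype.card_fin]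
    exact Nat.pow_le_pow_right (by norm_num) hcard
  set g : H := x * y⁻¹ with hg
  have hsp : ∀ r ∈ spectrum ℂ (U (g : G)), ‖r - lam‖ < 1 / 2 := by
    intro r hr
    have hev : Module.End.HasEigenvalue (T g) r := by
      rw [Module.End.hasEigenvalue_iff_mem_spectrum]
      show r ∈ spectrum ℂ (Matrix.toLin' (U (g : G)))
      rw [Matrix.spectrum_toLin']
      exact hr
    obtain ⟨v, hvW, hv0, hvT⟩ := exists_common_eigvec T hT _ (Module.End.eigenspace (T g) r) le_rfl
      hev (fun i w hw => by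
        rw [Module.End.mem_eigenspace_iff] at hw ⊢
        rw [← Module.End.mul_apply, hT g i, Module.End.mul_apply, hw, map_smul])
    choose c hc using hvT
    have hinj : ∀ s t : ℂ, s • v = t • v → s = t := fun s t h => by
      by_contra hne
      exact hv0 ((smul_eq_zero.mp (by rw [sub_smul, h, sub_self] : (s - t) • v = 0)).resolve_left
        (sub_ne_zero.mpr hne))
    let l : H →* ℂ :=
      { toFun := c
        map_one' := hinj _ _ (by rw [← hc]; simp [T])
        map_mul' := fun i j => hinj _ _ (by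
          rw [← hc]
          show linRep U ((i * j : H) : G) v = _
          rw [Subgroup.coe_mul, map_mul, Module.End.mul_apply]
          show T i (T j v) = _
          rw [hc, map_smul, hc, smul_smul, mul_comm]) }
    have hl : IsC l := ⟨v, hv0, hc⟩
    have hrl : r = l g := hinj _ _ ((Module.End.mem_eigenspace_iff.mp hvW).symm.trans (hc g))
    have hbx : box (l x) = box (l y) := by
      have := congrFun hxy (Fintype.equivFin _ ⟨l, hl⟩)
      simpa using this
    have hy : ‖l y‖ = 1 := hnorm ⟨l, hl⟩ y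
    have hlg : l g = l x * conj (l y) := by
      have h1 : l y * conj (l y) = 1 := by
        rw [Complex.mul_conj', hy]; simp
      calc l g = l (x * y⁻¹) * (l y * conj (l y)) := by rw [h1, mul_one]
        _ = l x * conj (l y) := by rw [← mul_assoc, ← map_mul, inv_mul_cancel_right]
    rw [hrl, hlg]
    exact norm_mul_conj_sub_lam (hnorm ⟨l, hl⟩ x) hy (hbox _ _ hbx)
  set N := U ((x : G) * (y : G)⁻¹) - lam • (1 : Matrix (Fin n) (Fin n) ℂ) with hN
  have hNn : IsStarNormal N := by
    have h1 := mem_unitary U hU ((x : G) * (y : G)⁻¹)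
    refine ⟨?_⟩
    show star N * N = N * star N
    rw [hN, star_sub, star_smul, star_one]
    simp only [sub_mul, mul_sub, smul_mul_assoc, mul_smul_comm, one_mul, mul_one,
      (Unitary.mem_iff.mp h1).1, (Unitary.mem_iff.mp h1).2]
    module
  obtain ⟨r, hr, hrn⟩ := spectrum.exists_nnnorm_eq_spectralRadius N
  rw [IsStarNormal.spectralRadius_eq_nnnorm N] at hrn
  have hr' : r + lam ∈ spectrum ℂ (U (g : G)) := by
    have e : U (g : G) = algebraMap ℂ (Matrix (Fin n) (Fin n) ℂ) lam + N := by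
      rw [hN, Algebra.algebraMap_eq_smul_one]
      simp [hg]
    rw [e, ← spectrum.singleton_add_eq]
    exact ⟨lam, rfl, r, hr, add_comm _ _⟩
  have h2 := hsp _ hr'
  rw [add_sub_cancel_right] at h2
  have h3 : ‖r‖₊ = ‖N‖₊ := by exact_mod_cast hrn
  have h4 : ‖r‖ = ‖N‖ := congrArg NNReal.toReal h3
  rwa [← h4]

/-- The abelian normal subgroup bound. -/
theorem exists_abelian_normal [Finite G] (χ : G → ℂ) (hχ : IsCharacter G χ)
    (hfaith : ∀ g : G, χ g = χ 1 → g = 1) (n : ℕ) (hn : χ 1 = (n : ℂ)) :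
    ∃ A : Subgroup G, A.Normal ∧ (∀ x ∈ A, ∀ y ∈ A, x * y = y * x) ∧
      ∀ H : Subgroup G, (∀ x ∈ H, ∀ y ∈ H, x * y = y * x) → (A.subgroupOf H).index ≤ 12 ^ n := by
  classical
  obtain ⟨m, ρ, rfl⟩ := hχ
  have hm : m = n := by
    rw [ρ.char_one, Module.finrank_fin_fun] at hn
    exact_mod_cast hn
  subst hm
  let M : G →* Matrix (Fin m) (Fin m) ℂ :=
    { toFun := repMatrix ρ, map_one' := repMatrix_one ρ, map_mul' := repMatrix_mul ρ }
  obtain ⟨U, hU, hUM⟩ := exists_unitary M
  have hinj : ∀ g, U g = 1 → g = 1 := fun g hg => hfaith g (by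
    have h1 : repMatrix ρ g = 1 := hUM g hg
    rw [← trace_repMatrix, ← trace_repMatrix, h1, repMatrix_one])
  obtain ⟨A, hAn, hAc, hAX⟩ := exists_small_subgroup U hU hinj
  refine ⟨A, hAn, hAc, fun H hH => ?_⟩
  rcases Nat.eq_zero_or_pos m with rfl | hpos
  · haveI : Subsingleton (Matrix (Fin 0) (Fin 0) ℂ) := inferInstance
    have : ∀ g : G, g = 1 := fun g => hinj g (Subsingleton.elim _ _)
    rw [show A.subgroupOf H = ⊤ from eq_top_iff.mpr fun x _ => by
      rw [Subgroup.mem_subgroupOf, this x]; exact one_mem _, Subgroup.index_top]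
    simp
  obtain ⟨B, hB, F, hBc, hF⟩ := exists_boxes U hU H hH hpos
  refine le_trans ?_ hBc
  haveI := Fintype.ofFinite (H ⧸ A.subgroupOf H)
  rw [Subgroup.index, Nat.card_eq_fintype_card]
  refine Fintype.card_le_of_injective (fun q => F q.out) fun q q' e => ?_
  have hmem : ((q'.out : H) : G) * ((q.out : H) : G)⁻¹ ∈ A := hAX _ (hF _ _ e.symm)
  rw [← q.out_eq, ← q'.out_eq]
  refine QuotientGroup.eq.mpr ?_
  rw [Subgroup.mem_subgroupOf, Subgroup.coe_mul, InvMemClass.coe_inv,
    hH _ (inv_mem q.out.2) _ q'.out.2]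
  exact hmem

end Cfsg.Agent.Char.Blichfeldt
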