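import Cfsg.Agent.Lib.Char.Brauer
import Cfsg.Agent.Lib.Char.Generalized
import Cfsg.Agent.Lib.Char.Linear
import Mathlib.RingTheory.Polynomial.Cyclotomic.Roots
import Mathlib.Data.ZMod.Units

/-!
# Galois conjugates of character values through power maps
-/

set_option autoImplicit false
set_option linter.style.haveILetI false

namespace Cfsg.Agent.Char

open Cfsg Polynomial
open scoped ComplexConjugate

universe u

variable {G : Type u} [Group G]

theorem pow_mem_iff_of_coprime [Finite G] (E : Subgroup G) {k : ℕ} (hk : k.Coprime (Nat.card G))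
    (y : G) : y ^ k ∈ E ↔ y ∈ E := by
  refine ⟨fun h => ?_, fun h => E.pow_mem h k⟩
  have hc : k.Coprime (orderOf y) := hk.coprime_dvd_right (orderOf_dvd_natCard y)
  obtain ⟨m, hm⟩ := exists_pow_eq_self_of_coprime hc
  rw [← hm]
  exact E.pow_mem h m

theorem indFun_comp_pow [Fintype G] (E : Subgroup G) (l : E →* ℂˣ) {k : ℕ}
    (hk : k.Coprime (Nat.card G)) (g : G) :
    indFun E (fun e => (l e : ℂ)) (g ^ k) = indFun E (fun e => ((l ^ k) e : ℂ)) g := by
  rw [indFun_apply, indFun_apply]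
  congr 1
  refine Finset.sum_congr rfl fun x _ => ?_
  have e : x⁻¹ * g ^ k * x = (x⁻¹ * g * x) ^ k := by
    simpa using (conj_pow (a := x⁻¹) (b := g) (i := k)).symm
  rw [e]
  by_cases h : x⁻¹ * g * x ∈ E
  · have hl : ∀ (f : E → ℂ) (y : G) (hy : y ∈ E), extendByZero E f y = f ⟨y, hy⟩ :=
      fun f y hy => Subtype.val_injective.extend_apply f 0 ⟨y, hy⟩
    rw [hl _ _ (E.pow_mem h k), hl _ _ h, MonoidHom.pow_apply, ← map_pow]
    rfl
  · have hz : ∀ (f : E → ℂ) (y : G), y ∉ E → extendByZero E f y = 0 := fun f y hy => by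
      rw [extendByZero, Function.extend_apply' _ _ _ (by rintro ⟨a, rfl⟩; exact hy a.2)]
      rfl
    rw [hz _ _ h, hz _ _ fun h' => h ((pow_mem_iff_of_coprime E hk _).mp h')]

theorem isGeneralizedCharacter_comp_pow [Fintype G] {θ : G → ℂ} (hθ : IsGeneralizedCharacter G θ)
    {k : ℕ} (hk : k.Coprime (Nat.card G)) : IsGeneralizedCharacter G fun g => θ (g ^ k) := by
  classical
  haveI := Fintype.ofFinite (IrrCharacter G)
  have main : ∀ χ : G → ℂ, IsCharacter G χ → IsGeneralizedCharacter G fun g => χ (g ^ k) := by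
    intro χ hχ
    obtain ⟨l, -, rfl⟩ := brauer_induction hχ
    clear hχ
    induction l with
    | nil => exact isGeneralizedCharacter_zero
    | cons t l ih =>
      haveI := Fintype.ofFinite t.1
      have e : (fun g => ((t :: l).map fun t => (t.2.2 : ℂ) •
          indFun t.1 (fun e => (t.2.1 e : ℂ))).sum (g ^ k)) =
          (t.2.2 : ℂ) • indFun t.1 (fun e => ((t.2.1 ^ k) e : ℂ)) +
            fun g => (l.map fun t => (t.2.2 : ℂ) • indFun t.1 (fun e => (t.2.1 e : ℂ))).sum
              (g ^ k) := by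
        funext g
        simp [List.map_cons, List.sum_cons, indFun_comp_pow _ _ hk]
      rw [e]
      exact isGeneralizedCharacter_add (isGeneralizedCharacter_intCast_smul
        (isGeneralizedCharacter_indFun _
          (IsIrrCharacter.isGeneralized (isIrrCharacter_monoidHom _))) _) ih
  obtain ⟨c, rfl, -⟩ := IsGeneralizedCharacter.exists_intCoeff hθ
  have e : (fun g => (∑ χ : IrrCharacter G, (c χ : ℂ) • (χ : G → ℂ)) (g ^ k)) =
      ∑ χ : IrrCharacter G, (c χ : ℂ) • fun g => (χ : G → ℂ) (g ^ k) := by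
    funext g
    simp [Finset.sum_apply]
  rw [e]
  exact isGeneralizedCharacter_sum _ _ fun χ _ =>
    isGeneralizedCharacter_intCast_smul (main _ (IsIrrCharacter.isCharacter χ.2)) _

theorem classInner_comp_pow [Fintype G] {k : ℕ} (hk : (Nat.card G).Coprime k) (φ ψ : G → ℂ) :
    classInner (fun g => φ (g ^ k)) (fun g => ψ (g ^ k)) = classInner φ ψ := by
  rw [classInner, classInner]
  congr 1
  exact Fintype.sum_equiv (powCoprime hk) _ (fun g => φ g * conj (ψ g)) fun g => rfl

theorem isIrrCharacter_comp_pow [Finite G] {χ : G → ℂ} (hχ : IsIrrCharacter G χ) {k : ℕ}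
    (hk : k.Coprime (Nat.card G)) : IsIrrCharacter G fun g => χ (g ^ k) := by
  haveI := Fintype.ofFinite G
  have h := isGeneralizedCharacter_comp_pow (IsIrrCharacter.isGeneralized hχ) hk
  rcases IsGeneralizedCharacter.irr_or_neg h
    (by rw [classInner_comp_pow hk.symm]; exact IsIrrCharacter.classInner_self hχ) with h' | h'
  · exact h'
  · exfalso
    obtain ⟨n, hn⟩ := IsCharacter.exists_degree (IsIrrCharacter.isCharacter h')
    obtain ⟨m, hm⟩ := IsCharacter.exists_degree (IsIrrCharacter.isCharacter hχ)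
    simp only [Pi.neg_apply, one_pow, hm] at hn
    have : ((m + n : ℕ) : ℂ) = 0 := by push_cast; linear_combination -hn
    norm_cast at this
    exact IsIrrCharacter.apply_one_ne_zero hχ (by rw [hm]; simp; omega)

theorem isCharacter_comp_pow [Finite G] {χ : G → ℂ} (hχ : IsCharacter G χ) {k : ℕ}
    (hk : k.Coprime (Nat.card G)) : IsCharacter G fun g => χ (g ^ k) := by
  haveI := Fintype.ofFinite G
  haveI : NeZero (Nat.card G) := ⟨Nat.card_pos.ne'⟩
  let v : (ZMod (Nat.card G))ˣ := (ZMod.unitOfCoprime k hk)⁻¹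
  let j := (v : ZMod (Nat.card G)).val
  have hjc : j.Coprime (Nat.card G) := ZMod.val_coe_unit_coprime v
  have hj : k * j ≡ 1 [MOD Nat.card G] := (ZMod.natCast_eq_natCast_iff _ _ _).mp (by
    rw [Nat.cast_mul, ZMod.natCast_val, ZMod.cast_id, ← ZMod.coe_unitOfCoprime k hk, Units.mul_inv,
      Nat.cast_one])
  refine isCharacter_of_classInner_nat
    (fun x y => by
      simp only [conj_pow]
      exact IsCharacter.isClassFunction hχ (x ^ k) y) fun ψ hψ => ?_
  have e : classInner (fun g => χ (g ^ k)) ψ =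
      classInner χ (fun g => ψ (g ^ j)) := by
    rw [← classInner_comp_pow (k := k) hk.symm χ fun g => ψ (g ^ j)]
    congr 1
    funext g
    rw [← pow_mul, pow_eq_pow_iff_modEq.mpr (hj.of_dvd (orderOf_dvd_natCard g)), pow_one]
  rw [e]
  exact exists_classInner_nat hχ (isIrrCharacter_comp_pow hψ hjc)

/-- On an abelian group a generalized character is an integral combination of homomorphisms. -/
theorem exists_sum_linear {H : Type u} [Group H] [Finite H] (hab : ∀ a b : H, a * b = b * a)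
    {θ : H → ℂ} (hθ : IsGeneralizedCharacter H θ) :
    ∃ (s : Finset (IrrCharacter H)) (c : IrrCharacter H → ℤ) (l : IrrCharacter H → H →* ℂˣ),
      ∀ h, θ h = ∑ i ∈ s, (c i : ℂ) * (l i h : ℂ) := by
  haveI := Fintype.ofFinite H
  haveI := Fintype.ofFinite (IrrCharacter H)
  choose l hl using fun χ : IrrCharacter H => IsCharacter.exists_monoidHom
    (IsIrrCharacter.isCharacter χ.2) (IsIrrCharacter.degree_one_of_comm χ.2 hab)
  obtain ⟨c, hc, -⟩ := IsGeneralizedCharacter.exists_intCoeff hθ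
  refine ⟨Finset.univ, c, l, fun h => ?_⟩
  conv_lhs => rw [hc]
  simp only [Finset.sum_apply, Pi.smul_apply, smul_eq_mul]
  exact Finset.sum_congr rfl fun χ _ => by rw [congrFun (hl χ) h]

/-- The values at the powers of an element come from one integral polynomial. -/
theorem exists_value_poly [Finite G] {θ : G → ℂ} (hθ : IsGeneralizedCharacter G θ) (g : G) {ζ : ℂ}
    {n : ℕ} (hn : n ≠ 0) (hζ : IsPrimitiveRoot ζ n) (hg : g ^ n = 1) :
    ∃ P : ℤ[X], ∀ m : ℕ, θ (g ^ m) = aeval (ζ ^ m) P := by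
  haveI : NeZero n := ⟨hn⟩
  let g' : Subgroup.zpowers g := ⟨g, Subgroup.mem_zpowers g⟩
  have hab : ∀ a b : Subgroup.zpowers g, a * b = b * a := fun a b => Std.Commutative.comm a b
  obtain ⟨s, c, l, hl⟩ := exists_sum_linear hab (IsGeneralizedCharacter.restrict hθ _)
  have hroot : ∀ i, ∃ j, (l i g' : ℂ) = ζ ^ j := fun i => by
    obtain ⟨j, -, hj⟩ := hζ.eq_pow_of_pow_eq_one (ξ := (l i g' : ℂ)) (by
      rw [← Units.val_pow_eq_pow_val, ← map_pow, show g' ^ n = 1 from Subtype.ext hg, map_one,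
        Units.val_one])
    exact ⟨j, hj.symm⟩
  choose j hj using hroot
  refine ⟨∑ i ∈ s, C (c i) * X ^ j i, fun m => ?_⟩
  rw [show θ (g ^ m) = θ ((g' ^ m : Subgroup.zpowers g) : G) from rfl, hl]
  simp only [map_sum, map_mul, map_pow, aeval_C, aeval_X, eq_intCast, map_intCast, Units.val_pow_eq_pow_val, hj]
  exact Finset.sum_congr rfl fun i _ => by rw [← pow_mul, ← pow_mul, mul_comm (j i)]

/-- A rational relation on a primitive root holds at all primitive roots. -/
theorem aeval_pow_eq_zero {ζ : ℂ} {n : ℕ} (hn : n ≠ 0) (hζ : IsPrimitiveRoot ζ n) {k : ℕ}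
    (hk : k.Coprime n) {P : ℚ[X]} (h : aeval ζ P = 0) : aeval (ζ ^ k) P = 0 := by
  have hn' : 0 < n := Nat.pos_of_ne_zero hn
  obtain ⟨Q, rfl⟩ : cyclotomic n ℚ ∣ P := by
    rw [cyclotomic_eq_minpoly_rat hζ hn']
    exact minpoly.dvd ℚ ζ h
  rw [map_mul, cyclotomic_eq_minpoly_rat (hζ.pow_of_coprime k hk) hn', minpoly.aeval, zero_mul]

theorem apply_pow_eq_of_rat [Finite G] {θ : G → ℂ} (hθ : IsGeneralizedCharacter G θ) (g : G)
    {q : ℚ} (h : θ g = (q : ℂ)) {k : ℕ} (hk : k.Coprime (orderOf g)) : θ (g ^ k) = θ g := by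
  have hn := (orderOf_pos g).ne'
  have hζ := Complex.isPrimitiveRoot_exp (orderOf g) hn
  obtain ⟨P, hP⟩ := exists_value_poly hθ g hn hζ (pow_orderOf_eq_one g)
  have h0 := aeval_pow_eq_zero hn hζ hk (P := P.map (algebraMap ℤ ℚ) - C q) (by
    rw [map_sub, aeval_map_algebraMap, aeval_C]
    have := hP 1
    rw [pow_one, pow_one] at this
    rw [← this, h]
    simp)
  rw [map_sub, aeval_map_algebraMap, aeval_C, sub_eq_zero] at h0
  rw [hP k, h0, h]
  simp

theorem exists_rat_of_apply_pow_eq [Finite G] {θ : G → ℂ} (hθ : IsGeneralizedCharacter G θ) (g : G)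
    (h : ∀ m : ℕ, m.Coprime (orderOf g) → θ (g ^ m) = θ g) : ∃ q : ℚ, θ g = (q : ℂ) := by
  have hn' := orderOf_pos g
  have hn := hn'.ne'
  have hζ := Complex.isPrimitiveRoot_exp (orderOf g) hn
  set ζ := Complex.exp (2 * Real.pi * Complex.I / (orderOf g))
  obtain ⟨P, hP⟩ := exists_value_poly hθ g hn hζ (pow_orderOf_eq_one g)
  haveI : NeZero (orderOf g) := ⟨hn⟩
  let R : ℚ[X] := (P.map (algebraMap ℤ ℚ)) %ₘ cyclotomic (orderOf g) ℚ
  have hR : ∀ μ : ℂ, IsPrimitiveRoot μ (orderOf g) → aeval μ R = θ g := by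
    intro μ hμ
    obtain ⟨m, -, hm, rfl⟩ := hζ.isPrimitiveRoot_iff.mp hμ
    have h0 : aeval (ζ ^ m) (cyclotomic (orderOf g) ℚ) = 0 := by
      rw [cyclotomic_eq_minpoly_rat hμ hn', minpoly.aeval]
    rw [aeval_modByMonic_eq_self_of_root h0, aeval_map_algebraMap, ← hP m, h m hm]
  have hdeg : R.degree < (orderOf g).totient := by
    refine lt_of_lt_of_eq (degree_modByMonic_lt _ (cyclotomic.monic _ _)) ?_
    rw [degree_cyclotomic]
  have hz : R.map (algebraMap ℚ ℂ) - C (θ g) = 0 := by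
    refine eq_zero_of_natDegree_lt_card_of_eval_eq_zero' _ (primitiveRoots (orderOf g) ℂ) ?_ ?_
    · intro μ hμ
      rw [eval_sub, eval_C, eval_map, ← aeval_def, hR μ ((mem_primitiveRoots hn').mp hμ), sub_self]
    · rw [Complex.card_primitiveRoots]
      refine lt_of_le_of_lt natDegree_sub_C.le ?_
      rw [natDegree_map]
      by_cases hR0 : R = 0
      · rw [hR0, natDegree_zero]; exact Nat.totient_pos.mpr hn'
      · exact (natDegree_lt_iff_degree_lt hR0).mpr hdeg
  refine ⟨R.coeff 0, ?_⟩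
  have := congrArg (fun p => coeff p 0) hz
  simp [coeff_map] at this
  linear_combination -this

theorem exists_int_of_apply_pow_eq [Finite G] {θ : G → ℂ} (hθ : IsGeneralizedCharacter G θ) (g : G)
    (h : ∀ m : ℕ, m.Coprime (orderOf g) → θ (g ^ m) = θ g) : ∃ z : ℤ, θ g = (z : ℂ) := by
  obtain ⟨q, hq⟩ := exists_rat_of_apply_pow_eq hθ g h
  obtain ⟨z, rfl⟩ := rat_eq_int_of_isIntegral (hq ▸ IsGeneralizedCharacter.isIntegral hθ g)
  exact ⟨z, by simpa using hq⟩

/-- An exponent prime to a multiple of the modulus with prescribed residue. -/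
theorem exists_coprime_lift {n N : ℕ} (hN : N ≠ 0) (hdvd : n ∣ N) {m : ℕ} (hm : m.Coprime n) :
    ∃ k : ℕ, k.Coprime N ∧ k ≡ m [MOD n] := by
  haveI : NeZero N := ⟨hN⟩
  haveI : NeZero n := ⟨fun e => hN (by subst e; simpa using hdvd)⟩
  obtain ⟨u, hu⟩ := ZMod.unitsMap_surjective hdvd (ZMod.unitOfCoprime m hm)
  refine ⟨(u : ZMod N).val, ZMod.val_coe_unit_coprime u, (ZMod.natCast_eq_natCast_iff _ _ _).mp ?_⟩
  have := congrArg (fun v : (ZMod n)ˣ => (v : ZMod n)) hu
  simp only [ZMod.coe_unitOfCoprime, ZMod.unitsMap_val] at this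
  rw [← this, ZMod.natCast_val]

end Cfsg.Agent.Char
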