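import Cfsg.Agent.Lib.Char.Orthogonality
import Cfsg.Agent.Lib.Char.Linear
import Cfsg.Agent.Lib.Char.Monomial
import Cfsg.Agent.Lib.Char.Extension

/-!
# Characters of groups with derived group of prime order in the centre
-/

set_option autoImplicit false
set_option linter.style.haveILetI false

namespace Cfsg.Agent.Char

open Cfsg Representation Module
open scoped ComplexConjugate

universe u

variable {G : Type u} [Group G]

/-- A central element multiplies the values of an irreducible character by a root of unity. -/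
theorem IsIrrCharacter.central_apply [Finite G] {χ : G → ℂ} (hχ : IsIrrCharacter G χ) {z : G}
    (hz : z ∈ Subgroup.center G) : ∃ ω : ℂ, ‖ω‖ = 1 ∧ ∀ g, χ (z * g) = ω * χ g := by
  have h0 := IsIrrCharacter.apply_one_ne_zero hχ
  obtain ⟨n, ρ, hρ, rfl⟩ := hχ
  haveI := hρ
  obtain ⟨c, hc⟩ := isScalar_of_commute ρ (ρ z) fun g => by
    rw [← map_mul, ← map_mul, Subgroup.mem_center_iff.mp hz g]
  refine ⟨c, ?_, fun g => ?_⟩
  · have h1 : ‖ρ.character z‖ = (finrank ℂ (Fin n → ℂ) : ℝ) :=
      (norm_character_eq_iff ρ z).mpr ⟨c, hc⟩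
    have h2 : ρ.character z = c * ρ.character 1 := by
      simp [Representation.character, hc]
    rw [h2, norm_mul, ρ.char_one, Complex.norm_natCast] at h1
    have h3 : (finrank ℂ (Fin n → ℂ) : ℝ) ≠ 0 := by
      rw [ρ.char_one] at h0
      exact_mod_cast h0
    exact (mul_eq_right₀ h3).mp h1
  · show LinearMap.trace ℂ _ (ρ (z * g)) = c * LinearMap.trace ℂ _ (ρ g)
    rw [map_mul, hc, smul_mul_assoc, one_mul, map_smul, smul_eq_mul]

/-- In a subgroup of prime order every element is a power of any nontrivial one. -/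
theorem mem_of_prime_card [Finite G] {p : ℕ} (hp : p.Prime) {Z H : Subgroup G}
    (hZ : Nat.card Z = p) {z : G} (hz : z ∈ Z) (hz1 : z ≠ 1) (hzH : z ∈ H) : Z ≤ H := by
  haveI := Fact.mk hp
  intro y hy
  obtain ⟨i, hi⟩ := Subgroup.mem_zpowers_iff.mp
    (mem_zpowers_of_prime_card (p := p) hZ (g := (⟨z, hz⟩ : Z)) (g' := ⟨y, hy⟩)
      (fun h => hz1 (congrArg Subtype.val h)))
  have : z ^ i = y := by simpa using congrArg Subtype.val hi
  rw [← this]
  exact H.zpow_mem hzH i

/-- A nonlinear character vanishes off the centre. -/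
theorem apply_eq_zero_of_prime_derived [Finite G] {p : ℕ} (hp : p.Prime)
    (hcard : Nat.card (Subgroup.center G) = p) (hcomm : commutator G = Subgroup.center G)
    {χ : G → ℂ} (hχ : IsIrrCharacter G χ) (h1 : χ 1 ≠ 1) {x : G}
    (hx : x ∉ Subgroup.center G) : χ x = 0 := by
  have hχc := IsIrrCharacter.isCharacter hχ
  obtain ⟨y, hy⟩ : ∃ y, y * x ≠ x * y := by
    by_contra hh
    push Not at hh
    exact hx (Subgroup.mem_center_iff.mpr hh)
  set c := y * x * y⁻¹ * x⁻¹ with hc
  have hc1 : c ≠ 1 := fun h => hy (by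
    calc y * x = c * (x * y) := by rw [hc]; group
      _ = x * y := by rw [h, one_mul])
  have hmem : ∀ a b : G, a * b * a⁻¹ * b⁻¹ ∈ Subgroup.center G := fun a b => by
    rw [← hcomm]
    exact Subgroup.commutator_mem_commutator (Subgroup.mem_top a) (Subgroup.mem_top b)
  obtain ⟨ω, -, hω⟩ := IsIrrCharacter.central_apply hχ (hmem y x)
  have hω1 : ω ≠ 1 := by
    intro h
    let K : Subgroup G :=
      { carrier := {g | ∀ u, χ (g * u) = χ u}
        one_mem' := fun u => by rw [one_mul]
        mul_mem' := fun {a b} ha hb u => by rw [mul_assoc, ha, hb]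
        inv_mem' := fun {a} ha u => by
          have h2 := ha (a⁻¹ * u)
          rw [mul_inv_cancel_left] at h2
          exact h2.symm }
    have hK : Subgroup.center G ≤ K :=
      mem_of_prime_card hp hcard (hmem y x) hc1 fun u => by rw [hω, h, one_mul]
    exact h1 (IsIrrCharacter.degree_one_of_commutator_ker hχ fun a b => by
      simpa using hK (hmem a b) 1)
  have h2 : χ (y * x * y⁻¹) = ω * χ x := by
    rw [← hω]
    congr 1
    group
  rw [IsCharacter.isClassFunction hχc x y] at h2
  by_contra h0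
  exact hω1 ((mul_eq_right₀ h0).mp h2.symm)

/-- The degree of a nonlinear character. -/
theorem sq_degree_of_prime_derived [Finite G] {p : ℕ} (hp : p.Prime)
    (hcard : Nat.card (Subgroup.center G) = p) (hcomm : commutator G = Subgroup.center G)
    {χ : G → ℂ} (hχ : IsIrrCharacter G χ) (h1 : χ 1 ≠ 1) :
    (p : ℂ) * χ 1 ^ 2 = (Nat.card G : ℂ) := by
  classical
  haveI := Fintype.ofFinite G
  obtain ⟨d, hd⟩ := IsCharacter.exists_degree (IsIrrCharacter.isCharacter hχ)
  have h := IsIrrCharacter.classInner_self hχ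
  simp only [classInner] at h
  rw [inv_mul_eq_one₀ (Nat.cast_ne_zero.mpr Nat.card_pos.ne')] at h
  rw [h, ← Finset.sum_subset (Finset.subset_univ
    (Finset.univ.filter fun g : G => g ∈ Subgroup.center G)) (fun g _ hg => by
      rw [apply_eq_zero_of_prime_derived hp hcard hcomm hχ h1 (by simpa using hg), zero_mul])]
  have he : ∀ g ∈ Finset.univ.filter (fun g : G => g ∈ Subgroup.center G),
      χ g * conj (χ g) = χ 1 ^ 2 := by
    intro g hg
    obtain ⟨ω, hn, hω⟩ := IsIrrCharacter.central_apply hχ (Finset.mem_filter.mp hg).2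
    have := hω 1
    rw [mul_one] at this
    rw [this, Complex.mul_conj, Complex.normSq_eq_norm_sq, norm_mul, hn, one_mul, hd,
      Complex.norm_natCast]
    push_cast
    ring
  rw [Finset.sum_congr rfl he, Finset.sum_const, ← Fintype.card_subtype,
    ← Nat.card_eq_fintype_card, nsmul_eq_mul]
  have : Nat.card {g : G // g ∈ Subgroup.center G} = p := hcard
  rw [this]

end Cfsg.Agent.Char
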