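import Mathlib

/-!
# Cosets of a coprime normalising element
-/

set_option autoImplicit false
set_option linter.style.haveILetI false

namespace Cfsg.Agent.Char

variable {G : Type*} [Group G]

/-- If `c * g = g * c` and the orders are coprime, `g` is a power of `c * g`, with an exponent
depending only on the two bounds. -/
theorem pow_mul_eq_right {n m e : ℕ} (h1 : e ≡ 1 [MOD n]) (h0 : e ≡ 0 [MOD m]) {c g : G}
    (hcg : Commute c g) (hc : c ^ m = 1) (hg : g ^ n = 1) : (c * g) ^ e = g := by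
  rw [hcg.mul_pow]
  have hc' : c ^ e = 1 := by
    obtain ⟨k, rfl⟩ := Nat.modEq_zero_iff_dvd.mp h0
    rw [pow_mul, hc, one_pow]
  have hg' : g ^ e = g := by
    have := pow_eq_pow_iff_modEq.mpr (h1.of_dvd (orderOf_dvd_of_pow_eq_one hg))
    rw [this, pow_one]
  rw [hc', hg', one_mul]

/-- Every element of the coset of a coprime normalising element `g` is conjugate under `H` to an
element `c * g` with `c` centralising `g`. -/
theorem exists_conj_coset [Finite G] (H : Subgroup G) (g : G)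
    (hg : g ∈ Subgroup.normalizer (H : Set G))
    (hcop : Nat.Coprime (orderOf g) (Nat.card H)) {h : G} (hh : h ∈ H) :
    ∃ x ∈ H, ∃ c ∈ H, c * g = g * c ∧ x * (h * g) * x⁻¹ = c * g := by
  classical
  haveI := Fintype.ofFinite G
  obtain ⟨e, he1, he0⟩ := Nat.chineseRemainder hcop 1 0
  let C : Subgroup G := H ⊓ Subgroup.centralizer ({g} : Set G)
  have hCH : ∀ c : C, (c : G) ∈ H := fun c => c.2.1
  have hCg : ∀ c : C, Commute (c : G) g := fun c =>
    (Subgroup.mem_centralizer_singleton_iff.mp c.2.2).symm.symm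
  have hpow : ∀ c : C, ((c : G) * g) ^ e = g := fun c =>
    pow_mul_eq_right he1 he0 (hCg c)
      (orderOf_dvd_iff_pow_eq_one.mp (H.orderOf_dvd_natCard (hCH c))) (pow_orderOf_eq_one g)
  have hmem : ∀ p : H × C, (p.1 : G) * ((p.2 : G) * g) * (p.1 : G)⁻¹ * g⁻¹ ∈ H := by
    intro p
    have h2 : g * (p.1 : G)⁻¹ * g⁻¹ ∈ H :=
      (Subgroup.mem_normalizer_iff.mp hg _).mp (H.inv_mem p.1.2)
    have : (p.1 : G) * ((p.2 : G) * g) * (p.1 : G)⁻¹ * g⁻¹ =
        (p.1 : G) * (p.2 : G) * (g * (p.1 : G)⁻¹ * g⁻¹) := by group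
    rw [this]
    exact H.mul_mem (H.mul_mem p.1.2 (hCH p.2)) h2
  let f : H × C → H := fun p => ⟨_, hmem p⟩
  haveI := Fintype.ofFinite H
  haveI := Fintype.ofFinite C
  have hfib : ∀ y ∈ Finset.univ.image f,
      (Finset.univ.filter fun p => f p = y).card ≤ Fintype.card C := by
    intro y hy
    obtain ⟨⟨x0, c0⟩, -, rfl⟩ := Finset.mem_image.mp hy
    have key : ∀ p : H × C, f p = f (x0, c0) →
        (x0 : G)⁻¹ * (p.1 : G) ∈ C ∧
          (c0 : G) = ((x0 : G)⁻¹ * p.1) * p.2 * ((x0 : G)⁻¹ * p.1)⁻¹ := by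
      intro p hp
      have e1 : (p.1 : G) * ((p.2 : G) * g) * (p.1 : G)⁻¹ * g⁻¹ =
          (x0 : G) * ((c0 : G) * g) * (x0 : G)⁻¹ * g⁻¹ := congrArg Subtype.val hp
      have e2 := mul_right_cancel e1
      set w := (x0 : G)⁻¹ * (p.1 : G) with hw
      have e3 : w * ((p.2 : G) * g) * w⁻¹ = (c0 : G) * g := by
        calc w * ((p.2 : G) * g) * w⁻¹
            = (x0 : G)⁻¹ * ((p.1 : G) * ((p.2 : G) * g) * (p.1 : G)⁻¹) * x0 := by
              rw [hw]; group
          _ = (c0 : G) * g := by rw [e2]; group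
      have e4 : w * g * w⁻¹ = g := by
        conv_rhs => rw [← hpow c0, ← e3, conj_pow, hpow p.2]
      have hwg : g * w = w * g := by
        conv_lhs => rw [← e4]
        group
      refine ⟨⟨H.mul_mem (H.inv_mem x0.2) p.1.2, ?_⟩, ?_⟩
      · show w ∈ Subgroup.centralizer ({g} : Set G)
        rw [Subgroup.mem_centralizer_singleton_iff]
        first
          | exact hwg
          | exact hwg.symm
      · apply mul_right_cancel (b := g)
        rw [← e3]
        calc w * ((p.2 : G) * g) * w⁻¹ = (w * p.2 * w⁻¹) * (w * g * w⁻¹) := by group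
          _ = w * p.2 * w⁻¹ * g := by rw [e4]
    refine Finset.card_le_card_of_injOn
      (fun p => if hp : (x0 : G)⁻¹ * (p.1 : G) ∈ C then (⟨_, hp⟩ : C) else 1)
      (fun _ _ => Finset.mem_coe.mpr (Finset.mem_univ _)) ?_
    intro p hp q hq hpq
    simp only [Finset.coe_filter, Finset.mem_univ, true_and, Set.mem_ofPred_eq] at hp hq
    obtain ⟨hp1, hp2⟩ := key p hp
    obtain ⟨hq1, hq2⟩ := key q hq
    simp only [dif_pos hp1, dif_pos hq1] at hpq
    have e1 : (x0 : G)⁻¹ * (p.1 : G) = (x0 : G)⁻¹ * (q.1 : G) := congrArg Subtype.val hpq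
    refine Prod.ext (Subtype.ext (mul_left_cancel e1)) (Subtype.ext ?_)
    have := hp2.symm.trans hq2
    rw [e1] at this
    exact mul_left_cancel (mul_right_cancel this)
  have hcard : Fintype.card H * Fintype.card C ≤
      (Finset.univ.image f).card * Fintype.card C := by
    rw [← Fintype.card_prod, ← Finset.card_univ (α := H × C)]
    refine le_trans (Finset.card_le_mul_card_image Finset.univ (Fintype.card C) hfib) ?_
    rw [mul_comm]
  have himg : Finset.univ.image f = (Finset.univ : Finset H) :=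
    Finset.eq_univ_of_card _ (le_antisymm (Finset.card_le_univ _)
      (Nat.le_of_mul_le_mul_right hcard Fintype.card_pos))
  obtain ⟨⟨x, c⟩, -, hxc⟩ := Finset.mem_image.mp (himg ▸ Finset.mem_univ (⟨h, hh⟩ : H))
  refine ⟨(x : G)⁻¹, H.inv_mem x.2, c, hCH c, hCg c, ?_⟩
  have e1 : (x : G) * ((c : G) * g) * (x : G)⁻¹ * g⁻¹ = h := congrArg Subtype.val hxc
  rw [← e1]
  group

/-- A coprime element fixing the class of `k` in `H` centralises some conjugate of `k`. -/
theorem exists_fixed_conj [Finite G] (H : Subgroup G) (g : G)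
    (hg : g ∈ Subgroup.normalizer (H : Set G))
    (hcop : Nat.Coprime (orderOf g) (Nat.card H)) {k m : G} (hm : m ∈ H)
    (hfix : g * k * g⁻¹ = m * k * m⁻¹) :
    ∃ y ∈ H, g * (y * k * y⁻¹) = y * k * y⁻¹ * g := by
  obtain ⟨x, hx, c, hc, hcg, hxc⟩ := exists_conj_coset H g hg hcop (H.inv_mem hm)
  refine ⟨x, hx, ?_⟩
  obtain ⟨e, he1, he0⟩ := Nat.chineseRemainder hcop 1 0
  have hpow : (c * g) ^ e = g :=
    pow_mul_eq_right he1 he0 hcg
      (orderOf_dvd_iff_pow_eq_one.mp (H.orderOf_dvd_natCard hc)) (pow_orderOf_eq_one g)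
  have hk' : Commute (m⁻¹ * g) k := by
    show m⁻¹ * g * k = k * (m⁻¹ * g)
    calc m⁻¹ * g * k = m⁻¹ * (g * k * g⁻¹) * g := by group
      _ = k * (m⁻¹ * g) := by rw [hfix]; group
  have hk'' : Commute (c * g) (x * k * x⁻¹) := by
    rw [← hxc]
    show x * (m⁻¹ * g) * x⁻¹ * (x * k * x⁻¹) = x * k * x⁻¹ * (x * (m⁻¹ * g) * x⁻¹)
    calc x * (m⁻¹ * g) * x⁻¹ * (x * k * x⁻¹) = x * (m⁻¹ * g * k) * x⁻¹ := by group
      _ = x * (k * (m⁻¹ * g)) * x⁻¹ := by rw [hk'.eq]
      _ = x * k * x⁻¹ * (x * (m⁻¹ * g) * x⁻¹) := by group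
  have := hk''.pow_left e
  rw [hpow] at this
  exact this.eq

end Cfsg.Agent.Char
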