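import Cfsg.Agent.Lib.Char.Extension
import Mathlib.LinearAlgebra.Projection

/-!
# Characters determine representations
-/

set_option autoImplicit false
set_option linter.style.haveILetI false

namespace Cfsg.Agent.Char

open Cfsg Representation Module

universe u v w

variable {G : Type u} [Group G]

/-- The product of two equivalences of representations. -/
theorem nonempty_equiv_of_isCompl {V : Type v} {W : Type w} [AddCommGroup V] [Module ℂ V]
    [AddCommGroup W] [Module ℂ W] (ρ : Representation ℂ G V) (σ : Representation ℂ G W)
    {A A' : Subrepresentation ρ} (hA : IsCompl A A') {B B' : Subrepresentation σ}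
    (hB : IsCompl B B') (φ : A.toRepresentation.Equiv B.toRepresentation)
    (ψ : A'.toRepresentation.Equiv B'.toRepresentation) : Nonempty (ρ.Equiv σ) := by
  let eA := Submodule.prodEquivOfIsCompl _ _ (isCompl_toSubmodule hA)
  let eB := Submodule.prodEquivOfIsCompl _ _ (isCompl_toSubmodule hB)
  let L : V ≃ₗ[ℂ] W := eA.symm ≪≫ₗ (φ.toLinearEquiv.prodCongr ψ.toLinearEquiv) ≪≫ₗ eB
  refine ⟨Representation.Equiv.mk L fun g => LinearMap.ext fun x => ?_⟩
  obtain ⟨p, rfl⟩ := eA.surjective x
  have h1 : ρ g (eA p) = eA (A.toRepresentation g p.1, A'.toRepresentation g p.2) := by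
    simp only [eA, Submodule.coe_prodEquivOfIsCompl', map_add]
    rfl
  have h2 : ∀ q : B.toSubmodule × B'.toSubmodule,
      σ g (eB q) = eB (B.toRepresentation g q.1, B'.toRepresentation g q.2) := fun q => by
    simp only [eB, Submodule.coe_prodEquivOfIsCompl', map_add]
    rfl
  have hφ : φ.toLinearEquiv (A.toRepresentation g p.1) =
      B.toRepresentation g (φ.toLinearEquiv p.1) :=
    LinearMap.congr_fun (φ.toIntertwiningMap.isIntertwining' g) p.1
  have hψ : ψ.toLinearEquiv (A'.toRepresentation g p.2) =
      B'.toRepresentation g (ψ.toLinearEquiv p.2) :=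
    LinearMap.congr_fun (ψ.toIntertwiningMap.isIntertwining' g) p.2
  show L (ρ g (eA p)) = σ g (L (eA p))
  rw [h1]
  simp only [L, LinearEquiv.trans_apply, LinearEquiv.symm_apply_apply, LinearEquiv.prodCongr_apply]
  rw [h2, hφ, hψ]

theorem character_eq_add_of_isCompl {V : Type v} [AddCommGroup V] [Module ℂ V]
    [FiniteDimensional ℂ V] (ρ : Representation ℂ G V) {A A' : Subrepresentation ρ}
    (hA : IsCompl A A') :
    ρ.character = A.toRepresentation.character + A'.toRepresentation.character := by
  funext g
  let eA := Submodule.prodEquivOfIsCompl _ _ (isCompl_toSubmodule hA)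
  have h : ρ g = eA.conj (LinearMap.prodMap (A.toRepresentation g) (A'.toRepresentation g)) := by
    refine LinearMap.ext fun x => ?_
    obtain ⟨p, rfl⟩ := eA.surjective x
    rw [LinearEquiv.conj_apply_apply, LinearEquiv.symm_apply_apply, LinearMap.prodMap_apply]
    simp only [eA, Submodule.coe_prodEquivOfIsCompl', map_add]
    rfl
  show LinearMap.trace ℂ V (ρ g) = _
  rw [h, LinearMap.trace_conj', LinearMap.trace_prodMap']
  rfl

theorem nonempty_equiv_of_character_eq_aux [Fintype G] (n : ℕ) :
    ∀ {V : Type v} {W : Type w} [AddCommGroup V] [Module ℂ V] [FiniteDimensional ℂ V]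
      [AddCommGroup W] [Module ℂ W] [FiniteDimensional ℂ W] (ρ : Representation ℂ G V)
      (σ : Representation ℂ G W), finrank ℂ V = n → ρ.character = σ.character →
      Nonempty (ρ.Equiv σ) := by
  classical
  induction n using Nat.strong_induction_on with
  | _ n IH =>
    intro V W _ _ _ _ _ _ ρ σ hn h
    have hdim : finrank ℂ V = finrank ℂ W := by
      have := congrFun h 1
      rw [ρ.char_one, σ.char_one] at this
      exact_mod_cast this
    rcases Nat.eq_zero_or_pos n with h0 | h0
    · haveI : Subsingleton V := Module.finrank_zero_iff.mp (hn.trans h0)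
      haveI : Subsingleton W := Module.finrank_zero_iff.mp (hdim ▸ hn.trans h0)
      exact ⟨Representation.Equiv.mk (LinearEquiv.ofFinrankEq V W hdim)
        fun g => LinearMap.ext fun x => Subsingleton.elim _ _⟩
    have hex : ∃ k : ℕ, ∃ A : Subrepresentation ρ, finrank ℂ A.toSubmodule = k ∧ 0 < k :=
      ⟨n, ⊤, (finrank_top ℂ V).trans hn, h0⟩
    obtain ⟨A, hAk, hk⟩ := Nat.find_spec hex
    haveI : Nontrivial A.toSubmodule :=
      Module.nontrivial_of_finrank_pos (R := ℂ) (hAk ▸ hk)
    haveI : A.toRepresentation.IsIrreducible := by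
      have hne : (⊥ : Subrepresentation A.toRepresentation) ≠ ⊤ := fun e =>
        (bot_ne_top : (⊥ : Submodule ℂ A.toSubmodule) ≠ ⊤)
          (congrArg Subrepresentation.toSubmodule e)
      haveI : Nontrivial (Subrepresentation A.toRepresentation) := ⟨⟨⊥, ⊤, hne⟩⟩
      refine ⟨fun S => ?_⟩
      by_cases hS : S.toSubmodule = ⊥
      · exact Or.inl (Subrepresentation.toSubmodule_injective hS)
      refine Or.inr (Subrepresentation.toSubmodule_injective ?_)
      let S' : Subrepresentation ρ := ⟨S.toSubmodule.map A.toSubmodule.subtype, fun g x hx => by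
        obtain ⟨y, hy, rfl⟩ := hx
        exact ⟨A.toRepresentation g y, S.apply_mem_toSubmodule g hy, rfl⟩⟩
      have e := (Submodule.equivMapOfInjective A.toSubmodule.subtype
        A.toSubmodule.subtype_injective S.toSubmodule).finrank_eq
      have h1 : Nat.find hex ≤ finrank ℂ S.toSubmodule := by
        refine Nat.find_min' hex ⟨S', e.symm, ?_⟩
        rw [Nat.pos_iff_ne_zero]
        exact fun h2 => hS (Submodule.finrank_eq_zero.mp h2)
      show S.toSubmodule = ⊤
      exact Submodule.eq_top_of_finrank_eq (le_antisymm (Submodule.finrank_le _) (hAk ▸ h1))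
    obtain ⟨A', hA'⟩ := exists_isCompl A
    have hc := character_eq_add_of_isCompl ρ hA'
    have hne : finrank ℂ (IntertwiningMap A.toRepresentation σ) ≠ 0 := by
      intro e
      have h1 := classInner_character_eq_finrank A.toRepresentation σ
      rw [← h, hc, classInner_add_left, (isIrreducible_iff_classInner A.toRepresentation).mp ‹_›,
        e, Nat.cast_zero] at h1
      obtain ⟨m, hm⟩ := classInner_natCast_of_isCharacter
        (isCharacter_character A'.toRepresentation) (isCharacter_character A.toRepresentation)
      rw [hm] at h1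
      have : (1 + m : ℕ) = 0 := by exact_mod_cast h1
      omega
    haveI : Nontrivial (IntertwiningMap A.toRepresentation σ) :=
      Module.nontrivial_of_finrank_pos (R := ℂ) (Nat.pos_of_ne_zero hne)
    obtain ⟨f, hf⟩ := exists_ne (0 : IntertwiningMap A.toRepresentation σ)
    let K : Subrepresentation A.toRepresentation := ⟨LinearMap.ker f.toLinearMap, fun g x hx => by
      rw [LinearMap.mem_ker] at hx ⊢
      have := LinearMap.congr_fun (f.isIntertwining' g) x
      simp only [LinearMap.coe_comp, Function.comp_apply] at this
      rw [this, hx, map_zero]⟩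
    have hinj : Function.Injective f.toLinearMap := by
      rw [← LinearMap.ker_eq_bot]
      rcases (‹A.toRepresentation.IsIrreducible›).eq_bot_or_eq_top K with e | e
      · exact congrArg Subrepresentation.toSubmodule e
      · exfalso
        apply hf
        refine IntertwiningMap.ext ?_
        exact LinearMap.ker_eq_top.mp (congrArg Subrepresentation.toSubmodule e)
    let B : Subrepresentation σ := ⟨LinearMap.range f.toLinearMap, fun g x hx => by
      obtain ⟨y, rfl⟩ := hx
      exact ⟨A.toRepresentation g y, LinearMap.congr_fun (f.isIntertwining' g) y⟩⟩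
    let φ : A.toRepresentation.Equiv B.toRepresentation :=
      Representation.Equiv.mk (LinearEquiv.ofInjective f.toLinearMap hinj) fun g =>
        LinearMap.ext fun y => Subtype.ext (LinearMap.congr_fun (f.isIntertwining' g) y)
    obtain ⟨B', hB'⟩ := exists_isCompl B
    have hcB := character_eq_add_of_isCompl σ hB'
    have hlt : finrank ℂ A'.toSubmodule < n := by
      have := Submodule.finrank_add_eq_of_isCompl (isCompl_toSubmodule hA')
      omega
    have hcc : A'.toRepresentation.character = B'.toRepresentation.character := by
      have e := hc.symm.trans (h.trans hcB)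
      rw [Representation.char_iso φ] at e
      exact add_left_cancel e
    obtain ⟨ψ⟩ := IH _ hlt A'.toRepresentation B'.toRepresentation rfl hcc
    exact nonempty_equiv_of_isCompl ρ σ hA' hB' φ ψ

end Cfsg.Agent.Char
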