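import Cfsg.Agent.Lib.Char.Extension2
import Cfsg.Agent.Lib.Char.Gallagher
import Cfsg.Agent.Lib.Char.CoprimeFix
import Cfsg.Agent.Lib.Char.Galois
import Cfsg.Agent.Lib.Char.Perm
import Cfsg.Agent.Lib.Char.Equiv

/-!
# The Glauberman correspondence for a cyclic operator group
-/

set_option autoImplicit false
set_option linter.style.haveILetI false
set_option linter.unusedSectionVars false

namespace Cfsg.Agent.Char.GlaubCyclic

open Cfsg Cfsg.Agent.Char Representation Module
open scoped ComplexConjugate Pointwise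

universe u

variable {Γ : Type u} [Group Γ] [Finite Γ]

/-- The determinant character commutes with power maps. -/
theorem detChar_comp_pow {X X' : Γ → ℂ} (hX : IsIrrCharacter Γ X) (hX' : IsIrrCharacter Γ X')
    {k : ℕ} (h : ∀ x, X' x = X (x ^ k)) (x : Γ) : detChar X' x = detChar X x ^ k := by
  obtain ⟨n, ρ, hρ, rfl⟩ := hX
  obtain ⟨n', σ, hσ, rfl⟩ := hX'
  haveI := hρ
  haveI := hσ
  rw [detChar_eq σ, detChar_eq ρ, ← map_pow, ← map_pow]
  set H := Subgroup.zpowers x with hH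
  haveI := Fintype.ofFinite H
  have hcomm : ∀ a b : H, a * b = b * a := by
    rintro ⟨_, i, rfl⟩ ⟨_, j, rfl⟩
    exact Subtype.ext (Commute.zpow_zpow_self x i j).eq
  let pk : H →* H := MonoidHom.mk' (fun a => a ^ k) fun a b =>
    (show Commute a b from hcomm a b).mul_pow k
  let σ₁ : Representation ℂ H (Fin n' → ℂ) := σ.comp H.subtype
  let ρ₁ : Representation ℂ H (Fin n → ℂ) := (ρ.comp H.subtype).comp pk
  have hc : σ₁.character = ρ₁.character := funext fun a => by
    show σ.character (a : Γ) = ρ.character ((a ^ k : H) : Γ)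
    rw [h, SubmonoidClass.coe_pow]
  obtain ⟨φ⟩ := nonempty_equiv_of_character_eq_aux _ σ₁ ρ₁ rfl hc
  have e := Equiv.conj_apply_self (⟨x, Subgroup.mem_zpowers x⟩ : H) φ
  show LinearMap.det (σ x) = LinearMap.det (ρ (x ^ k))
  rw [show ρ (x ^ k) = ρ₁ ⟨x, Subgroup.mem_zpowers x⟩ from rfl, ← e, LinearEquiv.conj_apply,
    LinearMap.comp_assoc, LinearMap.det_conj]
  rfl

/-- A cyclic group `⟨s⟩` acting coprimely on a normal supplement `G`. -/
structure Data (Γ : Type u) [Group Γ] where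
  G : Subgroup Γ
  normal : G.Normal
  C : Subgroup Γ
  s : Γ
  hC : C = G ⊓ Subgroup.centralizer ({s} : Set Γ)
  top : G ⊔ Subgroup.zpowers s = ⊤
  cop : (Nat.card G).Coprime (orderOf s)

variable (D : Data Γ)

namespace Data

instance : D.G.Normal := D.normal

theorem C_le : D.C ≤ D.G := by rw [D.hC]; exact inf_le_left

theorem comm (c : D.C) : Commute (c : Γ) D.s := by
  have h : (c : Γ) ∈ D.G ⊓ Subgroup.centralizer ({D.s} : Set Γ) := D.hC ▸ c.2
  exact (Subgroup.mem_centralizer_singleton_iff.mp h.2).symm.symm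

theorem mem_C {x : Γ} (hx : x ∈ D.G) (h : D.s * x = x * D.s) : x ∈ D.C := by
  rw [D.hC]
  exact ⟨hx, Subgroup.mem_centralizer_singleton_iff.mpr (by first | exact h | exact h.symm)⟩

theorem pow_card (c : D.C) : (c : Γ) ^ Nat.card D.G = 1 :=
  orderOf_dvd_iff_pow_eq_one.mp (D.G.orderOf_dvd_natCard (D.C_le c.2))

theorem exists_eq (x : Γ) : ∃ g ∈ D.G, ∃ y ∈ Subgroup.zpowers D.s, x = g * y := by
  have hx : x ∈ ((D.G : Set Γ) * (Subgroup.zpowers D.s : Set Γ)) := by
    rw [← Subgroup.normal_mul, D.top]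
    trivial
  obtain ⟨g, hg, y, hy, rfl⟩ := hx
  exact ⟨g, hg, y, hy, rfl⟩

theorem inf_eq_bot : D.G ⊓ Subgroup.zpowers D.s = ⊥ := by
  refine Subgroup.inf_eq_bot_of_coprime ?_
  rw [Nat.card_zpowers]
  exact D.cop

theorem index_eq : D.G.index = orderOf D.s := by
  have h : Subgroup.IsComplement' D.G (Subgroup.zpowers D.s) := by
    refine Subgroup.isComplement'_of_disjoint_and_mul_eq_univ (disjoint_iff.mpr D.inf_eq_bot) ?_
    rw [← Subgroup.normal_mul, D.top, Subgroup.coe_top]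
  rw [← Nat.card_zpowers, h.symm.index_eq_card]

theorem card_eq : Nat.card Γ = Nat.card D.G * orderOf D.s := by
  rw [← D.index_eq, Subgroup.card_mul_index]

theorem pow_mem_iff (i : ℕ) : D.s ^ i ∈ D.G ↔ D.s ^ i = 1 := by
  refine ⟨fun h => ?_, fun h => h ▸ D.G.one_mem⟩
  have h' : D.s ^ i ∈ D.G ⊓ Subgroup.zpowers D.s := ⟨h, Subgroup.npow_mem_zpowers _ _⟩
  rwa [D.inf_eq_bot, Subgroup.mem_bot] at h'

variable [Fintype D.G] [Fintype D.C]

/-- Averaging over the coset `G s` is averaging over `C s`. -/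
theorem sum_coset {f : Γ → ℂ} (hf : IsClassFunction Γ f) :
    (Nat.card D.C : ℂ) * ∑ g : D.G, f ((g : Γ) * D.s) =
      (Nat.card D.G : ℂ) * ∑ c : D.C, f ((c : Γ) * D.s) := by
  classical
  obtain ⟨e, he1, he0⟩ := Nat.chineseRemainder D.cop.symm 1 0
  have hpow : ∀ c : D.C, ((c : Γ) * D.s) ^ e = D.s := fun c =>
    pow_mul_eq_right he1 he0 (D.comm c) (D.pow_card c) (pow_orderOf_eq_one _)
  have hmem : ∀ q : D.G × D.C, (q.1 : Γ) * ((q.2 : Γ) * D.s) * (q.1 : Γ)⁻¹ * D.s⁻¹ ∈ D.G := by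
    intro q
    rw [show (q.1 : Γ) * ((q.2 : Γ) * D.s) * (q.1 : Γ)⁻¹ * D.s⁻¹ =
      (q.1 : Γ) * (q.2 : Γ) * (D.s * (q.1 : Γ)⁻¹ * D.s⁻¹) by group]
    exact D.G.mul_mem (D.G.mul_mem q.1.2 (D.C_le q.2.2))
      (D.normal.conj_mem _ (D.G.inv_mem q.1.2) _)
  set Φ : D.G × D.C → D.G := fun q => ⟨_, hmem q⟩ with hΦ
  have hΦs : ∀ q, ((Φ q : D.G) : Γ) * D.s = (q.1 : Γ) * ((q.2 : Γ) * D.s) * (q.1 : Γ)⁻¹ :=
    fun q => inv_mul_cancel_right _ _
  have hfib : ∀ y : D.G, (Finset.univ.filter fun q => Φ q = y).card = Nat.card D.C := by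
    intro y
    obtain ⟨x, hx, c, hc, hcs, hxc⟩ := exists_conj_coset D.G D.s
      (by rw [Subgroup.normalizer_eq_top]; trivial) D.cop.symm y.2
    have hcC : c ∈ D.C := D.mem_C hc hcs.symm
    have hy0 : (x⁻¹ : Γ) * (c * D.s) * x = (y : Γ) * D.s := by rw [← hxc]; group
    rw [Nat.card_eq_fintype_card, ← Finset.card_univ]
    refine (Finset.card_bij' (fun (w : D.C) _ =>
      ((⟨x⁻¹ * w, D.G.mul_mem (D.G.inv_mem hx) (D.C_le w.2)⟩ : D.G),
        (⟨(w : Γ)⁻¹ * c * w, D.C.mul_mem (D.C.mul_mem (D.C.inv_mem w.2) hcC) w.2⟩ : D.C)))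
      (fun q hq => (⟨x * (q.1 : Γ), ?_⟩ : D.C)) ?_ ?_ ?_ ?_).symm
    · -- membership of `x q₁` in `C`
      have hq' : Φ q = y := (Finset.mem_filter.mp hq).2
      have h1 : (q.1 : Γ) * ((q.2 : Γ) * D.s) * (q.1 : Γ)⁻¹ = x⁻¹ * (c * D.s) * x := by
        rw [hy0, ← hq', hΦs]
      set w := x * (q.1 : Γ) with hw
      have h2 : w * ((q.2 : Γ) * D.s) * w⁻¹ = c * D.s := by
        calc w * ((q.2 : Γ) * D.s) * w⁻¹
            = x * ((q.1 : Γ) * ((q.2 : Γ) * D.s) * (q.1 : Γ)⁻¹) * x⁻¹ := by rw [hw]; group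
          _ = c * D.s := by rw [h1]; group
      have h3 : w * D.s * w⁻¹ = D.s := by
        conv_rhs => rw [← hpow ⟨c, hcC⟩, ← h2, conj_pow, hpow q.2]
      exact D.mem_C (D.G.mul_mem hx q.1.2) (mul_inv_eq_iff_eq_mul.mp h3).symm
    · intro w _
      refine Finset.mem_filter.mpr ⟨Finset.mem_univ _, Subtype.ext (mul_right_cancel (b := D.s) ?_)⟩
      rw [hΦs, ← hy0]
      have hw := D.comm w
      show x⁻¹ * (w : Γ) * ((w : Γ)⁻¹ * c * w * D.s) * (x⁻¹ * (w : Γ))⁻¹ = _
      rw [mul_assoc ((w : Γ)⁻¹ * c) (w : Γ) D.s, hw.eq]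
      group
    · intro q _
      exact Finset.mem_univ _
    · intro w _
      exact Subtype.ext (mul_inv_cancel_left x (w : Γ))
    · intro q hq
      have hq' : Φ q = y := (Finset.mem_filter.mp hq).2
      have h1 : (q.1 : Γ) * ((q.2 : Γ) * D.s) * (q.1 : Γ)⁻¹ = x⁻¹ * (c * D.s) * x := by
        rw [hy0, ← hq', hΦs]
      refine Prod.ext (Subtype.ext (inv_mul_cancel_left x (q.1 : Γ))) (Subtype.ext ?_)
      show (x * (q.1 : Γ))⁻¹ * c * (x * (q.1 : Γ)) = q.2
      have h2 : (x * (q.1 : Γ))⁻¹ * (c * D.s) * (x * (q.1 : Γ)) = (q.2 : Γ) * D.s := by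
        calc (x * (q.1 : Γ))⁻¹ * (c * D.s) * (x * (q.1 : Γ))
            = (q.1 : Γ)⁻¹ * (x⁻¹ * (c * D.s) * x) * (q.1 : Γ) := by group
          _ = _ := by rw [← h1]; group
      set w := x * (q.1 : Γ) with hw
      have h3 : w⁻¹ * D.s * w = D.s := by
        have := congrArg (fun z => z ^ e) h2
        rw [hpow q.2, show w⁻¹ * (c * D.s) * w = w⁻¹ * (c * D.s) * (w⁻¹)⁻¹ by rw [inv_inv],
          conj_pow, hpow ⟨c, hcC⟩, inv_inv] at this
        exact this
      refine mul_right_cancel (b := D.s) (Eq.trans ?_ h2)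
      calc w⁻¹ * c * w * D.s = w⁻¹ * c * (w * (w⁻¹ * D.s * w)) := by rw [h3]; group
        _ = w⁻¹ * (c * D.s) * w := by group
  calc (Nat.card D.C : ℂ) * ∑ g : D.G, f ((g : Γ) * D.s)
      = ∑ y : D.G, ∑ q ∈ Finset.univ.filter (fun q => Φ q = y), f ((Φ q : Γ) * D.s) := by
        rw [Finset.mul_sum]
        refine Finset.sum_congr rfl fun y _ => ?_
        rw [Finset.sum_congr rfl fun q hq => by rw [(Finset.mem_filter.mp hq).2], Finset.sum_const,
          hfib y, nsmul_eq_mul]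
    _ = ∑ q : D.G × D.C, f ((Φ q : Γ) * D.s) := Finset.sum_fiberwise _ _ _
    _ = (Nat.card D.G : ℂ) * ∑ c : D.C, f ((c : Γ) * D.s) := by
        rw [Fintype.sum_prod_type, Finset.sum_congr rfl fun (x : D.G) _ =>
          Finset.sum_congr rfl fun (c : D.C) _ => show f ((Φ (x, c) : Γ) * D.s) = f ((c : Γ) * D.s) by
            rw [hΦs]; exact hf ((c : Γ) * D.s) (x : Γ)]
        rw [Finset.sum_const, Finset.card_univ, nsmul_eq_mul, Nat.card_eq_fintype_card]

/-- The map to class functions of `C`. -/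
def res (X : Γ → ℂ) : D.C → ℂ := fun c => X ((c : Γ) * D.s)

/-- An extension of a character of `G` with determinantal order prime to `[Γ : G]`. -/
structure Canon (θ : D.G → ℂ) (X : Γ → ℂ) : Prop where
  irrG : IsIrrCharacter D.G θ
  irr : IsIrrCharacter Γ X
  ext : ∀ g : D.G, X g = θ g
  det : (detOrder X).Coprime (orderOf D.s)

theorem invariant {θ : D.G → ℂ} {X : Γ → ℂ} (hX : IsIrrCharacter Γ X) (he : ∀ g : D.G, X g = θ g)
    (x : Γ) : conjChar D.G x θ = θ := by
  funext n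
  show θ ⟨x * n * x⁻¹, _⟩ = θ n
  rw [← he, ← he]
  exact IsCharacter.isClassFunction (IsIrrCharacter.isCharacter hX) _ _

/-- The isometry. -/
theorem classInner_res {θ θ' : D.G → ℂ} {X X' : Γ → ℂ} (h : D.Canon θ X) (h' : D.Canon θ' X')
    [Decidable (θ = θ')] :
    classInner (D.res X) (D.res X') = if θ = θ' then 1 else 0 := by
  classical
  haveI := Fintype.ofFinite Γ
  have hcX := IsCharacter.isClassFunction (IsIrrCharacter.isCharacter h.irr)
  have hcX' := IsCharacter.isClassFunction (IsIrrCharacter.isCharacter h'.irr)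
  have hsum := D.sum_coset (f := fun x => X x * conj (X' x)) fun x y => by
    simp only [hcX x y, hcX' x y]
  have hC0 : (Nat.card D.C : ℂ) ≠ 0 := Nat.cast_ne_zero.mpr Nat.card_pos.ne'
  have hG0 : (Nat.card D.G : ℂ) ≠ 0 := Nat.cast_ne_zero.mpr Nat.card_pos.ne'
  have key : classInner (D.res X) (D.res X') = cosetAverage D.G X' X D.s := by
    simp only [classInner, cosetAverage, res]
    rw [inv_mul_eq_div, inv_mul_eq_div, div_eq_div_iff hC0 hG0]
    linear_combination -hsum
  rw [key]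
  have hX'G : IsIrrCharacter D.G (fun g : D.G => X' g) := by
    rw [show (fun g : D.G => X' g) = θ' from funext h'.ext]; exact h'.irrG
  have hin : classInner (fun g : D.G => X g) (fun g : D.G => X' g) = classInner θ θ' := by
    rw [show (fun g : D.G => X g) = θ from funext h.ext,
      show (fun g : D.G => X' g) = θ' from funext h'.ext]
  split_ifs with e
  · -- the canonical extension is unique
    subst e
    have hXX : X' = X := by
      obtain ⟨d, -, hd⟩ := IsIrrCharacter.degree_pos h.irrG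
      have hdG : d ∣ Nat.card D.G := degree_dvd_card h.irrG d hd
      obtain ⟨l, hl⟩ := exists_detHom h.irrG
      have hdet : detOrder θ ∣ Nat.card D.G := by
        rw [detOrder, hl, orderOf_linearChar]
        exact orderOf_dvd_of_pow_eq_one (MonoidHom.ext fun n => by
          rw [MonoidHom.pow_apply, ← map_pow, pow_card_eq_one', map_one, MonoidHom.one_apply])
      have hco : Nat.Coprime D.G.index (detOrder θ * d) := by
        rw [D.index_eq]
        exact Nat.Coprime.mul_right (Nat.Coprime.coprime_dvd_right hdet D.cop.symm)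
          (Nat.Coprime.coprime_dvd_right hdG D.cop.symm)
      obtain ⟨Y, -, huniq⟩ := exists_unique_extension_coprime h.irrG
        (D.invariant h.irr h.ext) hd hco
      rw [huniq X h.irr h.ext (by rw [D.index_eq]; exact h.det.symm),
        huniq X' h'.irr h'.ext (by rw [D.index_eq]; exact h'.det.symm)]
    subst hXX
    rw [(cosetAverage_spec D.G h'.irr hX'G h.irr).2.2 rfl]
  · rw [(cosetAverage_spec D.G h'.irr hX'G h.irr).2.1 (by
      rw [hin]; exact IsIrrCharacter.classInner_eq_zero h.irrG h'.irrG e)]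
    rfl

/-- Values at `c s` do not depend on the generator. -/
theorem apply_pow {θ : D.G → ℂ} {X : Γ → ℂ} (h : D.Canon θ X) {j : ℕ}
    (hj : j.Coprime (orderOf D.s)) (c : D.C) :
    X ((c : Γ) * D.s ^ j) = X ((c : Γ) * D.s) := by
  classical
  obtain ⟨k, hk1, hkj⟩ := Nat.chineseRemainder D.cop 1 j
  have hkG : k.Coprime (Nat.card D.G) := by
    rw [Nat.Coprime, Nat.ModEq.gcd_eq hk1, Nat.gcd_one_left]
  have hks : k.Coprime (orderOf D.s) := by
    rw [Nat.Coprime, Nat.ModEq.gcd_eq hkj]; exact hj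
  have hk : k.Coprime (Nat.card Γ) := by rw [D.card_eq]; exact Nat.Coprime.mul_right hkG hks
  have hY : IsIrrCharacter Γ fun x => X (x ^ k) := isIrrCharacter_comp_pow h.irr hk
  have hfix : ∀ g : D.G, ((g : Γ)) ^ k = g := fun g => by
    have := pow_eq_pow_iff_modEq.mpr (hk1.of_dvd (D.G.orderOf_dvd_natCard g.2))
    rw [this, pow_one]
  have hcan : D.Canon θ fun x => X (x ^ k) := by
    refine ⟨h.irrG, hY, fun g => ?_, ?_⟩
    · show X (((g : Γ)) ^ k) = θ g
      rw [hfix g, h.ext]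
    · refine Nat.Coprime.coprime_dvd_left ?_ h.det
      simp only [detOrder]
      have e : detChar (fun x => X (x ^ k)) = detChar X ^ k := funext fun x => by
        rw [Pi.pow_apply]; exact detChar_comp_pow h.irr hY (fun _ => rfl) x
      rw [e]
      exact orderOf_pow_dvd k
  have heq : D.res (fun x => X (x ^ k)) = D.res X := by
    haveI : Decidable (θ = θ) := .isTrue rfl
    rw [← sub_eq_zero]
    refine classInner_self_eq_zero ?_
    rw [classInner_sub_left, classInner_sub_right, classInner_sub_right, D.classInner_res hcan hcan,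
      D.classInner_res hcan h, D.classInner_res h hcan, D.classInner_res h h, if_pos rfl]
    ring
  have e := congrFun heq c
  simp only [res] at e
  rw [← e]
  congr 1
  rw [(D.comm c).mul_pow, hfix ⟨c, D.C_le c.2⟩]
  congr 1
  exact (pow_eq_pow_iff_modEq.mpr hkj).symm

/-- The components along the operator group form a character. -/
theorem isCharacter_component {X : Γ → ℂ} (hX : IsCharacter Γ X) {β : D.C → ℂ}
    (hβ : IsIrrCharacter D.C β) :
    IsCharacter (Subgroup.zpowers D.s) (fun y => classInner (fun c : D.C => X ((c : Γ) * y)) β) := by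
  haveI := Fintype.ofFinite (Subgroup.zpowers D.s)
  have hab : ∀ a b : Subgroup.zpowers D.s, a * b = b * a := by
    rintro ⟨_, i, rfl⟩ ⟨_, j, rfl⟩
    exact Subtype.ext (Commute.zpow_zpow_self D.s i j).eq
  refine isCharacter_of_classInner_nat (fun a b => ?_) fun ψ hψ => ?_
  · rw [show b * a * b⁻¹ = a by rw [hab b a, mul_inv_cancel_right]]
  · have hmul : ∀ (c : D.C) (y : Subgroup.zpowers D.s), Commute (c : Γ) (y : Γ) := by
      rintro c ⟨_, i, rfl⟩
      exact (D.comm c).zpow_right i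
    let e : D.C × Subgroup.zpowers D.s →* Γ :=
      MonoidHom.noncommCoprod D.C.subtype (Subgroup.zpowers D.s).subtype hmul
    obtain ⟨m, hm⟩ := exists_classInner_nat (isCharacter_comp hX e) (isIrrCharacter_outer hβ hψ)
    refine ⟨m, ?_⟩
    rw [← hm]
    simp only [classInner, Nat.card_prod, Nat.cast_mul, mul_inv, Fintype.sum_prod_type, map_mul]
    rw [Finset.sum_comm]
    simp only [Finset.mul_sum, Finset.sum_mul]
    refine Finset.sum_congr rfl fun y _ => Finset.sum_congr rfl fun c _ => ?_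
    show _ = _ * _ * (X ((c : Γ) * (y : Γ)) * _)
    ring

theorem exists_int {θ : D.G → ℂ} {X : Γ → ℂ} (h : D.Canon θ X) {β : D.C → ℂ}
    (hβ : IsIrrCharacter D.C β) : ∃ z : ℤ, classInner (D.res X) β = (z : ℂ) := by
  have ha := D.isCharacter_component (IsIrrCharacter.isCharacter h.irr) hβ
  refine exists_int_of_apply_pow_eq (IsCharacter.isGeneralized ha)
    (⟨D.s, Subgroup.mem_zpowers _⟩ : Subgroup.zpowers D.s) fun m hm => ?_
  rw [Subgroup.orderOf_mk] at hm
  simp only [SubmonoidClass.mk_pow]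
  congr 1
  exact funext fun c => D.apply_pow h hm c

/-- A constituent of the image is a constituent of the restriction. -/
theorem constituent {X : Γ → ℂ} (hX : IsCharacter Γ X) {β : D.C → ℂ} (hβ : IsIrrCharacter D.C β)
    (h : classInner (D.res X) β ≠ 0) : classInner (fun c : D.C => X (c : Γ)) β ≠ 0 := by
  intro h0
  have ha := D.isCharacter_component hX hβ
  have h1 := IsCharacter.norm_le ha ⟨D.s, Subgroup.mem_zpowers _⟩
  simp only [OneMemClass.coe_one, mul_one, h0, norm_zero] at h1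
  exact h (norm_le_zero_iff.mp h1)

theorem isClassFunction_res {X : Γ → ℂ} (hX : IsClassFunction Γ X) :
    IsClassFunction D.C (D.res X) := by
  intro a b
  simp only [res, Subgroup.coe_mul, Subgroup.coe_inv]
  have e : (b : Γ) * a * (b : Γ)⁻¹ * D.s = (b : Γ) * ((a : Γ) * D.s) * (b : Γ)⁻¹ := by
    rw [mul_assoc _ (b : Γ)⁻¹ D.s, ((D.comm b).inv_left).eq]; group
  rw [e]
  exact hX _ _

/-- The image of a canonical extension is a signed irreducible character. -/
theorem exists_signed {θ : D.G → ℂ} {X : Γ → ℂ} (h : D.Canon θ X) :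
    ∃ (β : IrrCharacter D.C) (ε : ℤ), (ε = 1 ∨ ε = -1) ∧
      D.res X = (ε : ℂ) • (β : D.C → ℂ) := by
  classical
  haveI := Fintype.ofFinite (IrrCharacter D.C)
  choose z hz using fun β : IrrCharacter D.C => D.exists_int h β.2
  have hgen : IsGeneralizedCharacter D.C (D.res X) := by
    rw [IsClassFunction.eq_sum (D.isClassFunction_res
      (IsCharacter.isClassFunction (IsIrrCharacter.isCharacter h.irr)))]
    refine isGeneralizedCharacter_sum _ _ fun β _ => ?_
    rw [hz β]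
    exact isGeneralizedCharacter_intCast_smul (IsIrrCharacter.isGeneralized β.2) _
  rcases IsGeneralizedCharacter.irr_or_neg hgen
    (by rw [D.classInner_res h h, if_pos rfl]) with h1 | h1
  · exact ⟨⟨_, h1⟩, 1, Or.inl rfl, by simp⟩
  · exact ⟨⟨_, h1⟩, -1, Or.inr rfl, by simp⟩

/-- The linear characters of `Γ / G`. -/
theorem sum_twist {Z : Γ → ℂ} (hZ : IsIrrCharacter Γ Z) {c : Γ} (hc : c ∈ D.G)
    (hne : Z (c * D.s) ≠ 0) : IsIrrCharacter D.G fun g : D.G => Z g := by
  classical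
  haveI := Fintype.ofFinite Γ
  haveI := Fintype.ofFinite (IrrCharacter (Γ ⧸ D.G))
  set π := QuotientGroup.mk' D.G with hπ
  have hgen : ∀ q : Γ ⧸ D.G, ∃ i : ℤ, π D.s ^ i = q := by
    intro q
    obtain ⟨x, rfl⟩ := QuotientGroup.mk'_surjective D.G q
    obtain ⟨g, hg, y, ⟨i, rfl⟩, rfl⟩ := D.exists_eq x
    refine ⟨i, ?_⟩
    rw [map_mul, map_zpow, show π g = 1 from (QuotientGroup.eq_one_iff g).mpr hg, one_mul]
  have hab : ∀ a b : Γ ⧸ D.G, a * b = b * a := by
    intro a b
    obtain ⟨i, rfl⟩ := hgen a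
    obtain ⟨j, rfl⟩ := hgen b
    exact (Commute.zpow_zpow_self _ i j).eq
  have h1 : ∀ χ : IrrCharacter (Γ ⧸ D.G), (χ : Γ ⧸ D.G → ℂ) 1 = 1 := fun χ =>
    IsIrrCharacter.degree_one_of_comm χ.2 hab
  obtain ⟨d, -, hd⟩ := IsIrrCharacter.degree_pos hZ
  have hcoef : ∀ χ : IrrCharacter (Γ ⧸ D.G),
      classInner (fun x => (χ : Γ ⧸ D.G → ℂ) (π x) * Z x) Z =
        if χ = ⟨1, isIrrCharacter_one⟩ then 1 else 0 := by
    intro χ
    split_ifs with e
    · subst e
      simp only [Pi.one_apply, one_mul]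
      exact IsIrrCharacter.classInner_self hZ
    · obtain ⟨l, hl⟩ := IsCharacter.exists_monoidHom (IsIrrCharacter.isCharacter χ.2) (h1 χ)
      have htw := (exists_twist_character (l.comp π) hZ hd).1
      have hfun : (fun x => (χ : Γ ⧸ D.G → ℂ) (π x) * Z x) =
          fun x => ((l.comp π) x : ℂ) * Z x := funext fun x => by
        rw [hl]; rfl
      rw [hfun]
      refine IsIrrCharacter.classInner_eq_zero htw hZ fun hh => e ?_
      have := congrFun hh (c * D.s)
      simp only [MonoidHom.comp_apply, map_mul,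
        show π c = 1 from (QuotientGroup.eq_one_iff c).mpr hc, map_one, one_mul] at this
      have hls : l (π D.s) = 1 := Units.ext ((mul_eq_right₀ hne).mp this)
      refine Subtype.ext (funext fun q => ?_)
      obtain ⟨i, rfl⟩ := hgen q
      rw [hl]
      simp only [map_zpow, hls, one_zpow, Units.val_one, Pi.one_apply]
  have hsum : ∑ χ : IrrCharacter (Γ ⧸ D.G),
      classInner (fun x => (χ : Γ ⧸ D.G → ℂ) (π x) * Z x) Z = 1 := by
    rw [Finset.sum_congr rfl fun χ _ => hcoef χ]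
    simp
  have hdelta : ∀ x : Γ, ∑ χ : IrrCharacter (Γ ⧸ D.G), (χ : Γ ⧸ D.G → ℂ) (π x) =
      if x ∈ D.G then (D.G.index : ℂ) else 0 := by
    intro x
    have := regular_eq (π x)
    rw [Finset.sum_congr rfl fun χ _ => by rw [h1 χ, one_mul]] at this
    rw [this, ← Subgroup.index_eq_card]
    exact if_congr (QuotientGroup.eq_one_iff x) rfl rfl
  refine isIrrCharacter_iff.mpr ⟨IsCharacter.restrict (IsIrrCharacter.isCharacter hZ) D.G, ?_⟩
  rw [← hsum]
  simp only [classInner]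
  rw [← Finset.mul_sum, Finset.sum_comm]
  rw [Finset.sum_congr rfl fun x (_ : x ∈ Finset.univ) => show
      ∑ χ : IrrCharacter (Γ ⧸ D.G), (χ : Γ ⧸ D.G → ℂ) (π x) * Z x * conj (Z x) =
        if x ∈ D.G then (D.G.index : ℂ) * (Z x * conj (Z x)) else 0 by
    rw [← Finset.sum_mul, ← Finset.sum_mul, hdelta]
    split_ifs <;> ring]
  rw [← Finset.sum_filter, ← Finset.mul_sum, ← Subgroup.card_mul_index D.G,
    Finset.sum_subtype (p := fun x => x ∈ D.G) (Finset.univ.filter fun x => x ∈ D.G) (by simp)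
      (fun x => Z x * conj (Z x))]
  have hi : (D.G.index : ℂ) ≠ 0 := Nat.cast_ne_zero.mpr Subgroup.index_ne_zero_of_finite
  push_cast
  field_simp

/-- Every irreducible character of `C` is an image. -/
theorem exists_preimage (β : IrrCharacter D.C) :
    ∃ (θ : D.G → ℂ) (X : Γ → ℂ), D.Canon θ X ∧ classInner (D.res X) (β : D.C → ℂ) ≠ 0 := by
  classical
  haveI := Fintype.ofFinite Γ
  haveI := Fintype.ofFinite (IrrCharacter Γ)
  obtain ⟨Z, hZ⟩ : ∃ Z : IrrCharacter Γ, classInner (D.res (Z : Γ → ℂ)) (β : D.C → ℂ) ≠ 0 := by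
    by_contra hh
    push Not at hh
    have h0 : ∑ Z : IrrCharacter Γ, classInner (D.res (Z : Γ → ℂ)) (β : D.C → ℂ) *
        conj ((Z : Γ → ℂ) D.s) = 0 := by simp [hh]
    simp only [classInner, res, Finset.mul_sum, Finset.sum_mul] at h0
    rw [Finset.sum_comm] at h0
    rw [Finset.sum_eq_single (1 : D.C)] at h0
    · rw [Finset.sum_congr rfl fun (Z : IrrCharacter Γ) _ => show
          (Nat.card D.C : ℂ)⁻¹ * ((Z : Γ → ℂ) (((1 : D.C) : Γ) * D.s) *
            conj ((β : D.C → ℂ) 1)) * conj ((Z : Γ → ℂ) D.s) =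
          (Nat.card D.C : ℂ)⁻¹ * conj ((β : D.C → ℂ) 1) *
            ((Z : Γ → ℂ) D.s * conj ((Z : Γ → ℂ) D.s)) by
            rw [OneMemClass.coe_one, one_mul]; ring,
        ← Finset.mul_sum, second_orthogonality, if_pos (IsConj.refl _)] at h0
      rcases mul_eq_zero.mp h0 with e | e
      · rcases mul_eq_zero.mp e with e | e
        · simp at e
        · exact IsIrrCharacter.apply_one_ne_zero β.2 ((map_eq_zero _).mp e)
      · exact Nat.card_pos.ne' (Nat.cast_eq_zero.mp e)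
    · intro c _ hc
      rw [Finset.sum_congr rfl fun (Z : IrrCharacter Γ) _ => show
          (Nat.card D.C : ℂ)⁻¹ * ((Z : Γ → ℂ) ((c : Γ) * D.s) *
            conj ((β : D.C → ℂ) c)) * conj ((Z : Γ → ℂ) D.s) =
          (Nat.card D.C : ℂ)⁻¹ * conj ((β : D.C → ℂ) c) *
            ((Z : Γ → ℂ) ((c : Γ) * D.s) * conj ((Z : Γ → ℂ) D.s)) by ring,
        ← Finset.mul_sum, second_orthogonality, if_neg fun hconj => hc ?_, mul_zero]
      obtain ⟨t, ht⟩ := isConj_iff.mp hconj
      have h1 : ((c : Γ) * D.s) ^ orderOf D.s = 1 := by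
        have h2 : (t * ((c : Γ) * D.s) * t⁻¹) ^ orderOf D.s = 1 := by
          rw [ht, pow_orderOf_eq_one]
        rw [conj_pow] at h2
        exact conj_eq_one_iff.mp h2
      rw [(D.comm c).mul_pow, pow_orderOf_eq_one, mul_one] at h1
      have h3 : orderOf (c : Γ) = 1 := Nat.eq_one_of_dvd_coprimes D.cop
        (orderOf_dvd_iff_pow_eq_one.mpr (D.pow_card c)) (orderOf_dvd_iff_pow_eq_one.mpr h1)
      exact Subtype.ext (orderOf_eq_one_iff.mp h3)
    · simp
  obtain ⟨c, hc⟩ : ∃ c : D.C, D.res (Z : Γ → ℂ) c ≠ 0 := by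
    by_contra hh
    push Not at hh
    exact hZ (by simp [classInner, hh])
  have hθ := D.sum_twist Z.2 (D.C_le c.2) hc
  obtain ⟨d, -, hd⟩ := IsIrrCharacter.degree_pos hθ
  obtain ⟨l, hl⟩ := exists_detHom hθ
  have hco : Nat.Coprime D.G.index (detOrder (fun g : D.G => (Z : Γ → ℂ) g) * d) := by
    rw [D.index_eq]
    refine Nat.Coprime.mul_right (Nat.Coprime.coprime_dvd_right ?_ D.cop.symm)
      (Nat.Coprime.coprime_dvd_right (degree_dvd_card hθ d hd) D.cop.symm)
    rw [detOrder, hl, orderOf_linearChar]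
    exact orderOf_dvd_of_pow_eq_one (MonoidHom.ext fun n => by
      rw [MonoidHom.pow_apply, ← map_pow, pow_card_eq_one', map_one, MonoidHom.one_apply])
  obtain ⟨X, ⟨hX, hXθ, hXd⟩, -⟩ := exists_unique_extension_coprime hθ
    (D.invariant Z.2 fun _ => rfl) hd hco
  refine ⟨_, X, ⟨hθ, hX, hXθ, ?_⟩, ?_⟩
  · rw [hXd, ← D.index_eq]
    exact (Nat.Coprime.coprime_mul_right_right hco).symm
  · obtain ⟨μ, hμ, hZμ⟩ := extension_eq_twist hθ hX Z.2 hXθ fun _ => rfl
    intro h0
    refine hZ ?_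
    have e : D.res (Z : Γ → ℂ) = (μ D.s : ℂ) • D.res X := funext fun c => by
      show (Z : Γ → ℂ) _ = _
      rw [hZμ]
      show (μ ((c : Γ) * D.s) : ℂ) * X _ = _
      rw [map_mul, hμ ⟨c, D.C_le c.2⟩, one_mul]
      rfl
    rw [e, classInner_smul_left, h0, mul_zero]

end Data

end Cfsg.Agent.Char.GlaubCyclic
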