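import Cfsg.Agent.Lib.Char.Clifford
import Cfsg.Agent.Lib.Char.Linear
import Cfsg.Agent.Lib.Char.Extension2
import Mathlib.GroupTheory.FiniteAbelian.Duality

/-!
# Restriction of an irreducible character to a normal subgroup with abelian quotient
-/

set_option autoImplicit false
set_option linter.style.haveILetI false

namespace Cfsg.Agent.Char

open Cfsg
open scoped ComplexConjugate

universe u

theorem sum_dual_eq {Q : Type u} [CommGroup Q] [Finite Q] [Fintype (Q →* ℂˣ)] [DecidableEq Q]
    (a : Q) : ∑ l : Q →* ℂˣ, (l a : ℂ) = if a = 1 then (Nat.card Q : ℂ) else 0 := by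
  split_ifs with h
  · subst h
    simp only [map_one, Units.val_one, Finset.sum_const, Finset.card_univ, nsmul_eq_mul, mul_one]
    rw [← Nat.card_eq_fintype_card, CommGroup.card_monoidHom_of_hasEnoughRootsOfUnity Q ℂ]
  · obtain ⟨μ, hμ⟩ := CommGroup.exists_apply_ne_one_of_hasEnoughRootsOfUnity Q ℂ h
    have h1 : (μ a : ℂ) * ∑ l : Q →* ℂˣ, (l a : ℂ) = ∑ l : Q →* ℂˣ, (l a : ℂ) := by
      rw [Finset.mul_sum]
      exact Fintype.sum_equiv (Equiv.mulLeft μ) _ _ fun l => by simp
    have h2 : ((μ a : ℂ) - 1) * ∑ l : Q →* ℂˣ, (l a : ℂ) = 0 := by rw [sub_mul, h1, one_mul, sub_self]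
    exact (mul_eq_zero.mp h2).resolve_left (sub_ne_zero.mpr fun e => hμ (Units.ext e))

variable {K : Type u} [Group K] [Fintype K] (L : Subgroup K) [L.Normal] [Fintype L]

theorem classInner_restrict_self {θ : K → ℂ} (hθ : IsIrrCharacter K θ) {φ : L → ℂ}
    (hφ : IsIrrCharacter L φ) {e : ℕ} (he : classInner (fun n : L => θ n) φ = e) (he0 : e ≠ 0) :
    classInner (fun n : L => θ n) (fun n : L => θ n) =
      ((e ^ 2 * (conjOrbit L φ).card : ℕ) : ℂ) := by
  have hne : classInner (fun n : L => θ n) φ ≠ 0 := by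
    rw [he]; exact_mod_cast he0
  conv_lhs =>
    arg 2
    rw [restrict_eq_smul_sum_conjOrbit L hθ hφ hne]
  rw [classInner_smul_right, classInner_sum_right, Finset.sum_congr rfl fun ψ hψ => show
    classInner (fun n : L => θ n) ψ = (e : ℂ) from ?_, he, map_natCast]
  · simp; ring
  · obtain ⟨g, rfl⟩ := (mem_conjOrbit L).mp hψ
    rw [classInner_restrict_conjChar L (IsCharacter.isClassFunction (IsIrrCharacter.isCharacter hθ)), he]

theorem sum_restrict_self {θ : K → ℂ} (hθ : IsIrrCharacter K θ) {φ : L → ℂ}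
    (hφ : IsIrrCharacter L φ) {e : ℕ} (he : classInner (fun n : L => θ n) φ = e) (he0 : e ≠ 0) :
    ∑ n : L, θ n * conj (θ n) = ((Nat.card L * (e ^ 2 * (conjOrbit L φ).card) : ℕ) : ℂ) := by
  have h := classInner_restrict_self L hθ hφ he he0
  rw [classInner] at h
  rw [Nat.cast_mul, ← h, ← mul_assoc, mul_inv_cancel₀ (Nat.cast_ne_zero.mpr Nat.card_pos.ne'),
    one_mul]

theorem sum_self_eq_card {θ : K → ℂ} (hθ : IsIrrCharacter K θ) :
    ∑ k : K, θ k * conj (θ k) = (Nat.card K : ℂ) := by
  have h := IsIrrCharacter.classInner_self hθ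
  rw [classInner, inv_mul_eq_iff_eq_mul₀ (Nat.cast_ne_zero.mpr Nat.card_pos.ne'), mul_one] at h
  exact h

theorem sum_subgroup_eq_sum_ite [DecidablePred (· ∈ L)] (F : K → ℂ) :
    ∑ n : L, F n = ∑ k : K, if k ∈ L then F k else 0 := by
  rw [← Finset.sum_filter]
  exact (Finset.sum_subtype (Finset.univ.filter fun k => k ∈ L) (fun k => by simp) F).symm

/-- Trivial inertia forces multiplicity one. -/
theorem multiplicity_eq_one_of_inertia_eq {θ : K → ℂ} (hθ : IsIrrCharacter K θ) {φ : L → ℂ}
    (hφ : IsIrrCharacter L φ) {e : ℕ} (he : classInner (fun n : L => θ n) φ = e) (he0 : e ≠ 0)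
    (hin : inertia L φ = L) : e = 1 := by
  classical
  have h1 : (∑ n : L, θ n * conj (θ n)).re ≤ (∑ k : K, θ k * conj (θ k)).re := by
    rw [sum_subgroup_eq_sum_ite L fun k => θ k * conj (θ k), Complex.re_sum, Complex.re_sum]
    refine Finset.sum_le_sum fun k _ => ?_
    split_ifs
    · exact le_rfl
    · rw [Complex.mul_conj, Complex.ofReal_re, Complex.zero_re]
      exact Complex.normSq_nonneg _
  rw [sum_restrict_self L hθ hφ he he0, sum_self_eq_card hθ, Complex.natCast_re,
    Complex.natCast_re, Nat.cast_le, card_conjOrbit, hin] at h1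
  have h2 : e ^ 2 * (L.index * Nat.card L) ≤ 1 * (L.index * Nat.card L) := by
    rw [one_mul]
    calc e ^ 2 * (L.index * Nat.card L) = Nat.card L * (e ^ 2 * L.index) := by ring
      _ ≤ Nat.card K := h1
      _ = _ := L.index_mul_card.symm
  have h3 : e ^ 2 ≤ 1 := Nat.le_of_mul_le_mul_right h2 (by
    rw [L.index_mul_card]; exact Nat.card_pos)
  have h4 : 1 ≤ e := Nat.one_le_iff_ne_zero.mpr he0
  nlinarith

/-- Vanishing off the subgroup forces the square of the multiplicity to be the index. -/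
theorem multiplicity_sq_of_vanishing {θ : K → ℂ} (hθ : IsIrrCharacter K θ) {φ : L → ℂ}
    (hφ : IsIrrCharacter L φ) {e : ℕ} (he : classInner (fun n : L => θ n) φ = e) (he0 : e ≠ 0)
    (hin : ∀ k, conjChar L k φ = φ) (hvan : ∀ k, k ∉ L → θ k = 0) : e ^ 2 = L.index := by
  classical
  have h1 : ∑ n : L, θ n * conj (θ n) = ∑ k : K, θ k * conj (θ k) := by
    rw [sum_subgroup_eq_sum_ite L fun k => θ k * conj (θ k)]
    refine Finset.sum_congr rfl fun k _ => ?_
    split_ifs with h
    · rfl
    · rw [hvan k h, zero_mul]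
  rw [sum_restrict_self L hθ hφ he he0, sum_self_eq_card hθ, Nat.cast_inj, card_conjOrbit,
    show inertia L φ = ⊤ from eq_top_iff.mpr fun k _ => hin k, Subgroup.index_top, mul_one,
    ← L.index_mul_card, mul_comm] at h1
  exact Nat.eq_of_mul_eq_mul_right Nat.card_pos h1

/-- If no nontrivial character of the abelian quotient fixes `θ`, the restriction is simple. -/
theorem multiplicity_eq_one_of_free (hcomm : ∀ a b : K, a * b * a⁻¹ * b⁻¹ ∈ L) {θ : K → ℂ}
    (hθ : IsIrrCharacter K θ) {φ : L → ℂ} (hφ : IsIrrCharacter L φ) {e : ℕ}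
    (he : classInner (fun n : L => θ n) φ = e) (he0 : e ≠ 0) (hin : ∀ k, conjChar L k φ = φ)
    (hfree : ∀ l : K →* ℂˣ, (∀ n ∈ L, l n = 1) → (fun k => (l k : ℂ) * θ k) = θ → l = 1) :
    e = 1 := by
  classical
  letI : CommGroup (K ⧸ L) :=
    { (inferInstance : Group (K ⧸ L)) with
      mul_comm := fun x y => by
        induction x using QuotientGroup.induction_on with
        | H a =>
          induction y using QuotientGroup.induction_on with
          | H b =>
            show ((a * b : K) : K ⧸ L) = ((b * a : K) : K ⧸ L)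
            rw [QuotientGroup.eq]
            have := hcomm b⁻¹ a⁻¹
            simpa [mul_assoc] using this }
  haveI : Finite ((K ⧸ L) →* ℂˣ) := by
    refine Nat.finite_of_card_ne_zero ?_
    rw [CommGroup.card_monoidHom_of_hasEnoughRootsOfUnity (K ⧸ L) ℂ]
    exact Nat.card_pos.ne'
  haveI := Fintype.ofFinite ((K ⧸ L) →* ℂˣ)
  have hS : ∀ l : (K ⧸ L) →* ℂˣ, ∑ k : K, (l (k : K ⧸ L) : ℂ) * (θ k * conj (θ k)) =
      if l = 1 then (Nat.card K : ℂ) else 0 := by
    intro l
    let l' : K →* ℂˣ := l.comp (QuotientGroup.mk' L)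
    have h0 : ∑ k : K, (l (k : K ⧸ L) : ℂ) * (θ k * conj (θ k)) =
        (Nat.card K : ℂ) * classInner (fun k => (l' k : ℂ) * θ k) θ := by
      rw [classInner, ← mul_assoc, mul_inv_cancel₀ (Nat.cast_ne_zero.mpr Nat.card_pos.ne'),
        one_mul]
      exact Finset.sum_congr rfl fun k _ => (mul_assoc _ _ _).symm
    rw [h0]
    split_ifs with hl
    · subst hl
      simp [l', IsIrrCharacter.classInner_self hθ]
    · have hirr : IsIrrCharacter K (fun k => (l' k : ℂ) * θ k) := by
        obtain ⟨n, hn⟩ := IsCharacter.exists_degree (IsIrrCharacter.isCharacter hθ)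
        exact (exists_twist_character l' hθ hn).1
      rw [IsIrrCharacter.classInner_eq_zero hirr hθ fun he' => hl ?_, mul_zero]
      have h1 := hfree l' (fun n hn => by
        show l (n : K ⧸ L) = 1
        rw [(QuotientGroup.eq_one_iff n).mpr hn, map_one]) he'
      refine MonoidHom.ext fun x => ?_
      induction x using QuotientGroup.induction_on with
      | H a => exact DFunLike.congr_fun h1 a
  have hsum : (Nat.card (K ⧸ L) : ℂ) * ∑ n : L, θ n * conj (θ n) = (Nat.card K : ℂ) := by
    have h1 : ∑ l : (K ⧸ L) →* ℂˣ, ∑ k : K, (l (k : K ⧸ L) : ℂ) * (θ k * conj (θ k)) =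
        (Nat.card K : ℂ) := by
      rw [Finset.sum_congr rfl fun l _ => hS l, Finset.sum_ite_eq' Finset.univ]
      simp
    rw [← h1, Finset.sum_comm, sum_subgroup_eq_sum_ite L fun k => θ k * conj (θ k), Finset.mul_sum]
    refine Finset.sum_congr rfl fun k _ => ?_
    rw [← Finset.sum_mul, sum_dual_eq]
    simp only [QuotientGroup.eq_one_iff]
    split_ifs <;> simp
  rw [sum_restrict_self L hθ hφ he he0, ← Nat.cast_mul, Nat.cast_inj, card_conjOrbit,
    show inertia L φ = ⊤ from eq_top_iff.mpr fun k _ => hin k, Subgroup.index_top, mul_one,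
    ← mul_assoc, ← L.card_eq_card_quotient_mul_card_subgroup] at hsum
  have h2 : e ^ 2 = 1 := (Nat.mul_eq_left Nat.card_pos.ne').mp hsum
  nlinarith

end Cfsg.Agent.Char
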