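import Cfsg.Agent.Lib.Block.WeakOrth
import Cfsg.Agent.Lib.Char.Central
import Cfsg.Agent.Lib.Char.Schur
import Mathlib.GroupTheory.DoubleCoset
import Mathlib.LinearAlgebra.Matrix.Charpoly.Coeff
import Mathlib.LinearAlgebra.Matrix.Charpoly.Eigs

/-!
Invariant matrices on the cosets of a subgroup, and the values of characters on them.
-/

set_option autoImplicit false
set_option linter.style.haveILetI false

namespace Cfsg.Agent.Char

open Cfsg
open scoped ComplexConjugate

/-! ### Sums of character values -/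

theorem sum_inv_mul_char {G : Type*} [Group G] [Fintype G] {χ ψ : G → ℂ} (hχ : IsIrrCharacter G χ)
    (hψ : IsIrrCharacter G ψ) (c : G) :
    χ 1 * ∑ g : G, ψ g⁻¹ * χ (g * c) = (Nat.card G : ℂ) * classInner χ ψ * χ c := by
  have hG : (Nat.card G : ℂ) ≠ 0 := Nat.cast_ne_zero.mpr Nat.card_pos.ne'
  obtain ⟨n, ρ, hρ, rfl⟩ := hχ
  haveI := hρ
  haveI := nontrivial_of_irreducible ρ
  have hcl : IsClassFunction G (fun g => ψ g⁻¹) := fun g h => by
    show ψ (h * g * h⁻¹)⁻¹ = ψ g⁻¹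
    rw [show (h * g * h⁻¹)⁻¹ = h * g⁻¹ * h⁻¹ by simp [mul_assoc]]
    exact IsCharacter.isClassFunction (IsIrrCharacter.isCharacter hψ) g⁻¹ h
  have h := congrArg (fun A : (Fin n → ℂ) →ₗ[ℂ] (Fin n → ℂ) => LinearMap.trace ℂ _ (A * ρ c))
    (sum_smul_rep_eq_smul_id ρ hcl)
  simp only [Finset.sum_mul, smul_mul_assoc, ← map_mul, map_sum, map_smul, smul_eq_mul, ← Module.End.one_eq_id,
    one_mul] at h
  have h1 : ∀ g, ρ.character g = LinearMap.trace ℂ _ (ρ g) := fun _ => rfl
  have hd : ρ.character 1 = (Module.finrank ℂ (Fin n → ℂ) : ℂ) := by simp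
  have hd0 : (Module.finrank ℂ (Fin n → ℂ) : ℂ) ≠ 0 := Nat.cast_ne_zero.mpr Module.finrank_pos.ne'
  simp only [← h1] at h
  rw [h, hd, classInner, Finset.sum_congr rfl fun g (_ : g ∈ Finset.univ) => show
    ψ g⁻¹ * ρ.character g = ρ.character g * conj (ψ g) by
      rw [IsCharacter.map_inv (IsIrrCharacter.isCharacter hψ), mul_comm]]
  field_simp

theorem sum_conv {G : Type*} [Group G] [Fintype G] {χ : G → ℂ} (hχ : IsIrrCharacter G χ) (x y : G) :
    χ 1 * ∑ g : G, χ (x * g) * χ (g⁻¹ * y) = (Nat.card G : ℂ) * χ (x * y) := by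
  have h := sum_inv_mul_char hχ hχ (x * y)
  rw [IsIrrCharacter.classInner_self hχ, mul_one] at h
  rw [← h]
  congr 1
  refine Fintype.sum_equiv ((Equiv.mulLeft x).trans (Equiv.inv G)) _ _ fun g => ?_
  simp [mul_assoc]

theorem sum_conv_ne {G : Type*} [Group G] [Fintype G] {χ ψ : G → ℂ} (hχ : IsIrrCharacter G χ)
    (hψ : IsIrrCharacter G ψ) (hne : χ ≠ ψ) (x y : G) : ∑ g : G, χ (x * g) * ψ (g⁻¹ * y) = 0 := by
  have hc := IsCharacter.isClassFunction (IsIrrCharacter.isCharacter hχ)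
  have h := sum_inv_mul_char hχ hψ (x * y)
  rw [IsIrrCharacter.classInner_eq_zero hχ hψ hne, mul_zero, zero_mul, mul_eq_zero] at h
  refine Eq.trans ?_ (h.resolve_left (IsIrrCharacter.apply_one_ne_zero hχ))
  refine Fintype.sum_equiv (Equiv.mulLeft y⁻¹) _ _ fun g => ?_
  simp only [Equiv.coe_mulLeft, mul_inv_rev, inv_inv]
  rw [mul_comm (χ _)]
  congr 1
  have h1 := hc (y⁻¹ * g * (x * y)) y
  have h2 := hc (x * g) x⁻¹
  simp [mul_assoc] at h1 h2 ⊢
  rw [← h2, h1]

/-! ### Invariant matrices -/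

variable {G : Type*} [Group G] (U : Subgroup G) {k : Type*} [CommRing k]

/-- A matrix on the cosets invariant under the group. -/
def IsInv (A : Matrix (G ⧸ U) (G ⧸ U) k) : Prop := ∀ (g : G) (y z : G ⧸ U), A (g • y) (g • z) = A y z

/-- The entry in the row of the base coset. -/
def mval (A : Matrix (G ⧸ U) (G ⧸ U) k) (g : G) : k := A ((1 : G) : G ⧸ U) (g : G ⧸ U)

open Classical in
/-- The matrix of a double coset. -/
noncomputable def dmat (k : Type*) [CommRing k] (n : G) : Matrix (G ⧸ U) (G ⧸ U) k :=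
  Matrix.of fun y z => if (y.out)⁻¹ * z.out ∈ DoubleCoset.doubleCoset n (U : Set G) U then 1 else 0

/-- The number of cosets in a double coset. -/
noncomputable def mcount (n : G) : ℕ :=
  Nat.card {z : G ⧸ U // z.out ∈ DoubleCoset.doubleCoset n (U : Set G) U}

variable {U}

theorem dc_mul_mem {n g u v : G} (hu : u ∈ U) (hv : v ∈ U) :
    u * g * v ∈ DoubleCoset.doubleCoset n (U : Set G) U ↔ g ∈ DoubleCoset.doubleCoset n (U : Set G) U := by
  simp only [DoubleCoset.mem_doubleCoset, SetLike.mem_coe]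
  constructor
  · rintro ⟨a, ha, b, hb, e⟩
    refine ⟨u⁻¹ * a, mul_mem (inv_mem hu) ha, b * v⁻¹, mul_mem hb (inv_mem hv), ?_⟩
    calc g = u⁻¹ * (u * g * v) * v⁻¹ := by simp [mul_assoc]
      _ = _ := by rw [e]; simp [mul_assoc]
  · rintro ⟨a, ha, b, hb, rfl⟩
    exact ⟨u * a, mul_mem hu ha, b * v, mul_mem hb hv, by simp [mul_assoc]⟩

theorem out_dc_iff {n g : G} : (g : G ⧸ U).out ∈ DoubleCoset.doubleCoset n (U : Set G) U ↔
    g ∈ DoubleCoset.doubleCoset n (U : Set G) U := by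
  obtain ⟨c, hc⟩ := QuotientGroup.mk_out_eq_mul U g
  rw [hc]
  have := dc_mul_mem (n := n) (g := g) (one_mem U) c.2
  rwa [one_mul] at this

open Classical in
theorem isInv_dmat (n : G) : IsInv U (dmat U k n) := by
  intro g y z
  induction y using QuotientGroup.induction_on with
  | _ a =>
  induction z using QuotientGroup.induction_on with
  | _ b =>
    obtain ⟨c, hc⟩ := QuotientGroup.mk_out_eq_mul U a
    obtain ⟨d, hd⟩ := QuotientGroup.mk_out_eq_mul U b
    obtain ⟨c', hc'⟩ := QuotientGroup.mk_out_eq_mul U (g * a)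
    obtain ⟨d', hd'⟩ := QuotientGroup.mk_out_eq_mul U (g * b)
    simp only [dmat, Matrix.of_apply, MulAction.Quotient.smul_mk, smul_eq_mul]
    rw [hc, hd, hc', hd']
    refine if_congr ?_ rfl rfl
    rw [show (g * a * c')⁻¹ * (g * b * d') = (c' : G)⁻¹ * (a⁻¹ * b) * d' by simp [mul_assoc],
      show (a * c)⁻¹ * (b * d) = (c : G)⁻¹ * (a⁻¹ * b) * d by simp [mul_assoc],
      dc_mul_mem (inv_mem c'.2) d'.2, dc_mul_mem (inv_mem c.2) d.2]

open Classical in
theorem mval_dmat (n g : G) :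
    mval U (dmat U k n) g = if g ∈ DoubleCoset.doubleCoset n (U : Set G) U then 1 else 0 := by
  obtain ⟨c, hc⟩ := QuotientGroup.mk_out_eq_mul U (1 : G)
  obtain ⟨d, hd⟩ := QuotientGroup.mk_out_eq_mul U g
  simp only [mval, dmat, Matrix.of_apply]
  rw [hc, hd, one_mul]
  refine if_congr ?_ rfl rfl
  rw [← mul_assoc]
  exact dc_mul_mem (inv_mem c.2) d.2

theorem mval_mul_right {A : Matrix (G ⧸ U) (G ⧸ U) k} (g : G) {u : G} (hu : u ∈ U) :
    mval U A (g * u) = mval U A g := by
  rw [mval, mval, QuotientGroup.mk_mul_of_mem g hu]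

theorem mval_mul_left {A : Matrix (G ⧸ U) (G ⧸ U) k} (hA : IsInv U A) (g : G) {u : G} (hu : u ∈ U) :
    mval U A (u * g) = mval U A g := by
  have h := hA u ((1 : G) : G ⧸ U) (g : G ⧸ U)
  simp only [MulAction.Quotient.smul_mk, smul_eq_mul, mul_one] at h
  rw [show ((u : G) : G ⧸ U) = ((1 : G) : G ⧸ U) by rw [QuotientGroup.eq]; simpa using hu] at h
  exact h

theorem inv_ext {A B : Matrix (G ⧸ U) (G ⧸ U) k} (hA : IsInv U A) (hB : IsInv U B)
    (h : ∀ g, mval U A g = mval U B g) : A = B := by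
  ext y z
  induction y using QuotientGroup.induction_on with
  | _ a =>
  induction z using QuotientGroup.induction_on with
  | _ b =>
    have h1 := hA a ((1 : G) : G ⧸ U) ((a⁻¹ * b : G) : G ⧸ U)
    have h2 := hB a ((1 : G) : G ⧸ U) ((a⁻¹ * b : G) : G ⧸ U)
    simp only [MulAction.Quotient.smul_mk, smul_eq_mul, mul_one, mul_inv_cancel_left] at h1 h2
    rw [h1, h2]
    exact h _

section Fintype

variable [Fintype G] [Fintype (G ⧸ U)]

theorem isInv_mul {A B : Matrix (G ⧸ U) (G ⧸ U) k} (hA : IsInv U A) (hB : IsInv U B) : IsInv U (A * B) := by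
  intro g y z
  simp only [Matrix.mul_apply]
  refine (Fintype.sum_equiv (MulAction.toPerm g) _ _ fun w => ?_).symm
  simp only [MulAction.toPerm_apply, hA g, hB g]

theorem isInv_one [DecidableEq (G ⧸ U)] : IsInv U (1 : Matrix (G ⧸ U) (G ⧸ U) k) := fun g y z => by
  simp [Matrix.one_apply]

theorem isInv_smul (c : k) {A : Matrix (G ⧸ U) (G ⧸ U) k} (hA : IsInv U A) : IsInv U (c • A) :=
  fun g y z => by simp [hA g y z]

theorem isInv_sum {ι : Type*} (s : Finset ι) {A : ι → Matrix (G ⧸ U) (G ⧸ U) k} (hA : ∀ i ∈ s, IsInv U (A i)) :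
    IsInv U (∑ i ∈ s, A i) := fun g y z => by
  simp only [Matrix.sum_apply]
  exact Finset.sum_congr rfl fun i hi => hA i hi g y z

omit [Fintype G] in
theorem mval_mul {A B : Matrix (G ⧸ U) (G ⧸ U) k} (hB : IsInv U B) (g : G) :
    mval U (A * B) g = ∑ z : G ⧸ U, mval U A z.out * mval U B (z.out⁻¹ * g) := by
  simp only [mval, Matrix.mul_apply]
  refine Finset.sum_congr rfl fun z _ => ?_
  have h := hB z.out ((1 : G) : G ⧸ U) ((z.out⁻¹ * g : G) : G ⧸ U)
  simp only [MulAction.Quotient.smul_mk, smul_eq_mul, mul_one, mul_inv_cancel_left] at h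
  rw [← h, QuotientGroup.out_eq']

omit [Fintype (G ⧸ U)] in
theorem sum_left_inv {A : Matrix (G ⧸ U) (G ⧸ U) k} (hA : IsInv U A) (f : G → k) {u : G} (hu : u ∈ U) :
    ∑ x : G, mval U A x * f (u * x) = ∑ x : G, mval U A x * f x := by
  refine Fintype.sum_equiv (Equiv.mulLeft u) _ _ fun x => ?_
  rw [Equiv.coe_mulLeft, mval_mul_left hA x hu]

omit [Fintype (G ⧸ U)] in
theorem sum_right_inv {A : Matrix (G ⧸ U) (G ⧸ U) k} (f : G → k) {u : G} (hu : u ∈ U) :
    ∑ x : G, mval U A x * f (x * u) = ∑ x : G, mval U A x * f x := by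
  refine Fintype.sum_equiv (Equiv.mulRight u) _ _ fun x => ?_
  rw [Equiv.coe_mulRight, mval_mul_right x hu]

omit [Fintype G] in
theorem card_mul_sum_coset [Fintype G] (f : G → k) (hf : ∀ g, ∀ u ∈ U, f (g * u) = f g) :
    ∑ g : G, f g = (Nat.card U : k) * ∑ z : G ⧸ U, f z.out := by
  classical
  rw [← Finset.sum_fiberwise Finset.univ (fun g : G => (g : G ⧸ U)), Finset.mul_sum]
  refine Finset.sum_congr rfl fun z _ => ?_
  have h1 : ∀ g ∈ Finset.univ.filter (fun g : G => (g : G ⧸ U) = z), f g = f z.out := fun g hg => by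
    have hg' := (Finset.mem_filter.mp hg).2
    obtain ⟨c, hc⟩ := QuotientGroup.mk_out_eq_mul U g
    rw [← hg', hc, hf g c c.2]
  rw [Finset.sum_congr rfl h1, Finset.sum_const, nsmul_eq_mul]
  congr 2
  rw [Nat.card_eq_fintype_card (α := ↥U)]
  symm
  refine Finset.card_bij (fun u _ => z.out * (u : G)) (fun u _ => ?_) (fun a _ b _ e => ?_) (fun g hg => ?_)
  · refine Finset.mem_filter.mpr ⟨Finset.mem_univ _, ?_⟩
    rw [QuotientGroup.mk_mul_of_mem _ u.2, QuotientGroup.out_eq']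
  · exact Subtype.ext (mul_left_cancel e)
  · have hg' := (Finset.mem_filter.mp hg).2
    exact ⟨⟨z.out⁻¹ * g, QuotientGroup.eq.mp ((QuotientGroup.out_eq' z).trans hg'.symm)⟩, Finset.mem_univ _, by simp⟩

/-- The sum against a function over the product of two invariant matrices. -/
theorem sum_mval_mul {A B : Matrix (G ⧸ U) (G ⧸ U) k} (hB : IsInv U B) (f : G → k) :
    (Nat.card U : k) * ∑ g : G, mval U (A * B) g * f g =
      ∑ x : G, ∑ y : G, mval U A x * mval U B y * f (x * y) := by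
  have h : ∀ x : G, ∑ y : G, mval U A x * mval U B y * f (x * y) =
      ∑ g : G, mval U A x * mval U B (x⁻¹ * g) * f g := fun x =>
    Fintype.sum_equiv (Equiv.mulLeft x) _ _ fun y => by simp [Equiv.coe_mulLeft]
  rw [Finset.sum_congr rfl fun x _ => h x, Finset.sum_comm, Finset.mul_sum]
  refine Finset.sum_congr rfl fun g _ => ?_
  rw [mval_mul hB, ← mul_assoc, ← Finset.sum_mul,
    card_mul_sum_coset (U := U) (fun x => mval U A x * mval U B (x⁻¹ * g)) fun x u hu => ?_]
  rw [mval_mul_right x hu, show (x * u)⁻¹ * g = u⁻¹ * (x⁻¹ * g) by simp [mul_assoc],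
    mval_mul_left hB _ (inv_mem hu)]

theorem card_dc (n : G) [DecidablePred (· ∈ DoubleCoset.doubleCoset n (U : Set G) U)] :
    (Finset.univ.filter (· ∈ DoubleCoset.doubleCoset n (U : Set G) U)).card = Nat.card U * mcount U n := by
  classical
  have h := card_mul_sum_coset (U := U) (k := ℤ)
    (fun g => if g ∈ DoubleCoset.doubleCoset n (U : Set G) U then 1 else 0) fun g u hu => by
      refine if_congr ?_ rfl rfl
      have := dc_mul_mem (n := n) (g := g) (one_mem U) hu
      rwa [one_mul] at this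
  rw [Finset.sum_boole, Finset.sum_boole] at h
  rw [mcount, Nat.card_eq_fintype_card (α := {z : G ⧸ U // _}), Fintype.card_subtype]
  exact_mod_cast h

/-! ### Covers by double cosets -/

variable (U) in
/-- A family of representatives of the double cosets. -/
def IsCover {ι : Type*} (rep : ι → G) : Prop :=
  ∀ g, ∃! i, g ∈ DoubleCoset.doubleCoset (rep i) (U : Set G) U

variable {ι : Type*} [Fintype ι] {rep : ι → G}

omit [Fintype G] [Fintype (G ⧸ U)] in
open Classical in
theorem decomp (hcov : IsCover U rep) {A : Matrix (G ⧸ U) (G ⧸ U) k} (hA : IsInv U A) :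
    A = ∑ i, mval U A (rep i) • dmat U k (rep i) := by
  refine inv_ext hA (fun g y z => by
    simp only [Matrix.sum_apply, Matrix.smul_apply, isInv_dmat (k := k) _ g y z]) fun g => ?_
  obtain ⟨i, hi, huniq⟩ := hcov g
  have e : mval U A g = mval U A (rep i) := by
    obtain ⟨a, ha, b, hb, rfl⟩ := DoubleCoset.mem_doubleCoset.mp hi
    rw [mval_mul_right _ hb, mval_mul_left hA _ ha]
  simp only [mval, Matrix.sum_apply, Matrix.smul_apply]
  rw [Finset.sum_eq_single i]
  · have h1 := mval_dmat (U := U) (k := k) (rep i) g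
    rw [if_pos hi] at h1
    rw [show dmat U k (rep i) ((1 : G) : G ⧸ U) (g : G ⧸ U) = 1 from h1, smul_eq_mul, mul_one]
    exact e
  · intro j _ hj
    have h1 := mval_dmat (U := U) (k := k) (rep j) g
    rw [if_neg fun h => hj (huniq j h)] at h1
    rw [show dmat U k (rep j) ((1 : G) : G ⧸ U) (g : G ⧸ U) = 0 from h1, smul_zero]
  · exact fun h => absurd (Finset.mem_univ i) h

omit [Fintype (G ⧸ U)] in
open Classical in
theorem sum_cover (hcov : IsCover U rep) (f : G → k) :
    ∑ g : G, f g = ∑ i, ∑ g ∈ Finset.univ.filter (· ∈ DoubleCoset.doubleCoset (rep i) (U : Set G) U), f g := by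
  rw [← Finset.sum_fiberwise Finset.univ (fun g => (hcov g).choose)]
  refine Finset.sum_congr rfl fun i _ => Finset.sum_congr (Finset.filter_congr fun g _ => ?_) fun _ _ => rfl
  exact ⟨fun h => h ▸ (hcov g).choose_spec.1, fun h => ((hcov g).choose_spec.2 i h).symm⟩

omit [Fintype (G ⧸ U)] in
open Classical in
theorem sum_dc_const {n : G} {f : G → k} (hl : ∀ u ∈ U, ∀ g, f (u * g) = f g)
    (hr : ∀ u ∈ U, ∀ g, f (g * u) = f g) :
    ∑ g ∈ Finset.univ.filter (· ∈ DoubleCoset.doubleCoset n (U : Set G) U), f g =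
      ((Finset.univ.filter (· ∈ DoubleCoset.doubleCoset n (U : Set G) U)).card : k) * f n := by
  rw [Finset.sum_congr rfl fun g hg => ?_, Finset.sum_const, nsmul_eq_mul]
  obtain ⟨a, ha, b, hb, rfl⟩ := DoubleCoset.mem_doubleCoset.mp (Finset.mem_filter.mp hg).2
  rw [hr b hb, hl a ha]

end Fintype

/-! ### The values of a function on invariant matrices -/

variable (U) in
/-- The averaged value of a function on an invariant matrix. -/
noncomputable def theta [Fintype G] (χ : G → ℂ) (A : Matrix (G ⧸ U) (G ⧸ U) ℂ) : ℂ :=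
  (Nat.card U : ℂ)⁻¹ * ∑ g : G, mval U A g * χ g

section Theta

variable [Fintype G] [Fintype (G ⧸ U)]

theorem theta_mul (χ : G → ℂ) (A : Matrix (G ⧸ U) (G ⧸ U) ℂ) {B : Matrix (G ⧸ U) (G ⧸ U) ℂ} (hB : IsInv U B) :
    theta U χ (A * B) = ((Nat.card U : ℂ)⁻¹) ^ 2 * ∑ x : G, ∑ y : G, mval U A x * mval U B y * χ (x * y) := by
  have hU : (Nat.card U : ℂ) ≠ 0 := Nat.cast_ne_zero.mpr Nat.card_pos.ne'
  rw [theta, ← sum_mval_mul hB χ, pow_two]
  field_simp

theorem theta_comm {χ : G → ℂ} (hχ : IsClassFunction G χ) {A B : Matrix (G ⧸ U) (G ⧸ U) ℂ} (hA : IsInv U A)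
    (hB : IsInv U B) : theta U χ (A * B) = theta U χ (B * A) := by
  rw [theta_mul χ A hB, theta_mul χ B hA, Finset.sum_comm]
  congr 1
  refine Finset.sum_congr rfl fun x _ => Finset.sum_congr rfl fun y _ => ?_
  have h : χ (y * x) = χ (x * y) := by
    have := hχ (x * y) x⁻¹
    simpa [mul_assoc] using this
  rw [h]; ring

omit [Fintype (G ⧸ U)] in
theorem theta_sum {κ : Type*} (s : Finset κ) (χ : G → ℂ) (c : κ → ℂ) (A : κ → Matrix (G ⧸ U) (G ⧸ U) ℂ) :
    theta U χ (∑ i ∈ s, c i • A i) = ∑ i ∈ s, c i * theta U χ (A i) := by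
  simp only [theta, mval, Matrix.sum_apply, Matrix.smul_apply, smul_eq_mul, Finset.sum_mul, Finset.mul_sum]
  rw [Finset.sum_comm]
  exact Finset.sum_congr rfl fun i _ => Finset.sum_congr rfl fun g _ => by ring

theorem theta_mul_dmat (χ : G → ℂ) {A : Matrix (G ⧸ U) (G ⧸ U) ℂ} (n : G)
    (hl : ∀ u ∈ U, ∀ g, (∑ x : G, mval U A x * χ (x * (u * g))) = ∑ x : G, mval U A x * χ (x * g))
    (hr : ∀ u ∈ U, ∀ g, (∑ x : G, mval U A x * χ (x * (g * u))) = ∑ x : G, mval U A x * χ (x * g)) :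
    theta U χ (A * dmat U ℂ n) =
      (mcount U n : ℂ) * ((Nat.card U : ℂ)⁻¹ * ∑ x : G, mval U A x * χ (x * n)) := by
  classical
  have hU : (Nat.card U : ℂ) ≠ 0 := Nat.cast_ne_zero.mpr Nat.card_pos.ne'
  rw [theta_mul χ A (isInv_dmat n), Finset.sum_comm]
  simp only [mval_dmat, mul_ite, mul_one, mul_zero, ite_mul, zero_mul]
  rw [Finset.sum_congr rfl fun y _ => show
    (∑ x : G, if y ∈ DoubleCoset.doubleCoset n (U : Set G) U then mval U A x * χ (x * y) else 0) =
      if y ∈ DoubleCoset.doubleCoset n (U : Set G) U then ∑ x : G, mval U A x * χ (x * y) else 0 by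
        split_ifs <;> simp,
    ← Finset.sum_filter, sum_dc_const hl hr, card_dc, Nat.cast_mul, pow_two]
  field_simp

variable {χ ψ : G → ℂ}

omit [Fintype (G ⧸ U)] in
theorem shift_left_inv (A : Matrix (G ⧸ U) (G ⧸ U) ℂ) {u : G} (hu : u ∈ U) (g : G) :
    ∑ x : G, mval U A x * χ (x * (u * g)) = ∑ x : G, mval U A x * χ (x * g) := by
  have := sum_right_inv (A := A) (fun x => χ (x * g)) hu
  simpa [mul_assoc] using this

omit [Fintype (G ⧸ U)] in
theorem shift_right_inv (hχ : IsClassFunction G χ) {A : Matrix (G ⧸ U) (G ⧸ U) ℂ} (hA : IsInv U A) {u : G}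
    (hu : u ∈ U) (g : G) : ∑ x : G, mval U A x * χ (x * (g * u)) = ∑ x : G, mval U A x * χ (x * g) := by
  have h : ∀ x, χ (x * (g * u)) = χ (u * x * g) := fun x => by
    have := hχ (x * (g * u)) u
    simpa [mul_assoc] using this.symm
  simp only [h]
  exact sum_left_inv hA (fun x => χ (x * g)) hu

theorem theta_mul_dmat' (hχ : IsClassFunction G χ) {A : Matrix (G ⧸ U) (G ⧸ U) ℂ} (hA : IsInv U A) (n : G) :
    theta U χ (A * dmat U ℂ n) =
      (mcount U n : ℂ) * ((Nat.card U : ℂ)⁻¹ * ∑ x : G, mval U A x * χ (x * n)) :=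
  theta_mul_dmat χ n (fun _ hu g => shift_left_inv A hu g) fun _ hu g => shift_right_inv hχ hA hu g

omit [Fintype (G ⧸ U)] in
theorem mcount_inv [Finite (G ⧸ U)] (n : G) : mcount U n⁻¹ = mcount U n := by
  classical
  haveI := Fintype.ofFinite (G ⧸ U)
  have h := card_dc (U := U) n⁻¹
  have h' := card_dc (U := U) n
  have e : (Finset.univ.filter (· ∈ DoubleCoset.doubleCoset n⁻¹ (U : Set G) U)).card =
      (Finset.univ.filter (· ∈ DoubleCoset.doubleCoset n (U : Set G) U)).card := by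
    refine Finset.card_equiv (Equiv.inv G) fun g => ?_
    simp only [Finset.mem_filter, Finset.mem_univ, true_and, Equiv.inv_apply, DoubleCoset.mem_doubleCoset,
      SetLike.mem_coe]
    constructor
    · rintro ⟨a, ha, b, hb, rfl⟩
      exact ⟨b⁻¹, inv_mem hb, a⁻¹, inv_mem ha, by simp [mul_assoc]⟩
    · rintro ⟨a, ha, b, hb, e⟩
      exact ⟨b⁻¹, inv_mem hb, a⁻¹, inv_mem ha, by rw [← inv_inj, e]; simp [mul_assoc]⟩
  rw [h, h'] at e
  exact Nat.eq_of_mul_eq_mul_left Nat.card_pos e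

variable {ι : Type*} [Fintype ι] {rep : ι → G}

theorem mcount_pos (n : G) : 0 < mcount U n := by
  haveI : Nonempty {z : G ⧸ U // z.out ∈ DoubleCoset.doubleCoset n (U : Set G) U} :=
    ⟨⟨(n : G ⧸ U), out_dc_iff.mpr (DoubleCoset.mem_doubleCoset_self U U n)⟩⟩
  exact Nat.card_pos

/-- The coefficient attached to a double coset. -/
noncomputable def dcoef (U : Subgroup G) (χ : G → ℂ) (n : G) : ℂ :=
  χ 1 * Nat.card U / (Nat.card G * mcount U n)

/-- Inserting a basis. -/
theorem theta_orth (hcov : IsCover U rep) (hχ : IsIrrCharacter G χ) (hψ : IsIrrCharacter G ψ)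
    {A B : Matrix (G ⧸ U) (G ⧸ U) ℂ} (hA : IsInv U A) (hB : IsInv U B) :
    ∑ i, dcoef U χ (rep i) * theta U χ (A * dmat U ℂ (rep i)) * theta U ψ (dmat U ℂ (rep i)⁻¹ * B) =
      χ 1 / (Nat.card G) * ((Nat.card U : ℂ)⁻¹) ^ 2 *
        ∑ x : G, ∑ y : G, mval U A x * mval U B y * ∑ g : G, χ (x * g) * ψ (g⁻¹ * y) := by
  classical
  have hcχ := IsCharacter.isClassFunction (IsIrrCharacter.isCharacter hχ)
  have hcψ := IsCharacter.isClassFunction (IsIrrCharacter.isCharacter hψ)
  have hcomm : ∀ a b : G, ψ (a * b) = ψ (b * a) := fun a b => by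
    have := hcψ (b * a) b⁻¹
    simpa [mul_assoc] using this
  have hU : (Nat.card U : ℂ) ≠ 0 := Nat.cast_ne_zero.mpr Nat.card_pos.ne'
  set L : G → ℂ := fun g => ∑ x : G, mval U A x * χ (x * g) with hL
  set R : G → ℂ := fun g => ∑ y : G, mval U B y * ψ (y * g) with hR
  have h1 : ∑ x : G, ∑ y : G, mval U A x * mval U B y * ∑ g : G, χ (x * g) * ψ (g⁻¹ * y) =
      ∑ g : G, L g * R g⁻¹ := by
    symm
    simp only [hL, hR]
    rw [Finset.sum_congr rfl fun (g : G) _ => Finset.sum_mul_sum Finset.univ Finset.univ _ _, Finset.sum_comm]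
    refine Finset.sum_congr rfl fun x _ => ?_
    rw [Finset.sum_comm]
    refine Finset.sum_congr rfl fun y _ => ?_
    rw [Finset.mul_sum]
    refine Finset.sum_congr rfl fun g _ => ?_
    rw [hcomm g⁻¹ y]; ring
  rw [h1, sum_cover hcov, Finset.mul_sum]
  refine Finset.sum_congr rfl fun i _ => ?_
  rw [sum_dc_const (f := fun g => L g * R g⁻¹), card_dc, theta_comm hcψ (isInv_dmat _) hB,
    theta_mul_dmat' hcψ hB, theta_mul_dmat' hcχ hA, mcount_inv, dcoef]
  · have hm : (mcount U (rep i) : ℂ) ≠ 0 := Nat.cast_ne_zero.mpr (mcount_pos _).ne'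
    simp only [hL, hR]
    push_cast
    field_simp
  · intro u hu g
    simp only [hL, hR, mul_inv_rev]
    rw [shift_left_inv A hu, shift_right_inv hcψ hB (inv_mem hu)]
  · intro u hu g
    simp only [hL, hR, mul_inv_rev]
    rw [shift_right_inv hcχ hA hu, shift_left_inv B (inv_mem hu)]

theorem theta_orth_self (hcov : IsCover U rep) (hχ : IsIrrCharacter G χ)
    {A B : Matrix (G ⧸ U) (G ⧸ U) ℂ} (hA : IsInv U A) (hB : IsInv U B) :
    ∑ i, dcoef U χ (rep i) * theta U χ (A * dmat U ℂ (rep i)) * theta U χ (dmat U ℂ (rep i)⁻¹ * B) =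
      theta U χ (A * B) := by
  have hG : (Nat.card G : ℂ) ≠ 0 := Nat.cast_ne_zero.mpr Nat.card_pos.ne'
  have h1 := IsIrrCharacter.apply_one_ne_zero hχ
  rw [theta_orth hcov hχ hχ hA hB, theta_mul χ A hB, Finset.mul_sum, Finset.mul_sum]
  refine Finset.sum_congr rfl fun x _ => ?_
  rw [Finset.mul_sum, Finset.mul_sum]
  refine Finset.sum_congr rfl fun y _ => ?_
  have := sum_conv hχ x y
  rw [show ∑ g : G, χ (x * g) * χ (g⁻¹ * y) = (Nat.card G : ℂ) * χ (x * y) / χ 1 by
    rw [eq_div_iff h1, ← this, mul_comm]]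
  field_simp

theorem theta_orth_ne (hcov : IsCover U rep) (hχ : IsIrrCharacter G χ) (hψ : IsIrrCharacter G ψ) (hne : χ ≠ ψ)
    {A B : Matrix (G ⧸ U) (G ⧸ U) ℂ} (hA : IsInv U A) (hB : IsInv U B) :
    ∑ i, dcoef U χ (rep i) * theta U χ (A * dmat U ℂ (rep i)) * theta U ψ (dmat U ℂ (rep i)⁻¹ * B) = 0 := by
  rw [theta_orth hcov hχ hψ hA hB]
  simp only [sum_conv_ne hχ hψ hne, mul_zero, Finset.sum_const_zero]

/-- The Casimir identity. -/
theorem theta_casimir (hcov : IsCover U rep) (hχ : IsIrrCharacter G χ)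
    {A B : Matrix (G ⧸ U) (G ⧸ U) ℂ} (hA : IsInv U A) (hB : IsInv U B) :
    ∑ i, dcoef U χ (rep i) * theta U χ (A * dmat U ℂ (rep i) * (B * dmat U ℂ (rep i)⁻¹)) =
      theta U χ A * theta U χ B := by
  classical
  have hc := IsCharacter.isClassFunction (IsIrrCharacter.isCharacter hχ)
  have hU : (Nat.card U : ℂ) ≠ 0 := Nat.cast_ne_zero.mpr Nat.card_pos.ne'
  have hG : (Nat.card G : ℂ) ≠ 0 := Nat.cast_ne_zero.mpr Nat.card_pos.ne'
  have h1 := IsIrrCharacter.apply_one_ne_zero hχ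
  set Φ : G → G → ℂ := fun g h => ∑ x : G, ∑ y : G, mval U A x * mval U B y * χ (x * g * (y * h)) with hΦ
  have hΦl : ∀ u ∈ U, ∀ g h, Φ (u * g) h = Φ g h := fun u hu g h => by
    simp only [hΦ]
    rw [Finset.sum_comm]
    conv_rhs => rw [Finset.sum_comm]
    refine Finset.sum_congr rfl fun y _ => ?_
    simp only [mul_comm (mval U A _) (mval U B y), mul_assoc (mval U B y), ← Finset.mul_sum]
    congr 1
    have := sum_right_inv (A := A) (fun x => χ (x * g * (y * h))) hu
    simpa [mul_assoc] using this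
  have hΦm : ∀ u ∈ U, ∀ g h, Φ (g * u) h = Φ g h := fun u hu g h => by
    simp only [hΦ, mul_assoc (mval U A _), ← Finset.mul_sum]
    refine Finset.sum_congr rfl fun x _ => congrArg _ ?_
    have := sum_left_inv hB (fun y => χ (x * g * (y * h))) hu
    simpa [mul_assoc] using this
  have hΦh : ∀ u ∈ U, ∀ g h, Φ g (u * h) = Φ g h := fun u hu g h => by
    simp only [hΦ, mul_assoc (mval U A _), ← Finset.mul_sum]
    refine Finset.sum_congr rfl fun x _ => congrArg _ ?_
    have := sum_right_inv (A := B) (fun y => χ (x * g * (y * h))) hu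
    simpa [mul_assoc] using this
  have hΦr : ∀ u ∈ U, ∀ g h, Φ g (h * u) = Φ g h := fun u hu g h => by
    simp only [hΦ]
    rw [Finset.sum_comm]
    conv_rhs => rw [Finset.sum_comm]
    refine Finset.sum_congr rfl fun y _ => ?_
    simp only [mul_comm (mval U A _) (mval U B y), mul_assoc (mval U B y), ← Finset.mul_sum]
    congr 1
    have hh : ∀ x, χ (x * g * (y * (h * u))) = χ (u * x * g * (y * h)) := fun x => by
      have := hc (x * g * (y * (h * u))) u
      simpa [mul_assoc] using this.symm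
    simp only [hh]
    exact sum_left_inv hA (fun x => χ (x * g * (y * h))) hu
  -- evaluate both sides
  have hsum : ∑ g : G, Φ g g⁻¹ = (Nat.card G : ℂ) / χ 1 *
      ((∑ x : G, mval U A x * χ x) * ∑ y : G, mval U B y * χ y) := by
    simp only [hΦ]
    rw [Finset.sum_comm, Finset.sum_mul_sum, Finset.mul_sum]
    refine Finset.sum_congr rfl fun x _ => ?_
    rw [Finset.sum_comm, Finset.mul_sum]
    refine Finset.sum_congr rfl fun y _ => ?_
    rw [← Finset.mul_sum]
    have := Cfsg.Agent.Block.sum_conj_mul_apply hχ y x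
    rw [show ∑ g : G, χ (x * g * (y * g⁻¹)) = ∑ h : G, χ (h * y * h⁻¹ * x) from
      Finset.sum_congr rfl fun g _ => by
        have := hc (x * g * (y * g⁻¹)) x⁻¹
        simpa [mul_assoc] using this.symm]
    field_simp
    linear_combination (mval U A x * mval U B y) * this
  have hterm : ∀ i, theta U χ (A * dmat U ℂ (rep i) * (B * dmat U ℂ (rep i)⁻¹)) =
      (mcount U (rep i) : ℂ) ^ 2 * ((Nat.card U : ℂ)⁻¹) ^ 2 * Φ (rep i) (rep i)⁻¹ := by
    intro i
    set n := rep i
    rw [theta_mul χ _ (isInv_mul hB (isInv_dmat _))]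
    -- expand the outer sum twice
    have e1 : ∀ x : G, ∑ y : G, mval U (A * dmat U ℂ n) x * mval U (B * dmat U ℂ n⁻¹) y * χ (x * y) =
        mval U (A * dmat U ℂ n) x * ((Nat.card U : ℂ)⁻¹ *
          ∑ y : G, ∑ h : G, mval U B y * mval U (dmat U ℂ n⁻¹) h * χ (x * (y * h))) := fun x => by
      simp only [mul_assoc (mval U (A * dmat U ℂ n) x), ← Finset.mul_sum]
      congr 1
      rw [← sum_mval_mul (isInv_dmat _) (fun z => χ (x * z)), inv_mul_cancel_left₀ hU]
    simp only [e1]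
    rw [← inv_mul_cancel_left₀ hU (∑ x : G, mval U (A * dmat U ℂ n) x * _), sum_mval_mul (isInv_dmat _)]
    have e2 : (∑ x : G, ∑ g : G, mval U A x * mval U (dmat U ℂ n) g *
        ((Nat.card U : ℂ)⁻¹ * ∑ y : G, ∑ h : G, mval U B y * mval U (dmat U ℂ n⁻¹) h * χ (x * g * (y * h)))) =
        (Nat.card U : ℂ)⁻¹ * ∑ g : G, ∑ h : G, mval U (dmat U ℂ n) g * mval U (dmat U ℂ n⁻¹) h * Φ g h := by
      simp only [hΦ, Finset.mul_sum]
      rw [Finset.sum_comm]
      refine Finset.sum_congr rfl fun g _ => ?_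
      rw [Finset.sum_congr rfl fun x (_ : x ∈ Finset.univ) => Finset.sum_comm, Finset.sum_comm]
      exact Finset.sum_congr rfl fun h _ => Finset.sum_congr rfl fun x _ => Finset.sum_congr rfl fun y _ => by ring
    rw [e2]
    simp only [mval_dmat, ite_mul, mul_ite, one_mul, zero_mul, mul_one, mul_zero]
    rw [Finset.sum_congr rfl fun g _ => show _ = if g ∈ DoubleCoset.doubleCoset n (U : Set G) U then
        ∑ h ∈ Finset.univ.filter (· ∈ DoubleCoset.doubleCoset n⁻¹ (U : Set G) U), Φ g h else 0 by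
          split_ifs with hg <;> simp [hg, Finset.sum_filter], ← Finset.sum_filter,
      sum_dc_const (f := fun g => ∑ h ∈ Finset.univ.filter (· ∈ DoubleCoset.doubleCoset n⁻¹ (U : Set G) U), Φ g h)
        (fun u hu g => Finset.sum_congr rfl fun h _ => hΦl u hu g h)
        (fun u hu g => Finset.sum_congr rfl fun h _ => hΦm u hu g h),
      sum_dc_const (fun u hu h => hΦh u hu n h) (fun u hu h => hΦr u hu n h), card_dc, card_dc, mcount_inv]
    push_cast
    field_simp
  rw [Finset.sum_congr rfl fun i _ => by rw [hterm i]]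
  have h2 := sum_cover hcov (fun g => Φ g g⁻¹)
  rw [hsum] at h2
  have h3 : ∑ i, dcoef U χ (rep i) * ((mcount U (rep i) : ℂ) ^ 2 * ((Nat.card U : ℂ)⁻¹) ^ 2 * Φ (rep i) (rep i)⁻¹) =
      χ 1 / Nat.card G * ((Nat.card U : ℂ)⁻¹) ^ 2 * ∑ i, ∑ g ∈ Finset.univ.filter
        (· ∈ DoubleCoset.doubleCoset (rep i) (U : Set G) U), Φ g g⁻¹ := by
    rw [Finset.mul_sum]
    refine Finset.sum_congr rfl fun i _ => ?_
    rw [sum_dc_const (f := fun g => Φ g g⁻¹) (fun u hu g => by rw [mul_inv_rev, hΦl u hu, hΦr _ (inv_mem hu)])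
      (fun u hu g => by rw [mul_inv_rev, hΦm u hu, hΦh _ (inv_mem hu)]), card_dc, dcoef]
    have hm : (mcount U (rep i) : ℂ) ≠ 0 := Nat.cast_ne_zero.mpr (mcount_pos _).ne'
    push_cast
    field_simp
  rw [h3, ← h2, theta, theta]
  field_simp

/-- The values on integral invariant matrices are algebraic integers. -/
theorem theta_isIntegral [DecidableEq (G ⧸ U)] (hχ : IsIrrCharacter G χ) (A₀ : Matrix (G ⧸ U) (G ⧸ U) ℤ)
    (hA : IsInv U A₀) : IsIntegral ℤ (theta U χ (A₀.map (Int.castRingHom ℂ))) := by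
  classical
  obtain ⟨n, ρ, hρ, rfl⟩ := hχ
  have hU : (Nat.card U : ℂ) ≠ 0 := Nat.cast_ne_zero.mpr Nat.card_pos.ne'
  let Φ : Matrix (G ⧸ U) (G ⧸ U) ℂ → Matrix (Fin n) (Fin n) ℂ := fun A =>
    (Nat.card U : ℂ)⁻¹ • ∑ g : G, mval U A g • repMatrix ρ g
  have hmul : ∀ A B, IsInv U B → Φ (A * B) = Φ A * Φ B := fun A B hB => by
    ext i j
    simp only [Φ, Matrix.smul_apply, Matrix.sum_apply, smul_eq_mul, Matrix.mul_apply]
    rw [← inv_mul_cancel_left₀ hU (∑ g : G, mval U (A * B) g * repMatrix ρ g i j),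
      sum_mval_mul hB (fun g => repMatrix ρ g i j)]
    simp only [repMatrix_mul, Matrix.mul_apply, Finset.sum_mul_sum, Finset.mul_sum, Finset.sum_mul]
    rw [Finset.sum_comm]
    conv_rhs => rw [Finset.sum_congr rfl fun l (_ : l ∈ Finset.univ) => Finset.sum_comm]
    rw [Finset.sum_congr rfl fun y (_ : y ∈ Finset.univ) => Finset.sum_comm, Finset.sum_comm]
    refine Finset.sum_congr rfl fun l _ => ?_
    rw [Finset.sum_comm]
    exact Finset.sum_congr rfl fun y _ => Finset.sum_congr rfl fun x _ => by ring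
  set A := A₀.map (Int.castRingHom ℂ) with hA'
  have hAinv : IsInv U A := fun g y z => by simp [hA', hA g y z]
  have hpow : ∀ m : ℕ, IsInv U (A ^ m) := by
    intro m
    induction m with
    | zero => simpa using isInv_one (U := U) (k := ℂ)
    | succ m ih => rw [pow_succ]; exact isInv_mul ih hAinv
  have hΦpow : ∀ m : ℕ, Φ (A ^ (m + 1)) = Φ A ^ (m + 1) := by
    intro m
    induction m with
    | zero => simp
    | succ m ih => rw [pow_succ, hmul _ _ hAinv, ih, pow_succ (Φ A) (m + 1)]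
  -- a monic integral polynomial annihilating the image
  set f := A₀.charpoly with hf
  have h0 : Polynomial.aeval (Φ A) (Polynomial.X * f) = 0 := by
    have hz : Polynomial.aeval A (Polynomial.X * f) = 0 := by
      have h1 := congrArg (fun Z : Matrix (G ⧸ U) (G ⧸ U) ℤ => (Int.castRingHom ℂ).mapMatrix Z)
        (Matrix.aeval_self_charpoly A₀)
      simp only [map_zero] at h1
      rw [map_mul, Polynomial.aeval_X, hf]
      rw [show Polynomial.aeval A A₀.charpoly = 0 from ?_, mul_zero]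
      rw [← h1]
      exact (Polynomial.aeval_algHom_apply ((Int.castRingHom ℂ).mapMatrix).toIntAlgHom A₀ _)
    rw [Polynomial.aeval_eq_sum_range] at hz ⊢
    have hz' := congrArg Φ hz
    have hΦlin : ∀ (c : ℕ → ℤ) (s : Finset ℕ), Φ (∑ j ∈ s, c j • A ^ j) = ∑ j ∈ s, c j • Φ (A ^ j) := fun c s => by
      ext i j
      simp only [Φ, mval, Matrix.smul_apply, Matrix.sum_apply]
      simp only [smul_eq_mul, zsmul_eq_mul, Finset.sum_mul, Finset.mul_sum]
      rw [Finset.sum_comm]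
      exact Finset.sum_congr rfl fun a _ => Finset.sum_congr rfl fun g _ => by ring
    rw [hΦlin, show Φ 0 = 0 by simp [Φ, mval]] at hz'
    rw [← hz']
    refine Finset.sum_congr rfl fun j _ => ?_
    rcases j with _ | j
    · simp
    · rw [hΦpow]
  have htr : theta U ρ.character A = (Φ A).trace := by
    simp only [theta, Φ, Matrix.trace_smul, Matrix.trace_sum, smul_eq_mul, trace_repMatrix]
  rw [htr, Matrix.trace_eq_sum_roots_charpoly]
  refine IsIntegral.multiset_sum fun μ hμ => ?_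
  have hmem : μ ∈ spectrum ℂ (Φ A) :=
    (Matrix.mem_spectrum_iff_isRoot_charpoly).mpr (Polynomial.isRoot_of_mem_roots hμ)
  refine ⟨Polynomial.X * f, Polynomial.monic_X.mul (Matrix.charpoly_monic A₀), ?_⟩
  have h1 := spectrum.subset_polynomial_aeval (Φ A) ((Polynomial.X * f).map (algebraMap ℤ ℂ)) ⟨μ, hmem, rfl⟩
  rw [Polynomial.aeval_map_algebraMap, h0, spectrum.mem_iff, sub_zero] at h1
  simp only [Polynomial.eval_map] at h1
  by_contra hne
  exact h1 ((Ne.isUnit hne).map (algebraMap ℂ (Matrix (Fin n) (Fin n) ℂ)))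

end Theta

end Cfsg.Agent.Char
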