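import Cfsg.Agent.Lib.Char.Perm
import Cfsg.Agent.Lib.Char.Generalized
import Cfsg.Agent.Lib.Char.Clifford

/-!
# Signed irreducible characters, and fixed points of automorphisms on classes
-/

set_option autoImplicit false

namespace Cfsg.Agent.Char

open Cfsg

universe u

variable {G : Type u} [Group G]

/-- A signed irreducible character has norm one. -/
theorem classInner_self_signed [Fintype G] {f : G → ℂ}
    (hf : IsIrrCharacter G f ∨ IsIrrCharacter G (-f)) : classInner f f = 1 := by
  rcases hf with hf | hf
  · exact IsIrrCharacter.classInner_self hf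
  · simpa [classInner_neg_left, classInner_neg_right] using IsIrrCharacter.classInner_self hf

/-- Two signed irreducible characters are orthogonal or proportional by a sign. -/
theorem classInner_signed [Fintype G] {f g : G → ℂ}
    (hf : IsIrrCharacter G f ∨ IsIrrCharacter G (-f))
    (hg : IsIrrCharacter G g ∨ IsIrrCharacter G (-g)) :
    classInner f g = 0 ∨ ∃ s : ℂ, (s = 1 ∨ s = -1) ∧ f = s • g ∧ classInner f g = s := by
  by_cases h1 : f = g
  · exact Or.inr ⟨1, Or.inl rfl, by simp [h1], by rw [h1, classInner_self_signed hg]⟩
  by_cases h2 : f = -g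
  · refine Or.inr ⟨-1, Or.inr rfl, by simp [h2], ?_⟩
    rw [h2, classInner_neg_left, classInner_self_signed hg]
  refine Or.inl ?_
  rcases hf with hf | hf <;> rcases hg with hg | hg
  · exact IsIrrCharacter.classInner_eq_zero hf hg h1
  · simpa [classInner_neg_right] using IsIrrCharacter.classInner_eq_zero hf hg h2
  · have := IsIrrCharacter.classInner_eq_zero hf hg (fun h => h2 (by rw [← h, neg_neg]))
    simpa [classInner_neg_left] using this
  · have := IsIrrCharacter.classInner_eq_zero hf hg (fun h => h1 (neg_inj.mp h))
    simpa [classInner_neg_left, classInner_neg_right] using this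

/-- An automorphism fixes as many irreducible characters as classes. -/
theorem card_fixed_irr_aut [Finite G] (α : G ≃* G) :
    Nat.card {χ : IrrCharacter G // (χ : G → ℂ) ∘ α = χ} =
      Nat.card {C : ConjClasses G // ConjClasses.map α.toMonoidHom C = C} := by
  let π : IrrCharacter G ≃ IrrCharacter G :=
    { toFun := fun χ => ⟨(χ : G → ℂ) ∘ α.symm, isIrrCharacter_comp_mulEquiv α.symm χ.2⟩
      invFun := fun χ => ⟨(χ : G → ℂ) ∘ α, isIrrCharacter_comp_mulEquiv α χ.2⟩
      left_inv := fun χ => Subtype.ext (funext fun x => by simp)
      right_inv := fun χ => Subtype.ext (funext fun x => by simp) }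
  let σ : ConjClasses G ≃ ConjClasses G :=
    { toFun := ConjClasses.map α.toMonoidHom
      invFun := ConjClasses.map α.symm.toMonoidHom
      left_inv := fun C => Quotient.inductionOn C fun x =>
        congrArg ConjClasses.mk (α.symm_apply_apply x)
      right_inv := fun C => Quotient.inductionOn C fun x =>
        congrArg ConjClasses.mk (α.apply_symm_apply x) }
  have hc := card_fixed_irr π σ fun χ x x' hx => by
    show (χ : G → ℂ) (α.symm x') = (χ : G → ℂ) x
    exact IsIrrCharacter.apply_isConj χ.2
      (by simpa using α.symm.toMonoidHom.map_isConj (ConjClasses.mk_eq_mk_iff_isConj.mp hx))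
  refine Eq.trans (Nat.card_congr ?_) hc
  refine Equiv.subtypeEquivRight fun χ => ?_
  constructor
  · intro h
    refine Subtype.ext (funext fun x => ?_)
    have := congrFun h (α.symm x)
    simp only [Function.comp_apply, MulEquiv.apply_symm_apply] at this
    exact this.symm
  · intro h
    funext x
    have := congrFun (congrArg Subtype.val h) (α x)
    simp only [π, Equiv.coe_fn_mk, Function.comp_apply, MulEquiv.symm_apply_apply] at this
    exact this.symm

end Cfsg.Agent.Char
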