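import Cfsg.Agent.Lib.Char.Gallagher
import Cfsg.Agent.Lib.Char.Extension2
import Cfsg.Agent.Lib.Char.Monomial

/-!
# Induced characters with abelian inertia quotient
-/

set_option autoImplicit false
set_option linter.style.haveILetI false

namespace Cfsg.Agent.Char

open Cfsg Representation Module
open scoped ComplexConjugate

universe u

variable {G : Type u} [Group G] [Fintype G]

/-- The invariant case: the constituents of the induced character are twists of one of them. -/
theorem abelian_quotient_decomp (N : Subgroup G) [hN : N.Normal] [Fintype N] {θ : N → ℂ}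
    (hθ : IsIrrCharacter N θ) (hinv : ∀ g, conjChar N g θ = θ)
    (hab : ∀ x y : G, x * y * x⁻¹ * y⁻¹ ∈ N) {χ : G → ℂ} (hχ : IsIrrCharacter G χ)
    {e : ℕ} (he : e ≠ 0) (hres : (fun n : N => χ n) = (e : ℂ) • θ) :
    ∃ C : Finset (G → ℂ), (∀ ψ ∈ C, IsIrrCharacter G ψ) ∧
      (∀ ψ ∈ C, (fun n : N => ψ n) = (e : ℂ) • θ) ∧
      e ^ 2 * C.card = N.index ∧ indFun N θ = (e : ℂ) • ∑ ψ ∈ C, ψ := by
  classical
  haveI := Fintype.ofFinite (IrrCharacter G)
  have he' : (e : ℂ) ≠ 0 := Nat.cast_ne_zero.mpr he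
  have hχc := IsIrrCharacter.isCharacter hχ
  have hmul : (e : ℂ) • indFun N θ = χ * indFun N (1 : N → ℂ) := by
    rw [← indFun_smul, ← hres, ← indFun_mul N (1 : N → ℂ) (IsCharacter.isClassFunction hχc)]
    congr 1
    funext n
    simp
  have htwist : ∀ β : IrrCharacter G, classInner (indFun N (1 : N → ℂ)) (β : G → ℂ) ≠ 0 →
      IsIrrCharacter G (χ * (β : G → ℂ)) ∧ ∀ n : N, (χ * (β : G → ℂ)) n = χ n := by
    intro β hβ
    have hone := apply_mul_eq_of_over_one N β.2 hβ
    have hNv : ∀ n : N, (β : G → ℂ) n = (β : G → ℂ) 1 := fun n => by simpa using hone n 1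
    have hdeg := IsIrrCharacter.degree_one_of_commutator_ker β.2
      (fun a b => hNv ⟨_, hab a b⟩)
    obtain ⟨l, hl⟩ := IsCharacter.exists_monoidHom (IsIrrCharacter.isCharacter β.2) hdeg
    obtain ⟨d, hd⟩ := IsCharacter.exists_degree hχc
    refine ⟨?_, fun n => by rw [Pi.mul_apply, hNv, hdeg, mul_one]⟩
    have h := (exists_twist_character l hχ hd).1
    have e1 : χ * (β : G → ℂ) = fun g => (l g : ℂ) * χ g := by
      funext g
      rw [Pi.mul_apply, hl, mul_comm]
    rw [e1]
    exact h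
  let C : Finset (G → ℂ) := (Finset.univ.filter fun ψ : IrrCharacter G =>
    classInner (indFun N θ) (ψ : G → ℂ) ≠ 0).image Subtype.val
  have hCres : ∀ ψ : IrrCharacter G, classInner (indFun N θ) (ψ : G → ℂ) ≠ 0 →
      (fun n : N => (ψ : G → ℂ) n) = (e : ℂ) • θ := by
    intro ψ hψ
    have h1 : classInner ((e : ℂ) • indFun N θ) (ψ : G → ℂ) ≠ 0 := by
      rw [classInner_smul_left]
      exact mul_ne_zero he' hψ
    rw [hmul, IsClassFunction.eq_sum (isClassFunction_indFun N (1 : N → ℂ)), Finset.mul_sum,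
      classInner_sum_left] at h1
    obtain ⟨β, -, hβ⟩ := Finset.exists_ne_zero_of_sum_ne_zero h1
    rw [mul_smul_comm, classInner_smul_left] at hβ
    obtain ⟨hirr, hNn⟩ := htwist β (left_ne_zero_of_mul hβ)
    have heq : χ * (β : G → ℂ) = ψ := by
      by_contra hne
      exact right_ne_zero_of_mul hβ (IsIrrCharacter.classInner_eq_zero hirr ψ.2 hne)
    rw [← hres]
    funext n
    rw [← heq, hNn]
  have hval : ∀ ψ : IrrCharacter G, classInner (indFun N θ) (ψ : G → ℂ) ≠ 0 →
      classInner (indFun N θ) (ψ : G → ℂ) = e := by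
    intro ψ hψ
    rw [classInner_indFun N θ (IsCharacter.isClassFunction (IsIrrCharacter.isCharacter ψ.2)),
      hCres ψ hψ, classInner_smul_right, IsIrrCharacter.classInner_self hθ]
    simp
  have hdec : indFun N θ = (e : ℂ) • ∑ ψ ∈ C, ψ := by
    rw [Finset.sum_image (fun a _ b _ h => Subtype.ext h), Finset.smul_sum, Finset.sum_filter]
    refine (IsClassFunction.eq_sum (isClassFunction_indFun N θ)).trans
      (Finset.sum_congr rfl fun ψ _ => ?_)
    split_ifs with h
    · rw [hval ψ h]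
    · rw [not_not.mp h, zero_smul]
  refine ⟨C, ?_, ?_, ?_, hdec⟩
  · intro ψ hψ
    obtain ⟨p, -, rfl⟩ := Finset.mem_image.mp hψ
    exact p.2
  · intro ψ hψ
    obtain ⟨p, hp, rfl⟩ := Finset.mem_image.mp hψ
    exact hCres p (Finset.mem_filter.mp hp).2
  · have h := classInner_indFun_self_of_invariant N hθ hinv
    rw [classInner_eq_sum_mul (isClassFunction_indFun N θ) (isClassFunction_indFun N θ)] at h
    have h2 : ∀ ψ : IrrCharacter G,
        classInner (indFun N θ) (ψ : G → ℂ) * conj (classInner (indFun N θ) (ψ : G → ℂ)) =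
          if classInner (indFun N θ) (ψ : G → ℂ) ≠ 0 then (e : ℂ) ^ 2 else 0 := by
      intro ψ
      split_ifs with h
      · rw [hval ψ h, Complex.conj_natCast, sq]
      · rw [not_not.mp h, zero_mul]
    rw [Finset.sum_congr rfl fun ψ _ => h2 ψ, ← Finset.sum_filter, Finset.sum_const,
      nsmul_eq_mul] at h
    have hC : C.card = (Finset.univ.filter fun ψ : IrrCharacter G =>
        classInner (indFun N θ) (ψ : G → ℂ) ≠ 0).card :=
      Finset.card_image_of_injective _ Subtype.val_injective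
    rw [hC]
    have h3 : (((Finset.univ.filter fun ψ : IrrCharacter G =>
        classInner (indFun N θ) (ψ : G → ℂ) ≠ 0).card * e ^ 2 : ℕ) : ℂ) = (N.index : ℂ) := by
      push_cast
      exact h
    rw [mul_comm]
    exact_mod_cast h3

/-- Induced characters when the inertia quotient is abelian. -/
theorem abelian_inertia_decomp (H T : Subgroup G) [hH : H.Normal] [Fintype H] [Fintype T]
    {θ : H → ℂ} (hθ : IsIrrCharacter H θ) (hT : T = inertia H θ) (hHT : H ≤ T)
    (hab : ∀ x y : T, x * y * x⁻¹ * y⁻¹ ∈ H.subgroupOf T) {ψ₀ : T → ℂ}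
    (hψ₀ : IsIrrCharacter T ψ₀) {e : ℕ} (he : e ≠ 0)
    (hres : (fun n : H => ψ₀ ⟨(n : G), hHT n.2⟩) = (e : ℂ) • θ) :
    ∃ C : Finset (G → ℂ), (∀ χ ∈ C, IsIrrCharacter G χ) ∧
      e ^ 2 * C.card = H.relIndex T ∧ indFun H θ = (e : ℂ) • ∑ χ ∈ C, χ ∧
      ∀ χ ∈ C, χ 1 = (T.index : ℂ) * e * θ 1 := by
  classical
  let ι : H.subgroupOf T ≃* H := Subgroup.subgroupOfEquivOfLe hHT
  haveI := Fintype.ofFinite (H.subgroupOf T)
  have he' : (e : ℂ) ≠ 0 := Nat.cast_ne_zero.mpr he
  have hθe := isIrrCharacter_comp_mulEquiv ι hθ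
  have hinv : ∀ t : T, conjChar (H.subgroupOf T) t (fun n => θ (ι n)) = fun n => θ (ι n) := by
    intro t
    funext n
    have ht : conjChar H (t : G) θ = θ := by
      have : (t : G) ∈ inertia H θ := hT ▸ t.2
      exact this
    exact congrFun ht (ι n)
  have hres' : (fun n : H.subgroupOf T => ψ₀ n) = (e : ℂ) • fun n => θ (ι n) := by
    funext n
    exact congrFun hres (ι n)
  obtain ⟨C, hC1, hC2, hC3, hC4⟩ :=
    abelian_quotient_decomp (H.subgroupOf T) hθe hinv hab hψ₀ he hres'
  have hind : indFun H θ = (e : ℂ) • ∑ ψ ∈ C, indFun T ψ := by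
    rw [← indFun_trans H T hHT θ,
      show (fun x : H.subgroupOf T => θ ⟨(x : T), Subgroup.mem_subgroupOf.mp x.2⟩) =
        fun n => θ (ι n) from rfl, hC4, indFun_smul, indFun_sum]
  have hirr : ∀ ψ ∈ C, IsIrrCharacter G (indFun T ψ) ∧
      classInner (fun n : H => indFun T ψ n) θ = e := by
    intro ψ hψ
    have hψc := IsIrrCharacter.isCharacter (hC1 ψ hψ)
    have hk : classInner (fun n : H => ψ ⟨(n : G), hHT n.2⟩) θ = e := by
      have h1 : (fun n : H => ψ ⟨(n : G), hHT n.2⟩) = (e : ℂ) • θ := by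
        funext n
        have h2 := congrFun (hC2 ψ hψ) (ι.symm n)
        have h3 : ((ι.symm n : H.subgroupOf T) : T) = ⟨(n : G), hHT n.2⟩ := rfl
        simpa [h3] using h2
      rw [h1, classInner_smul_left, IsIrrCharacter.classInner_self hθ, mul_one]
    have hne : indFun T ψ ≠ 0 := by
      intro h
      have h1 := congrFun h 1
      rw [indFun_one_apply, Pi.zero_apply] at h1
      rcases mul_eq_zero.mp h1 with h1 | h1
      · exact Subgroup.index_ne_zero_of_finite (Nat.cast_eq_zero.mp h1)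
      · exact IsIrrCharacter.apply_one_ne_zero (hC1 ψ hψ) h1
    obtain ⟨χ, hχ, hcon⟩ := IsCharacter.exists_irr_constituent (isCharacter_indFun T hψc) hne
    have h : classInner (fun t : T => χ t) ψ ≠ 0 := by
      rw [classInner_indFun T ψ (IsCharacter.isClassFunction (IsIrrCharacter.isCharacter hχ))] at hcon
      intro h0
      apply hcon
      rw [← classInner_conj_symm, h0, map_zero]
    obtain ⟨h1, h2⟩ := clifford_core H hθ hT hHT hχ (hC1 ψ hψ) h (by rw [hk]; exact he')
    rw [h1]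
    exact ⟨hχ, by rw [← h2, hk]⟩
  have hinj : ∀ ψ ∈ C, ∀ ψ' ∈ C, indFun T ψ = indFun T ψ' → ψ = ψ' := by
    intro ψ hψ ψ' hψ' heq
    have h1 : classInner (indFun H θ) (indFun T ψ) = (e : ℂ) *
        ((C.filter fun φ => indFun T φ = indFun T ψ).card : ℂ) := by
      rw [hind, classInner_smul_left, classInner_sum_left, Finset.card_filter, Nat.cast_sum]
      congr 1
      refine Finset.sum_congr rfl fun φ hφ => ?_
      split_ifs with hh
      · rw [hh, IsIrrCharacter.classInner_self (hirr ψ hψ).1, Nat.cast_one]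
      · rw [IsIrrCharacter.classInner_eq_zero (hirr φ hφ).1 (hirr ψ hψ).1 hh, Nat.cast_zero]
    rw [classInner_indFun H θ (isClassFunction_indFun T ψ), ← classInner_conj_symm,
      (hirr ψ hψ).2, Complex.conj_natCast] at h1
    have h2 : e * 1 = e * (C.filter fun φ => indFun T φ = indFun T ψ).card := by
      rw [mul_one]
      exact_mod_cast h1
    exact Finset.card_le_one.mp (Nat.eq_of_mul_eq_mul_left (Nat.pos_of_ne_zero he) h2).ge ψ
      (Finset.mem_filter.mpr ⟨hψ, rfl⟩) ψ' (Finset.mem_filter.mpr ⟨hψ', heq.symm⟩)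
  refine ⟨C.image (indFun T), ?_, ?_, ?_, ?_⟩
  · intro χ hχ
    obtain ⟨ψ, hψ, rfl⟩ := Finset.mem_image.mp hχ
    exact (hirr ψ hψ).1
  · rw [Finset.card_image_of_injOn fun a ha b hb => hinj a ha b hb, hC3]
    rfl
  · rw [Finset.sum_image hinj]
    exact hind
  · intro χ hχ
    obtain ⟨ψ, hψ, rfl⟩ := Finset.mem_image.mp hχ
    have h1 := congrFun (hC2 ψ hψ) 1
    simp only [OneMemClass.coe_one, Pi.smul_apply, smul_eq_mul, map_one] at h1
    rw [indFun_one_apply, h1, mul_assoc]

end Cfsg.Agent.Char
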