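import Cfsg.Agent.Lib.Char.Linear
import Mathlib.GroupTheory.Solvable
import Mathlib.GroupTheory.Sylow
import Mathlib.GroupTheory.PGroup
import Mathlib.GroupTheory.Nilpotent

/-!
# Burnside's `p^a q^b` theorem
-/

set_option autoImplicit false
set_option linter.style.haveILetI false

namespace Cfsg.Agent.Char

open Cfsg Representation Module

universe u

theorem burnside_class_size {G : Type u} [Group G] [Finite G] [IsSimpleGroup G] (p k : ℕ)
    (hp : p.Prime) (g : G) (hg : g ≠ 1)
    (hclass : (Subgroup.centralizer ({g} : Set G)).index = p ^ k) : (Nat.card G).Prime := by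
  classical
  haveI := Fintype.ofFinite G
  haveI := Fintype.ofFinite (IrrCharacter G)
  by_cases hcent : g ∈ Subgroup.center G
  · have htop : Subgroup.center G = ⊤ :=
      (Subgroup.Normal.eq_bot_or_eq_top inferInstance).resolve_left fun e => hg (by
        rw [e] at hcent; exact Subgroup.mem_bot.mp hcent)
    letI : CommGroup G := { (inferInstance : Group G) with
      mul_comm := fun a b => Subgroup.mem_center_iff.mp (htop ▸ Subgroup.mem_top b) a }
    exact IsSimpleGroup.prime_card (α := G)
  exfalso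
  let one : IrrCharacter G := ⟨1, isIrrCharacter_one⟩
  have key : ∀ χ : IrrCharacter G, χ ≠ one →
      ∃ z : ℂ, IsIntegral ℤ z ∧ (χ : G → ℂ) 1 * (χ : G → ℂ) g = (p : ℂ) * z := by
    rintro ⟨χ, hχ⟩ hne
    obtain ⟨n, ρ, hρ, rfl⟩ := hχ
    haveI := hρ
    have hint : IsIntegral ℤ (ρ.character g) := isIntegral_character ρ g
    by_cases hdvd : p ∣ finrank ℂ (Fin n → ℂ)
    · obtain ⟨m, hm⟩ := hdvd
      refine ⟨(m : ℂ) * ρ.character g, ?_, ?_⟩
      · refine IsIntegral.mul ?_ hint
        simpa using isIntegral_algebraMap (R := ℤ) (A := ℂ) (x := (m : ℤ))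
      · simp only [ρ.char_one, hm, Nat.cast_mul]; ring
    refine ⟨0, isIntegral_zero, ?_⟩
    rcases eq_zero_or_norm_eq_of_coprime ρ g (by
      rw [hclass]; exact Nat.Coprime.pow_right k (hp.coprime_iff_not_dvd.mpr hdvd).symm) with h | h
    · simp [h]
    exfalso
    obtain ⟨ω, hω⟩ := (norm_character_eq_iff ρ g).mp h
    rcases (MonoidHom.normal_ker ρ).eq_bot_or_eq_top with hker | hker
    · have hinj : Function.Injective ρ := (MonoidHom.ker_eq_bot_iff ρ).mp hker
      exact hcent (Subgroup.mem_center_iff.mpr fun x => (comm_of_rep_eq_smul ρ hω hinj x).symm)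
    · apply hne
      apply Subtype.ext
      have hid : ∀ x, ρ x = 1 := fun x => MonoidHom.mem_ker.mp (hker ▸ Subgroup.mem_top x)
      have hc : ρ.character = fun _ => (finrank ℂ (Fin n → ℂ) : ℂ) := by
        funext x; rw [Representation.character, hid, LinearMap.trace_one]
      have h2 := (isIrreducible_iff_classInner ρ).mp hρ
      rw [hc] at h2
      simp only [classInner, map_natCast, Finset.sum_const, Finset.card_univ, nsmul_eq_mul,
        ← Nat.card_eq_fintype_card] at h2
      rw [← mul_assoc, inv_mul_cancel₀ (Nat.cast_ne_zero.mpr Nat.card_pos.ne'), one_mul] at h2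
      have h3 : finrank ℂ (Fin n → ℂ) = 1 :=
        Nat.eq_one_of_mul_eq_one_right (by exact_mod_cast h2)
      show ρ.character = 1
      rw [hc, h3]; simp; rfl
  choose! z hz hzeq using key
  have h0 := regular_eq g
  rw [if_neg hg, ← Finset.add_sum_erase _ _ (Finset.mem_univ one),
    Finset.sum_congr rfl fun χ hχ => hzeq χ (Finset.ne_of_mem_erase hχ), ← Finset.mul_sum] at h0
  simp only [one, Pi.one_apply, one_mul] at h0
  set S := ∑ χ ∈ Finset.univ.erase one, z χ with hS
  have hSint : IsIntegral ℤ S := IsIntegral.sum _ fun χ hχ => hz χ (Finset.ne_of_mem_erase hχ)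
  have h1 : IsIntegral ℤ ((1 : ℕ) / (p : ℂ)) := by
    have e : ((1 : ℕ) : ℂ) / (p : ℂ) = -S := by
      have hp0 : (p : ℂ) ≠ 0 := Nat.cast_ne_zero.mpr hp.ne_zero
      field_simp
      push_cast
      linear_combination h0
    rw [e]; exact hSint.neg
  exact hp.one_lt.ne' (Nat.dvd_one.mp (nat_dvd_of_isIntegral_div hp.ne_zero h1))

theorem solvable_of_card_prime_pow_mul (p q : ℕ) (hp : p.Prime) (hq : q.Prime) :
    ∀ (n : ℕ) (G : Type u) [Group G] [Finite G], Nat.card G = n →
      (∃ a b, n = p ^ a * q ^ b) → Group.IsSolvable G := by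
  intro n
  induction n using Nat.strong_induction_on with
  | _ n ih =>
    intro G _ _ hn ⟨a, b, hab⟩
    haveI : Fact p.Prime := ⟨hp⟩
    haveI : Fact q.Prime := ⟨hq⟩
    have hpg : ∀ r : ℕ, r.Prime → (∃ c, Nat.card G = r ^ c) → Group.IsSolvable G := by
      rintro r hr ⟨c, hc⟩
      haveI : Fact r.Prime := ⟨hr⟩
      haveI := (IsPGroup.of_card hc).isNilpotent
      infer_instance
    rcases Nat.eq_zero_or_pos a with rfl | ha
    · exact hpg q hq ⟨b, by rw [hn, hab, pow_zero, one_mul]⟩
    by_cases hpq : p = q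
    · subst hpq
      exact hpg p hp ⟨a + b, by rw [hn, hab, pow_add]⟩
    by_cases hsimp : ∃ N : Subgroup G, N.Normal ∧ N ≠ ⊥ ∧ N ≠ ⊤
    · obtain ⟨N, hN, hb, ht⟩ := hsimp
      haveI := hN
      have hdiv : ∀ m : ℕ, m ∣ n → ∃ a' b', m = p ^ a' * q ^ b' := by
        intro m hm
        obtain ⟨m₁, m₂, h₁, h₂, rfl⟩ := exists_dvd_and_dvd_of_dvd_mul (hab ▸ hm)
        obtain ⟨a', -, rfl⟩ := (Nat.dvd_prime_pow hp).mp h₁
        obtain ⟨b', -, rfl⟩ := (Nat.dvd_prime_pow hq).mp h₂
        exact ⟨a', b', rfl⟩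
      have hlt : Nat.card N < n := hn ▸ lt_of_le_of_ne (Subgroup.card_le_card_group N)
        (fun e => ht (Subgroup.eq_top_of_card_eq N e))
      have hlt2 : Nat.card (G ⧸ N) < n := by
        rw [← hn, Subgroup.card_eq_card_quotient_mul_card_subgroup N]
        exact lt_mul_of_one_lt_right Nat.card_pos (N.one_lt_card_iff_ne_bot.mpr hb)
      haveI := ih _ hlt N rfl (hdiv _ (hn ▸ N.card_subgroup_dvd_card))
      haveI := ih _ hlt2 (G ⧸ N) rfl (hdiv _ (hn ▸ N.card_quotient_dvd_card))
      exact Group.isSolvable_of_ker_le_range N.subtype (QuotientGroup.mk' N)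
        (by rw [QuotientGroup.ker_mk', Subgroup.range_subtype])
    · push Not at hsimp
      have hcardlt : 1 < Nat.card G := by
        rw [hn, hab]
        exact lt_of_lt_of_le (Nat.one_lt_pow ha.ne' hp.one_lt)
          (Nat.le_mul_of_pos_right _ (pow_pos hq.pos b))
      haveI : Nontrivial G := Finite.one_lt_card_iff_nontrivial.mp hcardlt
      haveI : IsSimpleGroup G :=
        ⟨fun N hN => or_iff_not_imp_left.mpr fun hb => hsimp N hN hb⟩
      let P : Sylow p G := default
      have hP : Nat.card P = p ^ a := by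
        rw [P.card_eq_multiplicity, hn, hab]
        congr 1
        rw [Nat.factorization_mul (pow_ne_zero _ hp.ne_zero) (pow_ne_zero _ hq.ne_zero)]
        simp [hp.factorization_self, Nat.factorization_eq_zero_of_not_dvd
          (fun h => hpq ((Nat.prime_dvd_prime_iff_eq hp hq).mp h))]
      haveI : Nontrivial P := Finite.one_lt_card_iff_nontrivial.mp
        (hP ▸ Nat.one_lt_pow ha.ne' hp.one_lt)
      haveI : Nontrivial (Subgroup.center P) := P.isPGroup'.center_nontrivial
      obtain ⟨z, hz⟩ := exists_ne (1 : Subgroup.center P)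
      have hle : (P : Subgroup G) ≤ Subgroup.centralizer ({((z : P) : G)} : Set G) := by
        intro x hx
        rw [Subgroup.mem_centralizer_singleton_iff]
        exact congrArg Subtype.val (Subgroup.mem_center_iff.mp z.2 ⟨x, hx⟩)
      obtain ⟨c, hc⟩ : ∃ c, (Subgroup.centralizer ({((z : P) : G)} : Set G)).index = q ^ c := by
        have h2 : (P : Subgroup G).index = q ^ b := by
          have h3 := (P : Subgroup G).index_mul_card
          rw [hP, hn, hab, mul_comm (p ^ a)] at h3
          exact Nat.eq_of_mul_eq_mul_right (pow_pos hp.pos a) h3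
        obtain ⟨c, -, hc⟩ := (Nat.dvd_prime_pow hq).mp (h2 ▸ Subgroup.index_dvd_of_le hle)
        exact ⟨c, hc⟩
      have hpr := burnside_class_size q c hq ((z : P) : G)
        (fun e => hz (Subtype.ext (Subtype.ext e))) hc
      exact hpg (Nat.card G) hpr ⟨1, (pow_one _).symm⟩

end Cfsg.Agent.Char
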