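import Cfsg.Agent.Lib.Char.Clifford
import Cfsg.Agent.Lib.Char.PermChar
import Cfsg.Agent.Lib.Char.Linear
import Cfsg.Agent.Lib.Char.Degrees
import Mathlib.LinearAlgebra.Lagrange
import Mathlib.GroupTheory.Solvable
import Mathlib.GroupTheory.GroupAction.MultipleTransitivity

/-!
# Monomial groups, permutation characters and powers of faithful characters
-/

set_option autoImplicit false
set_option linter.style.haveILetI false

namespace Cfsg.Agent.Char

open Cfsg Representation Module
open scoped ComplexConjugate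

universe u

variable {G : Type u} [Group G] [Fintype G]

/-- The common kernel of the constituents. -/
theorem apply_eq_of_constituents {Φ : G → ℂ} (hΦ : IsCharacter G Φ) (g : G)
    (h : ∀ χ : G → ℂ, IsIrrCharacter G χ → classInner Φ χ ≠ 0 → χ g = χ 1) : Φ g = Φ 1 := by
  haveI := Fintype.ofFinite (IrrCharacter G)
  have e := IsClassFunction.eq_sum (IsCharacter.isClassFunction hΦ)
  rw [congrFun e g, congrFun e 1]
  simp only [Finset.sum_apply, Pi.smul_apply, smul_eq_mul]
  refine Finset.sum_congr rfl fun χ _ => ?_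
  by_cases hc : classInner Φ (χ : G → ℂ) = 0
  · simp [hc]
  · rw [h χ χ.2 hc]

theorem mem_of_indFun_one_eq (H : Subgroup G) (g : G)
    (h : indFun H (fun _ => (1 : ℂ)) g = indFun H (fun _ => (1 : ℂ)) 1) : g ∈ H := by
  rw [indFun_one_apply, mul_one, indFun_one_eq_card_fixed] at h
  have h' : Nat.card (MulAction.fixedBy (G ⧸ H) g) = H.index := by exact_mod_cast h
  have hfix : MulAction.fixedBy (G ⧸ H) g = Set.univ := by
    refine Set.eq_of_subset_of_ncard_le (Set.subset_univ _) ?_
    rw [Set.ncard_univ, ← Subgroup.index_eq_card, ← Nat.card_coe_set_eq, h']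
  have hm : ((1 : G) : G ⧸ H) ∈ MulAction.fixedBy (G ⧸ H) g := by rw [hfix]; trivial
  rw [MulAction.mem_fixedBy, MulAction.Quotient.smul_coe, smul_eq_mul, mul_one] at hm
  simpa using QuotientGroup.eq.mp hm

/-- Monomial groups are solvable. -/
theorem derivedSeries_le_ker
    (hM : ∀ χ : G → ℂ, IsIrrCharacter G χ →
      ∃ (H : Subgroup G) (lam : H →* ℂˣ), χ = indFun H (fun h => (lam h : ℂ))) (d : ℕ) :
    ∀ (e : ℕ) (χ : G → ℂ), IsIrrCharacter G χ → χ 1 = e → e ≤ d →
      ∀ g ∈ derivedSeries G d, χ g = χ 1 := by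
  classical
  induction d with
  | zero =>
    intro e χ hχ he h0
    obtain rfl : e = 0 := Nat.le_zero.mp h0
    exact absurd (by rw [he, Nat.cast_zero]) (IsIrrCharacter.apply_one_ne_zero hχ)
  | succ d IH =>
    intro e χ hχ he hle g hg
    by_cases hed : e ≤ d
    · exact IH e χ hχ he hed g (derivedSeries_antitone G d.le_succ hg)
    obtain ⟨H, lam, rfl⟩ := hM χ hχ
    have hidx : H.index = e := by
      rw [indFun_one_apply, map_one, Units.val_one, mul_one] at he
      exact_mod_cast he
    let Φ := indFun H (fun _ => (1 : ℂ))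
    have hone : IsCharacter H (fun _ => (1 : ℂ)) := isCharacter_one
    have hΦ : IsCharacter G Φ := isCharacter_indFun H hone
    have hker : ∀ x ∈ derivedSeries G d, x ∈ H := by
      intro x hx
      refine mem_of_indFun_one_eq H x (apply_eq_of_constituents hΦ x fun ψ hψ hne => ?_)
      by_cases hψ1 : ψ = fun _ => 1
      · rw [hψ1]
      obtain ⟨m, -, hm⟩ := IsIrrCharacter.degree_pos hψ
      refine IH m ψ hψ hm ?_ x hx
      obtain ⟨r, hr, hr'⟩ := exists_add_of_classInner_ne_zero hΦ hψ hne
      have hone' : classInner Φ (1 : G → ℂ) ≠ 0 := by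
        haveI := Fintype.ofFinite H
        rw [classInner_indFun H _ (fun _ _ => rfl)]
        simp [classInner, Nat.card_eq_fintype_card]
      have hr1 : classInner r (1 : G → ℂ) ≠ 0 := by
        rw [hr', classInner_add_left, IsIrrCharacter.classInner_eq_zero hψ isIrrCharacter_one hψ1,
          zero_add] at hone'
        exact hone'
      obtain ⟨s, hs, hs'⟩ := exists_add_of_classInner_ne_zero hr isIrrCharacter_one hr1
      obtain ⟨b, hb⟩ := IsCharacter.exists_degree hs
      have h1 := congrFun hr' 1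
      simp only [Φ, indFun_one_apply, mul_one, Pi.add_apply, hm, hs', Pi.one_apply, hb] at h1
      have h2 : H.index = m + (1 + b) := by exact_mod_cast h1
      omega
    have hmem : ∀ z ∈ derivedSeries G (d + 1), ∀ x : G,
        extendByZero H (fun h => (lam h : ℂ)) (x⁻¹ * z * x) = 1 := by
      intro z hz x
      have hz' : x⁻¹ * z * x ∈ derivedSeries G (d + 1) := by
        simpa using (derivedSeries_normal G (d + 1)).conj_mem z hz x⁻¹
      have hzH : x⁻¹ * z * x ∈ H :=
        hker _ (derivedSeries_antitone G d.le_succ hz')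
      rw [extendByZero_of_mem _ _ hzH]
      have h2 : x⁻¹ * z * x ∈ ⁅H, H⁆ := by
        rw [derivedSeries_succ] at hz'
        exact Subgroup.commutator_mono hker hker hz'
      have h3 : ⁅H, H⁆ ≤ lam.ker.map H.subtype := by
        rw [Subgroup.commutator_le]
        intro a ha b hb
        exact ⟨(⟨a, ha⟩ : H) * ⟨b, hb⟩ * (⟨a, ha⟩ : H)⁻¹ * (⟨b, hb⟩ : H)⁻¹, by
          rw [SetLike.mem_coe, MonoidHom.mem_ker, map_mul, map_mul, map_mul, map_inv, map_inv,
            mul_comm (lam ⟨a, ha⟩) (lam ⟨b, hb⟩), mul_inv_cancel_right, mul_inv_cancel], rfl⟩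
      obtain ⟨w, hw, hwe⟩ := h3 h2
      have : (⟨x⁻¹ * z * x, hzH⟩ : H) = w := Subtype.ext hwe.symm
      rw [this, MonoidHom.mem_ker.mp hw, Units.val_one]
    rw [indFun_apply, indFun_apply]
    congr 1
    exact Finset.sum_congr rfl fun x _ => by rw [hmem g hg x, hmem 1 (Subgroup.one_mem _) x]

theorem isSolvable_of_monomial
    (hM : ∀ χ : G → ℂ, IsIrrCharacter G χ →
      ∃ (H : Subgroup G) (lam : H →* ℂˣ), χ = indFun H (fun h => (lam h : ℂ))) :
    Group.IsSolvable G := by
  refine (Group.isSolvable_def G).mpr ⟨Nat.card G, ?_⟩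
  rw [Subgroup.eq_bot_iff_forall]
  intro g hg
  have : IsConj g 1 := (isConj_iff_irr _ _).mpr fun χ => by
    obtain ⟨e, -, he⟩ := IsIrrCharacter.degree_pos χ.2
    exact derivedSeries_le_ker hM _ e χ χ.2 he
      (Nat.le_of_dvd Nat.card_pos (degree_dvd_card χ.2 e he)) g hg
  exact isConj_one_left.mp this

/-- The powers of a faithful character meet every irreducible character. -/
theorem exists_pow_constituent {V : Type*} [AddCommGroup V] [Module ℂ V] [FiniteDimensional ℂ V]
    (ρ : Representation ℂ G V) (hf : Function.Injective ρ) {ψ : G → ℂ} (hψ : IsIrrCharacter G ψ) :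
    ∃ i : ℕ, i < Nat.card (Set.range ρ.character) ∧
      classInner (fun g => ρ.character g ^ i) ψ ≠ 0 := by
  classical
  by_contra hcon
  push Not at hcon
  set s := Finset.univ.image ρ.character with hs
  have hcard : Nat.card (Set.range ρ.character) = s.card := by
    rw [Nat.card_coe_set_eq, ← Set.ncard_coe_finset, hs, Finset.coe_image, Finset.coe_univ,
      Set.image_univ]
  set P := Lagrange.basis s id (ρ.character 1) with hP
  have hinj : Set.InjOn (id : ℂ → ℂ) s := fun a _ b _ h => h
  have h1 : ρ.character 1 ∈ s := Finset.mem_image_of_mem _ (Finset.mem_univ 1)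
  have hdeg : P.natDegree < s.card := by
    rw [hP, Lagrange.natDegree_basis hinj h1]
    exact Nat.sub_lt (Finset.card_pos.mpr ⟨_, h1⟩) Nat.one_pos
  have hzero : classInner (fun g => P.eval (ρ.character g)) ψ = 0 := by
    have e : (fun g => P.eval (ρ.character g)) =
        ∑ i ∈ Finset.range s.card, P.coeff i • (fun g => ρ.character g ^ i) := by
      funext g
      simp only [Finset.sum_apply, Pi.smul_apply, smul_eq_mul]
      exact Polynomial.eval_eq_sum_range' hdeg _
    rw [e, classInner_sum_left]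
    refine Finset.sum_eq_zero fun i hi => ?_
    rw [classInner_smul_left, hcon i (hcard ▸ Finset.mem_range.mp hi), mul_zero]
  rw [classInner, Finset.sum_eq_single (1 : G), mul_eq_zero] at hzero
  · rcases hzero with h | h
    · exact inv_ne_zero (Nat.cast_ne_zero.mpr Nat.card_pos.ne') h
    · rw [show P.eval (ρ.character 1) = 1 from Lagrange.eval_basis_self hinj h1, one_mul,
        map_eq_zero] at h
      exact IsIrrCharacter.apply_one_ne_zero hψ h
  · intro g _ hg
    have hne : ρ.character g ≠ ρ.character 1 := fun h => hg (hf (by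
      rw [ρ.char_one] at h
      rw [(character_eq_finrank_iff ρ g).mp h, map_one]; rfl))
    rw [show P.eval (ρ.character g) = 0 from
      Lagrange.eval_basis_of_ne (v := id) (Ne.symm hne)
        (Finset.mem_image_of_mem _ (Finset.mem_univ g)), zero_mul]
  · simp

/-- Double transitivity through the permutation character. -/
theorem isIrr_fixed_sub_one_iff {X : Type*} [MulAction G X] [Finite X]
    [MulAction.IsPretransitive G X] (hX : 2 ≤ Nat.card X) :
    IsIrrCharacter G (fun g => (Nat.card (MulAction.fixedBy X g) : ℂ) - 1) ↔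
      MulAction.IsMultiplyPretransitive G X 2 := by
  classical
  haveI := Fintype.ofFinite X
  haveI := Fintype.ofFinite (Quotient (MulAction.orbitRel G X))
  haveI := Fintype.ofFinite (Quotient (MulAction.orbitRel G (X × X)))
  set π : G → ℂ := fun g => (Nat.card (MulAction.fixedBy X g) : ℂ) with hπ
  have hk : (Nat.card G : ℂ) ≠ 0 := Nat.cast_ne_zero.mpr Nat.card_pos.ne'
  have hπc : IsCharacter G π := by
    rw [hπ, funext (card_fixed_eq_sum_orbits (G := G) (X := X)), ← Finset.sum_fn]
    refine isCharacter_sum _ _ fun q _ => ?_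
    exact isCharacter_indFun _ isCharacter_one
  obtain ⟨x⟩ : Nonempty X := (Nat.card_pos_iff.mp (by omega : 0 < Nat.card X)).1
  have h1 : classInner π (1 : G → ℂ) = 1 := by
    have e := MulAction.sum_card_fixedBy_eq_card_orbits_mul_card_group G X
    have hq : Fintype.card (Quotient (MulAction.orbitRel G X)) = 1 := by
      rw [Fintype.card_eq_one_iff]
      exact ⟨⟦x⟧, fun q => Quotient.inductionOn q fun y =>
        Quotient.sound ((MulAction.orbitRel_apply).mpr (MulAction.exists_smul_eq G x y))⟩
    rw [hq, one_mul] at e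
    simp only [classInner, hπ, Pi.one_apply, map_one, mul_one, Nat.card_eq_fintype_card]
    rw [← Nat.cast_sum, e, inv_mul_cancel₀ (Nat.cast_ne_zero.mpr Fintype.card_ne_zero)]
  have h2 : classInner π π = (Fintype.card (Quotient (MulAction.orbitRel G (X × X))) : ℂ) := by
    have e := MulAction.sum_card_fixedBy_eq_card_orbits_mul_card_group G (X × X)
    have hfx : ∀ g : G, Fintype.card (MulAction.fixedBy (X × X) g) =
        Nat.card (MulAction.fixedBy X g) * Nat.card (MulAction.fixedBy X g) := fun g => by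
      rw [← Nat.card_prod, ← Nat.card_eq_fintype_card]
      exact Nat.card_congr
        { toFun := fun p => (⟨p.1.1, congrArg Prod.fst p.2⟩, ⟨p.1.2, congrArg Prod.snd p.2⟩)
          invFun := fun p => ⟨(p.1.1, p.2.1), Prod.ext p.1.2 p.2.2⟩
          left_inv := fun _ => rfl
          right_inv := fun _ => rfl }
    simp only [classInner, hπ, Complex.conj_natCast]
    simp only [← Nat.cast_mul, ← hfx, ← Nat.cast_sum, e]
    rw [Nat.cast_mul, ← Nat.card_eq_fintype_card (α := G), mul_comm, mul_assoc, mul_inv_cancel₀ hk,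
      mul_one]
  have hnorm : classInner (π - 1) (π - 1) =
      (Fintype.card (Quotient (MulAction.orbitRel G (X × X))) : ℂ) - 1 := by
    rw [classInner_sub_left, classInner_sub_right, classInner_sub_right, h1, h2,
      ← classInner_conj_symm π 1, h1, map_one, IsIrrCharacter.classInner_self isIrrCharacter_one]
    ring
  have hfun : (fun g => (Nat.card (MulAction.fixedBy X g) : ℂ) - 1) = π - 1 := rfl
  rw [hfun]
  have hirr : IsIrrCharacter G (π - 1) ↔
      Fintype.card (Quotient (MulAction.orbitRel G (X × X))) = 2 := by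
    rw [isIrrCharacter_iff, hnorm]
    obtain ⟨r, hr, e⟩ := exists_add_of_classInner_ne_zero hπc isIrrCharacter_one
      (by rw [h1]; exact one_ne_zero)
    have hc : IsCharacter G (π - 1) := by rw [e, add_sub_cancel_left]; exact hr
    refine ⟨fun h => ?_, fun h => ⟨hc, by rw [h]; norm_num⟩⟩
    have h' := h.2
    rw [sub_eq_iff_eq_add] at h'
    norm_num at h'
    exact_mod_cast h'
  rw [hirr, MulAction.is_two_pretransitive_iff]
  obtain ⟨y, hxy⟩ : ∃ y, y ≠ x := by
    haveI : Nontrivial X := Finite.one_lt_card_iff_nontrivial.mp hX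
    exact exists_ne x
  have hdiag : ∀ a b : X, a ≠ b →
      (⟦(a, b)⟧ : Quotient (MulAction.orbitRel G (X × X))) ≠ ⟦(x, x)⟧ := fun a b hab h => by
    obtain ⟨g, hg⟩ := (MulAction.orbitRel_apply).mp (Quotient.exact h)
    exact hab ((congrArg Prod.fst hg).symm.trans (congrArg Prod.snd hg))
  constructor
  · intro h a b c d hab hcd
    obtain ⟨q, -, hu⟩ := (Nat.card_eq_two_iff'
      (⟦(x, x)⟧ : Quotient (MulAction.orbitRel G (X × X)))).mp (by rw [Nat.card_eq_fintype_card, h])
    have key : (⟦(c, d)⟧ : Quotient (MulAction.orbitRel G (X × X))) = ⟦(a, b)⟧ :=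
      (hu _ (hdiag c d hcd)).trans (hu _ (hdiag a b hab)).symm
    obtain ⟨g, hg⟩ := (MulAction.orbitRel_apply).mp (Quotient.exact key)
    exact ⟨g, congrArg Prod.fst hg, congrArg Prod.snd hg⟩
  · intro h
    rw [← Nat.card_eq_fintype_card, Nat.card_eq_two_iff]
    refine ⟨⟦(x, x)⟧, ⟦(y, x)⟧, (hdiag y x hxy).symm, Set.eq_univ_of_forall fun q => ?_⟩
    induction q using Quotient.inductionOn with
    | _ p =>
      obtain ⟨a, b⟩ := p
      by_cases hab : a = b
      · subst hab
        left
        obtain ⟨g, hg⟩ := MulAction.exists_smul_eq G x a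
        exact Quotient.sound ((MulAction.orbitRel_apply).mpr ⟨g, Prod.ext hg hg⟩)
      · right
        obtain ⟨g, hga, hgb⟩ := h hxy hab
        exact Quotient.sound ((MulAction.orbitRel_apply).mpr ⟨g, Prod.ext hga hgb⟩)

/-- A character of degree below the prime, or equal to it without being irreducible, restricts
to linear characters on a prime power group. -/
theorem comm_of_faithful_small {P : Type*} [Group P] [Fintype P] {p : ℕ} (hp : p.Prime)
    (hP : ∃ k : ℕ, Nat.card P = p ^ k) {Φ : P → ℂ} (hΦ : IsCharacter P Φ) {d : ℕ} (hd : Φ 1 = d)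
    (hdp : d ≤ p) (hirr : ¬ (d = p ∧ IsIrrCharacter P Φ)) (hfaith : ∀ a : P, Φ a = Φ 1 → a = 1)
    (a b : P) : a * b = b * a := by
  obtain ⟨k, hk⟩ := hP
  have key : ∀ χ : P → ℂ, IsIrrCharacter P χ → classInner Φ χ ≠ 0 →
      χ (a * b * a⁻¹ * b⁻¹) = χ 1 := by
    intro χ hχ hne
    obtain ⟨r, hr, e⟩ := exists_add_of_classInner_ne_zero hΦ hχ hne
    obtain ⟨m, hm0, hm⟩ := IsIrrCharacter.degree_pos hχ
    obtain ⟨j, -, hj⟩ := (Nat.dvd_prime_pow hp).mp (hk ▸ degree_dvd_card hχ m hm)
    obtain ⟨n, ρ, hρ⟩ := id hr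
    have e1 := congrFun e 1
    rw [Pi.add_apply, hd, hm, ← hρ, ρ.char_one, finrank_fin_fun] at e1
    have e2 : d = m + n := by exact_mod_cast e1
    have hm1 : m = 1 := by
      rcases Nat.eq_zero_or_pos j with h0 | h0
      · rw [hj, h0, pow_zero]
      · have hle : p ≤ m := hj ▸ Nat.le_self_pow h0.ne' p
        obtain rfl : n = 0 := by omega
        have hr0 : r = 0 := by
          rw [← hρ]
          funext g
          simp [Representation.character, Subsingleton.elim (ρ g) 0]
        refine absurd ⟨by omega, ?_⟩ hirr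
        rw [e, hr0, add_zero]; exact hχ
    obtain ⟨l, hl⟩ := IsCharacter.exists_monoidHom (IsIrrCharacter.isCharacter hχ)
      (by rw [hm, hm1, Nat.cast_one])
    simp [hl, mul_comm (l a) (l b)]
  have h1 := hfaith _ (apply_eq_of_constituents hΦ _ key)
  calc a * b = a * b * a⁻¹ * b⁻¹ * (b * a) := by group
    _ = b * a := by rw [h1, one_mul]

/-- Many classes force abelian Sylow subgroups in a simple group. -/
theorem sylow_comm_of_many_classes [IsSimpleGroup G] {p : ℕ} [Fact p.Prime]
    (hp : p ∣ Nat.card G) (hmany : Nat.card G < p ^ 2 * Nat.card (ConjClasses G)) (P : Sylow p G)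
    (a b : G) (ha : a ∈ P) (hb : b ∈ P) : a * b = b * a := by
  classical
  have hpp : p.Prime := Fact.out
  by_contra hab
  haveI := Fintype.ofFinite (IrrCharacter G)
  haveI := Fintype.ofFinite (P : Subgroup G)
  have hGc : Subgroup.center G = ⊥ := by
    refine (IsSimpleGroup.eq_bot_or_eq_top_of_normal _ inferInstance).resolve_right fun h => hab ?_
    exact Subgroup.mem_center_iff.mp (h ▸ Subgroup.mem_top b) a
  have hPg : IsPGroup p (P : Subgroup G) := P.2
  obtain ⟨k, hk⟩ := hPg.exists_card_eq
  have hne1 : (⟨a, ha⟩ : (P : Subgroup G)) * ⟨b, hb⟩ ≠ ⟨b, hb⟩ * ⟨a, ha⟩ := fun h =>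
    hab (congrArg Subtype.val h)
  haveI : Nontrivial (P : Subgroup G) := ⟨⟨_, _, hne1⟩⟩
  haveI : Nontrivial (Subgroup.center (P : Subgroup G)) := hPg.center_nontrivial
  obtain ⟨z, hz⟩ := exists_ne (1 : Subgroup.center (P : Subgroup G))
  have hfaith : ∀ χ : IrrCharacter G, (χ : G → ℂ) ≠ (fun _ => 1) → (χ : G → ℂ) 1 ≠ 1 →
      ∀ g : G, (χ : G → ℂ) g = (χ : G → ℂ) 1 → g = 1 := by
    intro χ _ hd1 g hg
    obtain ⟨n, ρ, hρ, hc⟩ := χ.2
    haveI := hρ
    rw [← hc, ρ.char_one, character_eq_finrank_iff] at hg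
    rcases IsSimpleGroup.eq_bot_or_eq_top_of_normal (MonoidHom.toHomUnits ρ).ker inferInstance with h | h
    · have : g ∈ (MonoidHom.toHomUnits ρ).ker := MonoidHom.mem_ker.mpr (Units.ext hg)
      rw [h] at this
      exact this
    · exfalso
      have hall : ∀ x : G, ρ x = LinearMap.id := fun x =>
        congrArg Units.val (MonoidHom.mem_ker.mp (h ▸ Subgroup.mem_top x))
      have hnorm := (isIrreducible_iff_classInner ρ).mp hρ
      have hch : ∀ x, ρ.character x = (n : ℂ) := fun x => by
        rw [Representation.character, hall x, LinearMap.trace_id, finrank_fin_fun]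
      simp only [classInner, hch, Complex.conj_natCast, Finset.sum_const, Finset.card_univ,
        nsmul_eq_mul, ← Nat.card_eq_fintype_card] at hnorm
      rw [← mul_assoc, inv_mul_cancel₀ (Nat.cast_ne_zero.mpr Nat.card_pos.ne'), one_mul] at hnorm
      have hn1 : n * n = 1 := by exact_mod_cast hnorm
      exact hd1 (by rw [← hc, hch, Nat.eq_one_of_mul_eq_one_right hn1, Nat.cast_one])
  have hbig : ∀ χ : IrrCharacter G, (χ : G → ℂ) ≠ (fun _ => 1) →
      ∃ d : ℕ, (χ : G → ℂ) 1 = d ∧ p + 1 ≤ d := by
    intro χ hχ1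
    obtain ⟨d, hd0, hd⟩ := IsIrrCharacter.degree_pos χ.2
    refine ⟨d, hd, ?_⟩
    have hd1 : (χ : G → ℂ) 1 ≠ 1 := by
      intro h1
      obtain ⟨l, hl⟩ := IsCharacter.exists_monoidHom (IsIrrCharacter.isCharacter χ.2) h1
      rcases IsSimpleGroup.eq_bot_or_eq_top_of_normal l.ker inferInstance with h | h
      · exact hab ((MonoidHom.ker_eq_bot_iff l).mp h (by rw [map_mul, map_mul, mul_comm]))
      · exact hχ1 (by
          funext x
          rw [congrFun hl x, MonoidHom.mem_ker.mp (h ▸ Subgroup.mem_top x), Units.val_one])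
    by_contra hlt
    set Φ : ↥(P : Subgroup G) → ℂ := fun x => (χ : G → ℂ) x
    have hΦ1 : Φ 1 = d := hd
    refine hne1 (comm_of_faithful_small hpp ⟨k, hk⟩
      (IsCharacter.restrict (IsIrrCharacter.isCharacter χ.2) _) hΦ1 (by omega) ?_
      (fun x hx => Subtype.ext (hfaith χ hχ1 hd1 x hx)) _ _)
    rintro ⟨-, n, σ, hσ, hσc⟩
    haveI := hσ
    haveI := nontrivial_of_irreducible σ
    obtain ⟨c, hc⟩ := isScalar_of_commute σ (σ (z : (P : Subgroup G))) fun x => by
      rw [← map_mul, ← map_mul, Subgroup.mem_center_iff.mp z.2 x]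
    have hcn : ‖c‖ = 1 := by
      have h1 : σ ((z : (P : Subgroup G)) ^ orderOf (z : (P : Subgroup G))) = 1 := by
        rw [pow_orderOf_eq_one, map_one]
      rw [map_pow, hc, smul_pow, one_pow] at h1
      obtain ⟨v, hv⟩ := exists_ne (0 : Fin n → ℂ)
      refine Complex.norm_eq_one_of_pow_eq_one ?_ (orderOf_pos (z : (P : Subgroup G))).ne'
      exact smul_left_injective ℂ hv (by simpa using LinearMap.congr_fun h1 v)
    have hnorm : ‖(χ : G → ℂ) (z : (P : Subgroup G))‖ = d := by
      rw [show (χ : G → ℂ) (z : (P : Subgroup G)) = σ.character z from (congrFun hσc _).symm,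
        Representation.character, hc, map_smul, LinearMap.trace_one, smul_eq_mul, norm_mul, hcn,
        one_mul, Complex.norm_natCast]
      have e := congrFun hσc 1
      rw [σ.char_one] at e
      exact_mod_cast e.trans hΦ1
    obtain ⟨n', ρ, hρ, hρc⟩ := χ.2
    haveI := hρ
    haveI := nontrivial_of_irreducible ρ
    have hn' : n' = d := by
      have := congrFun hρc 1
      rw [ρ.char_one, finrank_fin_fun, hd] at this
      exact_mod_cast this
    obtain ⟨ω, hω⟩ := (norm_character_eq_iff ρ ((z : (P : Subgroup G)) : G)).mp (by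
      rw [hρc, hnorm, finrank_fin_fun, hn'])
    have hzG : ((z : (P : Subgroup G)) : G) ∈ Subgroup.center G := by
      refine Subgroup.mem_center_iff.mpr fun x => ?_
      set zz := ((z : (P : Subgroup G)) : G)
      have : x * zz * x⁻¹ * zz⁻¹ = 1 := by
        refine hfaith χ hχ1 hd1 _ ?_
        rw [← hρc]
        simp only [Representation.character, map_mul, map_one]
        congr 1
        rw [hω, mul_smul_comm, smul_mul_assoc]
        have e1 : ρ x * LinearMap.id * ρ x⁻¹ = 1 := by
          rw [show ρ x * LinearMap.id = ρ x from mul_one _, ← map_mul, mul_inv_cancel, map_one]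
        rw [e1, smul_mul_assoc, one_mul]
        have e2 : ρ zz * ρ zz⁻¹ = 1 := by rw [← map_mul, mul_inv_cancel, map_one]
        rw [hω, smul_mul_assoc] at e2
        exact e2
      calc x * zz = x * zz * x⁻¹ * zz⁻¹ * (zz * x) := by group
        _ = zz * x := by rw [this, one_mul]
    rw [hGc, Subgroup.mem_bot] at hzG
    exact hz (Subtype.ext (Subtype.ext hzG))
  have hsum := sum_sq_degree (G := G)
  choose! d hd hdp using hbig
  set one : IrrCharacter G := ⟨1, isIrrCharacter_one⟩
  rw [← Finset.add_sum_erase _ _ (Finset.mem_univ one),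
    Finset.sum_congr rfl fun χ hχ => by
      rw [hd χ (fun h => (Finset.ne_of_mem_erase hχ) (Subtype.ext h))]] at hsum
  simp only [one, Pi.one_apply, one_pow] at hsum
  have hs : 1 + ∑ χ ∈ Finset.univ.erase one, d χ ^ 2 = Nat.card G := by
    exact_mod_cast hsum
  have hge : (Finset.univ.erase one).card * (p + 1) ^ 2 ≤ ∑ χ ∈ Finset.univ.erase one, d χ ^ 2 := by
    rw [← smul_eq_mul, ← Finset.sum_const]
    exact Finset.sum_le_sum fun χ hχ =>
      Nat.pow_le_pow_left (hdp χ fun h => (Finset.ne_of_mem_erase hχ) (Subtype.ext h)) 2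
  set c := (Finset.univ.erase one).card with hcdef
  have hK : Nat.card (ConjClasses G) = c + 1 := by
    rw [← card_irrCharacter, Nat.card_eq_fintype_card, hcdef, ← Finset.card_univ,
      Finset.card_erase_add_one (Finset.mem_univ one)]
  rw [hK] at hmany
  have hcp : c < p := by nlinarith
  have hk3 : 3 ≤ k := by
    by_contra h
    have h2 : k ≤ 2 := by omega
    obtain rfl | rfl | rfl : k = 0 ∨ k = 1 ∨ k = 2 := by omega
    · rw [pow_zero] at hk
      haveI := (Finite.card_le_one_iff_subsingleton).mp hk.le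
      exact hne1 (Subsingleton.elim _ _)
    · haveI : IsCyclic (P : Subgroup G) := isCyclic_of_prime_card (p := p) (by rw [hk, pow_one])
      exact hne1 (IsCyclic.commGroup.mul_comm _ _)
    · exact hne1 (IsPGroup.commutative_of_card_eq_prime_sq hk _ _)
  have hdvd : p ^ k ∣ Nat.card G := hk ▸ Subgroup.card_subgroup_dvd_card _
  have h3 : p ^ 3 ∣ p ^ k := Nat.pow_dvd_pow p hk3
  have hlt : Nat.card G < 2 * p ^ 3 := by nlinarith
  obtain ⟨t, ht⟩ := hdvd
  have ht1 : t = 1 := by
    have : p ^ 3 ≤ p ^ k := Nat.le_of_dvd (pow_pos hpp.pos k) h3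
    rcases t with _ | _ | t
    · simp at ht
    · rfl
    · nlinarith
  rw [ht1, mul_one] at ht
  have htop : (P : Subgroup G) = ⊤ := Subgroup.eq_top_of_card_eq _ (hk.trans ht.symm)
  have hGp : IsPGroup p G := IsPGroup.of_card ht
  haveI : Nontrivial (Subgroup.center G) := hGp.center_nontrivial
  exact (Subgroup.nontrivial_iff_ne_bot _).mp this hGc

end Cfsg.Agent.Char
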