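import Cfsg.Agent.Lib.Char.MultiplyTransitive
import Mathlib.GroupTheory.Perm.Cycle.PossibleTypes
import Mathlib.GroupTheory.SpecificGroups.Alternating

/-!
# Characters of alternating groups with prescribed zeros
-/

set_option autoImplicit false
set_option linter.style.haveILetI false
set_option linter.unusedSectionVars false

namespace Cfsg.Agent.Char.AltVanish

open Cfsg Cfsg.Agent.Char Cfsg.Agent.Char.MultTrans
open scoped Classical

variable {n : ℕ}

theorem htr_perm (k : ℕ) (e e' : Fin k ↪ Fin n) : ∃ g : Equiv.Perm (Fin n), g • e = e' :=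
  MulAction.isMultiplyPretransitive_iff.1 (Equiv.Perm.isMultiplyPretransitive (Fin n) k) e e'

theorem htr_alt (hn : 6 ≤ n) (k : ℕ) (hk : k ≤ 4) (e e' : Fin k ↪ Fin n) :
    ∃ g : alternatingGroup (Fin n), g • e = e' := by
  haveI := alternatingGroup.isMultiplyPretransitive (Fin n)
  have hc : Nat.card (Fin n) = n := by simp
  have h := MulAction.isMultiplyPretransitive_of_le (G := alternatingGroup (Fin n)) (α := Fin n) (m := k)
    (n := Nat.card (Fin n) - 2) (by omega) (by omega)
  exact MulAction.isMultiplyPretransitive_iff.1 h e e'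

theorem exists_element (m : Multiset ℕ) (h2 : ∀ a ∈ m, 2 ≤ a) (hsum : m.sum ≤ n)
    (hev : Even (m.sum + Multiset.card m)) :
    ∃ x : alternatingGroup (Fin n), (fix (X := Fin n) x).card + m.sum = n ∧
      orderOf x = m.lcm ∧ (2 ∉ m → two (X := Fin n) x = ∅) := by
  obtain ⟨σ, hσ⟩ := Equiv.Perm.exists_with_cycleType_iff (α := Fin n) |>.2 ⟨by rwa [Fintype.card_fin], h2⟩
  have hmem : σ ∈ alternatingGroup (Fin n) := by
    rw [Equiv.Perm.mem_alternatingGroup, Equiv.Perm.sign_of_cycleType, hσ, Even.neg_one_pow hev]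
  refine ⟨⟨σ, hmem⟩, ?_, ?_, fun h => ?_⟩
  · have e : fix (X := Fin n) (⟨σ, hmem⟩ : alternatingGroup (Fin n)) = σ.supportᶜ := by
      ext a
      simp [mem_fix, Equiv.Perm.mem_support, Subgroup.smul_def]
    rw [e, Finset.card_compl, ← Equiv.Perm.sum_cycleType, hσ, Fintype.card_fin]
    omega
  · rw [Subgroup.orderOf_mk, ← Equiv.Perm.lcm_cycleType, hσ]
  · rw [Finset.eq_empty_iff_forall_notMem]
    intro a ha
    obtain ⟨h1, h3⟩ := mem_two.1 ha
    have h1' : σ (σ a) = a := h1
    have h3' : σ a ≠ a := h3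
    have hc := Equiv.Perm.isCycle_cycleOf σ h3'
    have hne : σ.cycleOf a a ≠ a := by rwa [Equiv.Perm.cycleOf_apply_self]
    have hp : σ.cycleOf a ^ 2 = 1 := (hc.pow_eq_one_iff' hne).2 (by
      rw [Equiv.Perm.cycleOf_pow_apply_self, pow_two, Equiv.Perm.mul_apply, h1'])
    have ho : orderOf (σ.cycleOf a) = 2 := orderOf_eq_prime hp fun e => hne (by rw [e, Equiv.Perm.one_apply])
    refine h ?_
    rw [← hσ, Equiv.Perm.cycleType_def, Multiset.mem_map]
    refine ⟨σ.cycleOf a, Finset.mem_def.1 (Equiv.Perm.cycleOf_mem_cycleFactorsFinset_iff.2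
      (Equiv.Perm.mem_support.2 h3')), ?_⟩
    rw [Function.comp_apply, ← hc.orderOf, ho]

/-- A character of the alternating group extending to the symmetric group. -/
def Extends (χ : IrrCharacter (alternatingGroup (Fin n))) : Prop :=
  ∃ ψ : IrrCharacter (Equiv.Perm (Fin n)), ∀ x : alternatingGroup (Fin n),
    (ψ : Equiv.Perm (Fin n) → ℂ) x = (χ : alternatingGroup (Fin n) → ℂ) x

theorem fix_coe (x : alternatingGroup (Fin n)) :
    fix (X := Fin n) (x : Equiv.Perm (Fin n)) = fix (X := Fin n) x := by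
  ext a; simp [mem_fix, Subgroup.smul_def]

theorem two_coe (x : alternatingGroup (Fin n)) :
    two (X := Fin n) (x : Equiv.Perm (Fin n)) = two (X := Fin n) x := by
  ext a; simp [mem_two, Subgroup.smul_def]

theorem exists_zero (hn : 6 ≤ n) (x : alternatingGroup (Fin n))
    (h : (fix (X := Fin n) x).card = 1 ∨
      ((fix (X := Fin n) x).card = 0 ∧ two (X := Fin n) x = ∅) ∨
      ((fix (X := Fin n) x).card = 2 ∧ two (X := Fin n) x = ∅)) :
    ∃ χ : IrrCharacter (alternatingGroup (Fin n)), (χ : alternatingGroup (Fin n) → ℂ) x = 0 ∧ Extends χ := by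
  obtain ⟨a1, a2, a3⟩ := irreducible (G := alternatingGroup (Fin n)) (X := Fin n) (by simp; omega) (htr_alt hn)
  obtain ⟨b1, b2, b3⟩ := irreducible (G := Equiv.Perm (Fin n)) (X := Fin n) (by simp; omega)
    (fun k _ => htr_perm k)
  rcases h with h | ⟨h, h'⟩ | ⟨h, h'⟩
  · refine ⟨⟨_, a1⟩, by simp [chiOne, fc, h], ⟨_, b1⟩, fun y => ?_⟩
    simp [chiOne, fc, fix_coe]
  · refine ⟨⟨_, a2⟩, by simp [chiTwo, fc, tc, h, h'], ⟨_, b2⟩, fun y => ?_⟩
    simp [chiTwo, fc, tc, fix_coe, two_coe]
  · refine ⟨⟨_, a3⟩, by simp [chiAlt, fc, tc, h, h']; norm_num, ⟨_, b3⟩, fun y => ?_⟩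
    simp [chiAlt, fc, tc, fix_coe, two_coe]

theorem main (hn : 7 ≤ n) :
    (∃ χ : IrrCharacter (alternatingGroup (Fin n)),
      (∃ x : alternatingGroup (Fin n), (∃ j : ℕ, orderOf x = 2 ^ j) ∧ (χ : alternatingGroup (Fin n) → ℂ) x = 0) ∧
        Extends χ) ∧
    (∃ χ : IrrCharacter (alternatingGroup (Fin n)),
      (∃ y : alternatingGroup (Fin n), orderOf y = 3 ∧ (χ : alternatingGroup (Fin n) → ℂ) y = 0) ∧
        Extends χ) := by
  constructor
  · obtain ⟨m, h2, hsum, hev, h8, hf⟩ : ∃ m : Multiset ℕ, (∀ a ∈ m, 2 ≤ a) ∧ m.sum ≤ n ∧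
        Even (m.sum + Multiset.card m) ∧ (∀ a ∈ m, a ∣ 2 ^ 3) ∧
        (m.sum + 1 = n ∨ ((m.sum = n ∨ m.sum + 2 = n) ∧ 2 ∉ m)) := by
      rcases Nat.even_or_odd n with ⟨d, hd⟩ | ⟨l, hl⟩
      · have hq : 2 ≤ n / 4 := by omega
        have h4 : n = 4 * (n / 4) ∨ n = 4 * (n / 4) + 2 := by omega
        rcases Nat.even_or_odd (n / 4) with ⟨i, hi⟩ | ⟨i, hi⟩
        · refine ⟨Multiset.replicate (n / 4) 4, fun a ha => ?_, ?_, ?_, fun a ha => ?_, Or.inr ⟨?_, ?_⟩⟩
          · rw [Multiset.eq_of_mem_replicate ha]; omega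
          · simp [Multiset.sum_replicate]; omega
          · simp only [Multiset.sum_replicate, Multiset.card_replicate, smul_eq_mul, hi]
            exact ⟨5 * i, by ring⟩
          · rw [Multiset.eq_of_mem_replicate ha]; norm_num
          · simp [Multiset.sum_replicate]; omega
          · intro h; have := Multiset.eq_of_mem_replicate h; omega
        · refine ⟨8 ::ₘ Multiset.replicate (n / 4 - 2) 4, fun a ha => ?_, ?_, ?_, fun a ha => ?_, Or.inr ⟨?_, ?_⟩⟩
          · rcases Multiset.mem_cons.1 ha with rfl | ha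
            · omega
            · rw [Multiset.eq_of_mem_replicate ha]; omega
          · simp [Multiset.sum_replicate]; omega
          · rw [Multiset.sum_cons, Multiset.card_cons, Multiset.sum_replicate, Multiset.card_replicate, smul_eq_mul,
              show n / 4 - 2 = 2 * (i - 1) + 1 by omega]
            exact ⟨5 * (i - 1) + 7, by ring⟩
          · rcases Multiset.mem_cons.1 ha with rfl | ha
            · norm_num
            · rw [Multiset.eq_of_mem_replicate ha]; norm_num
          · simp [Multiset.sum_replicate]; omega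
          · intro h
            rcases Multiset.mem_cons.1 h with h | h
            · omega
            · have := Multiset.eq_of_mem_replicate h; omega
      · rcases Nat.even_or_odd l with ⟨i, hi⟩ | ⟨i, hi⟩
        · refine ⟨Multiset.replicate l 2, fun a ha => ?_, ?_, ?_, fun a ha => ?_, Or.inl ?_⟩
          · rw [Multiset.eq_of_mem_replicate ha]
          · simp [Multiset.sum_replicate]; omega
          · simp only [Multiset.sum_replicate, Multiset.card_replicate, smul_eq_mul, hi]
            exact ⟨3 * i, by ring⟩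
          · rw [Multiset.eq_of_mem_replicate ha]; norm_num
          · simp [Multiset.sum_replicate]; omega
        · refine ⟨4 ::ₘ Multiset.replicate (l - 2) 2, fun a ha => ?_, ?_, ?_, fun a ha => ?_, Or.inl ?_⟩
          · rcases Multiset.mem_cons.1 ha with rfl | ha
            · omega
            · rw [Multiset.eq_of_mem_replicate ha]
          · simp [Multiset.sum_replicate]; omega
          · rw [Multiset.sum_cons, Multiset.card_cons, Multiset.sum_replicate, Multiset.card_replicate, smul_eq_mul,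
              show l - 2 = 2 * (i - 1) + 1 by omega]
            exact ⟨3 * (i - 1) + 4, by ring⟩
          · rcases Multiset.mem_cons.1 ha with rfl | ha
            · norm_num
            · rw [Multiset.eq_of_mem_replicate ha]; norm_num
          · simp [Multiset.sum_replicate]; omega
    obtain ⟨x, hx, ho, ht⟩ := exists_element m h2 hsum hev
    obtain ⟨χ, hχ, he⟩ := exists_zero (by omega) x (by
      rcases hf with h | ⟨h | h, h'⟩
      · left; omega
      · exact Or.inr (Or.inl ⟨by omega, ht h'⟩)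
      · exact Or.inr (Or.inr ⟨by omega, ht h'⟩))
    obtain ⟨j, -, hj⟩ := (Nat.dvd_prime_pow Nat.prime_two).1 (ho ▸ Multiset.lcm_dvd.2 h8)
    exact ⟨χ, ⟨x, ⟨j, hj⟩, hχ⟩, he⟩
  · set q := n / 3
    set m := Multiset.replicate q 3
    have hsum : m.sum = 3 * q := by simp [m, Multiset.sum_replicate]; ring
    obtain ⟨x, hx, ho, ht⟩ := exists_element (n := n) m (fun a ha => by rw [Multiset.eq_of_mem_replicate ha]; omega)
      (by omega) (by rw [hsum, Multiset.card_replicate]; exact ⟨2 * q, by ring⟩)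
    have h2 : 2 ∉ m := fun h => by have := Multiset.eq_of_mem_replicate h; omega
    obtain ⟨χ, hχ, he⟩ := exists_zero (by omega) x (by
      have : n % 3 = 0 ∨ n % 3 = 1 ∨ n % 3 = 2 := by omega
      rcases this with h | h | h
      · exact Or.inr (Or.inl ⟨by omega, ht h2⟩)
      · left; omega
      · exact Or.inr (Or.inr ⟨by omega, ht h2⟩))
    refine ⟨χ, ⟨x, ?_, hχ⟩, he⟩
    have hd : orderOf x ∣ 3 := ho ▸ Multiset.lcm_dvd.2 fun a ha => (Multiset.eq_of_mem_replicate ha).dvd
    have h3 : (3 : ℕ) ∣ orderOf x := ho ▸ Multiset.dvd_lcm (Multiset.mem_replicate.2 ⟨by omega, rfl⟩)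
    exact Nat.dvd_antisymm hd h3

end Cfsg.Agent.Char.AltVanish
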