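import Cfsg.Prelude.Def_Characters
import Mathlib.RepresentationTheory.Maschke
import Mathlib.RepresentationTheory.Semisimple
import Mathlib.LinearAlgebra.Matrix.PosDef
import Mathlib.Analysis.Matrix.PosDef
import Mathlib.LinearAlgebra.FiniteDimensional.Lemmas
import Mathlib.Analysis.Complex.Polynomial.Basic

/-!
# Ordinary character theory: basic facts

Closure properties of `Cfsg.IsCharacter`, complex conjugation, decomposition into irreducible
characters, orthogonality and completeness of irreducible characters.
-/

set_option autoImplicit false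
set_option linter.style.haveILetI false

namespace Cfsg.Agent.Char

open Cfsg Representation Module
open scoped ComplexConjugate ComplexOrder

universe u v

variable {G : Type u} [Group G]

/-! ## Representations and their characters -/

/-- A finite-dimensional representation transported to coordinates. -/
noncomputable def coordRep {V : Type*} [AddCommGroup V] [Module ℂ V] [FiniteDimensional ℂ V]
    (ρ : Representation ℂ G V) : Representation ℂ G (Fin (finrank ℂ V) → ℂ) where
  toFun g := (Module.finBasis ℂ V).equivFun.conj (ρ g)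
  map_one' := by
    rw [map_one, Module.End.one_eq_id, LinearEquiv.conj_id]; rfl
  map_mul' g h := by
    rw [map_mul, Module.End.mul_eq_comp, LinearEquiv.conj_comp]; rfl

theorem coordRep_character {V : Type*} [AddCommGroup V] [Module ℂ V] [FiniteDimensional ℂ V]
    (ρ : Representation ℂ G V) : (coordRep ρ).character = ρ.character := by
  funext g
  exact LinearMap.trace_conj' (ρ g) (Module.finBasis ℂ V).equivFun

theorem isCharacter_character {V : Type*} [AddCommGroup V] [Module ℂ V] [FiniteDimensional ℂ V]
    (ρ : Representation ℂ G V) : IsCharacter G ρ.character :=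
  ⟨_, coordRep ρ, coordRep_character ρ⟩

theorem IsIrrCharacter.isCharacter {χ : G → ℂ} (h : IsIrrCharacter G χ) : IsCharacter G χ := by
  obtain ⟨n, ρ, _, rfl⟩ := h
  exact ⟨n, ρ, rfl⟩

theorem isCharacter_zero : IsCharacter G (0 : G → ℂ) := by
  refine ⟨0, Representation.trivial ℂ G (Fin 0 → ℂ), ?_⟩
  funext g
  simp [Representation.character, Subsingleton.elim ((Representation.trivial ℂ G (Fin 0 → ℂ)) g) 0]

theorem isCharacter_one : IsCharacter G (1 : G → ℂ) := by
  have h := isCharacter_character (Representation.trivial ℂ G ℂ)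
  convert h using 1
  funext g
  simp [Representation.character, LinearMap.trace_id]

theorem isCharacter_add {χ ψ : G → ℂ} (hχ : IsCharacter G χ) (hψ : IsCharacter G ψ) :
    IsCharacter G (χ + ψ) := by
  obtain ⟨n, ρ, rfl⟩ := hχ
  obtain ⟨m, σ, rfl⟩ := hψ
  have h := isCharacter_character (ρ.prod σ)
  convert h using 1
  funext g
  exact (LinearMap.trace_prodMap' (ρ g) (σ g)).symm

theorem isCharacter_mul {χ ψ : G → ℂ} (hχ : IsCharacter G χ) (hψ : IsCharacter G ψ) :
    IsCharacter G (χ * ψ) := by
  obtain ⟨n, ρ, rfl⟩ := hχ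
  obtain ⟨m, σ, rfl⟩ := hψ
  have h := isCharacter_character (ρ.tprod σ)
  rwa [Representation.char_tensor] at h

theorem isCharacter_sum {ι : Type*} (s : Finset ι) (f : ι → G → ℂ)
    (h : ∀ i ∈ s, IsCharacter G (f i)) : IsCharacter G (∑ i ∈ s, f i) := by
  classical
  induction s using Finset.induction with
  | empty => simpa using isCharacter_zero
  | insert i s hi ih =>
    rw [Finset.sum_insert hi]
    exact isCharacter_add (h i (Finset.mem_insert_self i s))
      (ih fun j hj => h j (Finset.mem_insert_of_mem hj))

theorem isCharacter_nsmul {χ : G → ℂ} (hχ : IsCharacter G χ) (m : ℕ) :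
    IsCharacter G (m • χ) := by
  induction m with
  | zero => simpa using isCharacter_zero
  | succ m ih => rw [succ_nsmul]; exact isCharacter_add ih hχ

theorem isCharacter_natCast_smul {χ : G → ℂ} (hχ : IsCharacter G χ) (m : ℕ) :
    IsCharacter G ((m : ℂ) • χ) := by
  rw [Nat.cast_smul_eq_nsmul]; exact isCharacter_nsmul hχ m

theorem isCharacter_pow {χ : G → ℂ} (hχ : IsCharacter G χ) (m : ℕ) :
    IsCharacter G (χ ^ m) := by
  induction m with
  | zero => simpa using isCharacter_one
  | succ m ih => rw [pow_succ]; exact isCharacter_mul ih hχ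

theorem isCharacter_comp {H : Type*} [Group H] {χ : H → ℂ} (hχ : IsCharacter H χ) (f : G →* H) :
    IsCharacter G (χ ∘ f) := by
  obtain ⟨n, ρ, rfl⟩ := hχ
  exact ⟨n, ρ.comp f, rfl⟩

theorem IsCharacter.restrict {χ : G → ℂ} (hχ : IsCharacter G χ) (H : Subgroup G) :
    IsCharacter H (fun h : H => χ h) :=
  isCharacter_comp hχ H.subtype

theorem IsCharacter.isClassFunction {χ : G → ℂ} (hχ : IsCharacter G χ) :
    IsClassFunction G χ := by
  obtain ⟨n, ρ, rfl⟩ := hχ
  exact fun g h => ρ.char_conj g h

theorem IsCharacter.exists_degree {χ : G → ℂ} (hχ : IsCharacter G χ) : ∃ n : ℕ, χ 1 = n := by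
  obtain ⟨n, ρ, rfl⟩ := hχ
  exact ⟨_, ρ.char_one⟩

/-! ## Complex conjugation -/

theorem character_inv [Finite G] {V : Type*} [AddCommGroup V] [Module ℂ V] [FiniteDimensional ℂ V]
    (ρ : Representation ℂ G V) (g : G) : ρ.character g⁻¹ = conj (ρ.character g) := by
  classical
  haveI := Fintype.ofFinite G
  let b := Module.finBasis ℂ V
  let A : G → Matrix (Fin (finrank ℂ V)) (Fin (finrank ℂ V)) ℂ := fun x =>
    LinearMap.toMatrix b b (ρ x)
  have hA1 : A 1 = 1 := by simp [A, LinearMap.toMatrix_one]
  have hAmul : ∀ x y, A (x * y) = A x * A y := fun x y => by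
    simp [A, LinearMap.toMatrix_mul]
  let P : Matrix (Fin (finrank ℂ V)) (Fin (finrank ℂ V)) ℂ :=
    ∑ x : G, (A x).conjTranspose * A x
  have hP : P.PosDef := by
    have h1 : P = 1 + ∑ x ∈ Finset.univ.erase (1 : G), (A x).conjTranspose * A x := by
      simp only [P]
      rw [← Finset.add_sum_erase Finset.univ _ (Finset.mem_univ (1 : G))]
      simp [hA1]
    rw [h1]
    exact Matrix.PosDef.one.add_posSemidef
      (Matrix.posSemidef_sum _ fun x _ => Matrix.posSemidef_conjTranspose_mul_self (A x))
  have hfix : ∀ h, (A h).conjTranspose * P * A h = P := by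
    intro h
    simp only [P, Finset.mul_sum, Finset.sum_mul]
    refine Fintype.sum_equiv (Equiv.mulRight h) _ _ fun x => ?_
    simp [hAmul, Matrix.mul_assoc]
  have hcomm : P * A g = (A g⁻¹).conjTranspose * P := by
    calc P * A g = (A g * A g⁻¹).conjTranspose * P * A g := by
          rw [← hAmul, mul_inv_cancel, hA1]; simp
      _ = (A g⁻¹).conjTranspose * ((A g).conjTranspose * P * A g) := by
          simp [Matrix.mul_assoc]
      _ = (A g⁻¹).conjTranspose * P := by rw [hfix]
  have hdet : IsUnit P.det := (Matrix.isUnit_iff_isUnit_det P).mp hP.isUnit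
  have htr : (A g).trace = ((A g⁻¹).conjTranspose).trace := by
    calc (A g).trace = (P⁻¹ * (P * A g)).trace := by rw [Matrix.nonsing_inv_mul_cancel_left _ _ hdet]
      _ = ((P * P⁻¹) * (A g⁻¹).conjTranspose).trace := by
          rw [hcomm, Matrix.trace_mul_comm, Matrix.mul_assoc, Matrix.trace_mul_comm]
      _ = _ := by rw [Matrix.mul_nonsing_inv _ hdet, Matrix.one_mul]
  rw [Matrix.trace_conjTranspose] at htr
  have e : ∀ x, ρ.character x = (A x).trace := fun x => LinearMap.trace_eq_matrix_trace ℂ b (ρ x)
  rw [e, e, htr]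
  simp

theorem IsCharacter.map_inv [Finite G] {χ : G → ℂ} (hχ : IsCharacter G χ) (g : G) :
    χ g⁻¹ = conj (χ g) := by
  obtain ⟨n, ρ, rfl⟩ := hχ
  exact character_inv ρ g

theorem isCharacter_conj [Finite G] {χ : G → ℂ} (hχ : IsCharacter G χ) :
    IsCharacter G (fun g => conj (χ g)) := by
  obtain ⟨n, ρ, rfl⟩ := hχ
  have h := isCharacter_character ρ.dual
  convert h using 1
  funext g
  rw [Representation.char_dual, character_inv]

/-! ## The class inner product -/

section Inner

variable [Fintype G]

theorem classInner_add_left (φ φ' ψ : G → ℂ) :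
    classInner (φ + φ') ψ = classInner φ ψ + classInner φ' ψ := by
  simp [classInner, add_mul, Finset.sum_add_distrib, mul_add]

theorem classInner_add_right (φ ψ ψ' : G → ℂ) :
    classInner φ (ψ + ψ') = classInner φ ψ + classInner φ ψ' := by
  simp [classInner, Finset.sum_add_distrib, mul_add]

theorem classInner_sub_left (φ φ' ψ : G → ℂ) :
    classInner (φ - φ') ψ = classInner φ ψ - classInner φ' ψ := by
  simp [classInner, sub_mul, Finset.sum_sub_distrib, mul_sub]

theorem classInner_sub_right (φ ψ ψ' : G → ℂ) :
    classInner φ (ψ - ψ') = classInner φ ψ - classInner φ ψ' := by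
  simp [classInner, Finset.sum_sub_distrib, mul_sub]

theorem classInner_zero_left (ψ : G → ℂ) : classInner (0 : G → ℂ) ψ = 0 := by
  simp [classInner]

theorem classInner_zero_right (φ : G → ℂ) : classInner φ (0 : G → ℂ) = 0 := by
  simp [classInner]

theorem classInner_neg_left (φ ψ : G → ℂ) : classInner (-φ) ψ = -classInner φ ψ := by
  simp [classInner]

theorem classInner_neg_right (φ ψ : G → ℂ) : classInner φ (-ψ) = -classInner φ ψ := by
  simp [classInner]

theorem classInner_smul_left (c : ℂ) (φ ψ : G → ℂ) :
    classInner (c • φ) ψ = c * classInner φ ψ := by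
  simp [classInner, Finset.mul_sum]
  exact Finset.sum_congr rfl fun g _ => by ring

theorem classInner_smul_right (c : ℂ) (φ ψ : G → ℂ) :
    classInner φ (c • ψ) = conj c * classInner φ ψ := by
  simp [classInner, Finset.mul_sum]
  exact Finset.sum_congr rfl fun g _ => by ring

theorem classInner_conj_symm (φ ψ : G → ℂ) : conj (classInner φ ψ) = classInner ψ φ := by
  simp [classInner, map_sum, mul_comm]

theorem classInner_sum_left {ι : Type*} (s : Finset ι) (f : ι → G → ℂ) (ψ : G → ℂ) :
    classInner (∑ i ∈ s, f i) ψ = ∑ i ∈ s, classInner (f i) ψ := by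
  classical
  induction s using Finset.induction with
  | empty => simp [classInner_zero_left]
  | insert i s hi ih => rw [Finset.sum_insert hi, Finset.sum_insert hi, classInner_add_left, ih]

theorem classInner_sum_right {ι : Type*} (s : Finset ι) (φ : G → ℂ) (f : ι → G → ℂ) :
    classInner φ (∑ i ∈ s, f i) = ∑ i ∈ s, classInner φ (f i) := by
  classical
  induction s using Finset.induction with
  | empty => simp [classInner_zero_right]
  | insert i s hi ih => rw [Finset.sum_insert hi, Finset.sum_insert hi, classInner_add_right, ih]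

theorem classInner_self_re_nonneg (φ : G → ℂ) : 0 ≤ (classInner φ φ).re := by
  simp only [classInner, Complex.mul_conj]
  rw [← Complex.ofReal_sum, ← Complex.ofReal_natCast, ← Complex.ofReal_inv, ← Complex.ofReal_mul,
    Complex.ofReal_re]
  exact mul_nonneg (by positivity) (Finset.sum_nonneg fun g _ => Complex.normSq_nonneg _)

theorem classInner_self_eq_zero {φ : G → ℂ} (h : classInner φ φ = 0) : φ = 0 := by
  simp only [classInner, Complex.mul_conj] at h
  rcases mul_eq_zero.mp h with h | h
  · exact absurd h (inv_ne_zero (Nat.cast_ne_zero.mpr Nat.card_pos.ne'))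
  · rw [← Complex.ofReal_sum, Complex.ofReal_eq_zero] at h
    funext g
    have := (Finset.sum_eq_zero_iff_of_nonneg fun g _ => Complex.normSq_nonneg _).mp h g
      (Finset.mem_univ g)
    simpa using this

/-- The number of intertwining maps between two representations, as an inner product. -/
theorem classInner_character_eq_finrank {V W : Type*} [AddCommGroup V] [Module ℂ V]
    [FiniteDimensional ℂ V] [AddCommGroup W] [Module ℂ W] [FiniteDimensional ℂ W]
    (ρ : Representation ℂ G V) (σ : Representation ℂ G W) :
    classInner σ.character ρ.character = (finrank ℂ (IntertwiningMap ρ σ) : ℂ) := by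
  haveI : Invertible (Nat.card G : ℂ) := invertibleOfNonzero (Nat.cast_ne_zero.mpr Nat.card_pos.ne')
  rw [← Representation.card_inv_mul_sum_char_mul_char_eq_finrank ρ σ]
  simp [classInner, character_inv]

theorem classInner_natCast_of_isCharacter {χ ψ : G → ℂ} (hχ : IsCharacter G χ)
    (hψ : IsCharacter G ψ) : ∃ n : ℕ, classInner χ ψ = n := by
  obtain ⟨_, ρ, rfl⟩ := hχ
  obtain ⟨_, σ, rfl⟩ := hψ
  exact ⟨_, classInner_character_eq_finrank σ ρ⟩

end Inner

/-! ## Irreducibility -/

theorem nontrivial_of_irreducible {V : Type*} [AddCommGroup V] [Module ℂ V]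
    (ρ : Representation ℂ G V) [ρ.IsIrreducible] : Nontrivial V := by
  by_contra h
  rw [not_nontrivial_iff_subsingleton] at h
  have : (⊥ : Subrepresentation ρ) = ⊤ := by
    apply SetLike.ext
    intro x
    simp [Subsingleton.elim x 0]
    exact ⟨fun _ => Submodule.mem_top, fun _ => Submodule.zero_mem _⟩
  exact bot_ne_top this

theorem isCompl_toSubmodule {V : Type*} [AddCommGroup V] [Module ℂ V]
    {ρ : Representation ℂ G V} {W W' : Subrepresentation ρ} (h : IsCompl W W') :
    IsCompl W.toSubmodule W'.toSubmodule :=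
  ⟨disjoint_iff.mpr (by
      rw [← Subrepresentation.toSubmodule_inf, disjoint_iff.mp h.1]; rfl),
    codisjoint_iff.mpr (by
      rw [← Subrepresentation.toSubmodule_sup, codisjoint_iff.mp h.2]; rfl)⟩

theorem isIrreducible_of_finrank_intertwining_eq_one {V : Type*} [AddCommGroup V] [Module ℂ V]
    [FiniteDimensional ℂ V] [Finite G] (ρ : Representation ℂ G V)
    (h : finrank ℂ (IntertwiningMap ρ ρ) = 1) : ρ.IsIrreducible := by
  classical
  have hV : Nontrivial V := by
    by_contra hs
    rw [not_nontrivial_iff_subsingleton] at hs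
    have : Subsingleton (IntertwiningMap ρ ρ) := ⟨fun a b => by ext x; exact Subsingleton.elim _ _⟩
    rw [Module.finrank_zero_of_subsingleton] at h
    exact zero_ne_one h
  have hne : (⊥ : Subrepresentation ρ) ≠ ⊤ := by
    intro e
    have := congrArg Subrepresentation.toSubmodule e
    exact (bot_ne_top : (⊥ : Submodule ℂ V) ≠ ⊤) this
  haveI : Nontrivial (Subrepresentation ρ) := ⟨⟨⊥, ⊤, hne⟩⟩
  refine ⟨fun W => ?_⟩
  obtain ⟨W', hW'⟩ := exists_isCompl W
  have hc := isCompl_toSubmodule hW'
  let π : IntertwiningMap ρ ρ :=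
    ⟨W.toSubmodule.subtype ∘ₗ Submodule.projectionOnto _ _ hc, by
      intro g
      apply LinearMap.ext
      intro v
      obtain ⟨w, w', rfl, -⟩ := Submodule.existsUnique_add_of_isCompl hc v
      have h1 : ρ g w ∈ W.toSubmodule := W.apply_mem_toSubmodule g w.2
      have h2 : ρ g w' ∈ W'.toSubmodule := W'.apply_mem_toSubmodule g w'.2
      simp [Submodule.projectionOnto_apply_left, Submodule.projectionOnto_apply_right,
        Submodule.projectionOnto_apply_left hc ⟨_, h1⟩,
        Submodule.projectionOnto_apply_right hc ⟨_, h2⟩]⟩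
  have hid : (IntertwiningMap.id ρ) ≠ 0 := by
    intro e
    obtain ⟨x, hx⟩ := exists_ne (0 : V)
    exact hx (by simpa [IntertwiningMap.id] using DFunLike.congr_fun e x)
  obtain ⟨c, hc'⟩ := (finrank_eq_one_iff_of_nonzero' _ hid).mp h π
  have hπ : ∀ x : V, c • x = ((Submodule.projectionOnto _ _ hc x : W.toSubmodule) : V) := by
    intro x
    have := congrArg (fun f : IntertwiningMap ρ ρ => f.toLinearMap x) hc'
    simpa [π, IntertwiningMap.id] using this
  rcases eq_or_ne c 0 with rfl | hc0
  · left
    apply Subrepresentation.toSubmodule_injective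
    apply (Submodule.eq_bot_iff _).mpr
    intro x hx
    have := hπ x
    rw [Submodule.projectionOnto_apply_left hc ⟨x, hx⟩] at this
    simpa using this.symm
  · right
    apply Subrepresentation.toSubmodule_injective
    apply eq_top_iff.mpr
    intro x _
    have : c • x ∈ W.toSubmodule := by rw [hπ x]; exact Subtype.coe_prop _
    simpa [smul_smul, hc0] using W.toSubmodule.smul_mem c⁻¹ this

theorem isIrreducible_iff_classInner [Fintype G] {V : Type*} [AddCommGroup V] [Module ℂ V]
    [FiniteDimensional ℂ V] (ρ : Representation ℂ G V) :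
    ρ.IsIrreducible ↔ classInner ρ.character ρ.character = 1 := by
  rw [classInner_character_eq_finrank]
  constructor
  · intro h
    simp [IsIrreducible.finrank_intertwiningMap_self ρ]
  · intro h
    exact isIrreducible_of_finrank_intertwining_eq_one ρ (by exact_mod_cast h)

theorem isIrrCharacter_character [Finite G] {V : Type*} [AddCommGroup V] [Module ℂ V]
    [FiniteDimensional ℂ V] (ρ : Representation ℂ G V) [ρ.IsIrreducible] :
    IsIrrCharacter G ρ.character := by
  haveI := Fintype.ofFinite G
  refine ⟨_, coordRep ρ, ?_, coordRep_character ρ⟩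
  rw [isIrreducible_iff_classInner, coordRep_character, ← isIrreducible_iff_classInner]
  infer_instance

theorem isIrrCharacter_iff [Fintype G] {χ : G → ℂ} :
    IsIrrCharacter G χ ↔ IsCharacter G χ ∧ classInner χ χ = 1 := by
  constructor
  · rintro ⟨n, ρ, hρ, rfl⟩
    exact ⟨⟨n, ρ, rfl⟩, (isIrreducible_iff_classInner ρ).mp hρ⟩
  · rintro ⟨⟨n, ρ, rfl⟩, h⟩
    exact ⟨n, ρ, (isIrreducible_iff_classInner ρ).mpr h, rfl⟩

theorem IsIrrCharacter.classInner_self [Fintype G] {χ : G → ℂ} (h : IsIrrCharacter G χ) :
    classInner χ χ = 1 :=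
  (isIrrCharacter_iff.mp h).2

theorem IsIrrCharacter.classInner_eq_zero [Fintype G] {χ ψ : G → ℂ} (hχ : IsIrrCharacter G χ)
    (hψ : IsIrrCharacter G ψ) (h : χ ≠ ψ) : classInner χ ψ = 0 := by
  obtain ⟨_, ρ, hρ, rfl⟩ := hχ
  obtain ⟨_, σ, hσ, rfl⟩ := hψ
  haveI : IsEmpty (Representation.Equiv σ ρ) := ⟨fun φ => h (Representation.char_iso φ).symm⟩
  rw [classInner_character_eq_finrank, Module.finrank_zero_of_subsingleton, Nat.cast_zero]

theorem classInner_irr [Fintype G] [DecidableEq (IrrCharacter G)] (χ ψ : IrrCharacter G) :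
    classInner (χ : G → ℂ) (ψ : G → ℂ) = if χ = ψ then 1 else 0 := by
  split
  next h => subst h; exact IsIrrCharacter.classInner_self χ.2
  next h => exact IsIrrCharacter.classInner_eq_zero χ.2 ψ.2 fun e => h (Subtype.ext e)

theorem IsIrrCharacter.degree_pos {χ : G → ℂ} (hχ : IsIrrCharacter G χ) :
    ∃ n : ℕ, 0 < n ∧ χ 1 = n := by
  obtain ⟨n, ρ, hρ, rfl⟩ := hχ
  haveI := nontrivial_of_irreducible ρ
  exact ⟨_, Module.finrank_pos, ρ.char_one⟩

theorem IsIrrCharacter.apply_one_ne_zero {χ : G → ℂ} (hχ : IsIrrCharacter G χ) : χ 1 ≠ 0 := by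
  obtain ⟨n, hn, h⟩ := IsIrrCharacter.degree_pos hχ
  rw [h]; exact_mod_cast hn.ne'

theorem IsIrrCharacter.conj [Finite G] {χ : G → ℂ} (hχ : IsIrrCharacter G χ) :
    IsIrrCharacter G (fun g => conj (χ g)) := by
  haveI := Fintype.ofFinite G
  rw [isIrrCharacter_iff] at hχ ⊢
  refine ⟨isCharacter_conj hχ.1, ?_⟩
  have := congrArg (starRingEnd ℂ) hχ.2
  rw [map_one] at this
  rw [← this]
  simp [classInner, map_sum]

theorem isIrrCharacter_one [Finite G] : IsIrrCharacter G (1 : G → ℂ) := by
  haveI := Fintype.ofFinite G
  exact isIrrCharacter_iff.mpr ⟨isCharacter_one, by simp [classInner, Nat.card_eq_fintype_card]⟩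

theorem isIrrCharacter_monoidHom [Finite G] (l : G →* ℂˣ) :
    IsIrrCharacter G (fun g => (l g : ℂ)) := by
  haveI := Fintype.ofFinite G
  let ρ : Representation ℂ G ℂ := (algebraMap ℂ (Module.End ℂ ℂ)).toMonoidHom.comp
    ((Units.coeHom ℂ).comp l)
  have hc : ρ.character = fun g => (l g : ℂ) := by
    funext g
    simp [ρ, Representation.character, Algebra.algebraMap_eq_smul_one, LinearMap.trace_one]
  have hk : IsCharacter G (fun g => (l g : ℂ)) := hc ▸ isCharacter_character ρ
  refine isIrrCharacter_iff.mpr ⟨hk, ?_⟩
  have h1 : ∀ g, (l g : ℂ) * conj (l g : ℂ) = 1 := fun g => by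
    rw [← IsCharacter.map_inv hk g, ← Units.val_mul, ← map_mul, mul_inv_cancel, map_one,
      Units.val_one]
  simp [classInner, h1, Nat.card_eq_fintype_card]

/-! ## Decomposition into irreducible characters -/

/-- A nonzero representation is irreducible or splits properly. -/
theorem split_or_irreducible [Finite G] {V : Type*} [AddCommGroup V] [Module ℂ V]
    [FiniteDimensional ℂ V] (ρ : Representation ℂ G V) [Nontrivial V] :
    ρ.IsIrreducible ∨ ∃ W W' : Subrepresentation ρ, IsCompl W.toSubmodule W'.toSubmodule ∧
      finrank ℂ W.toSubmodule < finrank ℂ V ∧ finrank ℂ W'.toSubmodule < finrank ℂ V := by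
  haveI := Fintype.ofFinite G
  by_cases hi : ρ.IsIrreducible
  · exact Or.inl hi
  right
  have hne : (⊥ : Subrepresentation ρ) ≠ ⊤ := by
    intro e
    exact (bot_ne_top : (⊥ : Submodule ℂ V) ≠ ⊤) (congrArg Subrepresentation.toSubmodule e)
  haveI : Nontrivial (Subrepresentation ρ) := ⟨⟨⊥, ⊤, hne⟩⟩
  obtain ⟨W, hW⟩ : ∃ W : Subrepresentation ρ, W ≠ ⊥ ∧ W ≠ ⊤ := by
    by_contra hc
    push_neg at hc
    exact hi ⟨fun W => or_iff_not_imp_left.mpr (hc W)⟩
  obtain ⟨W', hW'⟩ := exists_isCompl W
  have hc := isCompl_toSubmodule hW'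
  refine ⟨W, W', hc, Submodule.finrank_lt ?_, Submodule.finrank_lt ?_⟩
  · exact fun e => hW.2 (Subrepresentation.toSubmodule_injective e)
  · intro e
    rw [e] at hc
    exact hW.1 (Subrepresentation.toSubmodule_injective (eq_bot_of_isCompl_top hc))

theorem character_add_of_isCompl {V : Type*} [AddCommGroup V] [Module ℂ V] [FiniteDimensional ℂ V]
    (ρ : Representation ℂ G V) (W W' : Subrepresentation ρ)
    (hc : IsCompl W.toSubmodule W'.toSubmodule) :
    ρ.character = W.toRepresentation.character + W'.toRepresentation.character := by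
  funext g
  let e := Submodule.prodEquivOfIsCompl _ _ hc
  have h : e.conj ((W.toRepresentation g).prodMap (W'.toRepresentation g)) = ρ g := by
    apply LinearMap.ext
    intro v
    obtain ⟨p, rfl⟩ := e.surjective v
    simp [e, LinearEquiv.conj_apply_apply, Subrepresentation.toRepresentation]
  rw [Pi.add_apply, Representation.character, ← h, LinearMap.trace_conj',
    LinearMap.trace_prodMap']
  rfl

theorem character_mem_closure [Finite G] :
    ∀ (n : ℕ) (V : Type v) [AddCommGroup V] [Module ℂ V] [FiniteDimensional ℂ V]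
      (ρ : Representation ℂ G V), finrank ℂ V = n →
      ρ.character ∈ AddSubmonoid.closure {χ : G → ℂ | IsIrrCharacter G χ} := by
  intro n
  induction n using Nat.strong_induction_on with
  | _ n ih =>
    intro V _ _ _ ρ hn
    rcases subsingleton_or_nontrivial V with hV | hV
    · have : ρ.character = 0 := by
        funext g
        simp [Representation.character, Subsingleton.elim (ρ g) 0]
      rw [this]; exact zero_mem _
    · rcases split_or_irreducible ρ with hi | ⟨W, W', hc, h1, h2⟩
      · haveI := hi
        exact AddSubmonoid.subset_closure (isIrrCharacter_character ρ)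
      · rw [character_add_of_isCompl ρ W W' hc]
        exact add_mem (ih _ (hn ▸ h1) _ W.toRepresentation rfl)
          (ih _ (hn ▸ h2) _ W'.toRepresentation rfl)

theorem isCharacter_iff_mem_closure [Finite G] {χ : G → ℂ} :
    IsCharacter G χ ↔ χ ∈ AddSubmonoid.closure {χ : G → ℂ | IsIrrCharacter G χ} := by
  constructor
  · rintro ⟨n, ρ, rfl⟩
    exact character_mem_closure _ _ ρ rfl
  · intro h
    induction h using AddSubmonoid.closure_induction with
    | mem x hx => exact IsIrrCharacter.isCharacter hx
    | zero => exact isCharacter_zero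
    | add x y _ _ hx hy => exact isCharacter_add hx hy

/-- Induction along the decomposition of a character into irreducible ones. -/
theorem isCharacter_induction [Finite G] {P : (G → ℂ) → Prop} (h0 : P 0)
    (hirr : ∀ χ, IsIrrCharacter G χ → P χ) (hadd : ∀ χ ψ, P χ → P ψ → P (χ + ψ))
    {χ : G → ℂ} (h : IsCharacter G χ) : P χ := by
  rw [isCharacter_iff_mem_closure] at h
  induction h using AddSubmonoid.closure_induction with
  | mem x hx => exact hirr x hx
  | zero => exact h0
  | add x y _ _ hx hy => exact hadd x y hx hy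

/-! ## Completeness -/

theorem sum_smul_rep_eq_zero [Fintype G] {f : G → ℂ} (hf : IsClassFunction G f)
    (h : ∀ χ : G → ℂ, IsIrrCharacter G χ → ∑ g, f g * χ g = 0) :
    ∀ (n : ℕ) (V : Type v) [AddCommGroup V] [Module ℂ V] [FiniteDimensional ℂ V]
      (ρ : Representation ℂ G V), finrank ℂ V = n → ∀ x : V, ∑ g, f g • ρ g x = 0 := by
  intro n
  induction n using Nat.strong_induction_on with
  | _ n ih =>
    intro V _ _ _ ρ hn
    rcases subsingleton_or_nontrivial V with hV | hV
    · intro x; exact Subsingleton.elim _ _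
    · rcases split_or_irreducible ρ with hi | ⟨W, W', hc, h1, h2⟩
      · haveI := hi
        let T : IntertwiningMap ρ ρ := ⟨∑ g, f g • ρ g, by
          intro x
          apply LinearMap.ext
          intro v
          simp only [LinearMap.coe_comp, Function.comp_apply, LinearMap.coe_sum, Finset.sum_apply,
            LinearMap.smul_apply, map_sum, map_smul]
          refine Fintype.sum_equiv (MulAut.conj x⁻¹).toEquiv _ _ fun g => ?_
          have := hf g x⁻¹
          rw [inv_inv] at this
          simp [← Module.End.mul_apply, ← map_mul, mul_assoc]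
          rw [← mul_assoc, this]⟩
        obtain ⟨c, hc⟩ :=
            (IsIrreducible.algebraMap_intertwiningMap_bijective_of_isAlgClosed (ρ := ρ)).2 T
        have hT : (∑ g, f g • ρ g) = c • (LinearMap.id : V →ₗ[ℂ] V) := by
          have := congrArg IntertwiningMap.toLinearMap hc
          simp only [T] at this
          rw [← this, Algebra.algebraMap_eq_smul_one]
          rfl
        have htr := congrArg (LinearMap.trace ℂ V) hT
        simp only [map_sum, map_smul, smul_eq_mul, LinearMap.trace_id] at htr
        rw [show ∑ g, f g * LinearMap.trace ℂ V (ρ g) = 0 from h _ (isIrrCharacter_character ρ)] at htr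
        have hc0 : c = 0 := by
          rcases mul_eq_zero.mp htr.symm with h' | h'
          · exact h'
          · exact absurd h' (Nat.cast_ne_zero.mpr (Module.finrank_pos (R := ℂ) (M := V)).ne')
        intro x
        simpa [hc0] using LinearMap.congr_fun hT x
      · intro x
        obtain ⟨w, w', rfl, -⟩ := Submodule.existsUnique_add_of_isCompl hc x
        have e1 := congrArg Subtype.val (ih _ (hn ▸ h1) _ W.toRepresentation rfl w)
        have e2 := congrArg Subtype.val (ih _ (hn ▸ h2) _ W'.toRepresentation rfl w')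
        simp [Subrepresentation.toRepresentation] at e1 e2
        simp [smul_add, Finset.sum_add_distrib, e1, e2]

/-- A class function orthogonal to all irreducible characters vanishes. -/
theorem eq_zero_of_classInner_eq_zero [Fintype G] {f : G → ℂ} (hf : IsClassFunction G f)
    (h : ∀ χ : G → ℂ, IsIrrCharacter G χ → classInner f χ = 0) : f = 0 := by
  classical
  have h' : ∀ χ : G → ℂ, IsIrrCharacter G χ → ∑ g, f g * χ g = 0 := by
    intro χ hχ
    have := h _ (IsIrrCharacter.conj hχ)
    simp [classInner] at this
    exact this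
  let ρ : Representation ℂ G (G → ℂ) :=
    { toFun := fun x => LinearMap.funLeft ℂ ℂ (fun y => x⁻¹ * y)
      map_one' := by apply LinearMap.ext; intro v; funext y; simp [LinearMap.funLeft_apply]
      map_mul' := fun a b => by
        apply LinearMap.ext; intro v; funext y
        simp [LinearMap.funLeft_apply, mul_assoc] }
  funext x
  have := congrFun (sum_smul_rep_eq_zero hf h' _ _ ρ rfl (fun y => if y = 1 then 1 else 0)) x
  simpa [ρ, LinearMap.funLeft_apply, inv_mul_eq_one, eq_comm] using this

theorem linearIndependent_irr [Finite G] :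
    LinearIndependent ℂ (fun χ : IrrCharacter G => (χ : G → ℂ)) := by
  classical
  haveI := Fintype.ofFinite G
  rw [linearIndependent_iff']
  intro s c hc i hi
  have := congrArg (fun f => classInner f (i : G → ℂ)) hc
  simpa [classInner_sum_left, classInner_smul_left, classInner_irr, classInner_zero_left, hi]
    using this

instance finite_irrCharacter [Finite G] : Finite (IrrCharacter G) :=
  (linearIndependent_irr (G := G)).finite

/-- Expansion of a class function in irreducible characters. -/
theorem IsClassFunction.eq_sum [Fintype G] [Fintype (IrrCharacter G)] {f : G → ℂ}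
    (hf : IsClassFunction G f) :
    f = ∑ χ : IrrCharacter G, classInner f (χ : G → ℂ) • (χ : G → ℂ) := by
  classical
  rw [← sub_eq_zero]
  refine eq_zero_of_classInner_eq_zero ?_ fun ψ hψ => ?_
  · intro g h
    simp only [Pi.sub_apply, Finset.sum_apply, Pi.smul_apply, hf g h]
    congr 1
    refine Finset.sum_congr rfl fun χ _ => ?_
    rw [IsCharacter.isClassFunction (IsIrrCharacter.isCharacter χ.2) g h]
  · have : ψ = ((⟨ψ, hψ⟩ : IrrCharacter G) : G → ℂ) := rfl
    rw [classInner_sub_left, classInner_sum_left]
    simp only [classInner_smul_left]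
    rw [Finset.sum_eq_single (⟨ψ, hψ⟩ : IrrCharacter G)]
    · simp [IsIrrCharacter.classInner_self hψ]
    · intro x _ hx
      rw [IsIrrCharacter.classInner_eq_zero x.2 hψ fun e => hx (Subtype.ext e), mul_zero]
    · intro hx
      exact absurd (Finset.mem_univ _) hx

theorem IsClassFunction.eq_finsum [Fintype G] {f : G → ℂ} (hf : IsClassFunction G f) :
    f = ∑ᶠ χ : IrrCharacter G, classInner f (χ : G → ℂ) • (χ : G → ℂ) := by
  haveI := Fintype.ofFinite (IrrCharacter G)
  rw [finsum_eq_sum_of_fintype]
  exact IsClassFunction.eq_sum hf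

/-- A class function with natural inner products against all irreducibles is a character. -/
theorem isCharacter_of_classInner_nat [Fintype G] {f : G → ℂ} (hf : IsClassFunction G f)
    (h : ∀ χ : G → ℂ, IsIrrCharacter G χ → ∃ n : ℕ, classInner f χ = n) : IsCharacter G f := by
  haveI := Fintype.ofFinite (IrrCharacter G)
  rw [IsClassFunction.eq_sum hf]
  refine isCharacter_sum _ _ fun χ _ => ?_
  obtain ⟨n, hn⟩ := h χ χ.2
  rw [hn]
  exact isCharacter_natCast_smul (IsIrrCharacter.isCharacter χ.2) n

end Cfsg.Agent.Char
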