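import Cfsg.Agent.Lib.Char.Blichfeldt
import Cfsg.Agent.Lib.Char.Galois
import Cfsg.Agent.Lib.Char.Monomial
import Cfsg.Agent.Lib.Char.Extension
import Cfsg.Agent.Lib.Block.Regular
import Mathlib.GroupTheory.Sylow
import Mathlib.RingTheory.Polynomial.Cyclotomic.Roots

/-!
# Abelian Hall subgroups for the large primes of a linear group

If a linear group of degree `n` has no commuting pair of non-central `p`- and `q`-elements for primes
`p, q > n + 1`, every irreducible constituent, twisted to kill the central `p`- and `q`-elements, is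
fixed by one of the two cyclotomic Galois groups, so that one of the two sets of elements is scalar.
-/

set_option autoImplicit false
set_option linter.style.haveILetI false

namespace Cfsg.Agent.Char.Blichfeldt

open Cfsg Polynomial
open Cfsg.Agent.Block (charDegree_cast charDegree_dvd_card)
open scoped ComplexConjugate

universe u

/-- Fewer than `p - 1` roots of unity of order dividing `p` with an integral sum are trivial. -/
theorem eq_one_of_int_sum {p : ℕ} (hp : p.Prime) (s : Multiset ℂ) (hs : Multiset.card s + 1 < p)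
    (hroot : ∀ r ∈ s, r ^ p = 1) {z : ℤ} (hz : s.sum = (z : ℂ)) : ∀ r ∈ s, r = 1 := by
  classical
  haveI : NeZero p := ⟨hp.ne_zero⟩
  haveI := Fact.mk hp
  obtain ⟨ζ, hζ⟩ : ∃ ζ : ℂ, IsPrimitiveRoot ζ p := ⟨_, Complex.isPrimitiveRoot_exp p hp.ne_zero⟩
  let c : ℕ → ℕ := fun j => s.count (ζ ^ j)
  have hinj : ∀ i ∈ Finset.range p, ∀ j ∈ Finset.range p, ζ ^ i = ζ ^ j → i = j := fun i hi j hj e =>
    hζ.pow_inj (Finset.mem_range.1 hi) (Finset.mem_range.1 hj) e
  have hsum : s.sum = ∑ j ∈ Finset.range p, (c j : ℂ) * ζ ^ j := by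
    rw [Finset.sum_multiset_count, ← Finset.sum_image (f := fun r => (s.count r : ℂ) * r) hinj]
    simp only [nsmul_eq_mul]
    refine Finset.sum_subset (fun r hr => ?_) fun r _ hr => ?_
    · obtain ⟨j, hj, e⟩ := hζ.eq_pow_of_pow_eq_one (hroot r (Multiset.mem_toFinset.1 hr))
      exact Finset.mem_image.2 ⟨j, Finset.mem_range.2 hj, e⟩
    · rw [Multiset.count_eq_zero.2 fun h => hr (Multiset.mem_toFinset.2 h)]; simp
  let P : ℚ[X] := (∑ j ∈ Finset.range p, C (c j : ℚ) * X ^ j) - C (z : ℚ)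
  have hP : aeval ζ P = 0 := by
    simp only [P, map_sub, map_sum, map_mul, map_pow, aeval_C, aeval_X, map_natCast, map_intCast]
    rw [← hsum, hz, sub_self]
  obtain ⟨Q, hQ⟩ : cyclotomic p ℚ ∣ P := by
    rw [cyclotomic_eq_minpoly_rat hζ hp.pos]
    exact minpoly.dvd ℚ ζ hP
  have hdeg : P.natDegree ≤ p - 1 := by
    refine (natDegree_sub_le _ _).trans (max_le (natDegree_sum_le_of_forall_le _ _ fun j hj => ?_) (by simp))
    refine (natDegree_C_mul_X_pow_le _ _).trans ?_
    have := Finset.mem_range.1 hj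
    omega
  have hQ0 : Q.natDegree = 0 := by
    rcases eq_or_ne Q 0 with h | h
    · rw [h]; simp
    · have e := natDegree_mul (cyclotomic_ne_zero p ℚ) h
      rw [← hQ, natDegree_cyclotomic, Nat.totient_prime hp] at e
      omega
  obtain ⟨a, rfl⟩ : ∃ a, Q = C a := ⟨_, eq_C_of_natDegree_eq_zero hQ0⟩
  have hcoef : ∀ j, 1 ≤ j → j < p → (c j : ℚ) = a := fun j h1 h2 => by
    have e := congrArg (fun f : ℚ[X] => f.coeff j) hQ
    simp only [P, coeff_sub, finset_sum_coeff, coeff_C_mul_X_pow, coeff_C, coeff_mul_C,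
      cyclotomic_prime, coeff_X_pow, Finset.sum_ite_eq, Finset.mem_range, h2, if_true,
      Nat.one_le_iff_ne_zero.1 h1, if_false, sub_zero, one_mul] at e
    exact e
  intro r hr
  obtain ⟨j, hj, rfl⟩ := hζ.eq_pow_of_pow_eq_one (hroot r hr)
  by_contra hne
  have hj1 : 1 ≤ j := Nat.one_le_iff_ne_zero.2 fun e => hne (by rw [e, pow_zero])
  have hc : ∀ i, 1 ≤ i → i < p → 1 ≤ c i := fun i h1 h2 => by
    have e : c i = c j := by exact_mod_cast (hcoef i h1 h2).trans (hcoef j hj1 hj).symm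
    rw [e]
    exact Multiset.one_le_count_iff_mem.2 hr
  have hsub : (Finset.Ico 1 p).image (fun i => ζ ^ i) ⊆ s.toFinset := fun x hx => by
    obtain ⟨i, hi, rfl⟩ := Finset.mem_image.1 hx
    rw [Finset.mem_Ico] at hi
    exact Multiset.mem_toFinset.2 (Multiset.one_le_count_iff_mem.1 (hc i hi.1 hi.2))
  have hcard := Finset.card_le_card hsub
  rw [Finset.card_image_of_injOn, Nat.card_Ico] at hcard
  · have := s.toFinset_card_le
    omega
  · intro i hi k hk e
    simp only [Finset.coe_Ico, Set.mem_Ico] at hi hk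
    exact hinj i (Finset.mem_range.2 hi.2) k (Finset.mem_range.2 hk.2) e

variable {G : Type u} [Group G] [Finite G]

/-- The constituents of a character, with natural multiplicities. -/
theorem exists_decomp [Fintype (IrrCharacter G)] {χ : G → ℂ} (hχ : IsCharacter G χ) :
    ∃ m : IrrCharacter G → ℕ, (∀ g, χ g = ∑ ψ : IrrCharacter G, (m ψ : ℂ) * (ψ : G → ℂ) g) ∧
      charDegree χ = ∑ ψ : IrrCharacter G, m ψ * charDegree (ψ : G → ℂ) := by
  classical
  haveI := Fintype.ofFinite G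
  choose m hm using fun ψ : IrrCharacter G => exists_classInner_nat hχ ψ.2
  have h : ∀ g, χ g = ∑ ψ : IrrCharacter G, (m ψ : ℂ) * (ψ : G → ℂ) g := fun g => by
    conv_lhs => rw [IsClassFunction.eq_sum (IsCharacter.isClassFunction hχ)]
    simp only [Finset.sum_apply, Pi.smul_apply, smul_eq_mul, hm]
  refine ⟨m, h, Nat.cast_injective (R := ℂ) ?_⟩
  rw [charDegree_cast hχ, h, Nat.cast_sum]
  exact Finset.sum_congr rfl fun ψ _ => by rw [Nat.cast_mul, charDegree_cast (IsIrrCharacter.isCharacter ψ.2)]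

/-- A twist by a linear character that is trivial on central elements of order dividing `m`. -/
theorem exists_twist {ψ : G → ℂ} (hψ : IsIrrCharacter G ψ) {m : ℕ} (hm : (charDegree ψ).Coprime m) :
    ∃ (d : ℕ) (ρ : Representation ℂ G (Fin d → ℂ)) (ρ' : Representation ℂ G (Fin d → ℂ)) (μ : G →* ℂˣ),
      ρ.character = ψ ∧ d = charDegree ψ ∧ (∀ g, ρ' g = (μ g : ℂ) • ρ g) ∧ IsIrrCharacter G ρ'.character ∧
      ∀ z ∈ Subgroup.center G, z ^ m = 1 → ρ' z = 1 := by
  classical
  haveI := Fintype.ofFinite G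
  obtain ⟨d, ρ, hρ, rfl⟩ := hψ
  have hd : charDegree ρ.character = d := by
    simp [charDegree, ρ.char_one]
  rw [hd] at hm
  obtain ⟨a, ha⟩ : ∃ a : ℤ, (d : ℤ) * a ≡ 1 [ZMOD m] :=
    Int.mod_coprime hm
  let l : G →* ℂˣ := ((LinearMap.det : Module.End ℂ (Fin d → ℂ) →* ℂ).comp ρ).toHomUnits
  have hl : ∀ g, (l g : ℂ) = LinearMap.det (ρ g) := fun g => rfl
  let μ : G →* ℂˣ := (zpowGroupHom (-a)).comp l
  let ρ' : Representation ℂ G (Fin d → ℂ) :=
    { toFun := fun g => (μ g : ℂ) • ρ g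
      map_one' := by simp
      map_mul' := fun g h => by rw [map_mul, map_mul, Units.val_mul, smul_mul_smul_comm] }
  have hρ'c : ∀ g, ρ'.character g = (μ g : ℂ) * ρ.character g := fun g => by
    show LinearMap.trace ℂ _ ((μ g : ℂ) • ρ g) = _
    rw [map_smul, smul_eq_mul]; rfl
  refine ⟨d, ρ, ρ', μ, rfl, hd.symm, fun g => rfl, ?_, fun z hz hzm => ?_⟩
  · haveI : ρ'.IsIrreducible := by
      rw [isIrreducible_iff_classInner]
      rw [isIrreducible_iff_classInner] at hρ
      rw [← hρ]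
      simp only [classInner, hρ'c, map_mul]
      refine congrArg _ (Finset.sum_congr rfl fun g _ => ?_)
      have hn : ‖(μ g : ℂ)‖ = 1 :=
        ((Units.coeHom ℂ).comp μ).isOfFinOrder (isOfFinOrder_of_finite g) |>.norm_eq_one
      have h1 : (μ g : ℂ) * conj (μ g : ℂ) = 1 := by rw [Complex.mul_conj', hn]; simp
      linear_combination (ρ.character g * conj (ρ.character g)) * h1
    exact isIrrCharacter_character ρ'
  · obtain ⟨c, hc⟩ := isScalar_of_commute ρ (ρ z) fun g => by
      rw [← map_mul, ← map_mul, Subgroup.mem_center_iff.1 hz g]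
    rcases Nat.eq_zero_or_pos d with rfl | hd0
    · exact Subsingleton.elim _ _
    haveI : Nonempty (Fin d) := ⟨⟨0, hd0⟩⟩
    have hcm : c ^ m = 1 := by
      have h1 : (c • (1 : Module.End ℂ (Fin d → ℂ))) ^ m = 1 := by rw [← hc, ← map_pow, hzm, map_one]
      rw [smul_pow, one_pow] at h1
      have h2 := congrArg (fun f : Module.End ℂ (Fin d → ℂ) => f (fun _ => 1) ⟨0, hd0⟩) h1
      simpa using h2
    have hdet : (l z : ℂ) = c ^ d := by
      rw [hl, hc, LinearMap.det_smul, Module.End.one_eq_id, LinearMap.det_id, Module.finrank_fin_fun, mul_one]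
    show (μ z : ℂ) • ρ z = 1
    rw [hc, smul_smul]
    suffices h : (μ z : ℂ) * c = 1 by rw [h, one_smul]
    obtain ⟨t, ht⟩ := Int.modEq_iff_dvd.1 ha
    have hc0 : c ≠ 0 := fun e => (l z).ne_zero (by rw [hdet, e, zero_pow hd0.ne'])
    show ((l z ^ (-a) : ℂˣ) : ℂ) * c = 1
    rw [Units.val_zpow_eq_zpow_val, hdet, ← zpow_natCast c d, ← zpow_mul]
    have e : (d : ℤ) * -a + 1 = (m : ℤ) * t := by linarith
    calc c ^ ((d : ℤ) * -a) * c = c ^ ((d : ℤ) * -a + 1) := by rw [zpow_add₀ hc0, zpow_one]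
      _ = 1 := by rw [e, zpow_mul, zpow_natCast, hcm, one_zpow]

/-- The exponents fixing the part of the order prime to `p`. -/
def GalExp (G : Type u) [Group G] (p : ℕ) : Set ℕ :=
  {k | k.Coprime (Nat.card G) ∧ k ≡ 1 [MOD ordCompl[p] (Nat.card G)]}

/-- A representation fixed by the Galois group of the `p`-power roots of unity, of degree below `p - 1`,
is trivial on the elements of `p`-power order. -/
theorem trivial_of_galois_fixed {d p : ℕ} (hp : p.Prime) (hd : d + 1 < p)
    (ρ : Representation ℂ G (Fin d → ℂ)) (hirr : IsIrrCharacter G ρ.character)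
    (hfix : ∀ k ∈ GalExp G p, ∀ g, ρ.character (g ^ k) = ρ.character g) :
    ∀ (j : ℕ) (x : G), x ^ p ^ j = 1 → ρ x = 1 := by
  classical
  intro j
  induction j with
  | zero => intro x hx; rw [pow_zero, pow_one] at hx; rw [hx, map_one]
  | succ j ih =>
    intro x hx
    have hxp : ρ (x ^ p) = 1 := ih (x ^ p) (by rw [← pow_mul, ← pow_succ', hx])
    have hroot : ∀ r ∈ eigenvalues ρ x, r ^ p = 1 := fun r hr => by
      have hev : Module.End.HasEigenvalue (ρ x) r :=
        Module.End.hasEigenvalue_iff_isRoot_charpoly (ρ x) r |>.mpr (Polynomial.mem_roots'.mp hr).2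
      obtain ⟨v, hv⟩ := hev.exists_hasEigenvector
      have h := hv.pow_apply p
      rw [← map_pow, hxp, Module.End.one_apply] at h
      by_contra hne
      have : (r ^ p - 1) • v = 0 := by rw [sub_smul, ← h, one_smul, sub_self]
      exact hv.2 ((smul_eq_zero.mp this).resolve_left (sub_ne_zero.mpr hne))
    obtain ⟨z, hz⟩ := exists_int_of_apply_pow_eq (IsIrrCharacter.isGeneralized hirr) x fun m hm => by
      rcases eq_or_ne x 1 with rfl | hx1
      · rw [one_pow]
      have hord : p ∣ orderOf x := by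
        obtain ⟨i, -, hi⟩ := (Nat.dvd_prime_pow hp).1 (orderOf_dvd_of_pow_eq_one hx)
        rcases Nat.eq_zero_or_pos i with rfl | hi0
        · exact absurd (orderOf_eq_one_iff.1 (hi.trans (pow_zero p))) hx1
        · rw [hi]; exact dvd_pow_self p hi0.ne'
      have hmp : m.Coprime p := Nat.Coprime.coprime_dvd_right hord hm
      have hN : (ordProj[p] (Nat.card G)).Coprime (ordCompl[p] (Nat.card G)) :=
        (Nat.coprime_ordCompl hp Nat.card_pos.ne').pow_left _
      obtain ⟨k, hk1, hk2⟩ := Nat.chineseRemainder hN m 1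
      have hk : k ∈ GalExp G p := by
        refine ⟨?_, hk2⟩
        rw [← Nat.ordProj_mul_ordCompl_eq_self (Nat.card G) p]
        refine Nat.Coprime.mul_right ?_ ?_
        · rw [Nat.coprime_iff_gcd_eq_one, Nat.ModEq.gcd_eq hk1, ← Nat.coprime_iff_gcd_eq_one]
          exact hmp.pow_right _
        · rw [Nat.coprime_iff_gcd_eq_one, Nat.ModEq.gcd_eq hk2]
          simp
      have hdvd : orderOf x ∣ ordProj[p] (Nat.card G) := by
        obtain ⟨i, -, hi⟩ := (Nat.dvd_prime_pow hp).1 (orderOf_dvd_of_pow_eq_one hx)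
        rw [hi]
        exact Nat.pow_dvd_pow p ((hp.pow_dvd_iff_le_factorization Nat.card_pos.ne').1 (hi ▸ orderOf_dvd_natCard x))
      rw [← hfix k hk x, pow_eq_pow_iff_modEq.2 (hk1.symm.of_dvd hdvd)]
    rw [← sum_eigenvalues] at hz
    have hall := eq_one_of_int_sum hp (eigenvalues ρ x)
      (by rw [card_eigenvalues, Module.finrank_fin_fun]; exact hd) hroot hz
    rw [exists_smul_id_of_eigenvalues_eq ρ x 1 hall, one_smul]
    rfl

/-- Two kinds of elements in a linear group without non-central commuting pairs commute. -/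
theorem commute_of_not_linked {χ : G → ℂ} (hχ : IsCharacter G χ) (hfaith : ∀ g : G, χ g = χ 1 → g = 1)
    {p q : ℕ} (hp : p.Prime) (hq : q.Prime) (hpn : charDegree χ + 1 < p) (hqn : charDegree χ + 1 < q)
    (hlink : ∀ g : G, g ^ ordCompl[p] (Nat.card G) ∈ Subgroup.center G ∨
      g ^ ordCompl[q] (Nat.card G) ∈ Subgroup.center G)
    {x y : G} {i j : ℕ} (hx : x ^ p ^ i = 1) (hy : y ^ q ^ j = 1) : x * y = y * x := by
  classical
  haveI := Fintype.ofFinite G
  haveI := Fintype.ofFinite (IrrCharacter G)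
  obtain ⟨m, hm, hdeg⟩ := exists_decomp hχ
  suffices h : x * y * x⁻¹ * y⁻¹ = 1 by
    exact mul_inv_eq_iff_eq_mul.mp (mul_inv_eq_one.mp h)
  refine hfaith _ ?_
  rw [hm, hm 1]
  refine Finset.sum_congr rfl fun ψ _ => ?_
  rcases Nat.eq_zero_or_pos (m ψ) with h0 | h0
  · simp [h0]
  congr 1
  have hψn : charDegree (ψ : G → ℂ) ≤ charDegree χ := by
    rw [hdeg]
    exact le_trans (Nat.le_mul_of_pos_left _ h0)
      (Finset.single_le_sum (f := fun φ : IrrCharacter G => m φ * charDegree (φ : G → ℂ)) (fun _ _ => Nat.zero_le _) (Finset.mem_univ ψ))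
  have hψ0 : 0 < charDegree (ψ : G → ℂ) := Nat.pos_of_ne_zero fun e =>
    IsIrrCharacter.apply_one_ne_zero ψ.2 (by rw [← charDegree_cast (IsIrrCharacter.isCharacter ψ.2), e, Nat.cast_zero])
  have hcp : ∀ r : ℕ, r.Prime → charDegree (ψ : G → ℂ) + 1 < r → (charDegree (ψ : G → ℂ)).Coprime (ordProj[r] (Nat.card G)) :=
    fun r hr hlt => ((hr.coprime_iff_not_dvd.2 fun hd => by have := Nat.le_of_dvd hψ0 hd; omega).symm).pow_right _
  obtain ⟨d, ρ, ρ', μ, hρ, hd, hρ', hirr, hcen⟩ := exists_twist ψ.2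
    (Nat.Coprime.mul_right (hcp p hp (by omega)) (hcp q hq (by omega)))
  -- central parts do not change the twisted character
  have hinv : ∀ (r : ℕ), r.Prime → ordProj[r] (Nat.card G) ∣ ordProj[p] (Nat.card G) * ordProj[q] (Nat.card G) →
      ∀ k ∈ GalExp G r, ∀ g : G, g ^ ordCompl[r] (Nat.card G) ∈ Subgroup.center G →
      ρ'.character (g ^ k) = ρ'.character g := by
    intro r hr hrdvd k hk g hg
    rcases Nat.eq_zero_or_pos k with rfl | hk0
    · haveI : Subsingleton G := (Nat.card_eq_one_iff_unique.1 (Nat.coprime_zero_left _ |>.1 hk.1)).1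
      rw [Subsingleton.elim (g ^ 0) g]
    obtain ⟨t, ht⟩ := (Nat.modEq_iff_dvd' hk0).1 hk.2.symm
    have e : g ^ k = (g ^ ordCompl[r] (Nat.card G)) ^ t * g := by
      rw [← pow_mul, ← ht, ← pow_succ, Nat.sub_add_cancel hk0]
    show LinearMap.trace ℂ _ (ρ' (g ^ k)) = LinearMap.trace ℂ _ (ρ' g)
    rw [e, map_mul, hcen _ (pow_mem hg t) ?_, one_mul]
    obtain ⟨u, hu⟩ := hrdvd
    rw [hu, ← pow_mul, ← pow_mul, show ordCompl[r] (Nat.card G) * (t * (ordProj[r] (Nat.card G) * u)) =
      (ordProj[r] (Nat.card G) * ordCompl[r] (Nat.card G)) * (t * u) by ring, Nat.ordProj_mul_ordCompl_eq_self,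
      pow_mul, pow_card_eq_one', one_pow]
  have hdich : (∀ k ∈ GalExp G p, ∀ g, ρ'.character (g ^ k) = ρ'.character g) ∨
      (∀ k ∈ GalExp G q, ∀ g, ρ'.character (g ^ k) = ρ'.character g) := by
    by_contra hcon
    push Not at hcon
    obtain ⟨⟨k, hk, g₁, hg₁⟩, l, hl, g₂, hg₂⟩ := hcon
    set φ := ρ'.character
    let φs : G → ℂ := fun g => φ (g ^ k)
    let φt : G → ℂ := fun g => φ (g ^ l)
    have hs : IsIrrCharacter G φs := isIrrCharacter_comp_pow hirr hk.1
    have ht : IsIrrCharacter G φt := isIrrCharacter_comp_pow hirr hl.1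
    have hz : classInner (φ - φs) (φ - φt) = 0 := by
      rw [classInner]
      refine mul_eq_zero_of_right _ (Finset.sum_eq_zero fun g _ => ?_)
      rcases hlink g with h | h
      · simp [φs, hinv p hp (dvd_mul_right _ _) k hk g h]
      · simp [φt, hinv q hq (dvd_mul_left _ _) l hl g h]
    rw [classInner_sub_left, classInner_sub_right, classInner_sub_right, IsIrrCharacter.classInner_self hirr,
      IsIrrCharacter.classInner_eq_zero hirr ht (fun e => hg₂ (congrFun e g₂).symm),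
      IsIrrCharacter.classInner_eq_zero hs hirr (fun e => hg₁ (congrFun e g₁))] at hz
    rcases eq_or_ne φs φt with e | e
    · rw [e, IsIrrCharacter.classInner_self ht] at hz
      norm_num at hz
    · rw [IsIrrCharacter.classInner_eq_zero hs ht e] at hz
      norm_num at hz
  have hscal : ∀ a : G, ρ' a = 1 → ∀ b, ρ a * ρ b = ρ b * ρ a := fun a ha b => by
    rw [hρ'] at ha
    have e : ρ a = ((μ a : ℂ))⁻¹ • (1 : Module.End ℂ (Fin d → ℂ)) := by
      rw [← ha, inv_smul_smul₀ (μ a).ne_zero]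
    rw [e, smul_mul_assoc, mul_smul_comm, one_mul, mul_one]
  have hcomm : ρ x * ρ y = ρ y * ρ x := by
    rcases hdich with h | h
    · exact hscal x (trivial_of_galois_fixed hp (by omega) ρ' hirr h i x hx) y
    · exact (hscal y (trivial_of_galois_fixed hq (by omega) ρ' hirr h j y hy) x).symm
  rw [← hρ]
  show LinearMap.trace ℂ _ (ρ (x * y * x⁻¹ * y⁻¹)) = LinearMap.trace ℂ _ (ρ 1)
  congr 1
  rw [map_mul, map_mul, map_mul, hcomm, mul_assoc (ρ y), ← map_mul ρ x x⁻¹, mul_inv_cancel, map_one, mul_one,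
    ← map_mul, mul_inv_cancel, map_one]

/-- The degrees of a `p`-group are too large for a faithful character of degree below `p`. -/
theorem pgroup_comm {χ : G → ℂ} (hχ : IsCharacter G χ) (hfaith : ∀ g : G, χ g = χ 1 → g = 1)
    {p : ℕ} (hp : p.Prime) (hpn : charDegree χ < p) (hG : IsPGroup p G) (a b : G) : a * b = b * a := by
  classical
  haveI := Fintype.ofFinite G
  haveI := Fintype.ofFinite (IrrCharacter G)
  haveI := Fact.mk hp
  obtain ⟨m, hm, hdeg⟩ := exists_decomp hχ
  suffices h : a * b * a⁻¹ * b⁻¹ = 1 by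
    exact mul_inv_eq_iff_eq_mul.mp (mul_inv_eq_one.mp h)
  refine hfaith _ ?_
  rw [hm, hm 1]
  refine Finset.sum_congr rfl fun ψ _ => ?_
  rcases Nat.eq_zero_or_pos (m ψ) with h0 | h0
  · simp [h0]
  congr 1
  obtain ⟨e, he⟩ := IsPGroup.iff_card.1 hG
  obtain ⟨i, -, hi⟩ := (Nat.dvd_prime_pow hp).1 (he ▸ charDegree_dvd_card ψ.2)
  have hlt : charDegree (ψ : G → ℂ) < p := lt_of_le_of_lt (by
    rw [hdeg]
    exact le_trans (Nat.le_mul_of_pos_left _ h0)
      (Finset.single_le_sum (f := fun φ : IrrCharacter G => m φ * charDegree (φ : G → ℂ)) (fun _ _ => Nat.zero_le _) (Finset.mem_univ ψ))) hpn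
  have hi0 : i = 0 := by
    rcases Nat.eq_zero_or_pos i with h | h
    · exact h
    · rw [hi] at hlt
      exact absurd hlt (not_lt.2 (Nat.le_self_pow h.ne' p))
  have h1 : (ψ : G → ℂ) 1 = 1 := by
    rw [← charDegree_cast (IsIrrCharacter.isCharacter ψ.2), hi, hi0, pow_zero, Nat.cast_one]
  obtain ⟨l, hl⟩ := IsCharacter.exists_monoidHom (IsIrrCharacter.isCharacter ψ.2) h1
  rw [hl]
  simp [mul_comm, mul_left_comm]

/-- An element of `p`-power order has a conjugate in a subgroup of index prime to `p`. -/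
theorem exists_conj_mem {p : ℕ} [Fact p.Prime] (B : Subgroup G) (hB : ¬ p ∣ B.index) {x : G}
    (hx : IsPGroup p (Subgroup.zpowers x)) : ∃ g : G, g⁻¹ * x * g ∈ B := by
  obtain ⟨u, hu⟩ := hx.nonempty_fixed_point_of_prime_not_dvd_card (G ⧸ B) hB
  obtain ⟨g, rfl⟩ := QuotientGroup.mk_surjective u
  refine ⟨g, ?_⟩
  have h := hu ⟨x, Subgroup.mem_zpowers x⟩
  change ((x * g : G) : G ⧸ B) = g at h
  rw [mul_assoc]
  exact QuotientGroup.eq.1 h.symm

/-- An abelian Hall subgroup for the primes above the degree plus one. -/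
theorem exists_hall : ∀ (N : ℕ) (G : Type u) [Group G] [Finite G], Nat.card G = N →
    ∀ χ : G → ℂ, IsCharacter G χ → (∀ g : G, χ g = χ 1 → g = 1) → ∀ n : ℕ, charDegree χ = n →
    ∃ A : Subgroup G, (∀ x ∈ A, ∀ y ∈ A, x * y = y * x) ∧ (∀ q : ℕ, q.Prime → q ∣ Nat.card A → n + 1 < q) ∧
      ∀ q : ℕ, q.Prime → q ∣ A.index → q ≤ n + 1 := by
  intro N
  induction N using Nat.strong_induction_on with
  | _ N ih =>
  intro G _ _ hN χ hχ hfaith n hn
  classical
  have habel : ∀ (r : ℕ), r.Prime → n + 1 < r → ∀ R : Subgroup G, IsPGroup r R → ∀ a ∈ R, ∀ b ∈ R, a * b = b * a := by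
    intro r hr hrn R hR a ha b hb
    refine congrArg Subtype.val (pgroup_comm (IsCharacter.restrict hχ R) (fun g hg => ?_) hr ?_ hR ⟨a, ha⟩ ⟨b, hb⟩)
    · exact Subtype.ext (hfaith g hg)
    · rw [show charDegree (fun g : R => χ g) = charDegree χ by simp [charDegree], hn]; omega
  -- a Sylow subgroup containing a given element centralises it
  have hsyl : ∀ (r : ℕ), r.Prime → n + 1 < r → ∀ x : G, IsPGroup r (Subgroup.zpowers x) →
      ¬ r ∣ (Subgroup.centralizer ({x} : Set G)).index := by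
    intro r hr hrn x hx hd
    haveI := Fact.mk hr
    obtain ⟨R, hR⟩ := hx.exists_le_sylow
    refine R.not_dvd_index (hd.trans (Subgroup.index_dvd_of_le fun a ha => ?_))
    exact Subgroup.mem_centralizer_singleton_iff.2 (habel r hr hrn R R.isPGroup' a ha x (hR (Subgroup.mem_zpowers x)))
  have hord : ∀ (r i : ℕ) (x : G), x ^ r ^ i = 1 → IsPGroup r (Subgroup.zpowers x) := fun r i x hx z => by
    obtain ⟨k, hk⟩ := Subgroup.mem_zpowers_iff.1 z.2
    refine ⟨i, Subtype.ext ?_⟩
    simp only [Subgroup.coe_pow, Subgroup.coe_one, ← hk]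
    rw [← zpow_natCast, ← zpow_mul, mul_comm, zpow_mul, zpow_natCast, hx, one_zpow]
  -- the abelian subgroup attached to a non-central element
  have hB : ∀ (r : ℕ), r.Prime → n + 1 < r → ∀ x : G, x ∉ Subgroup.center G → IsPGroup r (Subgroup.zpowers x) →
      ∃ B : Subgroup G, (∀ a ∈ B, ∀ b ∈ B, a * b = b * a) ∧ x ∈ B ∧
        (∀ q : ℕ, q.Prime → q ∣ Nat.card B → n + 1 < q) ∧
        (∀ q : ℕ, q.Prime → n + 1 < q → ¬ q ∣ (B.subgroupOf (Subgroup.centralizer ({x} : Set G))).index) ∧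
        ∀ q : ℕ, q.Prime → n + 1 < q → ¬ q ∣ (Subgroup.centralizer ({x} : Set G)).index → ¬ q ∣ B.index := by
    intro r hr hrn x hxc hx
    haveI := Fact.mk hr
    set C := Subgroup.centralizer ({x} : Set G) with hC
    have hCne : C ≠ ⊤ := fun e => hxc (Subgroup.mem_center_iff.2 fun g => by
      have : g ∈ C := e ▸ Subgroup.mem_top g
      exact Subgroup.mem_centralizer_singleton_iff.1 this)
    have hlt : Nat.card C < N := hN ▸ lt_of_le_of_ne (Subgroup.card_le_card_group C)
      fun e => hCne (Subgroup.eq_top_of_card_eq C e)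
    obtain ⟨A, hAc, hAπ, hAi⟩ := ih _ hlt C rfl (fun c => χ c) (IsCharacter.restrict hχ C)
      (fun g hg => Subtype.ext (hfaith g hg)) n (by rw [← hn]; simp [charDegree])
    let B := A.map C.subtype
    have hBcard : Nat.card B = Nat.card A := Subgroup.card_map_of_injective C.subtype_injective
    have hBA : B.subgroupOf C = A := Subgroup.comap_map_eq_self_of_injective C.subtype_injective A
    refine ⟨B, ?_, ?_, fun q hq hd => hAπ q hq (hBcard ▸ hd),
      fun q hq hqn hd => absurd (hAi q hq (hBA ▸ hd)) (by omega), fun q hq hqn hd => ?_⟩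
    · rintro _ ⟨a, ha, rfl⟩ _ ⟨b, hb, rfl⟩
      exact congrArg Subtype.val (hAc a ha b hb)
    · let x' : C := ⟨x, Subgroup.mem_centralizer_singleton_iff.2 rfl⟩
      have hx' : IsPGroup r (Subgroup.zpowers x') := fun z => by
        obtain ⟨k, hk⟩ := Subgroup.mem_zpowers_iff.1 z.2
        obtain ⟨i, hi⟩ := hx ⟨x ^ k, zpow_mem (Subgroup.mem_zpowers x) k⟩
        refine ⟨i, Subtype.ext (Subtype.ext ?_)⟩
        have h1 := congrArg Subtype.val hi
        simp only [Subgroup.coe_pow, Subgroup.coe_one] at h1 ⊢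
        rw [← hk]
        simpa [x'] using h1
      obtain ⟨g, hg⟩ := exists_conj_mem A (fun hd => absurd (hAi r hr hd) (by omega)) hx'
      refine ⟨x', ?_, rfl⟩
      have e : g⁻¹ * x' * g = x' := by
        have h1 := Subgroup.mem_centralizer_singleton_iff.1 g.2
        exact Subtype.ext (by
          show (g : G)⁻¹ * x * g = x
          rw [mul_assoc, ← h1, inv_mul_cancel_left])
      rwa [e] at hg
    · intro hdB
      rw [Subgroup.index_map_of_injective _ C.subtype_injective, Subgroup.range_subtype] at hdB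
      rcases hq.dvd_mul.1 hdB with h | h
      · exact absurd (hAi q hq h) (by omega)
      · exact hd h
  by_cases hex : ∃ (r : ℕ) (x : G), r.Prime ∧ n + 1 < r ∧ x ∉ Subgroup.center G ∧ IsPGroup r (Subgroup.zpowers x)
  · obtain ⟨p, x, hp, hpn, hxc, hx⟩ := hex
    obtain ⟨B, hBc, hxB, hBπ, -, hBi⟩ := hB p hp hpn x hxc hx
    refine ⟨B, hBc, hBπ, fun q hq hd => ?_⟩
    by_contra hqn
    push Not at hqn
    refine hBi q hq hqn ?_ hd
    haveI := Fact.mk hq
    haveI := Fact.mk hp
    by_cases hqp : q = p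
    · subst hqp; exact hsyl q hq hqn x hx
    by_cases hcen : ∀ y : G, IsPGroup q (Subgroup.zpowers y) → y ∈ Subgroup.center G
    · intro hdC
      obtain ⟨Q⟩ := (inferInstance : Nonempty (Sylow q G))
      refine Q.not_dvd_index (hdC.trans (Subgroup.index_dvd_of_le fun a ha => ?_))
      exact Subgroup.mem_centralizer_singleton_iff.2 (Subgroup.mem_center_iff.1 (hcen a (Q.isPGroup'.to_le (Subgroup.zpowers_le.2 ha))) x).symm
    push Not at hcen
    obtain ⟨y, hy, hyc⟩ := hcen
    -- a commuting pair of non-central elements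
    obtain ⟨x₁, y₁, hx₁, hx₁c, hy₁, hy₁c, hxy⟩ : ∃ x₁ y₁ : G, IsPGroup p (Subgroup.zpowers x₁) ∧ x₁ ∉ Subgroup.center G ∧
        IsPGroup q (Subgroup.zpowers y₁) ∧ y₁ ∉ Subgroup.center G ∧ x₁ * y₁ = y₁ * x₁ := by
      by_contra hno
      push Not at hno
      have hlink : ∀ g : G, g ^ ordCompl[p] (Nat.card G) ∈ Subgroup.center G ∨
          g ^ ordCompl[q] (Nat.card G) ∈ Subgroup.center G := fun g => by
        by_contra hg
        push Not at hg
        refine hno _ _ (hord p ((Nat.card G).factorization p) _ ?_) hg.1 (hord q ((Nat.card G).factorization q) _ ?_) hg.2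
          ((Commute.refl g).pow_pow _ _).eq
        · rw [← pow_mul, mul_comm, Nat.ordProj_mul_ordCompl_eq_self, pow_card_eq_one']
        · rw [← pow_mul, mul_comm, Nat.ordProj_mul_ordCompl_eq_self, pow_card_eq_one']
      obtain ⟨i, hi⟩ := hx ⟨x, Subgroup.mem_zpowers x⟩
      obtain ⟨j, hj⟩ := hy ⟨y, Subgroup.mem_zpowers y⟩
      exact hno x y hx hxc hy hyc (commute_of_not_linked hχ hfaith hp hq (hn ▸ hpn) (hn ▸ hqn) hlink
        (congrArg Subtype.val hi) (congrArg Subtype.val hj))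
    obtain ⟨B₁, hB₁c, hx₁B, -, hB₁C, hB₁i⟩ := hB p hp hpn x₁ hx₁c hx₁
    let C₁ := Subgroup.centralizer ({x₁} : Set G)
    let y₀ : C₁ := ⟨y₁, Subgroup.mem_centralizer_singleton_iff.2 hxy.symm⟩
    obtain ⟨c, hc⟩ := exists_conj_mem (B₁.subgroupOf C₁) (hB₁C q hq hqn) (x := y₀) (fun z => by
      obtain ⟨k, hk⟩ := Subgroup.mem_zpowers_iff.1 z.2
      obtain ⟨i, hi⟩ := hy₁ ⟨y₁ ^ k, zpow_mem (Subgroup.mem_zpowers y₁) k⟩
      refine ⟨i, Subtype.ext (Subtype.ext ?_)⟩
      have h1 := congrArg Subtype.val hi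
      simp only [Subgroup.coe_pow, Subgroup.coe_one] at h1 ⊢
      rw [← hk]
      simpa [y₀] using h1)
    set y₂ : G := (c : G)⁻¹ * y₁ * c with hy₂def
    have hy₂B : y₂ ∈ B₁ := hc
    have hy₂ : IsPGroup q (Subgroup.zpowers y₂) := by
      obtain ⟨i, hi⟩ := hy₁ ⟨y₁, Subgroup.mem_zpowers y₁⟩
      refine hord q i _ ?_
      have h1 : y₁ ^ q ^ i = 1 := congrArg Subtype.val hi
      rw [hy₂def, show (c : G)⁻¹ * y₁ * c = (c : G)⁻¹ * y₁ * ((c : G)⁻¹)⁻¹ by rw [inv_inv], conj_pow, h1]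
      simp
    have hy₂c : y₂ ∉ Subgroup.center G := fun h => hy₁c (by
      have := Subgroup.Normal.conj_mem inferInstance y₂ h (c : G)
      rwa [hy₂def, show (c : G) * ((c : G)⁻¹ * y₁ * c) * (c : G)⁻¹ = y₁ by group] at this)
    obtain ⟨B₂, hB₂c, -, -, -, hB₂i⟩ := hB q hq hqn y₂ hy₂c hy₂
    -- a common abelian subgroup with both Sylow subgroups
    have hp₂ : ¬ p ∣ (Subgroup.centralizer ({y₂} : Set G)).index := fun hd1 =>
      hB₁i p hp hpn (hsyl p hp hpn x₁ hx₁) (hd1.trans (Subgroup.index_dvd_of_le fun b hb =>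
        Subgroup.mem_centralizer_singleton_iff.2 (hB₁c b hb y₂ hy₂B)))
    have hpB₂ := hB₂i p hp hpn hp₂
    have hqB₂ := hB₂i q hq hqn (hsyl q hq hqn y₂ hy₂)
    obtain ⟨g, hg⟩ := exists_conj_mem B₂ hpB₂ hx
    intro hdC
    have hle : B₂.map (MulAut.conj g).toMonoidHom ≤ Subgroup.centralizer ({x} : Set G) := by
      rintro _ ⟨b, hb, rfl⟩
      rw [Subgroup.mem_centralizer_singleton_iff]
      have e : x = g * (g⁻¹ * x * g) * g⁻¹ := by group
      rw [MulEquiv.coe_toMonoidHom, MulAut.conj_apply, e]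
      calc g * b * g⁻¹ * (g * (g⁻¹ * x * g) * g⁻¹) = g * (b * (g⁻¹ * x * g)) * g⁻¹ := by group
        _ = g * ((g⁻¹ * x * g) * b) * g⁻¹ := by rw [hB₂c b hb _ hg]
        _ = _ := by group
    refine hqB₂ ?_
    rw [← Subgroup.index_map_equiv B₂ (MulAut.conj g)]
    exact hdC.trans (Subgroup.index_dvd_of_le hle)
  · push Not at hex
    let A : Subgroup G :=
      { carrier := {g | g ∈ Subgroup.center G ∧ ∀ q : ℕ, q.Prime → q ∣ orderOf g → n + 1 < q}
        one_mem' := ⟨one_mem _, fun q hq hd => by simp [orderOf_one] at hd; exact absurd hd hq.ne_one⟩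
        mul_mem' := fun {a b} ha hb => ⟨mul_mem ha.1 hb.1, fun q hq hd => by
          have hab : Commute a b := (Subgroup.mem_center_iff.1 hb.1 a)
          rcases hq.dvd_mul.1 (hd.trans hab.orderOf_mul_dvd_mul_orderOf) with h | h
          · exact ha.2 q hq h
          · exact hb.2 q hq h⟩
        inv_mem' := fun {a} ha => ⟨inv_mem ha.1, fun q hq hd => ha.2 q hq (by rwa [orderOf_inv] at hd)⟩ }
    refine ⟨A, fun a _ b hb => Subgroup.mem_center_iff.1 hb.1 a, fun q hq hd => ?_, fun q hq hd => ?_⟩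
    · haveI := Fact.mk hq
      obtain ⟨a, ha⟩ := exists_prime_orderOf_dvd_card' q hd
      refine a.2.2 q hq ?_
      rw [Subgroup.orderOf_coe, ha]
    · by_contra hqn
      push Not at hqn
      haveI := Fact.mk hq
      obtain ⟨Q⟩ := (inferInstance : Nonempty (Sylow q G))
      refine Q.not_dvd_index (hd.trans (Subgroup.index_dvd_of_le fun a ha => ?_))
      have h1 : IsPGroup q (Subgroup.zpowers a) := Q.isPGroup'.to_le (Subgroup.zpowers_le.2 ha)
      refine ⟨by_contra fun hac => hex q a hq hqn hac h1, fun r hr hrd => ?_⟩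
      obtain ⟨i, hi⟩ := h1 ⟨a, Subgroup.mem_zpowers a⟩
      rwa [(Nat.prime_dvd_prime_iff_eq hr hq).1 (hr.dvd_of_dvd_pow (hrd.trans (orderOf_dvd_of_pow_eq_one (congrArg Subtype.val hi))))]

end Cfsg.Agent.Char.Blichfeldt
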