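import Cfsg.Agent.Lib.Char.Brauer
import Cfsg.Agent.Lib.Char.Orthogonality
import Cfsg.Agent.Lib.Struct.FrobeniusCount
import Mathlib.GroupTheory.Sylow
import Mathlib.GroupTheory.Complement
import Mathlib.GroupTheory.NoncommCoprod

/-!
# The theorem of Brauer and Suzuki on Hall subgroups with controlled fusion
-/

set_option autoImplicit false
set_option linter.style.haveILetI false

namespace Cfsg.Agent.Char.HallBS

open Cfsg Cfsg.Agent.Char
open scoped ComplexConjugate

universe u

variable {G : Type u} [Group G] [Finite G]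

/-- An elementary subgroup generated by a central element and a `p`-group. -/
theorem isElementary_sup (p : ℕ) [Fact p.Prime] (x : G) (hx : Nat.Coprime (orderOf x) p)
    (P : Subgroup G) (hP : IsPGroup p P) (hc : ∀ u ∈ P, u * x = x * u) :
    IsElementary p ↥(Subgroup.zpowers x ⊔ P) ∧
      ∃ k, Nat.card ↥(Subgroup.zpowers x ⊔ P) ∣ orderOf x * p ^ k ∧ Nat.card P = p ^ k := by
  set E := Subgroup.zpowers x ⊔ P with hE
  have hxE : x ∈ E := Subgroup.mem_sup_left (Subgroup.mem_zpowers x)
  have hcent : E ≤ Subgroup.centralizer ({x} : Set G) := sup_le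
    (by rw [Subgroup.zpowers_le]; exact Subgroup.mem_centralizer_singleton_iff.mpr rfl)
    (fun u hu => Subgroup.mem_centralizer_singleton_iff.mpr (hc u hu))
  have hxc : (⟨x, hxE⟩ : E) ∈ Subgroup.center E := Subgroup.mem_center_iff.mpr fun g =>
    Subtype.ext (Subgroup.mem_centralizer_singleton_iff.mp (hcent g.2))
  obtain ⟨k, hk⟩ := hP.exists_card_eq
  let Cx : Subgroup E := Subgroup.zpowers ⟨x, hxE⟩
  haveI : Cx.Normal := ⟨fun c hc' g => by
    rw [Subgroup.mem_center_iff.mp (Subgroup.zpowers_le.mpr hxc hc') g, mul_inv_cancel_right]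
    exact hc'⟩
  have hsup : Cx ⊔ P.subgroupOf E = ⊤ := by
    refine (Subgroup.map_injective E.subtype_injective) ?_
    rw [Subgroup.map_sup, MonoidHom.map_zpowers, Subgroup.map_subgroupOf_eq_of_le le_sup_right,
      ← MonoidHom.range_eq_map, Subgroup.range_subtype]
    rfl
  have hidx : Cx.index ∣ p ^ k := by
    have h1 : Cx.relIndex (⊤ : Subgroup E) = Cx.relIndex (P.subgroupOf E) := by
      rw [← hsup, sup_comm, Subgroup.relIndex_sup_right]
    rw [Subgroup.relIndex_top_right] at h1
    rw [h1, ← hk, ← Nat.card_congr (Subgroup.subgroupOfEquivOfLe (le_sup_right : P ≤ E)).toEquiv]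
    exact Subgroup.index_dvd_card _
  refine ⟨⟨⟨x, hxE⟩, hxc, by rwa [Subgroup.orderOf_mk],
    let ⟨j, _, hj⟩ := (Nat.dvd_prime_pow Fact.out).mp hidx; ⟨j, hj⟩⟩, k, ?_, hk⟩
  rw [← Cx.card_mul_index, Nat.card_zpowers, Subgroup.orderOf_mk]
  exact Nat.mul_dvd_mul_left _ hidx

/-- The image of an elementary group is elementary. -/
theorem isElementary_range {p : ℕ} (hp : p.Prime) {E : Type u} [Group E] [Finite E]
    (h : IsElementary p E) (f : E →* G) : IsElementary p ↥f.range := by
  obtain ⟨x, hx, hcop, k, hk⟩ := h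
  refine ⟨⟨f x, x, rfl⟩, Subgroup.mem_center_iff.mpr ?_, ?_, ?_⟩
  · rintro ⟨_, g, rfl⟩
    exact Subtype.ext (by
      show f g * f x = f x * f g
      rw [← map_mul, ← map_mul, Subgroup.mem_center_iff.mp hx g])
  · exact hcop.coprime_dvd_left (orderOf_map_dvd f.rangeRestrict x)
  · have h1 : (Subgroup.zpowers (⟨f x, x, rfl⟩ : f.range)).index ∣ p ^ k := by
      rw [← hk]
      have h2 := Subgroup.index_map_dvd (H := Subgroup.zpowers x) (f := f.rangeRestrict)
        f.rangeRestrict_surjective
      rwa [MonoidHom.map_zpowers] at h2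
    obtain ⟨j, -, hj⟩ := (Nat.dvd_prime_pow hp).mp h1
    exact ⟨j, hj⟩

variable {H : Subgroup G}

/-- The hypothesis on elementary subgroups. -/
def ElemConj (H : Subgroup G) : Prop :=
  ∀ (E : Subgroup G) (p : ℕ), p.Prime → IsElementary p E → Nat.card E ∣ Nat.card H →
    ∃ g : G, ∀ e ∈ E, g * e * g⁻¹ ∈ H

theorem exists_conj_mem (helem : ElemConj H) (x : G) (hx : orderOf x ∣ Nat.card H) :
    ∃ g : G, g * x * g⁻¹ ∈ H := by
  obtain ⟨p, hpx, hp⟩ := Nat.exists_infinite_primes (orderOf x + 1)
  haveI := Fact.mk hp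
  have hcop : Nat.Coprime (orderOf x) p := Nat.Coprime.symm (hp.coprime_iff_not_dvd.mpr fun h => by
    have := Nat.le_of_dvd (orderOf_pos x) h
    omega)
  obtain ⟨hel, k, hcard, hk⟩ := isElementary_sup p x hcop ⊥ IsPGroup.of_bot (fun u hu => by
    rw [Subgroup.mem_bot] at hu; rw [hu, one_mul, mul_one])
  rw [Subgroup.card_bot] at hk
  rw [← hk, mul_one] at hcard
  obtain ⟨g, hg⟩ := helem _ p hp hel (hcard.trans hx)
  exact ⟨g, hg x (Subgroup.mem_sup_left (Subgroup.mem_zpowers x))⟩

/-- The Sylow numbers of centralisers. -/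
theorem card_centralizer_part (hcop : Nat.Coprime (Nat.card H) H.index)
    (hfus : ∀ x ∈ H, ∀ y ∈ H, IsConj x y → ∃ h ∈ H, h * x * h⁻¹ = y) (helem : ElemConj H)
    {y : G} (hy : y ∈ H) :
    ∃ m : ℕ, Nat.card (Subgroup.centralizer ({y} : Set G)) =
      Nat.card ↥(H ⊓ Subgroup.centralizer ({y} : Set G)) * m ∧ Nat.Coprime m (Nat.card H) := by
  classical
  set C := Subgroup.centralizer ({y} : Set G) with hC
  obtain ⟨m, hm⟩ := Subgroup.card_dvd_of_le (inf_le_right : H ⊓ C ≤ C)
  refine ⟨m, hm, Nat.coprime_of_dvd fun p hp hpm hph => ?_⟩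
  haveI := Fact.mk hp
  let P : Sylow p C := default
  let P' : Subgroup G := (P : Subgroup C).map C.subtype
  have hP'C : P' ≤ C := Subgroup.map_subtype_le _
  have hP'p : IsPGroup p P' := P.isPGroup'.map C.subtype
  have ho0 : orderOf y ≠ 0 := (orderOf_pos y).ne'
  let y' : G := y ^ (ordProj[p] (orderOf y))
  have hoy' : orderOf y' = ordCompl[p] (orderOf y) := by
    rw [orderOf_pow' _ (Nat.ordProj_pos _ _).ne', Nat.gcd_eq_right (Nat.ordProj_dvd _ _)]
  obtain ⟨hel, k, hcard, hk⟩ := isElementary_sup p y'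
    (hoy' ▸ (Nat.coprime_ordCompl hp ho0).symm) P' hP'p fun u hu => by
      have h1 : Commute u y := Subgroup.mem_centralizer_singleton_iff.mp (hP'C hu)
      exact (h1.pow_right _).eq
  have hEC : Subgroup.zpowers y' ⊔ P' ≤ C := sup_le (by
    rw [Subgroup.zpowers_le]
    exact Subgroup.mem_centralizer_singleton_iff.mpr ((Commute.refl y).pow_left _).eq) hP'C
  -- the full element lies in the elementary subgroup
  have hyE : y ∈ Subgroup.zpowers y' ⊔ P' := by
    have h1 : Nat.gcd (ordProj[p] (orderOf y)) (ordCompl[p] (orderOf y)) = 1 :=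
      (Nat.coprime_ordCompl hp ho0).pow_left _
    have h2 := Nat.gcd_eq_gcd_ab (ordProj[p] (orderOf y)) (ordCompl[p] (orderOf y))
    rw [h1, Nat.cast_one] at h2
    set y'' : G := y ^ (ordCompl[p] (orderOf y)) with hy''
    have hy''mem : y'' ∈ P' := by
      have hyC : y ∈ C := Subgroup.mem_centralizer_singleton_iff.mpr rfl
      let z : C := (⟨y, hyC⟩ : C) ^ (ordCompl[p] (orderOf y))
      have hzp : IsPGroup p (Subgroup.zpowers z) := by
        refine IsPGroup.of_card (n := (orderOf y).factorization p) ?_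
        rw [Nat.card_zpowers, orderOf_pow' _ (Nat.ordCompl_pos p ho0).ne', Subgroup.orderOf_mk,
          Nat.gcd_eq_right (Nat.ordCompl_dvd _ _)]
        exact Nat.div_div_self (Nat.ordProj_dvd _ _) ho0
      obtain ⟨T, hT⟩ := hzp.exists_le_sylow
      obtain ⟨c, hc⟩ := MulAction.exists_smul_eq C T P
      refine ⟨z, ?_, rfl⟩
      rw [SetLike.mem_coe, ← hc]
      refine ⟨z, hT (Subgroup.mem_zpowers z), ?_⟩
      have hz : c * z = z * c := Subtype.ext (by
        show (c : G) * y ^ _ = y ^ _ * (c : G)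
        exact ((show Commute (c : G) y from
          Subgroup.mem_centralizer_singleton_iff.mp c.2).pow_right _).eq)
      show c * z * c⁻¹ = z
      rw [hz, mul_inv_cancel_right]
    have h3 : y = y' ^ (Nat.gcdA (ordProj[p] (orderOf y)) (ordCompl[p] (orderOf y))) *
        y'' ^ (Nat.gcdB (ordProj[p] (orderOf y)) (ordCompl[p] (orderOf y))) := by
      rw [hy'', show y' = y ^ ((ordProj[p] (orderOf y) : ℕ) : ℤ) from (zpow_natCast _ _).symm,
        ← zpow_natCast, ← zpow_mul, ← zpow_mul, ← zpow_add, ← h2, zpow_one]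
    rw [h3]
    exact Subgroup.mul_mem _ (Subgroup.zpow_mem _ (Subgroup.mem_sup_left (Subgroup.mem_zpowers y')) _)
      (Subgroup.zpow_mem _ (Subgroup.mem_sup_right hy''mem) _)
  have hdvdH : Nat.card ↥(Subgroup.zpowers y' ⊔ P') ∣ Nat.card H := by
    have hG : p ^ k ∣ Nat.card H * H.index := by
      rw [H.card_mul_index, ← hk]; exact Subgroup.card_subgroup_dvd_card P'
    have hpk : p ^ k ∣ Nat.card H :=
      ((hcop.coprime_dvd_left hph).pow_left k).dvd_of_dvd_mul_right hG
    refine hcard.trans (Nat.Coprime.mul_dvd_of_dvd_of_dvd ?_ ?_ hpk)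
    · rw [hoy']
      exact ((Nat.coprime_ordCompl hp ho0).symm).pow_right k
    · rw [hoy']
      exact (Nat.ordCompl_dvd _ _).trans (Subgroup.orderOf_dvd_natCard H hy)
  obtain ⟨g, hg⟩ := helem _ p hp hel hdvdH
  obtain ⟨h₀, hh₀, hh₀'⟩ := hfus y hy _ (hg y hyE) (isConj_iff.mpr ⟨g, rfl⟩)
  let c : G := h₀⁻¹ * g
  have hcC : c ∈ C := Subgroup.mem_centralizer_singleton_iff.mpr (by
    show h₀⁻¹ * g * y = y * (h₀⁻¹ * g)
    calc h₀⁻¹ * g * y = h₀⁻¹ * (g * y * g⁻¹) * g := by group
      _ = h₀⁻¹ * (h₀ * y * h₀⁻¹) * g := by rw [hh₀']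
      _ = y * (h₀⁻¹ * g) := by group)
  let Pc : Subgroup G := P'.map (MulAut.conj c).toMonoidHom
  have hPc : Pc ≤ H ⊓ C := by
    rintro _ ⟨u, hu, rfl⟩
    refine ⟨?_, C.mul_mem (C.mul_mem hcC (hP'C hu)) (C.inv_mem hcC)⟩
    have h1 := hg u (Subgroup.mem_sup_right hu)
    show h₀⁻¹ * g * u * (h₀⁻¹ * g)⁻¹ ∈ H
    rw [show h₀⁻¹ * g * u * (h₀⁻¹ * g)⁻¹ = h₀⁻¹ * (g * u * g⁻¹) * h₀ by group]
    exact H.mul_mem (H.mul_mem (H.inv_mem hh₀) h1) hh₀
  have hd := Subgroup.card_dvd_of_le hPc
  rw [Subgroup.card_map_of_injective (MulAut.conj c).injective, hk] at hd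
  have hk' : Nat.card (P : Subgroup C) = p ^ k :=
    (Subgroup.card_map_of_injective C.subtype_injective).symm.trans hk
  have h1 : p ^ (k + 1) ∣ Nat.card C := by
    rw [hm, pow_succ]
    exact Nat.mul_dvd_mul hd hpm
  rw [P.card_eq_multiplicity] at hk'
  have hkeq : (Nat.card C).factorization p = k := Nat.pow_right_injective hp.two_le hk'
  rw [← hkeq] at h1
  exact Nat.pow_succ_factorization_not_dvd Nat.card_pos.ne' hp h1

/-- Elements whose order is coprime to `|H|`, after raising to a fixed power, hit each class with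
full multiplicity. -/
theorem count_fiber (hcop : Nat.Coprime (Nat.card H) H.index)
    (hfus : ∀ x ∈ H, ∀ y ∈ H, IsConj x y → ∃ h ∈ H, h * x * h⁻¹ = y) (helem : ElemConj H)
    {a : ℕ} (ha1 : a ≡ 1 [MOD Nat.card H]) (ha0 : H.index ∣ a) {y : G} (hy : y ∈ H) :
    Nat.card (Subgroup.centralizer ({y} : Set G)) ≤
      Nat.card ↥(H ⊓ Subgroup.centralizer ({y} : Set G)) * Nat.card {g : G // g ^ a = y} := by
  obtain ⟨m, hm, hmh⟩ := card_centralizer_part hcop hfus helem hy
  set C := Subgroup.centralizer ({y} : Set G)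
  rw [hm]
  refine Nat.mul_le_mul_left _ ?_
  have hmC : m ∣ Nat.card C := hm ▸ dvd_mul_left m _
  haveI : Nonempty {c : C // c ^ m = 1} := ⟨⟨1, one_pow m⟩⟩
  refine (Nat.le_of_dvd Nat.card_pos
    (Cfsg.Agent.Struct.FrobeniusCount.dvd_card_sol (Nat.card C) C rfl m hmC)).trans ?_
  have hmq : m ∣ a := by
    refine (hmh.dvd_of_dvd_mul_left ?_).trans ha0
    rw [H.card_mul_index]
    exact hmC.trans (Subgroup.card_subgroup_dvd_card C)
  refine Nat.card_le_card_of_injective (fun c => ⟨(c.1 : G) * y, ?_⟩) ?_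
  · have hcy : Commute (c.1 : G) y :=
      Subgroup.mem_centralizer_singleton_iff.mp c.1.2
    obtain ⟨j, hj⟩ := hmq
    rw [hcy.mul_pow, hj, pow_mul, ← SubgroupClass.coe_pow, c.2, OneMemClass.coe_one, one_pow, one_mul,
      ← hj, ← pow_mod_orderOf]
    have h1 : a % orderOf y = 1 % orderOf y :=
      (ha1.of_dvd (Subgroup.orderOf_dvd_natCard H hy))
    rw [h1, pow_mod_orderOf, pow_one]
  · intro c d h
    have h1 := congrArg Subtype.val h
    exact Subtype.ext (Subtype.ext (mul_right_cancel h1))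

/-- Powers are multiplicative on elementary groups for idempotent exponents. -/
theorem exists_powHom {p : ℕ} [Fact p.Prime] {E : Type u} [Group E] [Finite E]
    (hE : IsElementary p E) {a : ℕ}
    (ha : ∀ u : E, (∃ i, orderOf u = p ^ i) → u ^ a = u ∨ u ^ a = 1)
    (ha' : (∀ u : E, (∃ i, orderOf u = p ^ i) → u ^ a = u) ∨
      (∀ u : E, (∃ i, orderOf u = p ^ i) → u ^ a = 1)) :
    ∃ f : E →* E, ∀ e, f e = e ^ a := by
  classical
  have hp : p.Prime := Fact.out
  obtain ⟨x, hxc, hxp, kx, hkx⟩ := hE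
  let C : Subgroup E := Subgroup.zpowers x
  let Q : Sylow p E := default
  have hQo : ∀ q : (Q : Subgroup E), ∃ i, orderOf (q : E) = p ^ i := fun q => by
    obtain ⟨i, -, hi⟩ := (Nat.dvd_prime_pow hp).mp
      ((Subgroup.orderOf_dvd_natCard (Q : Subgroup E) q.2).trans Q.card_eq_multiplicity.dvd)
    exact ⟨i, hi⟩
  have hCQcop : Nat.Coprime (Nat.card C) (Nat.card (Q : Subgroup E)) := by
    rw [Nat.card_zpowers, Q.card_eq_multiplicity]
    exact hxp.pow_right _
  have hQcard : Nat.card (Q : Subgroup E) = p ^ kx := by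
    have h1 : C.index * Nat.card C = Nat.card E := C.index_mul_card
    rw [Q.card_eq_multiplicity, ← h1, hkx, Nat.factorization_mul (pow_ne_zero _ hp.ne_zero)
      Nat.card_pos.ne']
    simp only [Finsupp.add_apply, hp.factorization_pow, Finsupp.single_eq_same]
    rw [Nat.factorization_eq_zero_of_not_dvd (hp.coprime_iff_not_dvd.mp (by
      rw [Nat.card_zpowers]; exact hxp.symm)), add_zero]
  have hcompl : Subgroup.IsComplement' C (Q : Subgroup E) :=
    Subgroup.isComplement'_of_coprime (by rw [hQcard, ← hkx, mul_comm, C.index_mul_card]) hCQcop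
  have hcomm : ∀ (c : C) (q : (Q : Subgroup E)), Commute (c : E) (q : E) := fun c q =>
    (Subgroup.mem_center_iff.mp (Subgroup.zpowers_le.mpr hxc c.2) (q : E)).symm
  let fC : C →* E :=
    { toFun := fun c => (c : E) ^ a
      map_one' := one_pow a
      map_mul' := fun c d => by
        rw [Subgroup.coe_mul]
        exact (show Commute (c : E) (d : E) from (Subgroup.mem_center_iff.mp
          (Subgroup.zpowers_le.mpr hxc d.2) (c : E))).mul_pow a }
  obtain ⟨fQ, hfQ⟩ : ∃ fQ : (Q : Subgroup E) →* E, ∀ q, fQ q = (q : E) ^ a := by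
    rcases ha' with h | h
    · exact ⟨(Q : Subgroup E).subtype, fun q => (h _ (hQo q)).symm⟩
    · exact ⟨1, fun q => (h _ (hQo q)).symm⟩
  have hcomm' : ∀ c q, Commute (fC c) (fQ q) := fun c q => by
    rw [hfQ]
    exact (hcomm c q).pow_pow a a
  let e : C × (Q : Subgroup E) →* E := C.subtype.noncommCoprod (Q : Subgroup E).subtype hcomm
  let eeq : C × (Q : Subgroup E) ≃* E := MulEquiv.ofBijective e hcompl
  refine ⟨(fC.noncommCoprod fQ hcomm').comp eeq.symm.toMonoidHom, fun z => ?_⟩
  obtain ⟨⟨c, q⟩, rfl⟩ := eeq.surjective z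
  show fC.noncommCoprod fQ hcomm' (eeq.symm (eeq (c, q))) = _
  rw [eeq.symm_apply_apply]
  show fC c * fQ q = ((c : E) * (q : E)) ^ a
  rw [hfQ, (hcomm c q).mul_pow]
  rfl

/-- The theorem of Brauer and Suzuki. -/
theorem exists_complement [Fintype G] (hcop : Nat.Coprime (Nat.card H) H.index)
    (hfus : ∀ x ∈ H, ∀ y ∈ H, IsConj x y → ∃ h ∈ H, h * x * h⁻¹ = y) (helem : ElemConj H) :
    ∃ K : Subgroup G, K.Normal ∧ K ⊔ H = ⊤ ∧ K ⊓ H = ⊥ := by
  classical
  haveI := Fintype.ofFinite H
  obtain ⟨a, ha1, ha2⟩ := Nat.chineseRemainder hcop 1 0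
  have ha0 : H.index ∣ a := (Nat.modEq_zero_iff_dvd).mp ha2
  have hord : ∀ g : G, orderOf (g ^ a) ∣ Nat.card H := fun g => by
    rw [orderOf_dvd_iff_pow_eq_one, ← pow_mul, ← orderOf_dvd_iff_pow_eq_one]
    refine (orderOf_dvd_natCard g).trans ?_
    rw [← H.card_mul_index, mul_comm]
    exact Nat.mul_dvd_mul_right ha0 _
  have hrep : ∀ g : G, ∃ y : H, IsConj (g ^ a) (y : G) := fun g => by
    obtain ⟨x, hx⟩ := exists_conj_mem helem _ (hord g)
    exact ⟨⟨_, hx⟩, isConj_iff.mpr ⟨x, rfl⟩⟩
  choose r hr using hrep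
  have hclass : ∀ (θ : H → ℂ), IsClassFunction H θ → ∀ y z : H, IsConj (y : G) (z : G) → θ y = θ z := by
    intro θ hθ y z h
    obtain ⟨u, hu, hu'⟩ := hfus y y.2 z z.2 h
    rw [← hθ y ⟨u, hu⟩]
    exact congrArg θ (Subtype.ext hu')
  -- class sizes
  let cG : H → ℕ := fun y => Nat.card {z : G // IsConj (y : G) z}
  let cH : H → ℕ := fun y => Nat.card {z : H // IsConj (y : G) (z : G)}
  let N : H → ℕ := fun y => Nat.card {g : G // g ^ a = (y : G)}
  have hNconj : ∀ (y : H) (z : G), IsConj (y : G) z → Nat.card {g : G // g ^ a = z} = N y := by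
    intro y z h
    obtain ⟨x, rfl⟩ := isConj_iff.mp h
    refine (Nat.card_congr ((MulAut.conj x).toEquiv.subtypeEquiv
      (p := fun g : G => g ^ a = (y : G)) fun g => ?_)).symm
    show g ^ a = _ ↔ (x * g * x⁻¹) ^ a = _
    rw [conj_pow]
    exact ⟨fun e => by rw [e], fun e => mul_left_cancel (mul_right_cancel e)⟩
  have hweight : ∀ y : H, H.index * cH y ≤ cG y * N y := by
    intro y
    have h1 := card_isConj_mul_card_centralizer (y : G)
    have h2 := card_isConj_mul_card_centralizer y
    have h3 : Nat.card (Subgroup.centralizer ({y} : Set H)) =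
        Nat.card ↥(H ⊓ Subgroup.centralizer ({(y : G)} : Set G)) := by
      refine Nat.card_congr
        { toFun := fun c => ⟨(c.1 : G), c.1.2, Subgroup.mem_centralizer_singleton_iff.mpr
            (congrArg Subtype.val (Subgroup.mem_centralizer_singleton_iff.mp c.2))⟩
          invFun := fun c => ⟨⟨c.1, c.2.1⟩, Subgroup.mem_centralizer_singleton_iff.mpr
            (Subtype.ext (Subgroup.mem_centralizer_singleton_iff.mp c.2.2))⟩
          left_inv := fun _ => rfl
          right_inv := fun _ => rfl }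
    have h4 : cH y = Nat.card {z : H // IsConj y z} := Nat.card_congr (Equiv.subtypeEquivRight fun z =>
      ⟨fun h => by
        obtain ⟨u, hu, hu'⟩ := hfus y y.2 z z.2 h
        exact isConj_iff.mpr ⟨⟨u, hu⟩, Subtype.ext hu'⟩,
       fun h => by
        obtain ⟨u, hu⟩ := isConj_iff.mp h
        exact isConj_iff.mpr ⟨(u : G), congrArg Subtype.val hu⟩⟩)
    have h5 := count_fiber hcop hfus helem ha1 ha0 y.2
    rw [h3, ← h4] at h2
    rw [← H.card_mul_index, ← h2] at h1
    refine Nat.le_of_mul_le_mul_left ?_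
      (Nat.card_pos (α := ↥(H ⊓ Subgroup.centralizer ({(y : G)} : Set G))))
    calc Nat.card ↥(H ⊓ Subgroup.centralizer ({(y : G)} : Set G)) * (H.index * cH y)
        = cH y * Nat.card ↥(H ⊓ Subgroup.centralizer ({(y : G)} : Set G)) * H.index := by ring
      _ = cG y * Nat.card (Subgroup.centralizer ({(y : G)} : Set G)) := h1.symm
      _ ≤ cG y * (Nat.card ↥(H ⊓ Subgroup.centralizer ({(y : G)} : Set G)) * N y) :=
          Nat.mul_le_mul_left _ h5
      _ = _ := by ring
  have hcH : ∀ y : H, (cH y : ℂ) ≠ 0 := fun y => by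
    haveI : Nonempty {z : H // IsConj (y : G) (z : G)} := ⟨⟨y, IsConj.refl _⟩⟩
    exact Nat.cast_ne_zero.mpr Nat.card_pos.ne'
  have hsum : ∀ F : H → ℂ, IsClassFunction H F →
      ∑ g : G, F (r g) = ∑ y : H, ((cG y * N y : ℕ) : ℂ) / (cH y : ℂ) * F y := by
    intro F hF
    have h1 : ∀ g : G, F (r g) = ∑ y : H, if IsConj (y : G) (g ^ a) then F y / (cH y : ℂ) else 0 := by
      intro g
      rw [← Finset.sum_filter]
      have h2 : ∀ y ∈ Finset.univ.filter (fun y : H => IsConj (y : G) (g ^ a)),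
          F y / (cH y : ℂ) = F (r g) / (cH (r g) : ℂ) := by
        intro y hy
        have hy' : IsConj (y : G) (r g : G) := (Finset.mem_filter.mp hy).2.trans (hr g)
        rw [hclass F hF y (r g) hy', show cH y = cH (r g) from Nat.card_congr
          (Equiv.subtypeEquivRight fun z => ⟨fun h => hy'.symm.trans h, fun h => hy'.trans h⟩)]
      rw [Finset.sum_congr rfl h2, Finset.sum_const, nsmul_eq_mul,
        show (Finset.univ.filter fun y : H => IsConj (y : G) (g ^ a)).card = cH (r g) by
          rw [← Fintype.card_subtype, ← Nat.card_eq_fintype_card]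
          exact Nat.card_congr (Equiv.subtypeEquivRight fun z =>
            ⟨fun h => (hr g).symm.trans h.symm, fun h => h.symm.trans (hr g).symm⟩)]
      rw [mul_div_cancel₀ _ (hcH _)]
    rw [Finset.sum_congr rfl fun g _ => h1 g, Finset.sum_comm]
    refine Finset.sum_congr rfl fun y _ => ?_
    rw [← Finset.sum_filter, Finset.sum_const, nsmul_eq_mul,
      show (Finset.univ.filter fun g : G => IsConj (y : G) (g ^ a)).card = cG y * N y by
        rw [← Fintype.card_subtype, ← Nat.card_eq_fintype_card,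
          Nat.card_congr ((Equiv.sigmaSubtypeFiberEquivSubtype (fun g : G => g ^ a)
            (fun g => Iff.rfl)).symm : {g : G // IsConj (y : G) (g ^ a)} ≃
              Σ z : {z : G // IsConj (y : G) z}, {g : G // g ^ a = z})]
        rw [Nat.card_sigma, Finset.sum_congr rfl fun z _ => hNconj y z.1 z.2, Finset.sum_const,
          Finset.card_univ, smul_eq_mul, ← Nat.card_eq_fintype_card]]
    ring
  have hexact : ∀ y : H, ((cG y * N y : ℕ) : ℂ) / (cH y : ℂ) = (H.index : ℂ) := by
    have h1 := hsum (fun _ => 1) (fun _ _ => rfl)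
    simp only [mul_one, Finset.sum_const, Finset.card_univ, nsmul_eq_mul] at h1
    rw [← Nat.card_eq_fintype_card, ← H.card_mul_index] at h1
    have h2 : ∑ y : H, (((cG y * N y : ℕ) : ℝ) / (cH y : ℝ) - (H.index : ℝ)) = 0 := by
      have h3 := congrArg Complex.re h1
      rw [Finset.sum_sub_distrib, Finset.sum_const, Finset.card_univ, nsmul_eq_mul,
        ← Nat.card_eq_fintype_card, sub_eq_zero]
      rw [Complex.re_sum] at h3
      simp only [Complex.div_natCast_re, Complex.natCast_re] at h3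
      push_cast at h3 ⊢
      simpa using h3.symm
    have hnn : ∀ y : H, y ∈ Finset.univ →
        0 ≤ ((cG y * N y : ℕ) : ℝ) / (cH y : ℝ) - (H.index : ℝ) := by
      intro y _
      have hpos : (0 : ℝ) < cH y := by
        have := hcH y
        exact_mod_cast Nat.pos_of_ne_zero (by exact_mod_cast this)
      rw [sub_nonneg, le_div_iff₀ hpos]
      exact_mod_cast hweight y
    intro y
    have h4 := sub_eq_zero.mp ((Finset.sum_eq_zero_iff_of_nonneg hnn).mp h2 y (Finset.mem_univ y))
    have h5 := congrArg Complex.ofReal h4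
    push_cast at h5 ⊢
    exact h5
  -- extension of irreducible characters
  have hext : ∀ θ : H → ℂ, IsIrrCharacter H θ → IsIrrCharacter G (fun g => θ (r g)) := by
    intro θ hθ
    have hθc := IsIrrCharacter.isCharacter hθ
    have hcf : IsClassFunction G (fun g => θ (r g)) := fun g x => by
      refine hclass θ (IsCharacter.isClassFunction hθc) _ _ ((hr _).symm.trans (IsConj.trans ?_ (hr g)))
      rw [conj_pow]
      exact (isConj_iff.mpr ⟨x, rfl⟩ : IsConj (g ^ a) (x * g ^ a * x⁻¹)).symm
    have hgen : IsGeneralizedCharacter G (fun g => θ (r g)) := by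
      refine isGeneralizedCharacter_of_elementary hcf fun E p hp hE => ?_
      haveI := Fact.mk hp
      have hpow : (∀ u : E, (∃ i, orderOf u = p ^ i) → u ^ a = u) ∨
          (∀ u : E, (∃ i, orderOf u = p ^ i) → u ^ a = 1) := by
        by_cases hph : p ∣ Nat.card H
        · left
          rintro u ⟨i, hi⟩
          have hd : orderOf u ∣ Nat.card H := by
            have h1 : p ^ i ∣ Nat.card H * H.index := by
              rw [H.card_mul_index, ← hi, ← Subgroup.orderOf_coe]
              exact orderOf_dvd_natCard _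
            rw [hi]
            exact ((hcop.coprime_dvd_left hph).pow_left i).dvd_of_dvd_mul_right h1
          rw [← pow_mod_orderOf, ha1.of_dvd hd, pow_mod_orderOf, pow_one]
        · right
          rintro u ⟨i, hi⟩
          rw [← orderOf_dvd_iff_pow_eq_one, hi]
          refine Nat.dvd_trans ?_ ha0
          have h1 : p ^ i ∣ Nat.card H * H.index := by
            rw [H.card_mul_index, ← hi, ← Subgroup.orderOf_coe]
            exact orderOf_dvd_natCard _
          exact ((hp.coprime_iff_not_dvd.mpr hph).pow_left i).dvd_of_dvd_mul_left h1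
      obtain ⟨f, hf⟩ := exists_powHom hE (fun u hu => hpow.imp (fun h => h u hu) (fun h => h u hu)) hpow
      let F : E →* G := E.subtype.comp f
      have hFdvd : Nat.card F.range ∣ Nat.card H := by
        have h1 : Nat.Coprime (Nat.card F.range) H.index := by
          refine Nat.coprime_of_dvd fun q hq hq1 hq2 => ?_
          haveI := Fact.mk hq
          obtain ⟨z, hz⟩ := exists_prime_orderOf_dvd_card' q hq1
          obtain ⟨e, he⟩ := z.2
          have hz' : orderOf (z : G) = q := by rw [Subgroup.orderOf_coe, hz]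
          have h2 : q ∣ Nat.card H := by
            rw [← hz', ← he]
            show orderOf ((f e : E) : G) ∣ _
            rw [hf, SubgroupClass.coe_pow]
            exact hord _
          exact hq.one_lt.ne' (Nat.eq_one_of_dvd_coprimes hcop h2 hq2)
        refine h1.dvd_of_dvd_mul_right ?_
        rw [H.card_mul_index]
        exact Subgroup.card_subgroup_dvd_card _
      obtain ⟨g, hg⟩ := helem F.range p hp (isElementary_range hp hE F) hFdvd
      let j : E →* H :=
        { toFun := fun e => ⟨g * F e * g⁻¹, hg _ ⟨e, rfl⟩⟩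
          map_one' := by ext; simp
          map_mul' := fun u v => by ext; simp [mul_assoc] }
      have heq : (fun e : E => θ (r e)) = fun e => θ (j e) := funext fun e =>
        hclass θ (IsCharacter.isClassFunction hθc) _ _ ((hr _).symm.trans (isConj_iff.mpr ⟨g, by
          show g * ((e : G) ^ a) * g⁻¹ = g * ((f e : E) : G) * g⁻¹
          rw [hf, SubgroupClass.coe_pow]⟩))
      rw [heq]
      exact IsCharacter.isGeneralized (isCharacter_comp hθc j)
    have hnorm : classInner (fun g => θ (r g)) (fun g => θ (r g)) = 1 := by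
      have h1 := hsum (fun y => θ y * conj (θ y)) fun y u => by
        simp only [IsCharacter.isClassFunction hθc y u]
      simp only [hexact, ← Finset.mul_sum] at h1
      have h2 := IsIrrCharacter.classInner_self hθ
      rw [classInner] at h2 ⊢
      rw [h1, ← H.card_mul_index, Nat.cast_mul, mul_inv, mul_assoc, ← mul_assoc (H.index : ℂ)⁻¹,
        inv_mul_cancel₀ (Nat.cast_ne_zero.mpr Subgroup.index_ne_zero_of_finite), one_mul, h2]
    rcases IsGeneralizedCharacter.irr_or_neg hgen hnorm with h | h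
    · exact h
    · exfalso
      obtain ⟨d, hd0, hd⟩ := IsIrrCharacter.degree_pos h
      obtain ⟨d', hd0', hd'⟩ := IsIrrCharacter.degree_pos hθ
      simp only [Pi.neg_apply] at hd
      have hr1 : r 1 = 1 := by
        have h1 := hr 1
        rw [one_pow, isConj_one_right] at h1
        exact Subtype.ext h1
      rw [hr1, hd'] at hd
      have h2 : (d : ℂ) + (d' : ℂ) = 0 := by rw [← hd, neg_add_cancel]
      have : d + d' = 0 := by exact_mod_cast h2
      omega
  have hr1 : r 1 = 1 := by
    have h1 := hr 1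
    rw [one_pow, isConj_one_right] at h1
    exact Subtype.ext h1
  have hkey : ∀ g : G, g ^ a = 1 ↔ r g = 1 := fun g => by
    constructor
    · intro h
      have h1 := hr g
      rw [h, isConj_one_right] at h1
      exact Subtype.ext h1
    · intro h
      have h1 := hr g
      rw [h, OneMemClass.coe_one, isConj_one_left] at h1
      exact h1
  let K : Subgroup G :=
    { carrier := {g | g ^ a = 1}
      one_mem' := one_pow a
      inv_mem' := fun {g} (hg : g ^ a = 1) => show (g⁻¹) ^ a = 1 by rw [inv_pow, hg, inv_one]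
      mul_mem' := fun {g g'} (hg : g ^ a = 1) (hg' : g' ^ a = 1) => show (g * g') ^ a = 1 by
        rw [hkey] at hg hg' ⊢
        refine isConj_one_right.mp (((isConj_iff_irr _ _).mpr fun θ => ?_))
        have hi := IsIrrCharacter.isCharacter (hext θ θ.2)
        have h1 := (IsCharacter.apply_mul_of_eq_one hi (a := g)
          (show (θ : H → ℂ) (r g) = (θ : H → ℂ) (r 1) by rw [hg, hr1]) g').1
        simp only [hg'] at h1
        exact h1.symm }
  have hKn : K.Normal := ⟨fun g (hg : g ^ a = 1) x => show (x * g * x⁻¹) ^ a = 1 by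
    rw [conj_pow, hg, mul_one, mul_inv_cancel]⟩
  haveI := hKn
  have hKH : K ⊓ H = ⊥ := by
    rw [eq_bot_iff]
    rintro z ⟨hz : z ^ a = 1, hzH⟩
    rw [← pow_mod_orderOf, ha1.of_dvd (Subgroup.orderOf_dvd_natCard H hzH), pow_mod_orderOf,
      pow_one] at hz
    exact Subgroup.mem_bot.mpr hz
  have hKcard : H.index ≤ Nat.card K := by
    haveI : Nonempty {g : G // g ^ a = (((1 : H) : G))} := ⟨⟨1, by simp⟩⟩
    have h1 := hexact 1
    have h2 : cG 1 = 1 := by
      simp only [cG, OneMemClass.coe_one]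
      haveI : Unique {z : G // IsConj (1 : G) z} :=
        ⟨⟨⟨1, IsConj.refl 1⟩⟩, fun z => Subtype.ext (isConj_one_right.mp z.2)⟩
      exact Nat.card_unique
    have h3 : cH 1 = 1 := by
      simp only [cH, OneMemClass.coe_one]
      haveI : Unique {z : H // IsConj (1 : G) (z : G)} :=
        ⟨⟨⟨1, IsConj.refl 1⟩⟩, fun z => Subtype.ext (Subtype.ext (isConj_one_right.mp z.2))⟩
      exact Nat.card_unique
    rw [h2, h3, one_mul, Nat.cast_one, div_one, Nat.cast_inj] at h1
    rw [← h1]
    exact le_of_eq (Nat.card_congr (Equiv.subtypeEquivRight fun g => by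
      show g ^ a = _ ↔ g ^ a = 1
      rw [OneMemClass.coe_one]))
  refine ⟨K, hKn, ?_, hKH⟩
  rw [← Subgroup.index_eq_one]
  have hinj : Function.Injective fun z : K × H => (⟨(z.1 : G) * z.2,
      Subgroup.mul_mem_sup z.1.2 z.2.2⟩ : ↥(K ⊔ H)) := by
    intro u v h
    have h1 := Subgroup.mul_injective_of_disjoint (disjoint_iff.mpr hKH)
      (congrArg Subtype.val h :)
    exact h1
  have h1 : Nat.card K * Nat.card H ≤ Nat.card ↥(K ⊔ H) := by
    rw [← Nat.card_prod]; exact Nat.card_le_card_of_injective _ hinj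
  have h2 : Nat.card G ≤ Nat.card ↥(K ⊔ H) := by
    rw [← H.card_mul_index, mul_comm]
    exact (Nat.mul_le_mul_right _ hKcard).trans h1
  exact Subgroup.index_eq_one.mpr (Subgroup.eq_top_of_card_eq _
    (le_antisymm (Subgroup.card_le_card_group _) h2))

end Cfsg.Agent.Char.HallBS
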