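import Cfsg.Agent.Lib.Char.HeckeMat
import Cfsg.Agent.Lib.Char.Orthogonality
import Cfsg.Prelude.Def_Perm
import Mathlib.GroupTheory.GroupAction.Quotient
import Mathlib.LinearAlgebra.Matrix.DotProduct
import Mathlib.LinearAlgebra.Trace

/-!
The centraliser algebra of a permutation representation and the multiplicities of the
constituents of the permutation character.
-/

set_option autoImplicit false
set_option linter.style.haveILetI false

namespace Cfsg.Agent.CentRing

open Cfsg Cfsg.Agent.Char Module
open scoped ComplexConjugate Matrix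

variable (G : Type*) [Group G] (Ω : Type*) [MulAction G Ω]

/-- The permutation character. -/
noncomputable def pc : G → ℂ := fun g => (Nat.card (MulAction.fixedBy Ω g) : ℂ)

variable [Fintype G]

/-- The multiplicity of a function in the permutation character. -/
noncomputable def mult (χ : G → ℂ) : ℂ := classInner (pc G Ω) χ

open Classical in
/-- The operator of a function on the group, as a matrix. -/
noncomputable def opMat (f : G → ℂ) : Matrix Ω Ω ℂ :=
  Matrix.of fun a b => ∑ h ∈ Finset.univ.filter (fun h : G => h • b = a), f h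

/-- A matrix invariant under the group. -/
def Invar (A : Matrix Ω Ω ℂ) : Prop := ∀ (g : G) (a b : Ω), A (g • a) (g • b) = A a b

/-- The invariant matrices. -/
def commSub : Submodule ℂ (Matrix Ω Ω ℂ) where
  carrier := {A | Invar G Ω A}
  add_mem' := fun hA hB g a b => by simp [hA g a b, hB g a b]
  zero_mem' := fun g a b => rfl
  smul_mem' := fun c A hA g a b => by simp [hA g a b]

variable {G Ω}

omit [Fintype G] in
theorem mem_commSub {A : Matrix Ω Ω ℂ} : A ∈ commSub G Ω ↔ Invar G Ω A := Iff.rfl

/-- The function attached to an irreducible character. -/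
def dualFun (χ : G → ℂ) : G → ℂ := fun h => χ h⁻¹

theorem invar_opMat {f : G → ℂ} (hf : IsClassFunction G f) : Invar G Ω (opMat G Ω f) := by
  classical
  intro g a b
  simp only [opMat, Matrix.of_apply]
  refine Finset.sum_equiv (MulAut.conj g⁻¹).toEquiv (fun h => ?_) fun h _ => ?_
  · simp [mul_smul, inv_smul_eq_iff]
  · simpa using (hf h g⁻¹).symm

theorem isClassFunction_dualFun {χ : G → ℂ} (hχ : IsClassFunction G χ) : IsClassFunction G (dualFun χ) := by
  intro g h
  simp only [dualFun]
  rw [show (h * g * h⁻¹)⁻¹ = h * g⁻¹ * h⁻¹ by simp [mul_assoc]]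
  exact hχ g⁻¹ h

variable [Fintype Ω]

/-- Invariant matrices commute with the operators of functions. -/
theorem opMat_comm {A : Matrix Ω Ω ℂ} (hA : Invar G Ω A) (f : G → ℂ) :
    opMat G Ω f * A = A * opMat G Ω f := by
  classical
  ext a b
  simp only [Matrix.mul_apply, opMat, Matrix.of_apply, Finset.sum_mul, Finset.mul_sum, Finset.sum_filter, ite_mul, zero_mul,
    mul_ite, mul_zero]
  rw [Finset.sum_comm, Finset.sum_comm (s := (Finset.univ : Finset Ω))]
  refine Finset.sum_congr rfl fun h _ => ?_
  rw [Finset.sum_eq_single (h⁻¹ • a) (fun x _ hx => if_neg fun e => hx (by rw [← e, inv_smul_smul]))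
      (fun hx => absurd (Finset.mem_univ _) hx),
    Finset.sum_eq_single (h • b) (fun x _ hx => if_neg fun e => hx e.symm)
      (fun hx => absurd (Finset.mem_univ _) hx),
    if_pos (smul_inv_smul h a), if_pos rfl, mul_comm]
  congr 1
  have := hA h (h⁻¹ • a) b
  rw [smul_inv_smul] at this
  exact this.symm

theorem pc_eq_sum (g : G) [DecidableEq Ω] : pc G Ω g = ∑ b : Ω, if g • b = b then (1 : ℂ) else 0 := by
  classical
  rw [pc, Finset.sum_boole, Nat.card_eq_fintype_card]
  congr 1
  exact Fintype.card_subtype _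

theorem trace_opMat (f : G → ℂ) : (opMat G Ω f).trace = ∑ h, f h * pc G Ω h := by
  classical
  simp only [Matrix.trace, Matrix.diag_apply, opMat, Matrix.of_apply, Finset.sum_filter]
  rw [Finset.sum_comm]
  refine Finset.sum_congr rfl fun h _ => ?_
  rw [pc_eq_sum, Finset.mul_sum]
  simp

theorem trace_opMat_mul (f f' : G → ℂ) :
    (opMat G Ω f * opMat G Ω f').trace = ∑ c, f' c * ∑ h, f h * pc G Ω (h * c) := by
  classical
  simp only [Matrix.trace, Matrix.diag_apply, Matrix.mul_apply, opMat, Matrix.of_apply, Finset.sum_filter]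
  have h1 : ∀ a : Ω, (∑ x : Ω, (∑ h : G, if h • x = a then f h else 0) * ∑ c : G, if c • a = x then f' c else 0) =
      ∑ c : G, f' c * ∑ h : G, if h • c • a = a then f h else 0 := by
    intro a
    simp only [Finset.mul_sum, mul_ite, mul_zero]
    rw [Finset.sum_comm]
    refine Finset.sum_congr rfl fun c _ => ?_
    rw [Finset.sum_ite_eq, if_pos (Finset.mem_univ _), Finset.sum_mul]
    refine Finset.sum_congr rfl fun h _ => ?_
    split_ifs <;> ring
  simp only [h1]
  rw [Finset.sum_comm]
  refine Finset.sum_congr rfl fun c _ => ?_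
  rw [← Finset.mul_sum, Finset.sum_comm]
  congr 1
  refine Finset.sum_congr rfl fun h _ => ?_
  rw [pc_eq_sum, Finset.mul_sum]
  refine Finset.sum_congr rfl fun a _ => ?_
  rw [mul_smul]
  simp

theorem permRep_character : (permRep ℂ G Ω).character = pc G Ω := by
  classical
  funext g
  rw [pc_eq_sum, Representation.character, LinearMap.trace_eq_matrix_trace ℂ (Pi.basisFun ℂ Ω), Matrix.trace]
  refine Finset.sum_congr rfl fun b _ => ?_
  simp only [Matrix.diag_apply, LinearMap.toMatrix_apply, Pi.basisFun_repr, Pi.basisFun_apply]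
  simp [permRep, Pi.single_apply, inv_smul_eq_iff]
  exact if_congr ⟨fun e => e.symm, fun e => e.symm⟩ rfl rfl

theorem pc_isCharacter : IsCharacter G (pc G Ω) := by
  classical
  exact permRep_character (G := G) (Ω := Ω) ▸ isCharacter_character (permRep ℂ G Ω)

theorem pc_isClassFunction : IsClassFunction G (pc G Ω) := IsCharacter.isClassFunction pc_isCharacter

theorem mult_nat {χ : G → ℂ} (hχ : IsIrrCharacter G χ) : ∃ m : ℕ, mult G Ω χ = m :=
  classInner_natCast_of_isCharacter pc_isCharacter (IsIrrCharacter.isCharacter hχ)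

omit [Fintype Ω] in
theorem conj_pc (g : G) : conj (pc G Ω g) = pc G Ω g := Complex.conj_natCast _

omit [Fintype Ω] in
theorem mult_conj {χ : G → ℂ} (hn : ∃ m : ℕ, mult G Ω χ = m) : mult G Ω (fun g => conj (χ g)) = mult G Ω χ := by
  obtain ⟨m, hm⟩ := hn
  have h : conj (mult G Ω χ) = mult G Ω χ := by rw [hm]; exact Complex.conj_natCast _
  rw [← h, mult, mult, classInner, classInner, map_mul, map_sum, map_inv₀, Complex.conj_natCast]
  congr 1
  exact Finset.sum_congr rfl fun g _ => by rw [map_mul, conj_pc]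

/-- The trace of the operator of a character against a group element. -/
theorem sum_dual_pc {χ : G → ℂ} (hχ : IsIrrCharacter G χ) (c : G) :
    χ 1 * ∑ h, dualFun χ h * pc G Ω (h * c) = (Nat.card G : ℂ) * mult G Ω χ * χ c := by
  classical
  haveI := Fintype.ofFinite (IrrCharacter G)
  have hdec : ∀ x, pc G Ω x = ∑ ψ : IrrCharacter G, classInner (pc G Ω) (ψ : G → ℂ) * (ψ : G → ℂ) x := by
    intro x
    conv_lhs => rw [IsClassFunction.eq_sum (pc_isClassFunction (G := G) (Ω := Ω))]
    simp [Finset.sum_apply]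
  simp only [hdec, Finset.mul_sum]
  rw [Finset.sum_comm, Finset.sum_eq_single (⟨χ, hχ⟩ : IrrCharacter G)]
  · have h := sum_inv_mul_char hχ hχ c
    rw [IsIrrCharacter.classInner_self hχ, mul_one] at h
    rw [show mult G Ω χ = classInner (pc G Ω) χ from rfl,
      show (Nat.card G : ℂ) * classInner (pc G Ω) χ * χ c = classInner (pc G Ω) χ * ((Nat.card G : ℂ) * χ c) by ring, ← h,
      Finset.mul_sum, Finset.mul_sum]
    exact Finset.sum_congr rfl fun x _ => by simp only [dualFun]; ring
  · intro ψ _ hne
    have h := sum_inv_mul_char ψ.2 hχ c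
    rw [IsIrrCharacter.classInner_eq_zero ψ.2 hχ fun e => hne (Subtype.ext e), mul_zero, zero_mul,
      mul_eq_zero] at h
    have h0 := h.resolve_left (IsIrrCharacter.apply_one_ne_zero ψ.2)
    have := congrArg (fun z => χ 1 * classInner (pc G Ω) (ψ : G → ℂ) * z) h0
    rw [mul_zero, Finset.mul_sum] at this
    rw [← this]
    exact Finset.sum_congr rfl fun x _ => by simp only [dualFun]; ring
  · exact fun hx => absurd (Finset.mem_univ _) hx

theorem opMat_eq_zero_of_mult {χ : G → ℂ} (hχ : IsIrrCharacter G χ) (h0 : mult G Ω χ = 0) :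
    opMat G Ω (dualFun χ) = 0 := by
  classical
  have hz : ∀ c, ∑ h, dualFun χ h * pc G Ω (h * c) = 0 := fun c => by
    have := sum_dual_pc (Ω := Ω) hχ c
    rw [h0, mul_zero, zero_mul, mul_eq_zero] at this
    exact this.resolve_left (IsIrrCharacter.apply_one_ne_zero hχ)
  open scoped ComplexOrder in
  rw [← Matrix.trace_mul_conjTranspose_self_eq_zero_iff]
  have hT : (opMat G Ω (dualFun χ))ᴴ = opMat G Ω (fun h => conj (dualFun χ h⁻¹)) := by
    ext a b
    simp only [Matrix.conjTranspose_apply, opMat, Matrix.of_apply, star_sum]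
    refine Finset.sum_equiv (Equiv.inv G) (fun h => ?_) fun h _ => ?_
    · simp only [Finset.mem_filter, Finset.mem_univ, true_and, Equiv.inv_apply]
      exact ⟨fun e => by rw [← e, inv_smul_smul], fun e => by rw [← e, smul_inv_smul]⟩
    · simp
  rw [hT, trace_opMat_mul]
  simp [hz]

theorem sum_coset_eq_zero {χ : G → ℂ} (hχ : IsIrrCharacter G χ) (h0 : mult G Ω χ = 0) (a y : Ω)
    [DecidableEq Ω] : ∑ h ∈ Finset.univ.filter (fun h : G => h • a = y), χ h = 0 := by
  have := congrFun (congrFun (opMat_eq_zero_of_mult (Ω := Ω) hχ h0) a) y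
  simp only [opMat, Matrix.of_apply, Matrix.zero_apply] at this
  rw [← this]
  refine Finset.sum_equiv (Equiv.inv G) (fun h => ?_) fun h _ => ?_
  · simp only [Finset.mem_filter, Finset.mem_univ, true_and, Equiv.inv_apply]
    exact ⟨fun e => by rw [← e, inv_smul_smul], fun e => by rw [← e, smul_inv_smul]⟩
  · simp [dualFun]

/-- The constituents of the permutation character. -/
abbrev Cons (G : Type*) [Group G] [Fintype G] (Ω : Type*) [MulAction G Ω] : Type _ :=
  {χ : IrrCharacter G // mult G Ω (χ : G → ℂ) ≠ 0}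

theorem linearIndependent_opMat :
    LinearIndependent ℂ fun χ : Cons G Ω => opMat G Ω (dualFun ((χ : IrrCharacter G) : G → ℂ)) := by
  classical
  rw [linearIndependent_iff']
  intro s d hd i hi
  have hlin : ∀ c : G, ∑ χ ∈ s, d χ * ∑ h, dualFun ((χ : IrrCharacter G) : G → ℂ) h * pc G Ω (h * c) = 0 := by
    intro c
    have h1 := congrArg (fun M : Matrix Ω Ω ℂ => (M * opMat G Ω (fun x => if x = c then 1 else 0)).trace) hd
    simp only [Finset.sum_mul, Matrix.trace_sum, smul_mul_assoc, Matrix.trace_smul, smul_eq_mul,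
      Matrix.zero_mul, Matrix.trace_zero, trace_opMat_mul] at h1
    simpa using h1
  have hfun : ∑ χ ∈ s, (d χ * ((Nat.card G : ℂ) * mult G Ω ((χ : IrrCharacter G) : G → ℂ) /
      ((χ : IrrCharacter G) : G → ℂ) 1)) • ((χ : IrrCharacter G) : G → ℂ) = 0 := by
    funext c
    refine Eq.trans ?_ (hlin c)
    rw [Finset.sum_apply]
    refine Finset.sum_congr rfl fun χ _ => ?_
    have h := sum_dual_pc (Ω := Ω) χ.1.2 c
    have h1 := IsIrrCharacter.apply_one_ne_zero χ.1.2
    rw [Pi.smul_apply, smul_eq_mul]
    field_simp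
    linear_combination -(d χ) * h
  have h2 := congrArg (fun f => classInner f ((i : IrrCharacter G) : G → ℂ)) hfun
  simp only [classInner_sum_left, classInner_smul_left, classInner_zero_left] at h2
  rw [Finset.sum_eq_single i (fun j _ hj => by
      rw [IsIrrCharacter.classInner_eq_zero j.1.2 i.1.2 fun e => hj (Subtype.ext (Subtype.ext e)), mul_zero])
      (fun h => absurd hi h), IsIrrCharacter.classInner_self i.1.2, mul_one] at h2
  simpa [i.2, IsIrrCharacter.apply_one_ne_zero i.1.2, Nat.card_pos.ne'] using h2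

omit [Fintype G] in
theorem card_fixed_prod (g : G) :
    Nat.card (MulAction.fixedBy (Ω × Ω) g) = Nat.card (MulAction.fixedBy Ω g) ^ 2 := by
  rw [pow_two, ← Nat.card_prod]
  exact Nat.card_congr
    { toFun := fun x => (⟨x.1.1, congrArg Prod.fst x.2⟩, ⟨x.1.2, congrArg Prod.snd x.2⟩)
      invFun := fun x => ⟨(x.1.1, x.2.1), Prod.ext x.1.2 x.2.2⟩
      left_inv := fun x => rfl
      right_inv := fun x => rfl }

/-- The number of orbits on pairs is the norm of the permutation character. -/
theorem card_orbits_prod_eq :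
    (Nat.card (MulAction.orbitRel.Quotient G (Ω × Ω)) : ℂ) = classInner (pc G Ω) (pc G Ω) := by
  classical
  haveI : Fintype (MulAction.orbitRel.Quotient G (Ω × Ω)) := Fintype.ofFinite _
  have h := MulAction.sum_card_fixedBy_eq_card_orbits_mul_card_group G (Ω × Ω)
  have h' := congrArg (fun n : ℕ => (n : ℂ)) h
  simp only [Nat.cast_sum, Nat.cast_mul, ← Nat.card_eq_fintype_card, card_fixed_prod, Nat.cast_pow] at h'
  have e : ∑ g : G, pc G Ω g * conj (pc G Ω g) = ∑ g : G, (Nat.card (MulAction.fixedBy Ω g) : ℂ) ^ 2 :=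
    Finset.sum_congr rfl fun g _ => by rw [conj_pc, pow_two]; rfl
  rw [classInner, e, h']
  field_simp [Nat.cast_ne_zero.mpr Nat.card_pos.ne']

theorem classInner_pc_self [Fintype (IrrCharacter G)] :
    classInner (pc G Ω) (pc G Ω) = ∑ χ : IrrCharacter G, mult G Ω (χ : G → ℂ) ^ 2 := by
  classical
  conv_lhs => arg 1; rw [IsClassFunction.eq_sum (pc_isClassFunction (G := G) (Ω := Ω))]
  rw [classInner_sum_left]
  refine Finset.sum_congr rfl fun χ _ => ?_
  rw [classInner_smul_left, pow_two]
  congr 1
  obtain ⟨m, hm⟩ := mult_nat (Ω := Ω) χ.2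
  rw [← classInner_conj_symm, show classInner (pc G Ω) (χ : G → ℂ) = mult G Ω (χ : G → ℂ) from rfl, hm,
    Complex.conj_natCast]

/-- The dimension of the space of invariant matrices. -/
theorem finrank_commSub : finrank ℂ (commSub G Ω) = Nat.card (MulAction.orbitRel.Quotient G (Ω × Ω)) := by
  classical
  haveI : Fintype (MulAction.orbitRel.Quotient G (Ω × Ω)) := Fintype.ofFinite _
  let e : commSub G Ω ≃ₗ[ℂ] (MulAction.orbitRel.Quotient G (Ω × Ω) → ℂ) :=
    { toFun := fun A q => Quotient.liftOn' q (fun p => A.1 p.1 p.2) (by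
        rintro p p' ⟨g, rfl⟩
        exact A.2 g _ _)
      map_add' := fun A B => funext fun q => by induction q using Quotient.inductionOn' with | _ p => rfl
      map_smul' := fun c A => funext fun q => by induction q using Quotient.inductionOn' with | _ p => rfl
      invFun := fun F => ⟨Matrix.of fun a b => F (Quotient.mk'' (a, b)), fun g a b => by
        simp only [Matrix.of_apply]
        exact congrArg F (Quotient.sound' ⟨g, rfl⟩)⟩
      left_inv := fun A => rfl
      right_inv := fun F => funext fun q => by induction q using Quotient.inductionOn' with | _ p => rfl }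
  rw [e.finrank_eq, Module.finrank_fintype_fun_eq_card, Nat.card_eq_fintype_card]

/-- If the permutation character is multiplicity free, the invariant matrices are spanned by the
operators of the constituents. -/
theorem exists_expansion (hmf : ∀ χ : G → ℂ, IsIrrCharacter G χ → mult G Ω χ = 0 ∨ mult G Ω χ = 1)
    [Fintype (Cons G Ω)] {A : Matrix Ω Ω ℂ} (hA : Invar G Ω A) :
    ∃ d : Cons G Ω → ℂ, ∑ χ, d χ • opMat G Ω (dualFun ((χ : IrrCharacter G) : G → ℂ)) = A := by
  classical
  haveI := Fintype.ofFinite (IrrCharacter G)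
  set S := Submodule.span ℂ (Set.range fun χ : Cons G Ω => opMat G Ω (dualFun ((χ : IrrCharacter G) : G → ℂ))) with hS
  have hle : S ≤ commSub G Ω := Submodule.span_le.2 (Set.range_subset_iff.2 fun χ =>
    invar_opMat (isClassFunction_dualFun (IsCharacter.isClassFunction (IsIrrCharacter.isCharacter χ.1.2))))
  have hSd : finrank ℂ S = Fintype.card (Cons G Ω) := finrank_span_eq_card linearIndependent_opMat
  have hd : (finrank ℂ (commSub G Ω) : ℂ) = (Fintype.card (Cons G Ω) : ℂ) := by
    rw [finrank_commSub, card_orbits_prod_eq, classInner_pc_self, Fintype.card_subtype, Finset.card_eq_sum_ones,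
      Finset.sum_filter, Nat.cast_sum]
    refine Finset.sum_congr rfl fun χ _ => ?_
    rcases hmf _ χ.2 with h | h <;> simp [h]
  have hSeq : S = commSub G Ω := Submodule.eq_of_le_of_finrank_eq hle (by rw [hSd]; exact (Nat.cast_injective hd).symm)
  have : A ∈ S := hSeq ▸ hA
  exact (Submodule.mem_span_range_iff_exists_fun ℂ).1 this

theorem comm_of_multFree (hmf : ∀ χ : G → ℂ, IsIrrCharacter G χ → mult G Ω χ = 0 ∨ mult G Ω χ = 1)
    {A B : Matrix Ω Ω ℂ} (hA : Invar G Ω A) (hB : Invar G Ω B) : A * B = B * A := by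
  classical
  haveI := Fintype.ofFinite (Cons G Ω)
  obtain ⟨d, rfl⟩ := exists_expansion hmf hA
  rw [Finset.sum_mul, Finset.mul_sum]
  exact Finset.sum_congr rfl fun χ _ => by rw [smul_mul_assoc, mul_smul_comm, opMat_comm hB]

omit [Fintype G] in
/-- Linear maps commuting with the permutation representation have invariant matrices. -/
theorem invar_iff_comm [DecidableEq Ω] (T : (Ω → ℂ) →ₗ[ℂ] (Ω → ℂ)) :
    (∀ g, T ∘ₗ permRep ℂ G Ω g = permRep ℂ G Ω g ∘ₗ T) ↔ Invar G Ω (LinearMap.toMatrix' T) := by
  have hp : ∀ (g : G) (b : Ω), permRep ℂ G Ω g (Pi.single b 1) = Pi.single (g • b) 1 := by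
    intro g b
    funext x
    simp [permRep, Pi.single_apply, inv_smul_eq_iff]
  constructor
  · intro h g a b
    have h1 := congrFun (LinearMap.congr_fun (h g) (Pi.single b 1)) (g • a)
    simp only [LinearMap.comp_apply, hp] at h1
    simp only [LinearMap.toMatrix'_apply]
    rw [h1]
    simp [permRep]
  · intro h g
    refine (Pi.basisFun ℂ Ω).ext fun b => funext fun a => ?_
    simp only [Pi.basisFun_apply, LinearMap.comp_apply, hp]
    have h1 := h g (g⁻¹ • a) b
    simp only [LinearMap.toMatrix'_apply, smul_inv_smul] at h1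
    rw [h1]
    rfl

/-- A commutative centraliser algebra forces multiplicity freeness. -/
theorem multFree_of_comm (hc : ∀ A B : Matrix Ω Ω ℂ, Invar G Ω A → Invar G Ω B → A * B = B * A)
    {χ : G → ℂ} (hχ : IsIrrCharacter G χ) : mult G Ω χ = 0 ∨ mult G Ω χ = 1 := by
  classical
  obtain ⟨m, hm⟩ := mult_nat (Ω := Ω) hχ
  rcases lt_or_ge m 2 with h2 | h2
  · interval_cases m <;> simp [hm]
  exfalso
  have hχ' := hχ
  obtain ⟨n, ρ, hρ, rfl⟩ := hχ'
  haveI := hρ
  haveI := nontrivial_of_irreducible ρ
  have hchar := permRep_character (G := G) (Ω := Ω)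
  have hrk : finrank ℂ (Representation.IntertwiningMap ρ (permRep ℂ G Ω)) = m := by
    have := classInner_character_eq_finrank ρ (permRep ℂ G Ω)
    rw [hchar, show classInner (pc G Ω) ρ.character = mult G Ω ρ.character from rfl, hm] at this
    exact (Nat.cast_injective this).symm
  -- a non-zero embedding and an equivariant retraction
  haveI : Nontrivial (Representation.IntertwiningMap ρ (permRep ℂ G Ω)) :=
    nontrivial_of_finrank_pos (R := ℂ) (by omega)
  obtain ⟨f₁, hf₁⟩ := exists_ne (0 : Representation.IntertwiningMap ρ (permRep ℂ G Ω))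
  have hcomm : ∀ (f : Representation.IntertwiningMap ρ (permRep ℂ G Ω)) (g : G) (v : Fin n → ℂ),
      f.toLinearMap (ρ g v) = permRep ℂ G Ω g (f.toLinearMap v) := fun f g v =>
    LinearMap.congr_fun (f.isIntertwining' g) v
  have hinj : LinearMap.ker f₁.toLinearMap = ⊥ := by
    let K : Subrepresentation ρ :=
      { toSubmodule := LinearMap.ker f₁.toLinearMap
        apply_mem_toSubmodule := fun g v hv => by
          rw [LinearMap.mem_ker] at hv ⊢
          rw [hcomm, hv, map_zero] }
    rcases IsSimpleOrder.eq_bot_or_eq_top K with h | h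
    · exact congrArg Subrepresentation.toSubmodule h
    · exfalso
      apply hf₁
      apply Representation.IntertwiningMap.ext
      refine LinearMap.ext fun v => ?_
      have : v ∈ K.toSubmodule := h ▸ Submodule.mem_top
      exact LinearMap.mem_ker.1 this
  obtain ⟨p₀, hp₀⟩ := LinearMap.exists_leftInverse_of_injective f₁.toLinearMap hinj
  have hG : (Fintype.card G : ℂ) ≠ 0 := Nat.cast_ne_zero.mpr Fintype.card_ne_zero
  let p : (Ω → ℂ) →ₗ[ℂ] (Fin n → ℂ) :=
    (Fintype.card G : ℂ)⁻¹ • ∑ g, ρ g ∘ₗ p₀ ∘ₗ permRep ℂ G Ω g⁻¹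
  have hpcomm : ∀ g v, p (permRep ℂ G Ω g v) = ρ g (p v) := by
    intro g v
    simp only [p, LinearMap.smul_apply, LinearMap.coe_sum, Finset.sum_apply, LinearMap.comp_apply, map_smul, map_sum]
    congr 1
    refine Fintype.sum_equiv (Equiv.mulLeft g⁻¹) _ _ fun x => ?_
    rw [Equiv.coe_mulLeft, mul_inv_rev, inv_inv, map_mul, map_mul, Module.End.mul_apply,
      Module.End.mul_apply, ← Module.End.mul_apply (ρ g) (ρ g⁻¹), ← map_mul, mul_inv_cancel, map_one,
      Module.End.one_apply]
  have hpf : ∀ v, p (f₁.toLinearMap v) = v := by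
    intro v
    simp only [p, LinearMap.smul_apply, LinearMap.coe_sum, Finset.sum_apply, LinearMap.comp_apply]
    have h1 : ∀ g : G, ρ g (p₀ (permRep ℂ G Ω g⁻¹ (f₁.toLinearMap v))) = v := fun g => by
      rw [← hcomm, ← LinearMap.comp_apply p₀, hp₀, LinearMap.id_apply, ← Module.End.mul_apply, ← map_mul,
        mul_inv_cancel, map_one, Module.End.one_apply]
    rw [Finset.sum_congr rfl fun g _ => h1 g, Finset.sum_const, Finset.card_univ, ← Nat.cast_smul_eq_nsmul ℂ,
      smul_smul, inv_mul_cancel₀ hG, one_smul]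
  -- a second map killed by the retraction
  obtain ⟨f₂', hf₂'⟩ : ∃ f, f ∉ Submodule.span ℂ {f₁} := by
    by_contra hall
    push Not at hall
    have := finrank_span_singleton (K := ℂ) hf₁
    rw [show Submodule.span ℂ {f₁} = ⊤ from eq_top_iff.2 fun x _ => hall x, finrank_top, hrk] at this
    omega
  let T : Representation.IntertwiningMap ρ ρ := ⟨p ∘ₗ f₂'.toLinearMap, fun g => LinearMap.ext fun v => by
    simp only [LinearMap.comp_apply]
    rw [hcomm, hpcomm]⟩
  obtain ⟨c, hcT⟩ := (Representation.IsIrreducible.algebraMap_intertwiningMap_bijective_of_isAlgClosed (ρ := ρ)).2 T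
  have hTv : ∀ v, p (f₂'.toLinearMap v) = c • v := by
    intro v
    have := congrArg Representation.IntertwiningMap.toLinearMap hcT
    rw [show p (f₂'.toLinearMap v) = T.toLinearMap v from rfl, ← this, Algebra.algebraMap_eq_smul_one]
    rfl
  set f₂ := f₂' - c • f₁ with hf₂
  have hf₂0 : f₂ ≠ 0 := fun e => hf₂' (Submodule.mem_span_singleton.2 ⟨c, (sub_eq_zero.1 e).symm⟩)
  have hpf₂ : ∀ v, p (f₂.toLinearMap v) = 0 := by
    intro v
    have e : f₂.toLinearMap v = f₂'.toLinearMap v - c • f₁.toLinearMap v := rfl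
    rw [e, map_sub, map_smul, hTv, hpf, sub_self]
  have hinv : ∀ f : Representation.IntertwiningMap ρ (permRep ℂ G Ω),
      Invar G Ω (LinearMap.toMatrix' (f.toLinearMap ∘ₗ p)) := fun f =>
    (invar_iff_comm _).1 fun g => LinearMap.ext fun v => by
      simp only [LinearMap.comp_apply]
      rw [hpcomm, hcomm]
  have hST := hc _ _ (hinv f₁) (hinv f₂)
  rw [← LinearMap.toMatrix'_comp, ← LinearMap.toMatrix'_comp] at hST
  have hST' := LinearMap.toMatrix'.injective hST
  apply hf₂0
  apply Representation.IntertwiningMap.ext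
  refine LinearMap.ext fun v => ?_
  have := LinearMap.congr_fun hST' (f₁.toLinearMap v)
  simp only [LinearMap.comp_apply, hpf, hpf₂, map_zero] at this
  exact this.symm

end Cfsg.Agent.CentRing
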