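import Cfsg.Agent.Lib.Char.Centralizer
import Cfsg.Agent.Lib.Char.Integral

/-!
Subdegrees of a transitive group and the degrees of the constituents of its permutation
character.
-/

set_option autoImplicit false
set_option linter.style.haveILetI false

namespace Cfsg.Agent.CentRing

open Cfsg Cfsg.Agent.Char MulAction
open scoped ComplexConjugate

variable {G : Type*} [Group G] [Fintype G] {Ω : Type*} [Fintype Ω] [MulAction G Ω] [IsPretransitive G Ω]

theorem mult_one (a : Ω) : mult G Ω (fun _ => 1) = 1 := by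
  classical
  haveI : Nonempty Ω := ⟨a⟩
  haveI : Fintype (orbitRel.Quotient G Ω) := Fintype.ofFinite _
  haveI : Subsingleton (orbitRel.Quotient G Ω) :=
    ⟨fun x y => Quotient.inductionOn₂' x y fun u v => Quotient.sound' (exists_smul_eq G v u)⟩
  have hcard : Fintype.card (orbitRel.Quotient G Ω) = 1 :=
    Fintype.card_eq_one_iff.2 ⟨Quotient.mk'' a, fun y => Subsingleton.elim _ _⟩
  have h := sum_card_fixedBy_eq_card_orbits_mul_card_group G Ω
  rw [hcard, one_mul] at h
  have h' := congrArg (fun n : ℕ => (n : ℂ)) h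
  simp only [Nat.cast_sum, ← Nat.card_eq_fintype_card] at h'
  rw [mult, classInner]
  simp only [map_one, mul_one]
  rw [show (∑ g : G, pc G Ω g) = (Nat.card G : ℂ) from h', inv_mul_cancel₀]
  exact Nat.cast_ne_zero.mpr Nat.card_pos.ne'

/-- Orbits on pairs correspond to the orbits of a point stabiliser. -/
theorem card_orbits_prod_stabilizer (a : Ω) :
    Nat.card (orbitRel.Quotient G (Ω × Ω)) = Nat.card (orbitRel.Quotient (stabilizer G a) Ω) := by
  symm
  refine Nat.card_eq_of_bijective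
    (fun q : orbitRel.Quotient (stabilizer G a) Ω => Quotient.liftOn' q
      (fun b => (Quotient.mk'' (a, b) : orbitRel.Quotient G (Ω × Ω)))
      (fun b c ⟨u, hu⟩ => Quotient.sound' ⟨(u : G), Prod.ext u.2 hu⟩)) ⟨?_, ?_⟩
  · intro x y
    induction x using Quotient.inductionOn' with | _ b =>
    induction y using Quotient.inductionOn' with | _ c =>
    intro h
    obtain ⟨g, hg⟩ := Quotient.exact' h
    exact Quotient.sound' ⟨⟨g, congrArg Prod.fst hg⟩, congrArg Prod.snd hg⟩
  · intro z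
    induction z using Quotient.inductionOn' with | _ p =>
    obtain ⟨g, hg⟩ := exists_smul_eq G p.1 a
    exact ⟨Quotient.mk'' (g • p.2), Quotient.sound' ⟨g, Prod.ext hg rfl⟩⟩

/-- A number dividing the degrees of all non-principal constituents divides every non-trivial
subdegree. -/
theorem dvd_subdegree (f : ℕ)
    (hf : ∀ χ : G → ℂ, IsIrrCharacter G χ → χ ≠ (fun _ => 1) → mult G Ω χ ≠ 0 → ∃ m : ℕ, χ 1 = (f : ℂ) * m)
    (a b : Ω) (hab : b ≠ a) : f ∣ Nat.card (orbit (stabilizer G a) b) := by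
  classical
  haveI := Fintype.ofFinite (IrrCharacter G)
  set U := stabilizer G a with hU
  haveI : Fintype (G ⧸ U) := Fintype.ofFinite _
  let q : G ⧸ U → Ω := ofQuotientStabilizer G a
  let A₀ : Matrix (G ⧸ U) (G ⧸ U) ℤ :=
    Matrix.of fun y z => if ∃ g : G, g • a = q y ∧ g • b = q z then 1 else 0
  have hqs : ∀ (k : G) (y : G ⧸ U), q (k • y) = k • q y := fun k y => ofQuotientStabilizer_smul G a k y
  have hq1 : ∀ x : G, q (x : G ⧸ U) = x • a := fun x => rfl
  have hA₀ : IsInv U A₀ := fun k y z => by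
    simp only [A₀, Matrix.of_apply, hqs]
    refine if_congr ⟨?_, ?_⟩ rfl rfl
    · rintro ⟨g, h1, h2⟩
      exact ⟨k⁻¹ * g, by rw [mul_smul, h1, inv_smul_smul], by rw [mul_smul, h2, inv_smul_smul]⟩
    · rintro ⟨g, h1, h2⟩
      exact ⟨k * g, by rw [mul_smul, h1], by rw [mul_smul, h2]⟩
  let P : Ω → Prop := fun y => y ∈ orbit U b
  have hmval : ∀ x : G, mval U (A₀.map (Int.castRingHom ℂ)) x = if P (x • a) then 1 else 0 := by
    intro x
    simp only [mval, Matrix.map_apply, A₀, Matrix.of_apply, hq1, one_smul]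
    have : (∃ g : G, g • a = a ∧ g • b = x • a) ↔ P (x • a) :=
      ⟨fun ⟨g, h1, h2⟩ => ⟨⟨g, h1⟩, h2⟩, fun ⟨g, h2⟩ => ⟨g.1, g.2, h2⟩⟩
    by_cases h : P (x • a)
    · rw [if_pos h, if_pos (this.2 h), map_one]
    · rw [if_neg h, if_neg (this.not.2 h), map_zero]
  let θ : (G → ℂ) → ℂ := fun χ => theta U χ (A₀.map (Int.castRingHom ℂ))
  have hUc : (Nat.card U : ℂ) ≠ 0 := Nat.cast_ne_zero.mpr Nat.card_pos.ne'
  have hθ : ∀ χ, θ χ = (Nat.card U : ℂ)⁻¹ * ∑ x : G, (if P (x • a) then 1 else 0) * χ x := fun χ => by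
    simp only [θ, theta, hmval]
  have hint : ∀ χ, IsIrrCharacter G χ → IsIntegral ℤ (θ χ) := fun χ hχ => theta_isIntegral hχ A₀ hA₀
  have hreg : ∑ χ : IrrCharacter G, (χ : G → ℂ) 1 * θ χ = 0 := by
    simp only [hθ, Finset.mul_sum]
    rw [Finset.sum_comm]
    refine Finset.sum_eq_zero fun x _ => ?_
    by_cases hP : P (x • a)
    · have hx : x ≠ 1 := by
        rintro rfl
        obtain ⟨u, hu⟩ := hP
        rw [one_smul] at hu
        exact hab (MulAction.injective u (hu.trans (u.2 : (u : G) • a = a).symm))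
      have := congrArg (fun z => (Nat.card U : ℂ)⁻¹ * z) (regular_eq x)
      simp only [if_neg hx, mul_zero, Finset.mul_sum] at this
      rw [← this]
      exact Finset.sum_congr rfl fun χ _ => by rw [if_pos hP]; ring
    · exact Finset.sum_eq_zero fun χ _ => by rw [if_neg hP]; ring
  have hzero : ∀ χ, IsIrrCharacter G χ → mult G Ω χ = 0 → θ χ = 0 := by
    intro χ hχ h0
    rw [hθ, ← Finset.sum_fiberwise Finset.univ (fun x : G => x • a)]
    rw [Finset.sum_eq_zero fun y _ => ?_, mul_zero]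
    rw [Finset.sum_congr rfl fun x hx => show (if P (x • a) then (1 : ℂ) else 0) * χ x = (if P y then 1 else 0) * χ x by
      rw [(Finset.mem_filter.1 hx).2], ← Finset.mul_sum, sum_coset_eq_zero hχ h0 a y, mul_zero]
  have hone : θ (fun _ => 1) = (Nat.card (orbit U b) : ℂ) := by
    rw [hθ, ← Finset.sum_fiberwise Finset.univ (fun x : G => x • a)]
    have hfib : ∀ y : Ω, (∑ x ∈ Finset.univ.filter (fun x : G => x • a = y), (if P (x • a) then (1 : ℂ) else 0) * 1) =
        if P y then (Nat.card U : ℂ) else 0 := by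
      intro y
      obtain ⟨g, rfl⟩ := exists_smul_eq G a y
      rw [Finset.sum_congr rfl fun x hx => show (if P (x • a) then (1 : ℂ) else 0) * 1 = if P (g • a) then 1 else 0 by
        rw [(Finset.mem_filter.1 hx).2, mul_one], Finset.sum_const, nsmul_eq_mul]
      split_ifs
      · rw [mul_one, Nat.card_eq_fintype_card, ← Fintype.card_subtype]
        congr 1
        exact Fintype.card_congr
          { toFun := fun x => ⟨g⁻¹ * x.1, by
              show (g⁻¹ * x.1) • a = a
              rw [mul_smul, x.2, inv_smul_smul]⟩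
            invFun := fun u => ⟨g * u.1, by rw [mul_smul, (u.2 : u.1 • a = a)]⟩
            left_inv := fun x => Subtype.ext (mul_inv_cancel_left _ _)
            right_inv := fun u => Subtype.ext (inv_mul_cancel_left _ _) }
      · rw [mul_zero]
    simp only [hfib, ← Finset.sum_filter, Finset.sum_const, nsmul_eq_mul]
    rw [← Fintype.card_subtype, ← Nat.card_eq_fintype_card, mul_comm, mul_assoc, mul_inv_cancel₀ hUc, mul_one]
  -- split off the principal character
  let one : IrrCharacter G := ⟨(1 : G → ℂ), isIrrCharacter_one⟩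
  rw [← Finset.add_sum_erase _ _ (Finset.mem_univ one), show ((one : G → ℂ) 1) = 1 from rfl, one_mul,
    show θ (one : G → ℂ) = (Nat.card (orbit U b) : ℂ) from hone] at hreg
  have hdeg : ∀ χ : IrrCharacter G, χ ∈ Finset.univ.erase one →
      ∃ z : ℂ, IsIntegral ℤ z ∧ (χ : G → ℂ) 1 * θ χ = f * z := by
    intro χ hχ
    by_cases h0 : mult G Ω (χ : G → ℂ) = 0
    · exact ⟨0, isIntegral_zero, by rw [hzero _ χ.2 h0, mul_zero, mul_zero]⟩
    · obtain ⟨m, hm⟩ := hf _ χ.2 (fun e => (Finset.mem_erase.1 hχ).1 (Subtype.ext e)) h0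
      exact ⟨m * θ χ, (isIntegral_algebraMap (R := ℤ) (A := ℂ) (x := (m : ℤ))).mul (hint _ χ.2) |> fun h => by simpa using h,
        by rw [hm, mul_assoc]⟩
  choose! z hz1 hz2 using hdeg
  rw [Finset.sum_congr rfl hz2, ← Finset.mul_sum] at hreg
  rcases Nat.eq_zero_or_pos f with rfl | hfpos
  · rw [Nat.cast_zero, zero_mul, add_zero] at hreg
    rw [Nat.cast_eq_zero.1 hreg]
  · apply nat_dvd_of_isIntegral_div hfpos.ne'
    have hf0 : (f : ℂ) ≠ 0 := Nat.cast_ne_zero.mpr hfpos.ne'
    have e : (Nat.card (orbit U b) : ℂ) / f = -∑ x ∈ Finset.univ.erase one, z x := by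
      field_simp
      linear_combination hreg
    rw [e]
    exact (IsIntegral.sum _ hz1).neg

/-- If all non-principal constituents have the same degree, the character is multiplicity free and
all non-trivial subdegrees are equal to it. -/
theorem multFree_of_equal_degrees (a : Ω) (f : ℕ)
    (hf : ∀ χ : G → ℂ, IsIrrCharacter G χ → χ ≠ (fun _ => 1) → mult G Ω χ ≠ 0 → χ 1 = f) :
    (∀ χ : G → ℂ, IsIrrCharacter G χ → mult G Ω χ = 0 ∨ mult G Ω χ = 1) ∧
      ∀ b : Ω, b ≠ a → Nat.card (orbit (stabilizer G a) b) = f := by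
  classical
  haveI := Fintype.ofFinite (IrrCharacter G)
  set U := stabilizer G a with hU
  haveI : Fintype (orbitRel.Quotient U Ω) := Fintype.ofFinite _
  let one : IrrCharacter G := ⟨(1 : G → ℂ), isIrrCharacter_one⟩
  choose m hm using fun χ : IrrCharacter G => mult_nat (G := G) (Ω := Ω) χ.2
  have hm1 : m one = 1 := by
    have := (hm one).symm.trans (mult_one (G := G) (Ω := Ω) a)
    exact_mod_cast this
  -- degree
  have hn : Fintype.card Ω = 1 + f * ∑ χ ∈ Finset.univ.erase one, m χ := by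
    have h1 : pc G Ω 1 = ∑ χ : IrrCharacter G, mult G Ω (χ : G → ℂ) * (χ : G → ℂ) 1 := by
      conv_lhs => rw [IsClassFunction.eq_sum (pc_isClassFunction (G := G) (Ω := Ω))]
      simp [Finset.sum_apply, mult]
    have h2 : pc G Ω 1 = (Fintype.card Ω : ℂ) := by
      rw [pc, ← Nat.card_eq_fintype_card]
      congr 1
      exact Nat.card_congr (Equiv.subtypeUnivEquiv fun x => one_smul G x)
    rw [h2, ← Finset.add_sum_erase _ _ (Finset.mem_univ one), hm one, hm1,
      show ((one : G → ℂ) 1) = 1 from rfl] at h1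
    have h3 : ∀ χ ∈ Finset.univ.erase one, mult G Ω (χ : G → ℂ) * (χ : G → ℂ) 1 = ((f * m χ : ℕ) : ℂ) := by
      intro χ hχ
      by_cases h0 : mult G Ω (χ : G → ℂ) = 0
      · have : m χ = 0 := by rw [hm χ] at h0; exact_mod_cast h0
        rw [h0, this, mul_zero, Nat.cast_zero, zero_mul]
      · rw [hf _ χ.2 (fun e => (Finset.mem_erase.1 hχ).1 (Subtype.ext e)) h0, hm χ, Nat.cast_mul, mul_comm]
    rw [Finset.sum_congr rfl h3, ← Nat.cast_sum, ← Finset.mul_sum, Nat.cast_one, one_mul] at h1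
    exact_mod_cast h1
  -- rank
  have hr : Nat.card (orbitRel.Quotient U Ω) = 1 + ∑ χ ∈ Finset.univ.erase one, m χ ^ 2 := by
    have h1 := card_orbits_prod_eq (G := G) (Ω := Ω)
    rw [classInner_pc_self, ← Finset.add_sum_erase _ _ (Finset.mem_univ one), hm one, hm1] at h1
    simp only [hm] at h1
    rw [← card_orbits_prod_stabilizer (G := G) a]
    push_cast [one_pow] at h1
    exact_mod_cast h1
  -- orbits of the stabiliser
  let q₀ : orbitRel.Quotient U Ω := Quotient.mk'' a
  let d : orbitRel.Quotient U Ω → ℕ := fun q => Nat.card q.orbit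
  have hsum : Fintype.card Ω = ∑ q, d q := by
    rw [← Nat.card_eq_fintype_card, Nat.card_congr (selfEquivSigmaOrbits' U Ω), Nat.card_sigma]
  have hd0 : d q₀ = 1 := by
    simp only [d, q₀, orbitRel.Quotient.orbit_mk]
    rw [Nat.card_eq_one_iff_unique]
    exact ⟨⟨fun x y => Subtype.ext (by
      obtain ⟨u, hu⟩ := x.2; obtain ⟨v, hv⟩ := y.2
      rw [← hu, ← hv]; exact (u.2 : (u : G) • a = a).trans (v.2 : (v : G) • a = a).symm)⟩, ⟨⟨a, mem_orbit_self a⟩⟩⟩
  have hdd : ∀ q, q ≠ q₀ → f ∣ d q ∧ 1 ≤ d q := by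
    intro q hq
    induction q using Quotient.inductionOn' with
    | _ b =>
      simp only [d, orbitRel.Quotient.orbit_mk]
      have hba : b ≠ a := fun e => hq (by rw [e])
      exact ⟨dvd_subdegree f (fun χ h1 h2 h3 => ⟨1, by rw [hf χ h1 h2 h3, Nat.cast_one, mul_one]⟩) a b hba,
        by haveI : Nonempty (orbit U b) := ⟨⟨b, mem_orbit_self b⟩⟩; exact Nat.one_le_iff_ne_zero.2 Nat.card_pos.ne'⟩
  rw [hsum, ← Finset.add_sum_erase _ _ (Finset.mem_univ q₀), hd0] at hn
  rw [Nat.card_eq_fintype_card, ← Finset.card_univ, ← Finset.card_erase_add_one (Finset.mem_univ q₀)] at hr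
  have hge : ∀ q ∈ Finset.univ.erase q₀, f ≤ d q := fun q hq =>
    Nat.le_of_dvd (hdd q (Finset.mem_erase.1 hq).1).2 (hdd q (Finset.mem_erase.1 hq).1).1
  have hle := Finset.sum_le_sum hge
  rw [Finset.sum_const, smul_eq_mul] at hle
  have hsq : ∀ χ ∈ Finset.univ.erase one, m χ ≤ m χ ^ 2 := fun χ _ => Nat.le_self_pow two_ne_zero _
  have hsq' := Finset.sum_le_sum hsq
  constructor
  · intro χ hχ
    by_cases hχ1 : (⟨χ, hχ⟩ : IrrCharacter G) = one
    · right
      rw [show χ = (one : G → ℂ) from congrArg Subtype.val hχ1, hm one, hm1, Nat.cast_one]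
    by_contra hcon
    push Not at hcon
    have hmem : (⟨χ, hχ⟩ : IrrCharacter G) ∈ Finset.univ.erase one := Finset.mem_erase.2 ⟨hχ1, Finset.mem_univ _⟩
    have hm2 : 2 ≤ m ⟨χ, hχ⟩ := by
      by_contra h
      interval_cases hmv : m ⟨χ, hχ⟩
      · exact hcon.1 (by rw [show mult G Ω χ = _ from hm ⟨χ, hχ⟩, hmv, Nat.cast_zero])
      · exact hcon.2 (by rw [show mult G Ω χ = _ from hm ⟨χ, hχ⟩, hmv, Nat.cast_one])
    have hlt := Finset.sum_lt_sum hsq ⟨_, hmem, by nlinarith⟩
    have hf1 : 1 ≤ f := by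
      have h1 := hf χ hχ (fun e => hχ1 (Subtype.ext e)) hcon.1
      rcases Nat.eq_zero_or_pos f with h | h
      · exact absurd (by rw [h1, h, Nat.cast_zero]) (IsIrrCharacter.apply_one_ne_zero hχ)
      · exact h
    nlinarith
  · intro b hb
    set q : orbitRel.Quotient U Ω := Quotient.mk'' b with hq
    have hq0 : q ≠ q₀ := by
      intro e
      obtain ⟨u, hu⟩ := Quotient.exact' e
      exact hb (hu.symm.trans (u.2 : (u : G) • a = a))
    have hmem : q ∈ Finset.univ.erase q₀ := Finset.mem_erase.2 ⟨hq0, Finset.mem_univ _⟩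
    rcases (hge q hmem).lt_or_eq with hlt | heq
    · exfalso
      have := Finset.sum_lt_sum hge ⟨q, hmem, hlt⟩
      rw [Finset.sum_const, smul_eq_mul] at this
      nlinarith
    · rw [heq]
      simp only [d, hq, orbitRel.Quotient.orbit_mk, U]

end Cfsg.Agent.CentRing
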