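import Cfsg.Agent.Lib.Char.CentralizerDegree

/-!
The orthogonal idempotents attached to the constituents of a permutation character.
-/

set_option autoImplicit false
set_option linter.style.haveILetI false

namespace Cfsg.Agent.CentRing

open Cfsg Cfsg.Agent.Char
open scoped ComplexConjugate Matrix

variable {G : Type*} [Group G] [Fintype G] {Ω : Type*} [Fintype Ω] [MulAction G Ω]

/-- The idempotent of an irreducible character. -/
noncomputable def idem (G : Type*) [Group G] [Fintype G] (Ω : Type*) [MulAction G Ω] (χ : G → ℂ) : Matrix Ω Ω ℂ :=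
  (χ 1 / (Nat.card G : ℂ)) • opMat G Ω (dualFun χ)

theorem opMat_mul (f f' : G → ℂ) :
    opMat G Ω f * opMat G Ω f' = opMat G Ω fun x => ∑ h, f h * f' (h⁻¹ * x) := by
  classical
  ext a b
  simp only [Matrix.mul_apply, opMat, Matrix.of_apply, Finset.sum_filter, Finset.mul_sum, mul_ite, mul_zero]
  rw [Finset.sum_comm]
  simp only [Finset.sum_ite_eq, Finset.mem_univ, if_true, Finset.sum_mul, ite_mul, zero_mul]
  rw [Finset.sum_comm]
  conv_rhs =>
    arg 2; ext x; rw [← Finset.sum_filter_of_ne (p := fun _ => True) (fun _ _ _ => trivial), Finset.filter_true]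
  rw [Finset.sum_congr rfl fun h (_ : h ∈ Finset.univ) =>
    Fintype.sum_equiv (Equiv.mulLeft h) (fun c => if h • c • b = a then f h * f' c else 0)
      (fun x => if x • b = a then f h * f' (h⁻¹ * x) else 0) fun c => by simp [mul_smul]]
  rw [Finset.sum_comm]
  exact Finset.sum_congr rfl fun x _ => by split_ifs <;> simp

theorem opMat_smul (c : ℂ) (f : G → ℂ) : opMat G Ω (fun x => c * f x) = c • opMat G Ω f := by
  classical
  ext a b
  simp [opMat, Finset.mul_sum]

theorem idem_mul_self {χ : G → ℂ} (hχ : IsIrrCharacter G χ) : idem G Ω χ * idem G Ω χ = idem G Ω χ := by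
  classical
  have hG : (Nat.card G : ℂ) ≠ 0 := Nat.cast_ne_zero.mpr Nat.card_pos.ne'
  have h1 := IsIrrCharacter.apply_one_ne_zero hχ
  have hc := IsCharacter.isClassFunction (IsIrrCharacter.isCharacter hχ)
  have hconv : (fun x => ∑ h, dualFun χ h * dualFun χ (h⁻¹ * x)) =
      fun x => ((Nat.card G : ℂ) / χ 1) * dualFun χ x := by
    funext x
    have h := sum_conv hχ 1 x⁻¹
    rw [one_mul] at h
    have e : ∑ h, dualFun χ h * dualFun χ (h⁻¹ * x) = ∑ g, χ (1 * g) * χ (g⁻¹ * x⁻¹) := by
      refine Fintype.sum_equiv (Equiv.inv G) _ _ fun g => ?_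
      simp only [dualFun, Equiv.inv_apply, one_mul, mul_inv_rev, inv_inv]
      congr 1
      have := hc (x⁻¹ * g) g
      simpa [mul_assoc] using this.symm
    rw [e]
    simp only [dualFun]
    field_simp
    linear_combination h
  rw [idem, smul_mul_assoc, mul_smul_comm, opMat_mul, hconv, opMat_smul, smul_smul, smul_smul]
  congr 1
  field_simp

theorem idem_mul_ne {χ ψ : G → ℂ} (hχ : IsIrrCharacter G χ) (hψ : IsIrrCharacter G ψ) (hne : χ ≠ ψ) :
    idem G Ω χ * idem G Ω ψ = 0 := by
  classical
  have hc := IsCharacter.isClassFunction (IsIrrCharacter.isCharacter hψ)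
  have hconv : (fun x => ∑ h, dualFun χ h * dualFun ψ (h⁻¹ * x)) = fun x => (0 : ℂ) * dualFun χ x := by
    funext x
    rw [zero_mul, ← sum_conv_ne hχ hψ hne 1 x⁻¹]
    refine Fintype.sum_equiv (Equiv.inv G) _ _ fun g => ?_
    simp only [dualFun, Equiv.inv_apply, one_mul, mul_inv_rev, inv_inv]
    congr 1
    have := hc (x⁻¹ * g) g
    simpa [mul_assoc] using this.symm
  rw [idem, idem, smul_mul_assoc, mul_smul_comm, opMat_mul, hconv, opMat_smul, zero_smul, smul_zero, smul_zero]

theorem trace_idem {χ : G → ℂ} (hχ : IsIrrCharacter G χ) : (idem G Ω χ).trace = χ 1 * mult G Ω χ := by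
  classical
  have hG : (Nat.card G : ℂ) ≠ 0 := Nat.cast_ne_zero.mpr Nat.card_pos.ne'
  have h1 := IsIrrCharacter.apply_one_ne_zero hχ
  have h := sum_dual_pc (Ω := Ω) hχ 1
  simp only [mul_one] at h
  rw [idem, Matrix.trace_smul, trace_opMat, smul_eq_mul, div_mul_eq_mul_div, h, div_eq_iff hG]
  ring

/-- The idempotent of the principal character of a transitive group. -/
theorem idem_one [MulAction.IsPretransitive G Ω] (a b : Ω) :
    idem G Ω (fun _ => 1) a b = (Fintype.card Ω : ℂ)⁻¹ := by
  classical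
  have hS : ∀ u : Ω, (Finset.univ.filter fun h : G => h • b = u).card = Nat.card (MulAction.stabilizer G b) := by
    intro u
    obtain ⟨g, rfl⟩ := MulAction.exists_smul_eq G b u
    rw [Nat.card_eq_fintype_card, ← Fintype.card_subtype]
    exact Fintype.card_congr
      { toFun := fun x => ⟨g⁻¹ * x.1, by
          show (g⁻¹ * x.1) • b = b
          rw [mul_smul, x.2, inv_smul_smul]⟩
        invFun := fun u => ⟨g * u.1, by rw [mul_smul, (u.2 : u.1 • b = b)]⟩
        left_inv := fun x => Subtype.ext (mul_inv_cancel_left _ _)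
        right_inv := fun u => Subtype.ext (inv_mul_cancel_left _ _) }
  have hG : Nat.card G = Nat.card Ω * Nat.card (MulAction.stabilizer G b) := by
    rw [← MulAction.index_stabilizer_of_transitive G b, Subgroup.index_mul_card]
  have hn : (Fintype.card Ω : ℂ) ≠ 0 := Nat.cast_ne_zero.mpr (Fintype.card_pos_iff.2 ⟨a⟩).ne'
  have hU : (Nat.card (MulAction.stabilizer G b) : ℂ) ≠ 0 := Nat.cast_ne_zero.mpr Nat.card_pos.ne'
  simp only [idem, opMat, dualFun, Matrix.smul_apply, Matrix.of_apply, Finset.sum_const, hS, hG,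
    Nat.card_eq_fintype_card (α := Ω), smul_eq_mul, nsmul_eq_mul, mul_one, Nat.cast_mul]
  field_simp

end Cfsg.Agent.CentRing
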