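import Mathlib
import Cfsg.Agent.Lib.Char.Generalized
import Cfsg.Prelude.Def_OddOrderChar

/-!
# Coherence
-/

set_option autoImplicit false
set_option linter.style.haveILetI false

namespace Cfsg.Agent.Char

open Cfsg
open scoped ComplexConjugate

universe u v

variable {L : Type u} [Group L] [Fintype L] {G : Type v} [Group G] [Fintype G]

/-- The part of the span vanishing off `A`, as a submodule. -/
def zspanOnSub (S : Set (L → ℂ)) (A : Set L) : Submodule ℤ (L → ℂ) where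
  carrier := zspanOn S A
  add_mem' := fun {a b} ha hb =>
    ⟨Submodule.add_mem _ ha.1 hb.1, fun x hx => by simp [ha.2 x hx, hb.2 x hx]⟩
  zero_mem' := ⟨Submodule.zero_mem _, fun _ _ => rfl⟩
  smul_mem' := fun c a ha =>
    ⟨Submodule.smul_mem _ c ha.1, fun x hx => by simp [ha.2 x hx]⟩

omit [Fintype L] in
theorem mem_zspanOnSub {S : Set (L → ℂ)} {A : Set L} {θ : L → ℂ} :
    θ ∈ zspanOnSub S A ↔ θ ∈ zspanOn S A := Iff.rfl

omit [Fintype L] in
theorem mem_zspanOn_compl_one {S : Set (L → ℂ)} {θ : L → ℂ} :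
    θ ∈ zspanOn S {1}ᶜ ↔ θ ∈ zspan S ∧ θ 1 = 0 :=
  ⟨fun h => ⟨h.1, h.2 1 (by simp)⟩, fun h => ⟨h.1, fun x hx => by
    have : x = 1 := by simpa using hx
    rw [this, h.2]⟩⟩

omit [Fintype L] in
theorem zspan_mono {S T : Set (L → ℂ)} (h : S ⊆ T) {θ : L → ℂ} (hθ : θ ∈ zspan S) :
    θ ∈ zspan T := Submodule.span_mono h hθ

theorem IsLinearIsometryOn.map_zero {E : Set (L → ℂ)} {τ : (L → ℂ) → (G → ℂ)}
    (h : IsLinearIsometryOn E τ) (h0 : (0 : L → ℂ) ∈ E) : τ 0 = 0 := by
  have := h.2.1 0 h0 0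
  simpa using this

theorem IsLinearIsometryOn.map_neg {E : Set (L → ℂ)} {τ : (L → ℂ) → (G → ℂ)}
    (h : IsLinearIsometryOn E τ) {θ : L → ℂ} (hθ : θ ∈ E) : τ (-θ) = -τ θ := by
  simpa using h.2.1 θ hθ (-1)

theorem IsLinearIsometryOn.map_sub {P : Submodule ℤ (L → ℂ)} {τ : (L → ℂ) → (G → ℂ)}
    (h : IsLinearIsometryOn (P : Set (L → ℂ)) τ) {θ η : L → ℂ} (hθ : θ ∈ P) (hη : η ∈ P) :
    τ (θ - η) = τ θ - τ η := by
  rw [sub_eq_add_neg, h.1 θ hθ (-η) (P.neg_mem hη), IsLinearIsometryOn.map_neg h hη,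
    sub_eq_add_neg]

/-- Two linear maps agreeing on generators agree on the span. -/
theorem eq_on_span {Q P : Submodule ℤ (L → ℂ)} {τ σ : (L → ℂ) → (G → ℂ)}
    (hτ : IsLinearIsometryOn (P : Set (L → ℂ)) τ) (hσ : IsLinearIsometryOn (Q : Set (L → ℂ)) σ)
    {X : Set (L → ℂ)} (hXP : X ⊆ P) (hXQ : X ⊆ Q) (h : ∀ x ∈ X, σ x = τ x) {θ : L → ℂ}
    (hθ : θ ∈ Submodule.span ℤ X) : σ θ = τ θ := by
  have hP : Submodule.span ℤ X ≤ P := Submodule.span_le.mpr hXP
  have hQ : Submodule.span ℤ X ≤ Q := Submodule.span_le.mpr hXQ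
  induction hθ using Submodule.span_induction with
  | mem x hx => exact h x hx
  | zero =>
    rw [IsLinearIsometryOn.map_zero hτ P.zero_mem, IsLinearIsometryOn.map_zero hσ Q.zero_mem]
  | add x y hx hy ihx ihy =>
    rw [hτ.1 x (hP hx) y (hP hy), hσ.1 x (hQ hx) y (hQ hy), ihx, ihy]
  | smul a x hx ih => rw [hτ.2.1 x (hP hx) a, hσ.2.1 x (hQ hx) a, ih]

theorem finite_of_orthogonal (S : Set (L → ℂ)) (h0 : ∀ φ ∈ S, classInner φ φ ≠ 0)
    (ho : ∀ φ ∈ S, ∀ ψ ∈ S, φ ≠ ψ → classInner φ ψ = 0) : S.Finite := by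
  classical
  have hli : LinearIndependent ℂ ((↑) : S → L → ℂ) := by
    rw [linearIndependent_iff']
    intro s c hc i hi
    have h1 := congrArg (fun f => classInner f (i : L → ℂ)) hc
    rw [classInner_sum_left, classInner_zero_left,
      Finset.sum_eq_single_of_mem i hi (fun j _ hj => by
        rw [classInner_smul_left, ho j j.2 i i.2 (fun e => hj (Subtype.ext e)), mul_zero]),
      classInner_smul_left] at h1
    exact (mul_eq_zero.mp h1).resolve_right (h0 i i.2)
  exact Set.finite_coe_iff.mp hli.finite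

/-- A map on an orthogonal set preserving inner products extends to a linear isometry. -/
theorem exists_isometry_extension (S : Set (L → ℂ)) (h0 : ∀ φ ∈ S, classInner φ φ ≠ 0)
    (ho : ∀ φ ∈ S, ∀ ψ ∈ S, φ ≠ ψ → classInner φ ψ = 0) (T : (L → ℂ) → (G → ℂ))
    (hgen : ∀ φ ∈ S, IsGeneralizedCharacter G (T φ))
    (hinner : ∀ φ ∈ S, ∀ ψ ∈ S, classInner (T φ) (T ψ) = classInner φ ψ) :
    ∃ τ₁ : (L → ℂ) → (G → ℂ), IsLinearIsometryOn (zspan S) τ₁ ∧ ∀ φ ∈ S, τ₁ φ = T φ := by
  classical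
  have hfin := finite_of_orthogonal S h0 ho
  let τ₁ : (L → ℂ) → (G → ℂ) := fun θ =>
    ∑ φ ∈ hfin.toFinset, (classInner θ φ / classInner φ φ) • T φ
  have hadd : ∀ θ η, τ₁ (θ + η) = τ₁ θ + τ₁ η := fun θ η => by
    simp [τ₁, classInner_add_left, add_div, add_smul, Finset.sum_add_distrib]
  have hsmul : ∀ (n : ℤ) θ, τ₁ (n • θ) = n • τ₁ θ := fun n θ => by
    have e : n • θ = (n : ℂ) • θ := (Int.cast_smul_eq_zsmul ℂ n θ).symm
    simp only [τ₁]
    rw [e, Finset.smul_sum]
    refine Finset.sum_congr rfl fun φ _ => ?_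
    rw [classInner_smul_left, mul_div_assoc, ← smul_smul, Int.cast_smul_eq_zsmul]
  have hT : ∀ φ ∈ S, τ₁ φ = T φ := fun φ hφ => by
    simp only [τ₁]
    rw [Finset.sum_eq_single φ]
    · rw [div_self (h0 φ hφ), one_smul]
    · intro ψ hψ hne
      rw [ho φ hφ ψ (hfin.mem_toFinset.mp hψ) (Ne.symm hne), zero_div, zero_smul]
    · exact fun h => absurd (hfin.mem_toFinset.mpr hφ) h
  have hzero : τ₁ 0 = 0 := by simpa using hsmul 0 0
  refine ⟨τ₁, ⟨fun θ _ η _ => hadd θ η, fun θ _ n => hsmul n θ, ?_, ?_⟩, hT⟩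
  · intro θ hθ
    induction hθ using Submodule.span_induction with
    | mem φ hφ =>
      intro η hη
      induction hη using Submodule.span_induction with
      | mem ψ hψ => rw [hT φ hφ, hT ψ hψ, hinner φ hφ ψ hψ]
      | zero => rw [hzero, classInner_zero_right, classInner_zero_right]
      | add x y _ _ ihx ihy => rw [hadd, classInner_add_right, classInner_add_right, ihx, ihy]
      | smul a x _ ih =>
        rw [hsmul, ← Int.cast_smul_eq_zsmul ℂ a, ← Int.cast_smul_eq_zsmul ℂ a,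
          classInner_smul_right, classInner_smul_right, ih]
    | zero => intro η _; rw [hzero, classInner_zero_left, classInner_zero_left]
    | add x y _ _ ihx ihy =>
      intro η hη
      rw [hadd, classInner_add_left, classInner_add_left, ihx η hη, ihy η hη]
    | smul a x _ ih =>
      intro η hη
      rw [hsmul, ← Int.cast_smul_eq_zsmul ℂ a, ← Int.cast_smul_eq_zsmul ℂ a,
        classInner_smul_left, classInner_smul_left, ih η hη]
  · intro θ hθ
    induction hθ using Submodule.span_induction with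
    | mem φ hφ => rw [hT φ hφ]; exact hgen φ hφ
    | zero => rw [hzero]; exact isGeneralizedCharacter_zero
    | add x y _ _ ihx ihy => rw [hadd]; exact isGeneralizedCharacter_add ihx ihy
    | smul a x _ ih => rw [hsmul]; exact isGeneralizedCharacter_zsmul ih a

section Projection

variable (R : Finset (G → ℂ)) (f : G → ℂ)

/-- The orthogonal projection on an orthonormal finite set. -/
noncomputable def proj : G → ℂ := ∑ α ∈ R, classInner f α • α

theorem classInner_proj_left (g : G → ℂ) :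
    classInner (proj R f) g = ∑ α ∈ R, classInner f α * classInner α g := by
  rw [proj, classInner_sum_left]
  exact Finset.sum_congr rfl fun α _ => classInner_smul_left _ _ _

theorem classInner_proj_right (g : G → ℂ) :
    classInner g (proj R f) = ∑ α ∈ R, conj (classInner f α) * classInner g α := by
  rw [proj, classInner_sum_right]
  exact Finset.sum_congr rfl fun α _ => classInner_smul_right _ _ _

open Classical in
theorem classInner_proj_mem
    (ho : ∀ α ∈ R, ∀ β ∈ R, classInner α β = if α = β then 1 else 0) {β : G → ℂ} (hβ : β ∈ R) :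
    classInner (proj R f) β = classInner f β := by
  rw [classInner_proj_left, Finset.sum_eq_single_of_mem β hβ (fun α hα hne => by
    rw [ho α hα β hβ, if_neg hne, mul_zero]), ho β hβ β hβ, if_pos rfl, mul_one]

end Projection

/-- The analysis of a vector of minimal norm with prescribed coefficient sums. -/
theorem split_norm (R₁ R₂ : Finset (G → ℂ)) (f : G → ℂ)
    (ho₁ : ∀ α ∈ R₁, ∀ β ∈ R₁, classInner α β = (open Classical in if α = β then (1 : ℂ) else 0))
    (ho₂ : ∀ α ∈ R₂, ∀ β ∈ R₂, classInner α β = (open Classical in if α = β then (1 : ℂ) else 0))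
    (ho : ∀ α ∈ R₁, ∀ β ∈ R₂, classInner α β = 0)
    (c : (G → ℂ) → ℤ) (hc₁ : ∀ α ∈ R₁, classInner f α = c α)
    (hc₂ : ∀ α ∈ R₂, classInner f α = c α)
    (n m : ℕ) (hn : ∑ α ∈ R₁, c α = n) (hm : ∑ α ∈ R₂, c α = -(m : ℤ))
    (hf : classInner f f = (n : ℂ) + m) :
    f = proj R₁ f + proj R₂ f ∧ ∑ α ∈ R₁, c α ^ 2 = n := by
  have hP₁ : ∑ α ∈ R₁, conj (classInner f α) * classInner f α = ((∑ α ∈ R₁, c α ^ 2 : ℤ) : ℂ) := by
    push_cast
    exact Finset.sum_congr rfl fun α hα => by rw [hc₁ α hα, map_intCast]; ring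
  have hP₂ : ∑ α ∈ R₂, conj (classInner f α) * classInner f α = ((∑ α ∈ R₂, c α ^ 2 : ℤ) : ℂ) := by
    push_cast
    exact Finset.sum_congr rfl fun α hα => by rw [hc₂ α hα, map_intCast]; ring
  have h11 : classInner (proj R₁ f) (proj R₁ f) = ((∑ α ∈ R₁, c α ^ 2 : ℤ) : ℂ) := by
    rw [classInner_proj_right, ← hP₁]
    exact Finset.sum_congr rfl fun α hα => by rw [classInner_proj_mem R₁ f ho₁ hα]
  have h22 : classInner (proj R₂ f) (proj R₂ f) = ((∑ α ∈ R₂, c α ^ 2 : ℤ) : ℂ) := by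
    rw [classInner_proj_right, ← hP₂]
    exact Finset.sum_congr rfl fun α hα => by rw [classInner_proj_mem R₂ f ho₂ hα]
  have h12 : classInner (proj R₁ f) (proj R₂ f) = 0 := by
    rw [classInner_proj_left]
    refine Finset.sum_eq_zero fun α hα => ?_
    rw [classInner_proj_right, Finset.sum_eq_zero (fun β hβ => by rw [ho α hα β hβ, mul_zero]),
      mul_zero]
  have h21 : classInner (proj R₂ f) (proj R₁ f) = 0 := by
    rw [← classInner_conj_symm, h12, map_zero]
  have hf1 : classInner f (proj R₁ f) = ((∑ α ∈ R₁, c α ^ 2 : ℤ) : ℂ) := by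
    rw [classInner_proj_right, hP₁]
  have hf2 : classInner f (proj R₂ f) = ((∑ α ∈ R₂, c α ^ 2 : ℤ) : ℂ) := by
    rw [classInner_proj_right, hP₂]
  have hf1' : classInner (proj R₁ f) f = ((∑ α ∈ R₁, c α ^ 2 : ℤ) : ℂ) := by
    rw [← classInner_conj_symm, hf1, map_intCast]
  have hf2' : classInner (proj R₂ f) f = ((∑ α ∈ R₂, c α ^ 2 : ℤ) : ℂ) := by
    rw [← classInner_conj_symm, hf2, map_intCast]
  have hr : classInner (f - (proj R₁ f + proj R₂ f)) (f - (proj R₁ f + proj R₂ f)) =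
      (((n : ℤ) + m - ∑ α ∈ R₁, c α ^ 2 - ∑ α ∈ R₂, c α ^ 2 : ℤ) : ℂ) := by
    simp only [classInner_sub_left, classInner_sub_right, classInner_add_left,
      classInner_add_right]
    rw [h11, h12, h21, h22, hf1, hf2, hf1', hf2', hf]
    push_cast
    ring
  have hnn := classInner_self_re_nonneg (f - (proj R₁ f + proj R₂ f))
  rw [hr, Complex.intCast_re] at hnn
  have hnn' : 0 ≤ (n : ℤ) + m - ∑ α ∈ R₁, c α ^ 2 - ∑ α ∈ R₂, c α ^ 2 := by exact_mod_cast hnn
  have hle1 : (n : ℤ) ≤ ∑ α ∈ R₁, c α ^ 2 := by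
    rw [← hn]
    exact Finset.sum_le_sum fun α _ => Int.le_self_sq (c α)
  have hle2 : (m : ℤ) ≤ ∑ α ∈ R₂, c α ^ 2 := by
    have : (m : ℤ) = ∑ α ∈ R₂, -c α := by rw [Finset.sum_neg_distrib, hm, neg_neg]
    rw [this]
    refine Finset.sum_le_sum fun α _ => ?_
    have := Int.le_self_sq (-c α)
    rwa [neg_sq] at this
  refine ⟨?_, by omega⟩
  rw [← sub_eq_zero]
  refine classInner_self_eq_zero ?_
  rw [hr]
  have : (n : ℤ) + m - ∑ α ∈ R₁, c α ^ 2 - ∑ α ∈ R₂, c α ^ 2 = 0 := by omega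
  rw [this, Int.cast_zero]

omit [Fintype L] in
theorem conjFun_conjFun (f : L → ℂ) : conjFun (conjFun f) = f :=
  funext fun x => by simp [conjFun]

omit [Fintype L] in
theorem IsCharacter.eq_zero_of_degree_zero [Finite L] {χ : L → ℂ} (h : IsCharacter L χ)
    (h1 : χ 1 = 0) : χ = 0 := by
  funext g
  have := IsCharacter.norm_le h g
  rw [h1, norm_zero] at this
  exact norm_eq_zero.mp (le_antisymm this (norm_nonneg _))

section System

variable {S : Set (L → ℂ)} {τ : (L → ℂ) → (G → ℂ)} {R : (L → ℂ) → Finset (G → ℂ)}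

theorem system_ne_zero (hS : IsCoherenceSystem S τ R) {χ : L → ℂ} (hχ : χ ∈ S) : χ ≠ 0 := by
  intro h
  apply hS.conj_ne χ hχ
  funext x
  simp [h, conjFun]

theorem system_norm_ne_zero (hS : IsCoherenceSystem S τ R) {χ : L → ℂ} (hχ : χ ∈ S) :
    classInner χ χ ≠ 0 := fun h => system_ne_zero hS hχ (classInner_self_eq_zero h)

theorem system_sub_conj_mem (hS : IsCoherenceSystem S τ R) {χ : L → ℂ} (hχ : χ ∈ S) :
    χ - conjFun χ ∈ zspanOn S {1}ᶜ := by
  refine mem_zspanOn_compl_one.mpr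
    ⟨Submodule.sub_mem _ (Submodule.subset_span hχ) (Submodule.subset_span (hS.conj_mem χ hχ)), ?_⟩
  obtain ⟨d, hd⟩ := IsCharacter.exists_degree (hS.isCharacter χ hχ)
  simp [conjFun, hd]

/-- Inner products with the sum of `R χ`. -/
theorem system_sum_inner (hS : IsCoherenceSystem S τ R) {χ : L → ℂ} (hχ : χ ∈ S) {θ : L → ℂ}
    (hθ : θ ∈ zspanOn S {1}ᶜ) :
    ∑ α ∈ R χ, classInner (τ θ) α = classInner θ χ - classInner θ (conjFun χ) := by
  rw [← classInner_sum_right, ← hS.sum_eq χ hχ, hS.isometry.2.2.1 θ hθ _ (system_sub_conj_mem hS hχ),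
    classInner_sub_right]

end System

end Cfsg.Agent.Char
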