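import Cfsg.Agent.Lib.Char.CoherenceExtend
import Cfsg.Agent.Lib.Char.Clifford
import Cfsg.Agent.Lib.Char.Monomial
import Cfsg.Agent.Lib.Char.Extension

/-!
# Coherence descends through central sections
-/

set_option autoImplicit false
set_option linter.style.haveILetI false
set_option linter.unusedSectionVars false

namespace Cfsg.Agent.Char

open Cfsg
open scoped ComplexConjugate

universe u v

variable {L : Type u} [Group L] [Fintype L] {G : Type v} [Group G] [Fintype G]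
  {S : Set (L → ℂ)} {τ : (L → ℂ) → (G → ℂ)} {R : (L → ℂ) → Finset (G → ℂ)}

theorem isCoherent_mono {T U : Set (L → ℂ)} (hTU : T ⊆ U) (hU : IsCoherent U {1}ᶜ τ)
    (hne : ∃ α ∈ zspanOn T {1}ᶜ, α ≠ 0) : IsCoherent T {1}ᶜ τ := by
  obtain ⟨-, τ₁, ⟨h1, h2, h3, h4⟩, hag⟩ := hU
  exact ⟨hne, τ₁, ⟨fun a ha b hb => h1 a (zspan_mono hTU ha) b (zspan_mono hTU hb),
    fun a ha n => h2 a (zspan_mono hTU ha) n,
    fun a ha b hb => h3 a (zspan_mono hTU ha) b (zspan_mono hTU hb),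
    fun a ha => h4 a (zspan_mono hTU ha)⟩, fun a ha => hag a ⟨zspan_mono hTU ha.1, ha.2⟩⟩

/-- Adding all the members of a set satisfying the numerical criterion. -/
theorem coherent_union (hS : IsCoherenceSystem S τ R) (d n : (L → ℂ) → ℕ)
    (hd : ∀ φ ∈ S, φ 1 = (d φ : ℂ)) (hn : ∀ φ ∈ S, classInner φ φ = (n φ : ℂ))
    (S₁ : Finset (L → ℂ)) (hS₁ : ↑S₁ ⊆ S) (hS₁c : ∀ φ ∈ S₁, conjFun φ ∈ S₁)
    (hcoh : IsCoherent (↑S₁ : Set (L → ℂ)) {1}ᶜ τ) {χ₁ : L → ℂ} (hχ₁S : χ₁ ∈ S₁)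
    (T : Finset (L → ℂ)) (hT : ↑T ⊆ S)
    (hdvd : ∀ χ ∈ T, d χ₁ ∣ d χ)
    (hineq : ∀ χ ∈ T, (2 * d χ * d χ₁ : ℝ) < ∑ φ ∈ S₁, ((d φ : ℝ) ^ 2 / (n φ : ℝ))) :
    ∃ U : Finset (L → ℂ), S₁ ⊆ U ∧ T ⊆ U ∧ ↑U ⊆ S ∧ (∀ φ ∈ U, conjFun φ ∈ U) ∧
      IsCoherent (↑U : Set (L → ℂ)) {1}ᶜ τ := by
  classical
  induction T using Finset.induction with
  | empty => exact ⟨S₁, le_rfl, Finset.empty_subset _, hS₁, hS₁c, hcoh⟩
  | insert χ T hnot ih =>
    obtain ⟨U, h1, h2, h3, h4, h5⟩ := ih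
      (fun φ hφ => hT (Finset.mem_insert_of_mem hφ))
      (fun φ hφ => hdvd φ (Finset.mem_insert_of_mem hφ))
      (fun φ hφ => hineq φ (Finset.mem_insert_of_mem hφ))
    have hχ : χ ∈ S := hT (Finset.mem_insert_self χ T)
    by_cases hc : χ ∈ U
    · exact ⟨U, h1, Finset.insert_subset hc h2, h3, h4, h5⟩
    have hc' : conjFun χ ∉ U := fun h => hc (conjFun_conjFun χ ▸ h4 _ h)
    have hle : ∑ φ ∈ S₁, ((d φ : ℝ) ^ 2 / (n φ : ℝ)) ≤ ∑ φ ∈ U, ((d φ : ℝ) ^ 2 / (n φ : ℝ)) :=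
      Finset.sum_le_sum_of_subset_of_nonneg h1 fun φ _ _ => by positivity
    have h6 := coherent_extend hS d n hd hn U h3 h4 h5 hχ hc hc' (h1 hχ₁S)
      (hdvd χ (Finset.mem_insert_self χ T)) (lt_of_lt_of_le (hineq χ (Finset.mem_insert_self χ T)) hle)
    refine ⟨U ∪ {χ, conjFun χ}, h1.trans Finset.subset_union_left, ?_, ?_, ?_, ?_⟩
    · exact Finset.insert_subset (by simp) (h2.trans Finset.subset_union_left)
    · intro φ hφ
      simp only [Finset.coe_union, Set.mem_union, Finset.coe_insert, Finset.coe_singleton,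
        Set.mem_insert_iff, Set.mem_singleton_iff] at hφ
      rcases hφ with hφ | rfl | rfl
      · exact h3 hφ
      · exact hχ
      · exact hS.conj_mem χ hχ
    · intro φ hφ
      simp only [Finset.mem_union, Finset.mem_insert, Finset.mem_singleton] at hφ ⊢
      rcases hφ with hφ | rfl | rfl
      · exact Or.inl (h4 φ hφ)
      · exact Or.inr (Or.inr rfl)
      · exact Or.inr (Or.inl (conjFun_conjFun χ))
    · simpa using h6

section Sums

variable {K : Type u} [Group K] [Fintype K] (A : Subgroup K) [A.Normal] [Fintype A]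

theorem sum_restrict_eq_zero' {θ : K → ℂ} (hθ : IsIrrCharacter K θ) (h : ¬ ∀ a ∈ A, θ a = θ 1) :
    ∑ a : A, θ a = 0 := by
  by_contra hne
  refine h ?_
  have h1 : classInner (fun a : A => θ a) (1 : A → ℂ) ≠ 0 := by
    simp only [classInner, Pi.one_apply, map_one, mul_one]
    exact mul_ne_zero (inv_ne_zero (Nat.cast_ne_zero.mpr Nat.card_pos.ne')) hne
  have h2 := restrict_eq_smul_of_inertia_top A hθ isIrrCharacter_one h1 (fun g => rfl)
  intro a ha
  have e1 := congrFun h2 ⟨a, ha⟩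
  have e2 := congrFun h2 1
  simp only [Pi.smul_apply, Pi.one_apply, smul_eq_mul, mul_one, OneMemClass.coe_one] at e1 e2
  rw [e1, e2]

open Classical in
/-- The characters trivial on a normal subgroup have squared degrees adding up to its index. -/
theorem sum_sq_over [Fintype (IrrCharacter K)] :
    ∑ χ ∈ Finset.univ.filter (fun χ : IrrCharacter K => ∀ a ∈ A, (χ : K → ℂ) a = (χ : K → ℂ) 1),
      (χ : K → ℂ) 1 ^ 2 = (A.index : ℂ) := by
  have hcl : IsClassFunction K (indFun A fun _ => (1 : ℂ)) := isClassFunction_indFun A _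
  have e := congrFun (IsClassFunction.eq_sum hcl) 1
  rw [indFun_one_apply, mul_one] at e
  rw [e, Finset.sum_apply, Finset.sum_filter]
  refine Finset.sum_congr rfl fun χ _ => ?_
  rw [Pi.smul_apply, smul_eq_mul, classInner_indFun A _
    (IsCharacter.isClassFunction (IsIrrCharacter.isCharacter χ.2)), classInner]
  simp only [one_mul]
  rw [← map_sum]
  by_cases h : ∀ a ∈ A, (χ : K → ℂ) a = (χ : K → ℂ) 1
  · rw [if_pos h, Finset.sum_congr rfl fun (a : A) _ => h a a.2, Finset.sum_const, Finset.card_univ,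
      nsmul_eq_mul, map_mul, Complex.conj_natCast, conj_irr_one, ← Nat.card_eq_fintype_card,
      ← mul_assoc, inv_mul_cancel₀ (Nat.cast_ne_zero.mpr Nat.card_pos.ne'), one_mul, sq]
  · rw [if_neg h, sum_restrict_eq_zero' A χ.2 h, map_zero, mul_zero, zero_mul]

/-- A solvable proper quotient has a nonprincipal linear character. -/
theorem exists_linear_over [Group.IsSolvable K] (hA : A ≠ ⊤) :
    ∃ l : K →* ℂˣ, l ≠ 1 ∧ ∀ a ∈ A, l a = 1 := by
  haveI : Nontrivial (K ⧸ A) := QuotientGroup.nontrivial_iff.mpr hA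
  haveI : Group.IsSolvable (K ⧸ A) :=
    Group.isSolvable_of_surjective (QuotientGroup.mk'_surjective A)
  have hne : commutator (K ⧸ A) ≠ ⊤ := (Group.IsSolvable.commutator_lt_top_of_nontrivial (K ⧸ A)).ne
  haveI : Nontrivial (Abelianization (K ⧸ A)) := QuotientGroup.nontrivial_iff.mpr hne
  obtain ⟨z, hz⟩ := exists_ne (1 : Abelianization (K ⧸ A))
  obtain ⟨μ, hμ⟩ := CommGroup.exists_apply_ne_one_of_hasEnoughRootsOfUnity _ ℂ hz
  refine ⟨(μ.comp Abelianization.of).comp (QuotientGroup.mk' A), fun h => hμ ?_, fun a ha => ?_⟩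
  · obtain ⟨y, rfl⟩ := QuotientGroup.mk'_surjective _ z
    obtain ⟨x, rfl⟩ := QuotientGroup.mk'_surjective A y
    exact DFunLike.congr_fun h x
  · simp [(QuotientGroup.eq_one_iff a).mpr ha]

end Sums

section Degree

variable {K : Type u} [Group K] [Fintype K]

/-- The degree bound through a central section. -/
theorem degree_sq_le_of_central (B C D : Subgroup K) [C.Normal] (_hBD : B ≤ D) (_hDC : D ≤ C)
    (hcent : ∀ x ∈ D, ∀ y ∈ C, x * y * x⁻¹ * y⁻¹ ∈ B) {θ : K → ℂ} (hθ : IsIrrCharacter K θ)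
    (hB : ∀ b ∈ B, θ b = θ 1) {d : ℕ} (hd : θ 1 = d) :
    d ^ 2 ≤ C.index ^ 2 * D.relIndex C := by
  classical
  haveI := Fintype.ofFinite C
  have hres : IsCharacter C (fun c : C => θ c) := IsCharacter.restrict (IsIrrCharacter.isCharacter hθ) C
  obtain ⟨φ, hφ, hne⟩ := IsCharacter.exists_irr_constituent hres fun h =>
    IsIrrCharacter.apply_one_ne_zero hθ (congrFun h 1)
  obtain ⟨f, hf0, hf⟩ := IsIrrCharacter.degree_pos hφ
  have hdle : d ≤ C.index * f := by
    have hind : classInner (indFun C φ) θ ≠ 0 := by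
      rw [classInner_indFun C φ (IsCharacter.isClassFunction (IsIrrCharacter.isCharacter hθ)),
        ← classInner_conj_symm]
      simpa using hne
    obtain ⟨r, hr, he⟩ := exists_add_of_classInner_ne_zero
      (isCharacter_indFun C (IsIrrCharacter.isCharacter hφ)) hθ hind
    obtain ⟨r1, hr1⟩ := IsCharacter.exists_degree hr
    have h1 := congrFun he 1
    rw [indFun_one_apply, Pi.add_apply, hd, hf, hr1] at h1
    have : C.index * f = d + r1 := by exact_mod_cast h1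
    omega
  obtain ⟨m, ρ, hρ, rfl⟩ := hφ
  haveI := hρ
  have hker : ∀ b : C, (b : K) ∈ B → ∀ y : C, ρ.character (b * y) = ρ.character y := by
    intro b hb y
    have h1 : ρ.character b = ρ.character 1 := constituent_apply_eq_one hres
      (isIrrCharacter_character ρ) hne (g := b) (hB _ hb)
    exact (IsCharacter.apply_mul_of_eq_one (IsIrrCharacter.isCharacter (isIrrCharacter_character ρ)) h1 y).1
  have hscal : ∀ x : C, (x : K) ∈ D → ∃ c : ℂ, ρ x = c • (LinearMap.id : (Fin m → ℂ) →ₗ[ℂ] (Fin m → ℂ)) := by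
    intro x hx
    obtain ⟨c, hc⟩ := isScalar_of_commute ρ (ρ x) fun g => by
      have h1 : ρ.character (x * g * x⁻¹ * g⁻¹) = ρ.character 1 := by
        have := hker (x * g * x⁻¹ * g⁻¹) (hcent x hx g g.2) 1
        rwa [mul_one] at this
      rw [ρ.char_one, character_eq_finrank_iff] at h1
      rw [← map_mul, ← map_mul, show x * g = x * g * x⁻¹ * g⁻¹ * (g * x) by group, map_mul, h1]
      rfl
    exact ⟨c, hc⟩
  have hfm : f = m := by
    rw [ρ.char_one, Module.finrank_fin_fun] at hf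
    exact_mod_cast hf.symm
  have hsum : ∑ y : C, ρ.character y * conj (ρ.character y) = (Nat.card C : ℂ) := by
    have h := IsIrrCharacter.classInner_self (isIrrCharacter_character ρ)
    rw [classInner, inv_mul_eq_iff_eq_mul₀ (Nat.cast_ne_zero.mpr Nat.card_pos.ne'), mul_one] at h
    exact h
  have h2 : (Nat.card (D.subgroupOf C) : ℝ) * (f : ℝ) ^ 2 ≤ (Nat.card C : ℝ) := by
    have h3 := congrArg Complex.re hsum
    rw [Complex.natCast_re, Complex.re_sum] at h3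
    rw [← h3]
    refine le_trans (le_of_eq ?_) (Finset.sum_le_sum_of_subset_of_nonneg
      (s := Finset.univ.filter fun y : C => y ∈ D.subgroupOf C) (Finset.subset_univ _)
      fun y _ _ => by rw [Complex.mul_conj, Complex.ofReal_re]; exact Complex.normSq_nonneg _)
    rw [Finset.sum_congr rfl fun y hy => by
      obtain ⟨c, hc⟩ := hscal y (Subgroup.mem_subgroupOf.mp (Finset.mem_filter.mp hy).2)
      rw [norm_sq_of_smul ρ y hc, Module.finrank_fin_fun, ← hfm, ← Nat.cast_mul, Complex.natCast_re],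
      Finset.sum_const, nsmul_eq_mul, ← Fintype.card_subtype, ← Nat.card_eq_fintype_card]
    push_cast
    ring
  have h2' : Nat.card (D.subgroupOf C) * f ^ 2 ≤ Nat.card C := by exact_mod_cast h2
  have h4 : f ^ 2 ≤ D.relIndex C := by
    refine Nat.le_of_mul_le_mul_left ?_ (Nat.card_pos (α := D.subgroupOf C))
    rw [Subgroup.relIndex, Subgroup.card_mul_index]
    exact h2'
  calc d ^ 2 ≤ (C.index * f) ^ 2 := Nat.pow_le_pow_left hdle 2
    _ = C.index ^ 2 * f ^ 2 := mul_pow _ _ _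
    _ ≤ _ := Nat.mul_le_mul_left _ h4

end Degree

section Induced

variable (K : Subgroup L) [hK : K.Normal] [Fintype K]

theorem conjFun_indFun (θ : K → ℂ) : conjFun (indFun K θ) = indFun K (conjFun θ) := by
  funext g
  simp only [conjFun, indFun_apply, map_mul, map_inv₀, Complex.conj_natCast, map_sum]
  congr 1
  refine Finset.sum_congr rfl fun x _ => ?_
  by_cases h : x⁻¹ * g * x ∈ K
  · rw [extendByZero_of_mem _ _ h, extendByZero_of_mem _ _ h]; rfl
  · rw [extendByZero_of_notMem _ _ h, extendByZero_of_notMem _ _ h, map_zero]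

theorem inducedIrrAbove_conj {A : Subgroup L} {φ : L → ℂ} (h : φ ∈ inducedIrrAbove K A) :
    conjFun φ ∈ inducedIrrAbove K A := by
  obtain ⟨θ, hθ, hne, hker, he⟩ := h
  refine ⟨conjFun θ, IsIrrCharacter.conj hθ, fun h => hne ?_, fun a ha => ?_, ?_⟩
  · funext x
    have := congrFun h x
    simp only [conjFun] at this
    simpa using congrArg conj this
  · simp only [conjFun, hker a ha]
  · rw [he, ← conjFun_indFun]

theorem inducedIrrAbove_subset_bot (A : Subgroup L) : inducedIrrAbove K A ⊆ inducedIrrAbove K ⊥ := by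
  rintro φ ⟨θ, hθ, hne, -, he⟩
  exact ⟨θ, hθ, hne, fun a ha => by rw [show a = 1 from Subtype.ext (Subgroup.mem_bot.mp ha)], he⟩

theorem classInner_indFun_self {θ : K → ℂ} (hθ : IsIrrCharacter K θ) :
    classInner (indFun K θ) (indFun K θ) =
      (Nat.card (inertia K θ) : ℂ) / (Nat.card K : ℂ) := by
  classical
  rw [classInner_indFun_indFun K hθ hθ]
  congr 1
  norm_cast
  exact card_filter_conjChar_eq K ((mem_conjOrbit K).mpr ⟨1, conjChar_one K θ⟩)

theorem mem_conjOrbit_of_indFun_eq {θ θ' : K → ℂ} (hθ : IsIrrCharacter K θ)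
    (hθ' : IsIrrCharacter K θ') (h : indFun K θ' = indFun K θ) : θ' ∈ conjOrbit K θ := by
  classical
  have h1 : classInner (indFun K θ') (indFun K θ) ≠ 0 := by
    rw [h, classInner_indFun_self K hθ]
    exact div_ne_zero (Nat.cast_ne_zero.mpr Nat.card_pos.ne') (Nat.cast_ne_zero.mpr Nat.card_pos.ne')
  rw [classInner_indFun_indFun K hθ hθ'] at h1
  obtain ⟨g, hg⟩ := Finset.card_ne_zero.mp (fun e0 => h1 (by rw [e0]; simp))
  exact (mem_conjOrbit K).mpr ⟨g, (Finset.mem_filter.mp hg).2⟩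

theorem conjChar_mem_over (A : Subgroup L) [hA : A.Normal] (g : L) {θ : K → ℂ}
    (h : ∀ a : K, (a : L) ∈ A → θ a = θ 1) :
    ∀ a : K, (a : L) ∈ A → conjChar K g θ a = conjChar K g θ 1 := by
  intro a ha
  rw [conjChar_apply, conjChar_apply, map_one, h _ (by
    rw [MulAut.conjNormal_apply]; exact hA.conj_mem _ ha g)]

/-- The weighted sum over the set of induced characters. -/
theorem sum_sq_div_norm [Fintype (IrrCharacter K)] (A : Subgroup L) [A.Normal]
    (S₁ : Finset (L → ℂ)) (hS₁ : ∀ φ, φ ∈ S₁ ↔ φ ∈ inducedIrrAbove K A)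
    (d n : (L → ℂ) → ℕ) (hd : ∀ φ ∈ S₁, φ 1 = (d φ : ℂ))
    (hn : ∀ φ ∈ S₁, classInner φ φ = (n φ : ℂ)) :
    ∑ φ ∈ S₁, ((d φ : ℝ) ^ 2 / (n φ : ℝ)) = (K.index : ℝ) * ((A.relIndex K : ℝ) - 1) := by
  classical
  haveI := Fintype.ofFinite (A.subgroupOf K)
  let Θ : Finset (K → ℂ) := ((Finset.univ : Finset (IrrCharacter K)).image fun χ => χ.1).filter
    fun θ => θ ≠ (fun _ => 1) ∧ ∀ a : K, (a : L) ∈ A → θ a = θ 1
  have hΘ : ∀ θ, θ ∈ Θ ↔ IsIrrCharacter K θ ∧ θ ≠ (fun _ => 1) ∧ ∀ a : K, (a : L) ∈ A → θ a = θ 1 := by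
    intro θ
    simp only [Θ, Finset.mem_filter, Finset.mem_image, Finset.mem_univ, true_and]
    exact ⟨fun ⟨⟨χ, h⟩, h'⟩ => ⟨h ▸ χ.2, h'⟩, fun ⟨h, h'⟩ => ⟨⟨⟨θ, h⟩, rfl⟩, h'⟩⟩
  have hmaps : ∀ θ ∈ Θ, indFun K θ ∈ S₁ := fun θ hθ => by
    obtain ⟨h1, h2, h3⟩ := (hΘ θ).mp hθ
    exact (hS₁ _).mpr ⟨θ, h1, h2, h3, indFun_congr rfl _ _ fun x hx hx' => rfl⟩
  have hfib : ∀ φ ∈ S₁, ((d φ : ℂ) ^ 2 / (n φ : ℂ)) =
      (K.index : ℂ) * ∑ θ ∈ Θ.filter (fun θ => indFun K θ = φ), θ 1 ^ 2 := by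
    intro φ hφ
    obtain ⟨θ, hθ, hne, hker, he⟩ := (hS₁ φ).mp hφ
    have he' : φ = indFun K θ := he.trans (indFun_congr rfl _ _ fun x hx hx' => rfl)
    have hF : Θ.filter (fun θ' => indFun K θ' = φ) = conjOrbit K θ := by
      ext θ'
      rw [Finset.mem_filter, hΘ]
      constructor
      · rintro ⟨⟨h1, -, -⟩, h4⟩
        exact mem_conjOrbit_of_indFun_eq K hθ h1 (h4.trans he')
      · intro h
        obtain ⟨g, rfl⟩ := (mem_conjOrbit K).mp h
        refine ⟨⟨isIrrCharacter_conjChar K hθ g, fun h1 => hne ?_, conjChar_mem_over K A g hker⟩, ?_⟩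
        · have := congrArg (conjChar K g⁻¹) h1
          rw [conjChar_mul, mul_inv_cancel, conjChar_one] at this
          exact this
        · rw [indFun_conjChar, he']
    obtain ⟨f, hf0, hf⟩ := IsIrrCharacter.degree_pos hθ
    have hsum : ∑ θ' ∈ conjOrbit K θ, θ' 1 ^ 2 = ((inertia K θ).index : ℂ) * (f : ℂ) ^ 2 := by
      rw [Finset.sum_congr rfl fun θ' hθ' => show θ' 1 ^ 2 = (f : ℂ) ^ 2 by
        obtain ⟨g, rfl⟩ := (mem_conjOrbit K).mp hθ'
        rw [conjChar_apply, map_one, hf], Finset.sum_const, card_conjOrbit, nsmul_eq_mul]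
    have hd' : (d φ : ℂ) = (K.index : ℂ) * f := by
      rw [← hd φ hφ, he', indFun_one_apply, hf]
    have hn' : (n φ : ℂ) = (Nat.card (inertia K θ) : ℂ) / (Nat.card K : ℂ) := by
      rw [← hn φ hφ, he', classInner_indFun_self K hθ]
    rw [hF, hsum, hd', hn']
    have hI : (Nat.card (inertia K θ) : ℂ) ≠ 0 := Nat.cast_ne_zero.mpr Nat.card_pos.ne'
    have h1 : ((inertia K θ).index : ℂ) * (Nat.card (inertia K θ) : ℂ) = (K.index : ℂ) * (Nat.card K : ℂ) := by
      rw [← Nat.cast_mul, ← Nat.cast_mul, (inertia K θ).index_mul_card, K.index_mul_card]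
    field_simp
    linear_combination -(K.index : ℂ) * (f : ℂ) ^ 2 * h1
  have htot : ∑ θ ∈ Θ, θ 1 ^ 2 = (A.relIndex K : ℂ) - 1 := by
    have h1 := sum_sq_over (A.subgroupOf K)
    have h1mem : (⟨1, isIrrCharacter_one⟩ : IrrCharacter K) ∈ Finset.univ.filter
        (fun χ : IrrCharacter K => ∀ a ∈ A.subgroupOf K, (χ : K → ℂ) a = (χ : K → ℂ) 1) := by
      simp
    rw [← Finset.add_sum_erase _ _ h1mem] at h1
    simp only [Pi.one_apply, one_pow] at h1
    have e : ∑ θ ∈ Θ, θ 1 ^ 2 = ∑ χ ∈ (Finset.univ.filter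
        (fun χ : IrrCharacter K => ∀ a ∈ A.subgroupOf K, (χ : K → ℂ) a = (χ : K → ℂ) 1)).erase
        ⟨1, isIrrCharacter_one⟩, (χ : K → ℂ) 1 ^ 2 := by
      refine (Finset.sum_bij (fun χ _ => χ.1) (fun χ hχ => ?_) (fun a _ b _ h => Subtype.ext h)
        (fun θ hθ => ?_) fun _ _ => rfl).symm
      · rw [Finset.mem_erase, Finset.mem_filter] at hχ
        exact (hΘ _).mpr ⟨χ.2, fun h => hχ.1 (Subtype.ext h),
          fun a ha => hχ.2.2 a (Subgroup.mem_subgroupOf.mpr ha)⟩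
      · obtain ⟨g1, g2, g3⟩ := (hΘ θ).mp hθ
        refine ⟨⟨θ, g1⟩, Finset.mem_erase.mpr ⟨fun h => g2 (congrArg Subtype.val h :),
          Finset.mem_filter.mpr ⟨Finset.mem_univ _, fun a ha => g3 a (Subgroup.mem_subgroupOf.mp ha)⟩⟩, rfl⟩
    rw [e, Subgroup.relIndex, ← h1]
    ring
  have key : ((∑ φ ∈ S₁, ((d φ : ℝ) ^ 2 / (n φ : ℝ)) : ℝ) : ℂ) =
      (((K.index : ℝ) * ((A.relIndex K : ℝ) - 1) : ℝ) : ℂ) := by
    push_cast
    rw [Finset.sum_congr rfl hfib, ← Finset.mul_sum, Finset.sum_fiberwise_of_maps_to hmaps, htot]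
  exact_mod_cast key

theorem inducedIrrAbove_nonempty [Group.IsSolvable K] (A : Subgroup L) [A.Normal] (hA : ¬ K ≤ A) :
    ∃ φ ∈ inducedIrrAbove K A, φ 1 = (K.index : ℂ) := by
  haveI := Fintype.ofFinite (A.subgroupOf K)
  obtain ⟨l, hl, hla⟩ := exists_linear_over (A.subgroupOf K)
    (fun h => hA (Subgroup.subgroupOf_eq_top.mp h))
  refine ⟨indFun K fun k => (l k : ℂ), ⟨fun k => (l k : ℂ), isIrrCharacter_monoidHom l,
    fun h => hl (MonoidHom.ext fun k => Units.ext (by simpa using congrFun h k)),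
    fun a ha => by simp [hla a (Subgroup.mem_subgroupOf.mpr ha)],
    indFun_congr rfl _ _ fun x hx hx' => rfl⟩, ?_⟩
  rw [indFun_one_apply]
  simp

/-- Coherence descends through a central section. -/
theorem coherence_descent [Group.IsSolvable K] (hS : IsCoherenceSystem (inducedIrrAbove K ⊥) τ R)
    (A B C D : Subgroup L) [A.Normal] [B.Normal] [C.Normal] (hAK : ¬ K ≤ A) (hBK : ¬ K ≤ B)
    (hBD : B ≤ D) (hDC : D ≤ C) (hCK : C ≤ K)
    (hcent : ∀ x ∈ D, ∀ y ∈ C, x * y * x⁻¹ * y⁻¹ ∈ B)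
    (hA : IsCoherent (inducedIrrAbove K A) {1}ᶜ τ)
    (hlt : 4 * C.index ^ 2 * D.relIndex C < (A.relIndex K - 1) ^ 2) :
    IsCoherent (inducedIrrAbove K B) {1}ᶜ τ := by
  classical
  haveI := Fintype.ofFinite (IrrCharacter K)
  have hfin : (inducedIrrAbove K ⊥).Finite := finite_of_orthogonal _
    (fun φ hφ => system_norm_ne_zero hS hφ) hS.orthogonal
  let S₁ : Finset (L → ℂ) := (hfin.subset (inducedIrrAbove_subset_bot K A)).toFinset
  let T : Finset (L → ℂ) := (hfin.subset (inducedIrrAbove_subset_bot K B)).toFinset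
  have hS₁ : ∀ φ, φ ∈ S₁ ↔ φ ∈ inducedIrrAbove K A := fun φ => Set.Finite.mem_toFinset _
  have hT : ∀ φ, φ ∈ T ↔ φ ∈ inducedIrrAbove K B := fun φ => Set.Finite.mem_toFinset _
  choose! d hd using fun φ (hφ : φ ∈ inducedIrrAbove K ⊥) =>
    IsCharacter.exists_degree (hS.isCharacter φ hφ)
  choose! n hn using fun φ (hφ : φ ∈ inducedIrrAbove K ⊥) =>
    classInner_natCast_of_isCharacter (hS.isCharacter φ hφ) (hS.isCharacter φ hφ)
  have hS₁sub : (↑S₁ : Set (L → ℂ)) ⊆ inducedIrrAbove K ⊥ := fun φ hφ =>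
    inducedIrrAbove_subset_bot K A ((hS₁ φ).mp hφ)
  have hTsub : (↑T : Set (L → ℂ)) ⊆ inducedIrrAbove K ⊥ := fun φ hφ =>
    inducedIrrAbove_subset_bot K B ((hT φ).mp hφ)
  obtain ⟨χ₁, hχ₁, hχ₁d⟩ := inducedIrrAbove_nonempty K A hAK
  have hd1 : d χ₁ = K.index := by
    have h := hd χ₁ (inducedIrrAbove_subset_bot K A hχ₁)
    rw [hχ₁d] at h
    exact_mod_cast h.symm
  have hdeg : ∀ χ ∈ T, ∃ f : ℕ, d χ = K.index * f ∧
      f ^ 2 ≤ (C.subgroupOf K).index ^ 2 * D.relIndex C := by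
    intro χ hχ
    obtain ⟨θ, hθ, -, hker, he⟩ := (hT χ).mp hχ
    obtain ⟨f, -, hf⟩ := IsIrrCharacter.degree_pos hθ
    refine ⟨f, ?_, ?_⟩
    · have h := hd χ (hTsub hχ)
      rw [congrFun he 1, indFun_one_apply, hf, ← Nat.cast_mul] at h
      exact_mod_cast h.symm
    · haveI : (C.subgroupOf K).Normal := Subgroup.normal_subgroupOf
      have h1 := degree_sq_le_of_central (B.subgroupOf K) (C.subgroupOf K) (D.subgroupOf K)
        (fun x hx => Subgroup.mem_subgroupOf.mpr (hBD (Subgroup.mem_subgroupOf.mp hx)))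
        (fun x hx => Subgroup.mem_subgroupOf.mpr (hDC (Subgroup.mem_subgroupOf.mp hx)))
        (fun x hx y hy => Subgroup.mem_subgroupOf.mpr
          (hcent x (Subgroup.mem_subgroupOf.mp hx) y (Subgroup.mem_subgroupOf.mp hy)))
        hθ (fun b hb => hker b (Subgroup.mem_subgroupOf.mp hb)) hf
      rwa [Subgroup.relIndex_subgroupOf hCK] at h1
  have hAeq : (↑S₁ : Set (L → ℂ)) = inducedIrrAbove K A := Set.Finite.coe_toFinset _
  have hr : 1 ≤ A.relIndex K := Nat.one_le_iff_ne_zero.mpr Subgroup.index_ne_zero_of_finite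
  obtain ⟨U, -, h2, -, -, h5⟩ := coherent_union hS d n hd hn S₁ hS₁sub
    (fun φ hφ => (hS₁ _).mpr (inducedIrrAbove_conj K ((hS₁ φ).mp hφ))) (by rw [hAeq]; exact hA)
    ((hS₁ _).mpr hχ₁) T hTsub
    (fun χ hχ => by obtain ⟨f, hf, -⟩ := hdeg χ hχ; rw [hd1, hf]; exact dvd_mul_right _ _)
    (fun χ hχ => by
      obtain ⟨f, hf, hfle⟩ := hdeg χ hχ
      rw [sum_sq_div_norm K A S₁ hS₁ d n (fun φ hφ => hd φ (hS₁sub hφ))
        (fun φ hφ => hn φ (hS₁sub hφ)), hd1, hf]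
      have h1 : C.index = (C.subgroupOf K).index * K.index := (Subgroup.relIndex_mul_index hCK).symm
      have h3 : (2 * (K.index * f)) ^ 2 < (A.relIndex K - 1) ^ 2 := by
        refine lt_of_le_of_lt ?_ hlt
        rw [h1]
        calc (2 * (K.index * f)) ^ 2 = 4 * K.index ^ 2 * f ^ 2 := by ring
          _ ≤ 4 * K.index ^ 2 * ((C.subgroupOf K).index ^ 2 * D.relIndex C) :=
              Nat.mul_le_mul_left _ hfle
          _ = _ := by ring
      have h4 : 2 * (K.index * f) < A.relIndex K - 1 := lt_of_pow_lt_pow_left₀ 2 (Nat.zero_le _) h3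
      have h5 : (2 * ((K.index : ℝ) * f)) < (A.relIndex K : ℝ) - 1 := by
        rw [← Nat.cast_one (R := ℝ), ← Nat.cast_sub hr]
        exact_mod_cast h4
      have hKpos : (0 : ℝ) < K.index := Nat.cast_pos.mpr (Nat.pos_of_ne_zero Subgroup.index_ne_zero_of_finite)
      push_cast
      calc 2 * ((K.index : ℝ) * f) * K.index = (K.index : ℝ) * (2 * ((K.index : ℝ) * f)) := by ring
        _ < _ := mul_lt_mul_of_pos_left h5 hKpos)
  obtain ⟨φ, hφ, -⟩ := inducedIrrAbove_nonempty K B hBK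
  refine isCoherent_mono (fun φ hφ => h2 ((hT φ).mpr hφ)) h5
    ⟨φ - conjFun φ, mem_zspanOn_compl_one.mpr ⟨Submodule.sub_mem _ (Submodule.subset_span hφ)
      (Submodule.subset_span (inducedIrrAbove_conj K hφ)), ?_⟩,
      fun h => hS.conj_ne φ (inducedIrrAbove_subset_bot K B hφ) (sub_eq_zero.mp h).symm⟩
  exact (mem_zspanOn_compl_one.mp
    (system_sub_conj_mem hS (inducedIrrAbove_subset_bot K B hφ))).2

end Induced

end Cfsg.Agent.Char
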