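import Cfsg.Agent.Lib.Char.Coherence

/-!
# Extending a coherent set by a pair of conjugate characters
-/

set_option autoImplicit false
set_option linter.style.haveILetI false

namespace Cfsg.Agent.Char

open Cfsg
open scoped ComplexConjugate

universe u v

variable {L : Type u} [Group L] [Fintype L] {G : Type v} [Group G] [Fintype G]
  {S : Set (L → ℂ)} {τ : (L → ℂ) → (G → ℂ)} {R : (L → ℂ) → Finset (G → ℂ)}

theorem classInner_conjFun_self (χ : L → ℂ) :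
    classInner (conjFun χ) (conjFun χ) = conj (classInner χ χ) := by
  simp [classInner, conjFun, map_sum]

theorem classInner_proj_self (hS : IsCoherenceSystem S τ R) {χ : L → ℂ} (hχ : χ ∈ S) (f : G → ℂ)
    (c : (G → ℂ) → ℤ) (hc : ∀ α ∈ R χ, classInner f α = c α) :
    classInner (proj (R χ) f) (proj (R χ) f) = ((∑ α ∈ R χ, c α ^ 2 : ℤ) : ℂ) ∧
      classInner f (proj (R χ) f) = ((∑ α ∈ R χ, c α ^ 2 : ℤ) : ℂ) ∧
      classInner (proj (R χ) f) f = ((∑ α ∈ R χ, c α ^ 2 : ℤ) : ℂ) := by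
  have h1 : classInner f (proj (R χ) f) = ((∑ α ∈ R χ, c α ^ 2 : ℤ) : ℂ) := by
    rw [classInner_proj_right]
    push_cast
    exact Finset.sum_congr rfl fun α hα => by rw [hc α hα, map_intCast]; ring
  refine ⟨?_, h1, by rw [← classInner_conj_symm, h1, map_intCast]⟩
  rw [classInner_proj_right]
  push_cast
  refine Finset.sum_congr rfl fun α hα => ?_
  rw [classInner_proj_mem _ _ (hS.orthonormal χ hχ) hα, hc α hα, map_intCast]
  ring

theorem classInner_eq_zero_of_proj {P : Finset (G → ℂ)} {f g : G → ℂ} (hf : f = proj P f)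
    (h : ∀ α ∈ P, classInner α g = 0) : classInner f g = 0 := by
  rw [hf, classInner_proj_left]
  exact Finset.sum_eq_zero fun α hα => by rw [h α hα, mul_zero]

/-- A coherent extension sends a character into the span of its distinguished set. -/
theorem coherent_image_eq_proj (hS : IsCoherenceSystem S τ R) {T : Set (L → ℂ)} (hT : T ⊆ S)
    {τ₁ : (L → ℂ) → (G → ℂ)} (hτ₁ : IsLinearIsometryOn (zspan T) τ₁)
    (hag : ∀ α ∈ zspanOn T {1}ᶜ, τ₁ α = τ α) {φ : L → ℂ} (hφ : φ ∈ T) (hφ' : conjFun φ ∈ T) :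
    τ₁ φ = proj (R φ) (τ₁ φ) := by
  have hm : φ ∈ zspan T := Submodule.subset_span hφ
  have hm' : conjFun φ ∈ zspan T := Submodule.subset_span hφ'
  have hsub : φ - conjFun φ ∈ zspanOn T {1}ᶜ := mem_zspanOn_compl_one.mpr
    ⟨Submodule.sub_mem _ hm hm', by
      obtain ⟨d, hd⟩ := IsCharacter.exists_degree (hS.isCharacter φ (hT hφ))
      simp [conjFun, hd]⟩
  have hd : τ₁ φ - τ₁ (conjFun φ) = ∑ α ∈ R φ, α := by
    rw [← IsLinearIsometryOn.map_sub (P := Submodule.span ℤ T) hτ₁ hm hm', hag _ hsub,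
      hS.sum_eq φ (hT hφ)]
  obtain ⟨n, hn⟩ := classInner_natCast_of_isCharacter (hS.isCharacter φ (hT hφ))
    (hS.isCharacter φ (hT hφ))
  have huu : classInner (τ₁ φ) (τ₁ φ) = n := by rw [hτ₁.2.2.1 _ hm _ hm, hn]
  have huv : classInner (τ₁ φ) (τ₁ (conjFun φ)) = 0 := by
    rw [hτ₁.2.2.1 _ hm _ hm']
    exact hS.orthogonal φ (hT hφ) _ (hT hφ') (Ne.symm (hS.conj_ne φ (hT hφ)))
  have hc : ∀ α ∈ R φ, ∃ z : ℤ, classInner (τ₁ φ) α = z := fun α hα =>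
    classInner_int_of_isGeneralized (hτ₁.2.2.2 _ hm) (hS.virtual φ (hT hφ) α hα)
  choose! c hc using hc
  have hsum : ((∑ α ∈ R φ, c α : ℤ) : ℂ) = n := by
    push_cast
    rw [← Finset.sum_congr rfl hc, ← classInner_sum_right, ← hd, classInner_sub_right, huu, huv,
      sub_zero]
  obtain ⟨p1, p2, p3⟩ := classInner_proj_self hS (hT hφ) (τ₁ φ) c hc
  have hr : classInner (τ₁ φ - proj (R φ) (τ₁ φ)) (τ₁ φ - proj (R φ) (τ₁ φ)) =
      (((∑ α ∈ R φ, c α) - ∑ α ∈ R φ, c α ^ 2 : ℤ) : ℂ) := by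
    rw [classInner_sub_left, classInner_sub_right, classInner_sub_right, huu, p1, p2, p3,
      Int.cast_sub, hsum]
    ring
  have hnn := classInner_self_re_nonneg (τ₁ φ - proj (R φ) (τ₁ φ))
  rw [hr, Complex.intCast_re] at hnn
  have h0 : 0 ≤ (∑ α ∈ R φ, c α) - ∑ α ∈ R φ, c α ^ 2 := by exact_mod_cast hnn
  have h1 : ∑ α ∈ R φ, c α ≤ ∑ α ∈ R φ, c α ^ 2 := Finset.sum_le_sum fun α _ => Int.le_self_sq (c α)
  rw [show (∑ α ∈ R φ, c α) - ∑ α ∈ R φ, c α ^ 2 = 0 by omega, Int.cast_zero] at hr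
  exact sub_eq_zero.mp (classInner_self_eq_zero hr)

set_option maxHeartbeats 1000000 in
/-- The extension criterion. -/
theorem coherent_extend (hS : IsCoherenceSystem S τ R) (d n : (L → ℂ) → ℕ)
    (hd : ∀ φ ∈ S, φ 1 = (d φ : ℂ)) (hn : ∀ φ ∈ S, classInner φ φ = (n φ : ℂ))
    (S₁ : Finset (L → ℂ)) (hS₁ : ↑S₁ ⊆ S) (hS₁c : ∀ φ ∈ S₁, conjFun φ ∈ S₁)
    (hcoh : IsCoherent (↑S₁ : Set (L → ℂ)) {1}ᶜ τ) {χ : L → ℂ} (hχ : χ ∈ S) (hχ₁ : χ ∉ S₁)
    (hχ₂ : conjFun χ ∉ S₁) {χ₁ : L → ℂ} (hχ₁S : χ₁ ∈ S₁) (hdvd : d χ₁ ∣ d χ)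
    (hineq : (2 * d χ * d χ₁ : ℝ) < ∑ φ ∈ S₁, ((d φ : ℝ) ^ 2 / (n φ : ℝ))) :
    IsCoherent (↑S₁ ∪ {χ, conjFun χ} : Set (L → ℂ)) {1}ᶜ τ := by
  classical
  obtain ⟨⟨α₀, hα₀, hα₀ne⟩, τ₁, hτ₁, hag⟩ := hcoh
  obtain ⟨a, ha⟩ := hdvd
  have hχ' := hS.conj_mem χ hχ
  have hne := hS.conj_ne χ hχ
  have hχ₁' : χ₁ ∈ S := hS₁ hχ₁S
  have hdpos : ∀ φ ∈ S, 0 < d φ := fun φ hφ => Nat.pos_of_ne_zero fun h0 =>
    system_ne_zero hS hφ (IsCharacter.eq_zero_of_degree_zero (hS.isCharacter φ hφ)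
      (by rw [hd φ hφ, h0, Nat.cast_zero]))
  have hnpos : ∀ φ ∈ S, (n φ : ℂ) ≠ 0 := fun φ hφ => hn φ hφ ▸ system_norm_ne_zero hS hφ
  have ha0 : 0 < a := Nat.pos_of_ne_zero fun h => by
    have := hdpos χ hχ
    rw [ha, h, mul_zero] at this
    exact lt_irrefl 0 this
  have hms : ∀ φ ∈ S₁, φ ∈ zspan (↑S₁ : Set (L → ℂ)) := fun φ hφ => Submodule.subset_span hφ
  have hoχ : ∀ φ ∈ S₁, classInner φ χ = 0 ∧ classInner φ (conjFun χ) = 0 ∧ classInner χ φ = 0 ∧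
      classInner (conjFun χ) φ = 0 := fun φ hφ =>
    ⟨hS.orthogonal φ (hS₁ hφ) χ hχ fun h => hχ₁ (h ▸ hφ),
     hS.orthogonal φ (hS₁ hφ) _ hχ' fun h => hχ₂ (h ▸ hφ),
     hS.orthogonal χ hχ φ (hS₁ hφ) fun h => hχ₁ (h ▸ hφ),
     hS.orthogonal _ hχ' φ (hS₁ hφ) fun h => hχ₂ (h ▸ hφ)⟩
  have hperp : ∀ φ ∈ S₁, ∀ f : G → ℂ, f = proj (R χ) f → classInner f (τ₁ φ) = 0 := by
    intro φ hφ f hf
    refine classInner_eq_zero_of_proj hf fun α hα => ?_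
    rw [← classInner_conj_symm, classInner_eq_zero_of_proj (coherent_image_eq_proj hS hS₁ hτ₁ hag hφ
      (hS₁c φ hφ)) fun β hβ => hS.disjoint χ hχ φ (hS₁ hφ) (hoχ φ hφ).1 (hoχ φ hφ).2.1 β hβ α hα,
      map_zero]
  set ψ : L → ℂ := (a : ℤ) • χ₁ with hψdef
  have hψC : ψ = ((a : ℂ)) • χ₁ := by rw [hψdef, ← Int.cast_smul_eq_zsmul ℂ, Int.cast_natCast]
  have hψmem : ψ ∈ zspan S := Submodule.smul_mem _ _ (Submodule.subset_span hχ₁')
  have hδ : χ - ψ ∈ zspanOn S {1}ᶜ := mem_zspanOn_compl_one.mpr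
    ⟨Submodule.sub_mem _ (Submodule.subset_span hχ) hψmem, by
      rw [Pi.sub_apply, hψC, Pi.smul_apply, smul_eq_mul, hd χ hχ, hd χ₁ hχ₁', ha]
      push_cast; ring⟩
  have hcc : χ - conjFun χ ∈ zspanOn S {1}ᶜ := system_sub_conj_mem hS hχ
  set β : G → ℂ := τ (χ - ψ) with hβdef
  have hβgen : IsGeneralizedCharacter G β := hS.isometry.2.2.2 _ hδ
  have hββ : classInner β β = (n χ : ℂ) + (a : ℂ) ^ 2 * n χ₁ := by
    rw [hS.isometry.2.2.1 _ hδ _ hδ, hψC, classInner_sub_left, classInner_sub_right,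
      classInner_sub_right, classInner_smul_left, classInner_smul_left, classInner_smul_right,
      classInner_smul_right, (hoχ χ₁ hχ₁S).1, (hoχ χ₁ hχ₁S).2.2.1, hn χ hχ, hn χ₁ hχ₁',
      Complex.conj_natCast]
    ring
  have hc : ∀ α ∈ R χ, ∃ z : ℤ, classInner β α = z := fun α hα =>
    classInner_int_of_isGeneralized hβgen (hS.virtual χ hχ α hα)
  choose! c hc using hc
  have hcsum : ((∑ α ∈ R χ, c α : ℤ) : ℂ) = n χ := by
    push_cast
    rw [← Finset.sum_congr rfl hc, system_sum_inner hS hχ hδ, hψC, classInner_sub_left,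
      classInner_sub_left, classInner_smul_left, classInner_smul_left, (hoχ χ₁ hχ₁S).1,
      (hoχ χ₁ hχ₁S).2.1, hn χ hχ, hS.orthogonal χ hχ _ hχ' (Ne.symm hne)]
    ring
  have hx : ∀ φ ∈ S₁, ∃ z : ℤ, classInner β (τ₁ φ) = z := fun φ hφ =>
    classInner_int_of_isGeneralized hβgen (hτ₁.2.2.2 _ (hms φ hφ))
  choose! x hx using hx
  set b : ℤ := x χ₁ + (a : ℤ) * n χ₁ with hbdef
  have hrel : ∀ φ ∈ S₁, (d χ₁ : ℂ) * ((x φ : ℂ) + (a : ℂ) * classInner χ₁ φ) = (b : ℂ) * d φ := by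
    intro φ hφ
    have hα : (d χ₁ : ℤ) • φ - (d φ : ℤ) • χ₁ ∈ zspanOn (↑S₁ : Set (L → ℂ)) {1}ᶜ :=
      mem_zspanOn_compl_one.mpr ⟨Submodule.sub_mem _ (Submodule.smul_mem _ _ (hms φ hφ))
        (Submodule.smul_mem _ _ (hms χ₁ hχ₁S)), by
          rw [Pi.sub_apply, Pi.smul_apply, Pi.smul_apply, hd φ (hS₁ hφ), hd χ₁ hχ₁']
          simp [mul_comm]⟩
    have hαS : (d χ₁ : ℤ) • φ - (d φ : ℤ) • χ₁ ∈ zspanOn S {1}ᶜ :=
      ⟨zspan_mono hS₁ hα.1, hα.2⟩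
    have h1 : classInner β (τ₁ ((d χ₁ : ℤ) • φ - (d φ : ℤ) • χ₁)) =
        classInner (χ - ψ) ((d χ₁ : ℤ) • φ - (d φ : ℤ) • χ₁) := by
      rw [hag _ hα, hβdef, hS.isometry.2.2.1 _ hδ _ hαS]
    rw [IsLinearIsometryOn.map_sub (P := Submodule.span ℤ (↑S₁ : Set (L → ℂ))) hτ₁
      (Submodule.smul_mem _ _ (hms φ hφ)) (Submodule.smul_mem _ _ (hms χ₁ hχ₁S)),
      hτ₁.2.1 _ (hms φ hφ), hτ₁.2.1 _ (hms χ₁ hχ₁S), ← Int.cast_smul_eq_zsmul ℂ,
      ← Int.cast_smul_eq_zsmul ℂ, ← Int.cast_smul_eq_zsmul ℂ, ← Int.cast_smul_eq_zsmul ℂ,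
      classInner_sub_right, classInner_smul_right, classInner_smul_right, hx φ hφ, hx χ₁ hχ₁S,
      hψC, classInner_sub_left, classInner_sub_right, classInner_sub_right, classInner_smul_right,
      classInner_smul_right, classInner_smul_right, classInner_smul_right, classInner_smul_left,
      classInner_smul_left, (hoχ φ hφ).2.2.1, (hoχ χ₁ hχ₁S).2.2.1, hn χ₁ hχ₁'] at h1
    simp only [Int.cast_natCast, Complex.conj_natCast] at h1
    rw [hbdef]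
    push_cast
    linear_combination h1
  have hd1 : (d χ₁ : ℂ) ≠ 0 := Nat.cast_ne_zero.mpr (hdpos χ₁ hχ₁').ne'
  set X : G → ℂ := ∑ φ ∈ S₁, ((x φ : ℂ) / n φ) • τ₁ φ with hXdef
  have hττ : ∀ φ ∈ S₁, ∀ ψ' ∈ S₁, classInner (τ₁ φ) (τ₁ ψ') = if φ = ψ' then (n φ : ℂ) else 0 := by
    intro φ hφ ψ' hψ'
    rw [hτ₁.2.2.1 _ (hms φ hφ) _ (hms ψ' hψ')]
    split_ifs with h
    · rw [← h, hn φ (hS₁ hφ)]
    · exact hS.orthogonal φ (hS₁ hφ) ψ' (hS₁ hψ') h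
  set Q : ℂ := ∑ φ ∈ S₁, (x φ : ℂ) ^ 2 / n φ with hQdef
  have hXX : classInner X X = Q := by
    rw [hXdef, classInner_sum_left]
    refine Finset.sum_congr rfl fun φ hφ => ?_
    rw [classInner_smul_left, classInner_sum_right, Finset.sum_eq_single_of_mem φ hφ
      (fun ψ' hψ' h => by rw [classInner_smul_right, hττ φ hφ ψ' hψ', if_neg (Ne.symm h), mul_zero]),
      classInner_smul_right, hττ φ hφ φ hφ, if_pos rfl, map_div₀, map_intCast, Complex.conj_natCast]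
    have := hnpos φ (hS₁ hφ)
    field_simp
  have hβX : classInner β X = Q := by
    rw [hXdef, classInner_sum_right]
    refine Finset.sum_congr rfl fun φ hφ => ?_
    rw [classInner_smul_right, hx φ hφ, map_div₀, map_intCast, Complex.conj_natCast]
    ring
  have hQreal : conj Q = Q := by
    rw [hQdef, map_sum]
    exact Finset.sum_congr rfl fun φ _ => by rw [map_div₀, map_pow, map_intCast, Complex.conj_natCast]
  have hXβ : classInner X β = Q := by rw [← classInner_conj_symm, hβX, hQreal]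
  set P : G → ℂ := proj (R χ) β with hPdef
  obtain ⟨p1, p2, p3⟩ := classInner_proj_self hS hχ β c hc
  rw [← hPdef] at p1 p2 p3
  have hPP : P = proj (R χ) P := by
    rw [hPdef]
    exact Finset.sum_congr rfl fun α hα => by rw [classInner_proj_mem _ _ (hS.orthonormal χ hχ) hα]
  have hPX : classInner P X = 0 := by
    rw [hXdef, classInner_sum_right]
    exact Finset.sum_eq_zero fun φ hφ => by rw [classInner_smul_right, hperp φ hφ P hPP, mul_zero]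
  have hXP : classInner X P = 0 := by rw [← classInner_conj_symm, hPX, map_zero]
  set q : ℤ := ∑ α ∈ R χ, c α ^ 2 with hqdef
  have hr : classInner (β - P - X) (β - P - X) = (n χ : ℂ) + (a : ℂ) ^ 2 * n χ₁ - (q : ℂ) - Q := by
    simp only [classInner_sub_left, classInner_sub_right, hββ, p1, p2, p3, hPX, hXP, hXX, hβX, hXβ]
    ring
  have hnn := classInner_self_re_nonneg (β - P - X)
  rw [hr] at hnn
  have hq : (n χ : ℤ) ≤ q := by
    have e : (∑ α ∈ R χ, c α : ℤ) = (n χ : ℤ) := by exact_mod_cast hcsum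
    rw [← e, hqdef]
    exact Finset.sum_le_sum fun α _ => Int.le_self_sq (c α)
  set T : ℝ := ∑ φ ∈ S₁, ((d φ : ℝ) ^ 2 / (n φ : ℝ)) with hTdef
  have hQv : Q = (b : ℂ) ^ 2 / (d χ₁ : ℂ) ^ 2 * (T : ℂ) - 2 * a * b + (a : ℂ) ^ 2 * n χ₁ := by
    have key : ∀ φ ∈ S₁, (x φ : ℂ) ^ 2 / n φ = (b : ℂ) ^ 2 / (d χ₁ : ℂ) ^ 2 * ((d φ : ℂ) ^ 2 / n φ) +
        (if φ = χ₁ then (a : ℂ) ^ 2 * n χ₁ - 2 * a * b else 0) := by
      intro φ hφ
      have h := hrel φ hφ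
      have hnφ := hnpos φ (hS₁ hφ)
      by_cases e : φ = χ₁
      · subst e
        rw [hn φ hχ₁'] at h
        rw [if_pos rfl]
        have h' : (x φ : ℂ) = (b : ℂ) - (a : ℂ) * n φ :=
          mul_left_cancel₀ hd1 (by linear_combination h)
        rw [h']
        field_simp
        ring
      · rw [hS.orthogonal χ₁ hχ₁' φ (hS₁ hφ) (Ne.symm e), mul_zero, add_zero] at h
        rw [if_neg e, add_zero]
        have h' : (x φ : ℂ) = (b : ℂ) * d φ / d χ₁ := by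
          rw [eq_div_iff hd1]; linear_combination h
        rw [h']
        field_simp
    rw [hQdef, Finset.sum_congr rfl key, Finset.sum_add_distrib, ← Finset.mul_sum,
      Finset.sum_ite_eq' S₁ χ₁, if_pos hχ₁S, hTdef]
    push_cast
    ring
  have hQre : Q.re = (b : ℝ) ^ 2 / (d χ₁ : ℝ) ^ 2 * T - 2 * a * b + (a : ℝ) ^ 2 * n χ₁ := by
    have : Q = (((b : ℝ) ^ 2 / (d χ₁ : ℝ) ^ 2 * T - 2 * a * b + (a : ℝ) ^ 2 * n χ₁ : ℝ) : ℂ) := by
      rw [hQv]; push_cast; ring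
    rw [this, Complex.ofReal_re]
  have hnn' : (0 : ℝ) ≤ (n χ : ℝ) + (a : ℝ) ^ 2 * n χ₁ - (q : ℝ) - Q.re := by
    have e : ((a : ℂ) ^ 2 * n χ₁) = (((a : ℝ) ^ 2 * n χ₁ : ℝ) : ℂ) := by push_cast; rfl
    rw [e] at hnn
    simp only [Complex.sub_re, Complex.add_re, Complex.natCast_re, Complex.intCast_re,
      Complex.ofReal_re] at hnn
    exact hnn
  have hqR : (n χ : ℝ) ≤ (q : ℝ) := by exact_mod_cast hq
  have hbsq : (b : ℝ) ≤ (b : ℝ) ^ 2 := by exact_mod_cast Int.le_self_sq b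
  have hb0 : b = 0 := by
    by_contra hb
    have hd1R : (0 : ℝ) < d χ₁ := Nat.cast_pos.mpr (hdpos χ₁ hχ₁')
    have hbR : (0 : ℝ) < (b : ℝ) ^ 2 := lt_of_le_of_ne (sq_nonneg _) (Ne.symm (by
      simpa using hb))
    have h2 : (b : ℝ) ^ 2 * (2 * a) < (b : ℝ) ^ 2 / (d χ₁ : ℝ) ^ 2 * T := by
      rw [div_mul_eq_mul_div, lt_div_iff₀ (by positivity), mul_assoc]
      refine mul_lt_mul_of_pos_left ?_ hbR
      rw [ha, Nat.cast_mul] at hineq
      calc 2 * (a : ℝ) * (d χ₁ : ℝ) ^ 2 = 2 * ((d χ₁ : ℝ) * a) * d χ₁ := by ring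
        _ < T := hineq
    rw [hQre] at hnn'
    have h3 : (b : ℝ) * (2 * a) ≤ (b : ℝ) ^ 2 * (2 * a) :=
      mul_le_mul_of_nonneg_right hbsq (by positivity)
    nlinarith
  have hQ0 : Q = (a : ℂ) ^ 2 * n χ₁ := by rw [hQv, hb0]; simp
  have hqn : q = (n χ : ℤ) := by
    have hQre0 : Q.re = (a : ℝ) ^ 2 * n χ₁ := by rw [hQre, hb0]; simp
    rw [hQre0] at hnn'
    have : (q : ℝ) ≤ (n χ : ℝ) := by linarith
    exact le_antisymm (by exact_mod_cast this) hq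
  have hdec : β = P + X := by
    rw [← sub_eq_zero, ← sub_sub]
    refine classInner_self_eq_zero ?_
    rw [hr, hqn, hQ0]
    push_cast
    ring
  have hX' : X = -((a : ℂ) • τ₁ χ₁) := by
    rw [hXdef, Finset.sum_eq_single_of_mem χ₁ hχ₁S]
    · have hx1 : x χ₁ = -((a : ℤ) * n χ₁) := by rw [hbdef] at hb0; linarith
      rw [hx1]
      push_cast
      rw [neg_div, mul_div_assoc, div_self (hnpos χ₁ hχ₁'), mul_one, neg_smul]
    · intro φ hφ e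
      have h := hrel φ hφ
      rw [hb0, hS.orthogonal χ₁ hχ₁' φ (hS₁ hφ) (Ne.symm e), mul_zero, add_zero, Int.cast_zero,
        zero_mul] at h
      rw [(mul_eq_zero.mp h).resolve_left hd1, zero_div, zero_smul]
  have hPgen : IsGeneralizedCharacter G P := by
    rw [hPdef]
    refine isGeneralizedCharacter_sum _ _ fun α hα => ?_
    rw [hc α hα]
    exact isGeneralizedCharacter_intCast_smul (hS.virtual χ hχ α hα) _
  have hPn : classInner P P = n χ := by rw [p1, hqn, Int.cast_natCast]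
  have hD : classInner (τ (χ - conjFun χ)) (τ (χ - conjFun χ)) = 2 * (n χ : ℂ) := by
    rw [hS.isometry.2.2.1 _ hcc _ hcc, classInner_sub_left, classInner_sub_right,
      classInner_sub_right, classInner_conjFun_self, hn χ hχ, Complex.conj_natCast,
      hS.orthogonal χ hχ _ hχ' (Ne.symm hne), hS.orthogonal _ hχ' χ hχ hne]
    ring
  have hPD : classInner P (τ (χ - conjFun χ)) = n χ := by
    rw [hS.sum_eq χ hχ, classInner_sum_right, Finset.sum_congr rfl fun α hα => by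
      rw [hPdef, classInner_proj_mem _ _ (hS.orthonormal χ hχ) hα, hc α hα], ← hcsum]
    push_cast
    rfl
  have hDP : classInner (τ (χ - conjFun χ)) P = n χ := by
    rw [← classInner_conj_symm, hPD, Complex.conj_natCast]
  have hDproj : τ (χ - conjFun χ) = proj (R χ) (τ (χ - conjFun χ)) := by
    rw [hS.sum_eq χ hχ]
    refine (Finset.sum_congr rfl fun α hα => ?_).symm
    rw [classInner_sum_left, Finset.sum_eq_single_of_mem α hα (fun γ hγ hne' => by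
      rw [hS.orthonormal χ hχ γ hγ α hα, if_neg hne']), hS.orthonormal χ hχ α hα α hα, if_pos rfl,
      one_smul]
  let T' : (L → ℂ) → (G → ℂ) := fun φ =>
    if φ = χ then P else if φ = conjFun χ then P - τ (χ - conjFun χ) else τ₁ φ
  have hT1 : ∀ φ ∈ S₁, T' φ = τ₁ φ := fun φ hφ => by
    simp only [T', if_neg (show φ ≠ χ from fun h => hχ₁ (h ▸ hφ)),
      if_neg (show φ ≠ conjFun χ from fun h => hχ₂ (h ▸ hφ))]
  have hT2 : T' χ = P := if_pos rfl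
  have hT3 : T' (conjFun χ) = P - τ (χ - conjFun χ) := by simp only [T', if_neg hne, if_pos]
  have hU : (↑S₁ ∪ {χ, conjFun χ} : Set (L → ℂ)) ⊆ S :=
    Set.union_subset hS₁ (Set.insert_subset hχ (Set.singleton_subset_iff.mpr hχ'))
  obtain ⟨τ₂, hτ₂, hτ₂T⟩ := exists_isometry_extension (↑S₁ ∪ {χ, conjFun χ} : Set (L → ℂ))
    (fun φ hφ => system_norm_ne_zero hS (hU hφ))
    (fun φ hφ ψ' hψ' h => hS.orthogonal φ (hU hφ) ψ' (hU hψ') h) T' (by
      intro φ hφ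
      rcases hφ with hφ | rfl | rfl
      · rw [hT1 φ hφ]; exact hτ₁.2.2.2 _ (hms φ hφ)
      · rw [hT2]; exact hPgen
      · rw [hT3]; exact isGeneralizedCharacter_sub hPgen (hS.isometry.2.2.2 _ hcc)) (by
      have e1 : ∀ φ ∈ S₁, classInner P (τ₁ φ) = 0 := fun φ hφ => hperp φ hφ P hPP
      have e2 : ∀ φ ∈ S₁, classInner (τ₁ φ) P = 0 := fun φ hφ => by
        rw [← classInner_conj_symm, e1 φ hφ, map_zero]
      have e3 : ∀ φ ∈ S₁, classInner (τ (χ - conjFun χ)) (τ₁ φ) = 0 := fun φ hφ =>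
        hperp φ hφ _ hDproj
      have e4 : ∀ φ ∈ S₁, classInner (τ₁ φ) (τ (χ - conjFun χ)) = 0 := fun φ hφ => by
        rw [← classInner_conj_symm, e3 φ hφ, map_zero]
      intro φ hφ ψ' hψ'
      rcases hφ with hφ | rfl | rfl <;> rcases hψ' with hψ' | rfl | rfl
      · rw [hT1 φ hφ, hT1 ψ' hψ', hτ₁.2.2.1 _ (hms φ hφ) _ (hms ψ' hψ')]
      · rw [hT1 φ hφ, hT2, e2 φ hφ, (hoχ φ hφ).1]
      · rw [hT1 φ hφ, hT3, classInner_sub_right, e2 φ hφ, e4 φ hφ, (hoχ φ hφ).2.1, sub_zero]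
      · rw [hT1 ψ' hψ', hT2, e1 ψ' hψ', (hoχ ψ' hψ').2.2.1]
      · rw [hT2, hPn, hn _ hχ]
      · rw [hT2, hT3, classInner_sub_right, hPn, hPD, sub_self,
          hS.orthogonal _ hχ _ hχ' (Ne.symm hne)]
      · rw [hT1 ψ' hψ', hT3, classInner_sub_left, e1 ψ' hψ', e3 ψ' hψ', (hoχ ψ' hψ').2.2.2, sub_zero]
      · rw [hT2, hT3, classInner_sub_left, hPn, hDP, sub_self, hS.orthogonal _ hχ' _ hχ hne]
      · rw [hT3, classInner_sub_left, classInner_sub_right, classInner_sub_right, hPn, hPD, hDP, hD,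
          classInner_conjFun_self, hn χ hχ, Complex.conj_natCast]
        ring)
  refine ⟨⟨α₀, ⟨zspan_mono Set.subset_union_left hα₀.1, hα₀.2⟩, hα₀ne⟩, τ₂, hτ₂, fun θ hθ => ?_⟩
  set W : Submodule ℤ (L → ℂ) := Submodule.span ℤ (↑S₁ ∪ {χ, conjFun χ} : Set (L → ℂ)) with hWdef
  have hagS : ∀ α ∈ zspan (↑S₁ : Set (L → ℂ)), τ₂ α = τ₁ α := fun α hα =>
    eq_on_span (P := Submodule.span ℤ (↑S₁ : Set (L → ℂ))) (Q := W) hτ₁ hτ₂
      Submodule.subset_span (fun φ hφ => Submodule.subset_span (Or.inl hφ))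
      (fun φ hφ => by rw [hτ₂T φ (Or.inl hφ), hT1 φ hφ]) hα
  have hmχ : χ ∈ W := Submodule.subset_span (Or.inr (Or.inl rfl))
  have hmχ' : conjFun χ ∈ W := Submodule.subset_span (Or.inr (Or.inr rfl))
  have hW1 : Submodule.span ℤ (↑S₁ : Set (L → ℂ)) ≤ W := Submodule.span_mono Set.subset_union_left
  have hmψ : ψ ∈ W := W.smul_mem _ (hW1 (hms χ₁ hχ₁S))
  have hmem : θ ∈ Submodule.span ℤ (↑S₁ ∪ {χ, conjFun χ} : Set (L → ℂ)) :=
    (mem_zspanOn_compl_one.mp hθ).1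
  rw [Submodule.span_union] at hmem
  obtain ⟨θ₁, hθ₁, η, hη, hsum⟩ := Submodule.mem_sup.mp hmem
  obtain ⟨k, l, hkl⟩ := Submodule.mem_span_pair.mp hη
  set θ' : L → ℂ := θ₁ + (k + l) • ψ with hθ'def
  have hθ'S : θ' ∈ zspan (↑S₁ : Set (L → ℂ)) :=
    Submodule.add_mem _ hθ₁ (Submodule.smul_mem _ _ (Submodule.smul_mem _ _ (hms χ₁ hχ₁S)))
  have hθeq : θ = θ' + (k + l) • (χ - ψ) + (-l) • (χ - conjFun χ) := by
    rw [← hsum, ← hkl, hθ'def]
    module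
  have hθ'1 : θ' 1 = 0 := by
    have h := (mem_zspanOn_compl_one.mp hθ).2
    rw [hθeq, Pi.add_apply, Pi.add_apply, Pi.smul_apply, Pi.smul_apply,
      (mem_zspanOn_compl_one.mp hδ).2, (mem_zspanOn_compl_one.mp hcc).2, smul_zero, smul_zero,
      add_zero, add_zero] at h
    exact h
  have hθ'mem : θ' ∈ zspanOn (↑S₁ : Set (L → ℂ)) {1}ᶜ := mem_zspanOn_compl_one.mpr ⟨hθ'S, hθ'1⟩
  have hθ'memS : θ' ∈ zspanOnSub S {1}ᶜ := ⟨zspan_mono hS₁ hθ'S, hθ'mem.2⟩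
  have a1 : τ₂ θ' = τ θ' := by rw [hagS _ hθ'S, hag _ hθ'mem]
  have a2 : τ₂ (χ - ψ) = τ (χ - ψ) := by
    rw [IsLinearIsometryOn.map_sub (P := W) hτ₂ hmχ hmψ, hτ₂T χ (Or.inr (Or.inl rfl)), hT2,
      hagS ψ (Submodule.smul_mem _ _ (hms χ₁ hχ₁S)), hψdef, hτ₁.2.1 _ (hms χ₁ hχ₁S),
      ← Int.cast_smul_eq_zsmul ℂ, Int.cast_natCast, sub_eq_add_neg, ← hX', ← hdec]
  have a3 : τ₂ (χ - conjFun χ) = τ (χ - conjFun χ) := by
    rw [IsLinearIsometryOn.map_sub (P := W) hτ₂ hmχ hmχ', hτ₂T χ (Or.inr (Or.inl rfl)), hT2,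
      hτ₂T _ (Or.inr (Or.inr rfl)), hT3, sub_sub_cancel]
  have hP' : ∀ {P' : Submodule ℤ (L → ℂ)} {σ : (L → ℂ) → (G → ℂ)},
      IsLinearIsometryOn (P' : Set (L → ℂ)) σ → ∀ {u v w : L → ℂ}, u ∈ P' → v ∈ P' → w ∈ P' →
        ∀ i j : ℤ, σ (u + i • v + j • w) = σ u + i • σ v + j • σ w := by
    intro P' σ hσ u v w hu hv hw i j
    rw [hσ.1 _ (P'.add_mem hu (P'.smul_mem i hv)) _ (P'.smul_mem j hw),
      hσ.1 _ hu _ (P'.smul_mem i hv), hσ.2.1 _ hv, hσ.2.1 _ hw]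
  rw [hθeq, hP' (P' := W) hτ₂ (hW1 hθ'S) (W.sub_mem hmχ hmψ) (W.sub_mem hmχ hmχ'),
    hP' (P' := zspanOnSub S {1}ᶜ) hS.isometry hθ'memS hδ hcc, a1, a2, a3]

end Cfsg.Agent.Char
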