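import Cfsg.Agent.Lib.Char.Central

/-!
# Shifted orthogonality and commutators
-/

set_option autoImplicit false
set_option linter.style.haveILetI false

namespace Cfsg.Agent.Char

open Cfsg Representation Module
open scoped ComplexConjugate

universe u

variable {G : Type u} [Group G]

/-- Orthogonality with a shift. -/
theorem sum_conj_mul_shift [Fintype G] {χ : G → ℂ} (hχ : IsIrrCharacter G χ) (g : G) :
    ∑ x, conj (χ x) * χ (x * g) = (Nat.card G : ℂ) / χ 1 * χ g := by
  obtain ⟨n, ρ, hρ, rfl⟩ := hχ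
  haveI := hρ
  have hcf : IsClassFunction G (fun x => conj (ρ.character x)) := fun x y => by
    simp only [IsCharacter.isClassFunction (isCharacter_character ρ) x y]
  have h := sum_smul_rep_eq_smul_id ρ hcf
  have hk : (Nat.card G : ℂ) ≠ 0 := Nat.cast_ne_zero.mpr Nat.card_pos.ne'
  have h1 : ∑ x, conj (ρ.character x) * ρ.character x = (Nat.card G : ℂ) := by
    have := (isIrreducible_iff_classInner ρ).mp hρ
    rw [classInner, inv_mul_eq_div, div_eq_one_iff_eq hk] at this
    rw [← this]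
    exact Finset.sum_congr rfl fun x _ => mul_comm _ _
  rw [h1] at h
  have h2 := congrArg (fun A : (Fin n → ℂ) →ₗ[ℂ] (Fin n → ℂ) => LinearMap.trace ℂ _ (A * ρ g)) h
  simp only [Finset.sum_mul, smul_mul_assoc, ← map_mul, map_sum, map_smul, smul_eq_mul] at h2
  rw [show (LinearMap.id : (Fin n → ℂ) →ₗ[ℂ] (Fin n → ℂ)) * ρ g = ρ g from rfl] at h2
  rw [ρ.char_one]
  exact h2

/-- The number of ways of writing an element as a commutator. -/
theorem card_commutator_fiber [Fintype G] [DecidableEq G] [Fintype (IrrCharacter G)] (g : G) :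
    ((Finset.univ.filter fun p : G × G => p.1 * p.2 * p.1⁻¹ * p.2⁻¹ = g).card : ℂ) =
      (Nat.card G : ℂ) * ∑ χ : IrrCharacter G, (χ : G → ℂ) g / (χ : G → ℂ) 1 := by
  classical
  have key : ∀ a : G,
      ((Finset.univ.filter fun b : G => a * b * a⁻¹ * b⁻¹ = g).card : ℂ) =
        ∑ χ : IrrCharacter G, (χ : G → ℂ) (a⁻¹ * g) * conj ((χ : G → ℂ) a⁻¹) := by
    intro a
    rw [second_orthogonality]
    have e : (Finset.univ.filter fun b : G => a * b * a⁻¹ * b⁻¹ = g) =
        Finset.univ.filter fun b : G => b * a⁻¹ * b⁻¹ = a⁻¹ * g := by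
      refine Finset.filter_congr fun b _ => ⟨fun h => by rw [← h]; group, fun h => ?_⟩
      rw [show a * b * a⁻¹ * b⁻¹ = a * (b * a⁻¹ * b⁻¹) by group, h, mul_inv_cancel_left]
    rw [e]
    split_ifs with hc
    · obtain ⟨c, hc'⟩ := isConj_iff.mp hc.symm
      rw [← Fintype.card_subtype, ← Nat.card_eq_fintype_card]
      congr 1
      generalize a⁻¹ * g = y at hc' ⊢
      subst hc'
      refine Nat.card_congr
        { toFun := fun b => ⟨(b : G) * c⁻¹, Subgroup.mem_centralizer_singleton_iff.mpr ?_⟩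
          invFun := fun z => ⟨(z : G) * c, ?_⟩
          left_inv := fun b => by simp
          right_inv := fun z => by simp }
      · have hb := b.2
        calc (b : G) * c⁻¹ * (c * a⁻¹ * c⁻¹) = ((b : G) * a⁻¹ * (b : G)⁻¹) * ((b : G) * c⁻¹) := by group
          _ = c * a⁻¹ * c⁻¹ * ((b : G) * c⁻¹) := by rw [hb]
      · have hz := Subgroup.mem_centralizer_singleton_iff.mp z.2
        calc (z : G) * c * a⁻¹ * ((z : G) * c)⁻¹ = (z : G) * (c * a⁻¹ * c⁻¹) * (z : G)⁻¹ := by group
          _ = c * a⁻¹ * c⁻¹ := by rw [hz]; group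
    · rw [Finset.filter_eq_empty_iff.mpr fun b _ hb => hc (isConj_iff.mpr ⟨b, hb⟩).symm]
      simp
  have h1 : ((Finset.univ.filter fun p : G × G => p.1 * p.2 * p.1⁻¹ * p.2⁻¹ = g).card : ℂ) =
      ∑ a : G, ((Finset.univ.filter fun b : G => a * b * a⁻¹ * b⁻¹ = g).card : ℂ) := by
    simp only [Finset.card_filter, Nat.cast_sum, Fintype.sum_prod_type]
  rw [h1, Finset.sum_congr rfl fun a _ => key a, Finset.sum_comm, Finset.mul_sum]
  refine Finset.sum_congr rfl fun χ _ => ?_
  rw [← Equiv.sum_comp (Equiv.inv G), show (Nat.card G : ℂ) * ((χ : G → ℂ) g / (χ : G → ℂ) 1) =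
    (Nat.card G : ℂ) / (χ : G → ℂ) 1 * (χ : G → ℂ) g by ring, ← sum_conj_mul_shift χ.2 g]
  exact Finset.sum_congr rfl fun x _ => by simp [mul_comm]

end Cfsg.Agent.Char
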