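import Mathlib.NumberTheory.NumberField.Cyclotomic.Basic
import Mathlib.FieldTheory.IsAlgClosed.Classification
import Mathlib.RingTheory.AlgebraicIndependent.TranscendenceBasis
import Mathlib.Analysis.Complex.Polynomial.Basic

/-!
# Roots of unity in the complex numbers: integral values and automorphisms
-/

set_option autoImplicit false
set_option linter.style.haveILetI false

namespace Cfsg.Agent.Char.CycAut

open Polynomial IntermediateField

theorem isCyc {n : ℕ} [NeZero n] {η : ℂ} (hη : IsPrimitiveRoot η n) :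
    IsCyclotomicExtension {n} ℚ ℚ⟮η⟯ := by
  change IsCyclotomicExtension {n} ℚ (IntermediateField.adjoin ℚ {η}).toSubalgebra
  rw [IntermediateField.adjoin_simple_toSubalgebra_of_isAlgebraic
    (hη.isIntegral (NeZero.pos n)).tower_top.isAlgebraic]
  exact hη.adjoin_isCyclotomicExtension ℚ

/-- An algebraic integer in the field of `n`-th roots of unity is an integral polynomial in the root. -/
theorem exists_int_poly {n : ℕ} [NeZero n] {η : ℂ} (hη : IsPrimitiveRoot η n) {v : ℂ}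
    (hv : v ∈ ℚ⟮η⟯) (hint : IsIntegral ℤ v) : ∃ P : ℤ[X], aeval η P = v := by
  haveI := isCyc hη
  set z : ℚ⟮η⟯ := ⟨η, IntermediateField.mem_adjoin_simple_self ℚ η⟩
  set v' : ℚ⟮η⟯ := ⟨v, hv⟩
  have hz : IsPrimitiveRoot z n :=
    IsPrimitiveRoot.of_map_of_injective (f := ℚ⟮η⟯.val) (by exact hη) Subtype.val_injective
  have hic := IsCyclotomicExtension.Rat.isIntegralClosure_adjoin_singleton hz
  have hv' : IsIntegral ℤ v' :=
    (isIntegral_algebraMap_iff (A := ℚ⟮η⟯) (B := ℂ) (algebraMap ℚ⟮η⟯ ℂ).injective).mp hint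
  obtain ⟨y, hy⟩ := hic.isIntegral_iff.1 hv'
  have hy2 : v' ∈ Algebra.adjoin ℤ ({z} : Set ℚ⟮η⟯) := hy ▸ y.2
  rw [Algebra.adjoin_singleton_eq_range_aeval] at hy2
  obtain ⟨P, hP⟩ := hy2
  refine ⟨P, ?_⟩
  have := congrArg (algebraMap ℚ⟮η⟯ ℂ) hP
  exact (aeval_algebraMap_apply (A := ℚ⟮η⟯) (B := ℂ) z P).trans this

/-- An automorphism of a subfield extends to the complex numbers. -/
theorem exists_extend {K : IntermediateField ℚ ℂ} (φ : K ≃+* K) :
    ∃ σ : ℂ ≃+* ℂ, ∀ x : K, σ x = φ x := by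
  obtain ⟨s, hv⟩ := exists_isTranscendenceBasis K ℂ
  set v : s → ℂ := Subtype.val
  let S := Algebra.adjoin K (Set.range v)
  haveI : IsAlgClosure S ℂ := IsAlgClosed.isAlgClosure_of_transcendence_basis v hv
  let e := hv.1.aevalEquiv
  let hSR : S ≃+* S := (e.symm.toRingEquiv.trans (MvPolynomial.mapEquiv s φ)).trans e.toRingEquiv
  refine ⟨IsAlgClosure.equivOfEquiv ℂ ℂ hSR, fun x => ?_⟩
  have h := IsAlgClosure.equivOfEquiv_algebraMap ℂ ℂ hSR (algebraMap K S x)
  have e1 : hSR (algebraMap K S x) = algebraMap K S (φ x) := by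
    simp only [hSR, RingEquiv.trans_apply, AlgEquiv.toRingEquiv_eq_coe, AlgEquiv.coe_ringEquiv,
      AlgEquiv.commutes, MvPolynomial.algebraMap_eq, MvPolynomial.mapEquiv_apply, MvPolynomial.map_C]
    rw [← MvPolynomial.algebraMap_eq, AlgEquiv.commutes]
    rfl
  rw [e1] at h
  exact h

/-- Every power of a root of unity prime to the order is its image under an automorphism. -/
theorem exists_aut {n : ℕ} [NeZero n] {η : ℂ} (hη : IsPrimitiveRoot η n) {k : ℕ} (hk : k.Coprime n) :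
    ∃ σ : ℂ ≃+* ℂ, σ η = η ^ k := by
  haveI := isCyc hη
  set z : ℚ⟮η⟯ := ⟨η, IntermediateField.mem_adjoin_simple_self ℚ η⟩
  have hz : IsPrimitiveRoot z n :=
    IsPrimitiveRoot.of_map_of_injective (f := ℚ⟮η⟯.val) (by exact hη) Subtype.val_injective
  haveI : FiniteDimensional ℚ ℚ⟮η⟯ := IsCyclotomicExtension.finite {n} ℚ _
  let f : ℚ⟮η⟯ →ₐ[ℚ] ℚ⟮η⟯ := (hz.powerBasis ℚ).lift (z ^ k) (by
    rw [IsPrimitiveRoot.powerBasis_gen, ← Polynomial.cyclotomic_eq_minpoly_rat hz (NeZero.pos n),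
      Polynomial.cyclotomic_eq_minpoly_rat (hz.pow_of_coprime k hk) (NeZero.pos n)]
    exact minpoly.aeval _ _)
  have hf : f z = z ^ k := by
    have := PowerBasis.lift_gen (hz.powerBasis ℚ) (z ^ k) (by
      rw [IsPrimitiveRoot.powerBasis_gen, ← Polynomial.cyclotomic_eq_minpoly_rat hz (NeZero.pos n),
        Polynomial.cyclotomic_eq_minpoly_rat (hz.pow_of_coprime k hk) (NeZero.pos n)]
      exact minpoly.aeval _ _)
    exact (congrArg f (IsPrimitiveRoot.powerBasis_gen ℚ hz).symm).trans this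
  obtain ⟨σ, hσ⟩ := exists_extend (AlgEquiv.ofBijective f f.bijective).toRingEquiv
  exact ⟨σ, (hσ z).trans (congrArg Subtype.val hf)⟩

theorem aut_aeval (σ : ℂ ≃+* ℂ) (η : ℂ) (P : ℤ[X]) : σ (aeval η P) = aeval (σ η) P := by
  induction P using Polynomial.induction_on' with
  | add p q hp hq => simp [hp, hq]
  | monomial m c => simp [aeval_monomial]

end Cfsg.Agent.Char.CycAut
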