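import Cfsg.Agent.Lib.Char.TI
import Cfsg.Agent.Lib.Char.Linear
import Mathlib.GroupTheory.SpecificGroups.Cyclic
import Cfsg.Prelude.Def_OddOrderLocal

/-!
# Self-normalizing cyclic pairs
-/

set_option autoImplicit false
set_option linter.style.haveILetI false

namespace Cfsg.Agent.Char

open Cfsg
open scoped ComplexConjugate

universe u

variable {G : Type u} [Group G]

/-- A finite cyclic group has one subgroup of each order. -/
theorem eq_of_card_eq_of_cyclic {M : Type*} [Group M] [Finite M] [IsCyclic M] {K K' : Subgroup M}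
    (h : Nat.card K = Nat.card K') : K = K' := by
  classical
  haveI := Fintype.ofFinite M
  have key : ∀ J : Subgroup M, Nat.card J = Nat.card K →
      (Finset.univ.filter fun a : M => a ∈ J) =
        Finset.univ.filter fun a : M => a ^ Nat.card K = 1 := by
    intro J hJ
    refine Finset.eq_of_subset_of_card_le (fun a ha => ?_) ?_
    · simp only [Finset.mem_filter, Finset.mem_univ, true_and] at ha ⊢
      rw [← hJ]
      exact orderOf_dvd_iff_pow_eq_one.mp (J.orderOf_dvd_natCard ha)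
    · refine (IsCyclic.card_pow_eq_one_le Nat.card_pos).trans ?_
      rw [← Fintype.card_subtype, ← Nat.card_eq_fintype_card]
      exact hJ.ge
  ext a
  have := Finset.ext_iff.mp ((key K rfl).trans (key K' h.symm).symm) a
  simpa using this

/-- The elements outside both factors. -/
def tiSet (W₁ W₂ : Subgroup G) : Set G := (↑(W₁ ⊔ W₂) : Set G) \ (↑W₁ ∪ ↑W₂)

theorem cyclicTI_comm {W₁ W₂ : Subgroup G} (hW : IsSelfNormalizingCyclic W₁ W₂) {u v : G}
    (hu : u ∈ W₁ ⊔ W₂) (hv : v ∈ W₁ ⊔ W₂) : u * v = v * u := by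
  obtain ⟨-, -, -, -, hcyc, -⟩ := hW
  haveI := hcyc.isMulCommutative
  exact congrArg Subtype.val (mul_comm' (⟨u, hu⟩ : ↥(W₁ ⊔ W₂)) ⟨v, hv⟩)

/-- The elements outside both factors form a TI set. -/
theorem cyclicTI_ti [Finite G] {W₁ W₂ : Subgroup G} (hW : IsSelfNormalizingCyclic W₁ W₂) (g : G)
    (hg : g ∉ W₁ ⊔ W₂) (t : G) (ht : t ∈ tiSet W₁ W₂) (h : g * t * g⁻¹ ∈ tiSet W₁ W₂) :
    t = 1 := by
  have hcomm := @cyclicTI_comm G _ W₁ W₂ hW
  obtain ⟨-, -, -, -, hcyc, hN⟩ := hW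
  exfalso
  have hsingle : ∀ x ∈ tiSet W₁ W₂, Subgroup.normalizer ({x} : Set G) = W₁ ⊔ W₂ := fun x hx =>
    hN {x} (Set.singleton_subset_iff.mpr hx) (Set.singleton_nonempty x)
  have hfix : ∀ x y : G, y ∈ Subgroup.normalizer ({x} : Set G) ↔ y * x * y⁻¹ = x := by
    intro x y
    rw [Subgroup.mem_set_normalizer_iff]
    refine ⟨fun h => (h x).mp rfl, fun h z => ⟨fun hz => ?_, fun hz => ?_⟩⟩
    · rw [Set.mem_singleton_iff] at hz ⊢
      rw [hz, h]
    · rw [Set.mem_singleton_iff] at hz ⊢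
      exact mul_left_cancel (mul_right_cancel (hz.trans h.symm))
  have hmap : ∀ w ∈ W₁ ⊔ W₂, g * w * g⁻¹ ∈ W₁ ⊔ W₂ := by
    intro w hw
    rw [← hsingle t ht, hfix] at hw
    rw [← hsingle _ h, hfix]
    calc g * w * g⁻¹ * (g * t * g⁻¹) * (g * w * g⁻¹)⁻¹ = g * (w * t * w⁻¹) * g⁻¹ := by group
      _ = g * t * g⁻¹ := by rw [hw]
  haveI := hcyc
  have hfac : ∀ V : Subgroup G, V ≤ W₁ ⊔ W₂ → ∀ w ∈ V, g * w * g⁻¹ ∈ V := by
    intro V hV
    have hle : V.map (MulAut.conj g).toMonoidHom ≤ W₁ ⊔ W₂ := by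
      rintro _ ⟨w, hw, rfl⟩
      exact hmap w (hV hw)
    have hcard : Nat.card ((V.map (MulAut.conj g).toMonoidHom).subgroupOf (W₁ ⊔ W₂)) =
        Nat.card (V.subgroupOf (W₁ ⊔ W₂)) := by
      rw [Nat.card_congr (Subgroup.subgroupOfEquivOfLe hle).toEquiv,
        Nat.card_congr (Subgroup.subgroupOfEquivOfLe hV).toEquiv,
        Subgroup.card_map_of_injective (MulEquiv.injective _)]
    intro w hw
    have hw' : (⟨g * w * g⁻¹, hmap w (hV hw)⟩ : ↥(W₁ ⊔ W₂)) ∈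
        (V.map (MulAut.conj g).toMonoidHom).subgroupOf (W₁ ⊔ W₂) :=
      Subgroup.mem_subgroupOf.mpr ⟨w, hw, rfl⟩
    rw [eq_of_card_eq_of_cyclic hcard] at hw'
    exact Subgroup.mem_subgroupOf.mp hw'
  have hback : ∀ V : Subgroup G, (∀ w ∈ V, g * w * g⁻¹ ∈ V) → ∀ x, g * x * g⁻¹ ∈ V → x ∈ V := by
    intro V hV x hx
    have hsurj : V.map (MulAut.conj g).toMonoidHom = V := by
      refine Subgroup.eq_of_le_of_card_ge ?_
        (Subgroup.card_map_of_injective (MulEquiv.injective _)).ge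
      rintro _ ⟨w, hw, rfl⟩
      exact hV w hw
    rw [← hsurj] at hx
    obtain ⟨w, hw, e⟩ := hx
    simp only [MulEquiv.coe_toMonoidHom, MulAut.conj_apply, mul_left_inj, mul_right_inj] at e
    exact e ▸ hw
  refine hg ?_
  rw [← hN (tiSet W₁ W₂) (fun x hx => hx) ⟨t, ht⟩, Subgroup.mem_set_normalizer_iff]
  intro x
  have h1 : (x ∈ W₁ ⊔ W₂ ↔ g * x * g⁻¹ ∈ W₁ ⊔ W₂) := ⟨hmap x, hback _ hmap x⟩
  have h2 : (x ∈ W₁ ↔ g * x * g⁻¹ ∈ W₁) :=
    ⟨hfac W₁ le_sup_left x, hback _ (hfac W₁ le_sup_left) x⟩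
  have h3 : (x ∈ W₂ ↔ g * x * g⁻¹ ∈ W₂) :=
    ⟨hfac W₂ le_sup_right x, hback _ (hfac W₂ le_sup_right) x⟩
  simp only [tiSet, Set.mem_sdiff, Set.mem_union, SetLike.mem_coe, h1, h2, h3]

/-- Linear characters of `W₁ ⊔ W₂` are determined on the two factors. -/
theorem cyclicTI_hom_ext {W₁ W₂ : Subgroup G} (hW : IsSelfNormalizingCyclic W₁ W₂)
    {l l' : ↥(W₁ ⊔ W₂) →* ℂˣ}
    (h : ∀ w : ↥(W₁ ⊔ W₂), ((w : G) ∈ W₁ ∨ (w : G) ∈ W₂) → l w = l' w) : l = l' := by
  have hcomm := @cyclicTI_comm G _ W₁ W₂ hW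
  refine MonoidHom.ext fun w => ?_
  have hn : W₂ ≤ Subgroup.normalizer (W₁ : Set G) := by
    intro b hb
    rw [Subgroup.mem_normalizer_iff]
    intro n
    constructor
    · intro hn
      rw [hcomm (Subgroup.mem_sup_right hb) (Subgroup.mem_sup_left hn), mul_inv_cancel_right]
      exact hn
    · intro hn
      have h2 := hcomm (Subgroup.mem_sup_left hn) (Subgroup.mem_sup_right hb)
      have : n = b * n * b⁻¹ := by
        apply mul_left_cancel (a := b)
        calc b * n = b * n * b⁻¹ * b := by group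
          _ = b * (b * n * b⁻¹) := h2
      rwa [this]
  have hw : (w : G) ∈ (↑(W₁ ⊔ W₂) : Set G) := w.2
  rw [Subgroup.coe_mul_of_right_le_normalizer_left W₁ W₂ hn] at hw
  obtain ⟨a, ha, b, hb, e⟩ := hw
  have e' : w = (⟨a, Subgroup.mem_sup_left ha⟩ : ↥(W₁ ⊔ W₂)) * ⟨b, Subgroup.mem_sup_right hb⟩ :=
    Subtype.ext e.symm
  rw [e', map_mul, map_mul, h _ (Or.inl ha), h _ (Or.inr hb)]

theorem classInner_monoidHom [Fintype G] [DecidableEq (G →* ℂˣ)] (l l' : G →* ℂˣ) :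
    classInner (fun g => (l g : ℂ)) (fun g => (l' g : ℂ)) = if l = l' then 1 else 0 := by
  split_ifs with h
  · subst h
    exact IsIrrCharacter.classInner_self (isIrrCharacter_monoidHom l)
  · exact IsIrrCharacter.classInner_eq_zero (isIrrCharacter_monoidHom l)
      (isIrrCharacter_monoidHom l') fun e => h (monoidHom_coe_injective e)

end Cfsg.Agent.Char
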