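import Cfsg.Agent.Lib.Char.Signed
import Cfsg.Agent.Lib.Char.Coherence

/-!
# Sums of three signed irreducible characters
-/

set_option autoImplicit false
set_option linter.style.haveILetI false

namespace Cfsg.Agent.Char

open Cfsg
open scoped ComplexConjugate

universe u

variable {G : Type u} [Group G]

/-- An irreducible character up to sign. -/
abbrev IsSigned (x : G → ℂ) : Prop := IsIrrCharacter G x ∨ IsIrrCharacter G (-x)

theorem IsSigned.neg {x : G → ℂ} (h : IsSigned x) : IsSigned (-x) := by
  rcases h with h | h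
  · exact Or.inr (by rwa [neg_neg])
  · exact Or.inl h

theorem IsSigned.isGeneralized {x : G → ℂ} (h : IsSigned x) : IsGeneralizedCharacter G x := by
  rcases h with h | h
  · exact IsIrrCharacter.isGeneralized h
  · simpa using isGeneralizedCharacter_neg (IsIrrCharacter.isGeneralized h)

theorem IsSigned.apply_one_ne_zero {x : G → ℂ} (h : IsSigned x) : x 1 ≠ 0 := by
  rcases h with h | h
  · exact IsIrrCharacter.apply_one_ne_zero h
  · simpa using IsIrrCharacter.apply_one_ne_zero h

theorem IsSigned.ne_neg {x : G → ℂ} (h : IsSigned x) : x ≠ -x := fun e => by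
  have := congrFun e 1
  exact IsSigned.apply_one_ne_zero h (by rw [Pi.neg_apply] at this; linear_combination this / 2)

variable [Fintype G]

open Classical in
theorem classInner_isSigned {x y : G → ℂ} (hx : IsSigned x) (hy : IsSigned y) :
    classInner x y = (if x = y then (1 : ℂ) else 0) - (if x = -y then 1 else 0) := by
  by_cases h1 : x = y
  · have hne : x ≠ -y := fun h => IsSigned.ne_neg hy (h1.symm.trans h)
    rw [if_pos h1, if_neg hne, sub_zero, h1, classInner_self_signed hy]
  by_cases h2 : x = -y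
  · rw [if_neg h1, if_pos h2, zero_sub, h2, classInner_neg_left, classInner_self_signed hy]
  rw [if_neg h1, if_neg h2, sub_zero]
  rcases classInner_signed hx hy with h | ⟨s, hs, hxy, -⟩
  · exact h
  · rcases hs with rfl | rfl
    · exact absurd (by rw [hxy, one_smul]) h1
    · exact absurd (by rw [hxy, neg_one_smul]) h2

/-- Three pairwise orthogonal signed irreducible characters. -/
structure IsTriple (T : Finset (G → ℂ)) : Prop where
  card : T.card = 3
  signed : ∀ α ∈ T, IsSigned α
  orth : ∀ α ∈ T, ∀ β ∈ T, α ≠ β → classInner α β = 0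

/-- Two triples share one point and are otherwise orthogonal. -/
def Meets (T T' : Finset (G → ℂ)) : Prop :=
  ∃ x ∈ T, x ∈ T' ∧ ∀ α ∈ T, ∀ β ∈ T', classInner α β ≠ 0 → α = x ∧ β = x

theorem Meets.symm {T T' : Finset (G → ℂ)} (h : Meets T T') : Meets T' T := by
  obtain ⟨x, hx, hx', h⟩ := h
  refine ⟨x, hx', hx, fun α hα β hβ hne => ?_⟩
  obtain ⟨h1, h2⟩ := h β hβ α hα fun h0 => hne (by rw [← classInner_conj_symm, h0, map_zero])
  exact ⟨h2, h1⟩

theorem Meets.eq_of_mem {T T' : Finset (G → ℂ)} (h : Meets T T') (hT : IsTriple T) {y z : G → ℂ}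
    (hy : y ∈ T) (hy' : y ∈ T') (hz : z ∈ T) (hz' : z ∈ T') : y = z := by
  obtain ⟨x, -, -, h⟩ := h
  have key : ∀ w, w ∈ T → w ∈ T' → w = x := fun w hw hw' =>
    (h w hw w hw' (by rw [classInner_self_signed (hT.signed w hw)]; exact one_ne_zero)).1
  rw [key y hy hy', key z hz hz']

/-- Points of two meeting triples are orthogonal unless both are the common point. -/
theorem Meets.orth {T T' : Finset (G → ℂ)} (h : Meets T T') (hT : IsTriple T) {a : G → ℂ}
    (ha : a ∈ T) (ha' : a ∈ T') {α β : G → ℂ} (hα : α ∈ T) (hβ : β ∈ T')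
    (hne : α ≠ a ∨ β ≠ a) : classInner α β = 0 := by
  obtain ⟨x, hx, hx', hm⟩ := h
  have hax : a = x :=
    (hm a ha a ha' (by rw [classInner_self_signed (hT.signed a ha)]; exact one_ne_zero)).1
  by_contra h0
  obtain ⟨e1, e2⟩ := hm α hα β hβ h0
  rcases hne with h | h
  · exact h (e1.trans hax.symm)
  · exact h (e2.trans hax.symm)

open Classical in
theorem triple_inner_signed {T : Finset (G → ℂ)} (hT : IsTriple T) {x : G → ℂ} (hx : IsSigned x) :
    classInner (∑ α ∈ T, α) x = (if x ∈ T then (1 : ℂ) else 0) - (if -x ∈ T then 1 else 0) := by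
  rw [classInner_sum_left, Finset.sum_congr rfl fun α hα => classInner_isSigned (hT.signed α hα) hx,
    Finset.sum_sub_distrib, Finset.sum_ite_eq' T x, Finset.sum_ite_eq' T (-x)]

theorem IsTriple.norm {T : Finset (G → ℂ)} (hT : IsTriple T) :
    classInner (∑ α ∈ T, α) (∑ α ∈ T, α) = 3 := by
  rw [classInner_sum_left, Finset.sum_congr rfl fun α hα => by
    rw [classInner_sum_right, Finset.sum_eq_single_of_mem α hα
      (fun β hβ hne => hT.orth α hα β hβ (Ne.symm hne)),
      classInner_self_signed (hT.signed α hα)]]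
  simp [hT.card]

theorem IsTriple.neg_notMem {T : Finset (G → ℂ)} (hT : IsTriple T) {x : G → ℂ} (hx : x ∈ T) :
    -x ∉ T := by
  intro h
  have := hT.orth x hx (-x) h (IsSigned.ne_neg (hT.signed x hx))
  rw [classInner_neg_right, classInner_self_signed (hT.signed x hx)] at this
  norm_num at this

/-- The inner product of two triples counts the agreements minus the oppositions. -/
theorem triple_inner_triple {T T' : Finset (G → ℂ)} (hT : IsTriple T) (hT' : IsTriple T')
    [DecidableEq (G → ℂ)] :
    classInner (∑ α ∈ T, α) (∑ α ∈ T', α) =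
      ((T'.filter (· ∈ T)).card : ℂ) - ((T'.filter (fun β => -β ∈ T)).card : ℂ) := by
  rw [classInner_sum_right, Finset.sum_congr rfl fun β hβ => triple_inner_signed hT (hT'.signed β hβ),
    Finset.sum_sub_distrib, Finset.card_filter, Finset.card_filter, Nat.cast_sum, Nat.cast_sum]
  congr 1 <;> exact Finset.sum_congr rfl fun β _ => by split_ifs <;> simp

/-- A generalized character of norm three is the sum of a triple. -/
theorem exists_triple {θ : G → ℂ} (hθ : IsGeneralizedCharacter G θ) (h3 : classInner θ θ = 3) :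
    ∃ T : Finset (G → ℂ), IsTriple T ∧ θ = ∑ α ∈ T, α := by
  classical
  haveI := Fintype.ofFinite (IrrCharacter G)
  obtain ⟨c, hθeq, hc⟩ := IsGeneralizedCharacter.exists_intCoeff hθ
  rw [IsGeneralizedCharacter.classInner_self_eq_sum_sq hθ c hc] at h3
  have h3' : ∑ χ, c χ ^ 2 = 3 := by exact_mod_cast h3
  have hsmall : ∀ χ, c χ = 0 ∨ c χ = 1 ∨ c χ = -1 := by
    intro χ
    have hle : c χ ^ 2 ≤ 3 :=
      h3' ▸ Finset.single_le_sum (fun k _ => sq_nonneg (c k)) (Finset.mem_univ χ)
    have h1 : -2 < c χ := by nlinarith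
    have h2 : c χ < 2 := by nlinarith
    omega
  let J := Finset.univ.filter fun χ : IrrCharacter G => c χ ≠ 0
  have hJ : J.card = 3 := by
    have e : ∀ χ, c χ ^ 2 = if c χ ≠ 0 then 1 else 0 := fun χ => by
      rcases hsmall χ with h | h | h <;> simp [h]
    rw [Finset.sum_congr rfl fun χ _ => e χ, Finset.sum_boole] at h3'
    exact_mod_cast h3'
  let f : IrrCharacter G → (G → ℂ) := fun χ => (c χ : ℂ) • (χ : G → ℂ)
  have hsf : ∀ χ ∈ J, IsSigned (f χ) := by
    intro χ hχ
    have h0 := (Finset.mem_filter.mp hχ).2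
    rcases hsmall χ with h | h | h
    · exact absurd h h0
    · left; simpa [f, h] using χ.2
    · right; simpa [f, h] using χ.2
  have horth : ∀ χ ∈ J, ∀ ψ ∈ J, χ ≠ ψ → classInner (f χ) (f ψ) = 0 := by
    intro χ _ ψ _ hne
    simp only [f]
    rw [classInner_smul_left, classInner_smul_right, classInner_irr, if_neg hne]
    simp
  have hinj : Set.InjOn f J := by
    intro χ hχ ψ hψ e
    by_contra hne
    have h := horth χ hχ ψ hψ hne
    rw [e, classInner_self_signed (hsf ψ hψ)] at h
    exact one_ne_zero h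
  refine ⟨J.image f, ⟨by rw [Finset.card_image_of_injOn hinj, hJ], ?_, ?_⟩, ?_⟩
  · intro α hα
    obtain ⟨χ, hχ, rfl⟩ := Finset.mem_image.mp hα
    exact hsf χ hχ
  · intro α hα β hβ hne
    obtain ⟨χ, hχ, rfl⟩ := Finset.mem_image.mp hα
    obtain ⟨ψ, hψ, rfl⟩ := Finset.mem_image.mp hβ
    exact horth χ hχ ψ hψ fun e => hne (e ▸ rfl)
  · rw [Finset.sum_image hinj, hθeq]
    refine (Finset.sum_subset (Finset.subset_univ J) fun χ _ hχ => ?_).symm
    have : c χ = 0 := by simpa [J] using hχ
    simp [this]

/-- Two triples of inner product one and equal value at `1` meet. -/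
theorem meets_of_inner_one {T T' : Finset (G → ℂ)} (hT : IsTriple T) (hT' : IsTriple T')
    (h : classInner (∑ α ∈ T, α) (∑ α ∈ T', α) = 1)
    (h1 : (∑ α ∈ T, α) 1 = (∑ α ∈ T', α) 1) : Meets T T' := by
  classical
  set P := T'.filter (· ∈ T) with hP
  set M := T'.filter (fun β => -β ∈ T) with hM
  rw [triple_inner_triple hT hT', ← hP, ← hM] at h
  have hcard : P.card = M.card + 1 := by
    have h' : (P.card : ℂ) = ((M.card + 1 : ℕ) : ℂ) := by push_cast; linear_combination h
    exact_mod_cast h'
  have hdis : Disjoint P M := by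
    rw [Finset.disjoint_left]
    intro β hβ hβ'
    exact hT.neg_notMem (Finset.mem_filter.mp hβ).2 (Finset.mem_filter.mp hβ').2
  have hle : P.card + M.card ≤ 3 := by
    rw [← Finset.card_union_of_disjoint hdis, ← hT'.card]
    exact Finset.card_le_card (Finset.union_subset (Finset.filter_subset _ _) (Finset.filter_subset _ _))
  have hM0 : M.card = 0 := by
    by_contra hne
    have hM1 : M.card = 1 := by omega
    obtain ⟨b, hb⟩ := Finset.card_eq_one.mp hM1
    have hbM : b ∈ M := by rw [hb]; exact Finset.mem_singleton_self b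
    have hT'eq : P ∪ M = T' := Finset.eq_of_subset_of_card_le
      (Finset.union_subset (Finset.filter_subset _ _) (Finset.filter_subset _ _))
      (by rw [Finset.card_union_of_disjoint hdis, hT'.card]; omega)
    have hbP : -b ∉ P := fun hh =>
      hT'.neg_notMem (Finset.mem_filter.mp hbM).1 (Finset.mem_filter.mp hh).1
    have hTeq : insert (-b) P = T := Finset.eq_of_subset_of_card_le (by
        intro α hα
        rcases Finset.mem_insert.mp hα with rfl | hα
        · exact (Finset.mem_filter.mp hbM).2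
        · exact (Finset.mem_filter.mp hα).2)
      (by rw [Finset.card_insert_of_notMem hbP, hT.card]; omega)
    have e1 : ∑ α ∈ T', α = ∑ α ∈ P, α + b := by
      rw [← hT'eq, Finset.sum_union hdis, hb, Finset.sum_singleton]
    have e2 : ∑ α ∈ T, α = -b + ∑ α ∈ P, α := by rw [← hTeq, Finset.sum_insert hbP]
    rw [e1, e2] at h1
    simp only [Pi.add_apply, Pi.neg_apply] at h1
    exact IsSigned.apply_one_ne_zero (hT'.signed b (Finset.mem_filter.mp hbM).1)
      (by linear_combination (-1 / 2 : ℂ) * h1)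
  obtain ⟨x, hx⟩ := Finset.card_eq_one.mp (show P.card = 1 by omega)
  have hxP : x ∈ P := by rw [hx]; exact Finset.mem_singleton_self x
  refine ⟨x, (Finset.mem_filter.mp hxP).2, (Finset.mem_filter.mp hxP).1, fun α hα β hβ hne => ?_⟩
  rw [classInner_isSigned (hT.signed α hα) (hT'.signed β hβ)] at hne
  by_cases e : α = β
  · subst e
    have : α ∈ P := Finset.mem_filter.mpr ⟨hβ, hα⟩
    rw [hx, Finset.mem_singleton] at this
    exact ⟨this, this⟩
  · rw [if_neg e, zero_sub, neg_ne_zero] at hne
    have e' : α = -β := by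
      by_contra h'
      rw [if_neg h'] at hne
      exact hne rfl
    have : β ∈ M := Finset.mem_filter.mpr ⟨hβ, e' ▸ hα⟩
    rw [Finset.card_eq_zero.mp hM0] at this
    exact absurd this (Finset.notMem_empty β)

/-- Orthogonal triples sharing a point also have an opposed pair. -/
theorem exists_opposed {T T' : Finset (G → ℂ)} (hT : IsTriple T) (hT' : IsTriple T')
    (h : classInner (∑ α ∈ T, α) (∑ α ∈ T', α) = 0) {x : G → ℂ} (hx : x ∈ T) (hx' : x ∈ T') :
    ∃ z ∈ T, z ≠ x ∧ -z ∈ T' := by
  classical
  set P := T'.filter (· ∈ T) with hP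
  set M := T'.filter (fun β => -β ∈ T) with hM
  rw [triple_inner_triple hT hT', ← hP, ← hM, sub_eq_zero] at h
  have hcard : P.card = M.card := by exact_mod_cast h
  have : P.Nonempty := ⟨x, Finset.mem_filter.mpr ⟨hx', hx⟩⟩
  obtain ⟨b, hb⟩ : M.Nonempty := Finset.card_pos.mp (hcard ▸ Finset.card_pos.mpr this)
  obtain ⟨hb1, hb2⟩ := Finset.mem_filter.mp hb
  exact ⟨-b, hb2, fun e => hT'.neg_notMem hb1 (e ▸ hx'), by rwa [neg_neg]⟩

end Cfsg.Agent.Char
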