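import Cfsg.Agent.Lib.Char.CyclicTI
import Cfsg.Agent.Lib.Char.Triple

/-!
# Linear characters of a self-normalizing cyclic subgroup
-/

set_option autoImplicit false
set_option linter.style.haveILetI false

namespace Cfsg.Agent.Char.CTI

open Cfsg
open scoped ComplexConjugate

universe u

variable {G : Type u} [Group G] {W₁ W₂ : Subgroup G}

/-- Being trivial on a subgroup. -/
def Triv (V : Subgroup G) (φ : ↥(W₁ ⊔ W₂) →* ℂˣ) : Prop :=
  ∀ w : ↥(W₁ ⊔ W₂), (w : G) ∈ V → φ w = 1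

theorem triv_one (V : Subgroup G) : Triv V (1 : ↥(W₁ ⊔ W₂) →* ℂˣ) := fun _ _ => rfl

theorem Triv.mul {V : Subgroup G} {φ φ' : ↥(W₁ ⊔ W₂) →* ℂˣ} (h : Triv V φ) (h' : Triv V φ') :
    Triv V (φ * φ') := fun w hw => by simp [h w hw, h' w hw]

theorem Triv.inv {V : Subgroup G} {φ : ↥(W₁ ⊔ W₂) →* ℂˣ} (h : Triv V φ) : Triv V φ⁻¹ :=
  fun w hw => by simp [h w hw]

variable (hW : IsSelfNormalizingCyclic W₁ W₂)
include hW

theorem decomp (w : ↥(W₁ ⊔ W₂)) : ∃ a ∈ W₁, ∃ b ∈ W₂, (w : G) = a * b := by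
  have hn : W₂ ≤ Subgroup.normalizer (W₁ : Set G) := by
    intro b hb
    rw [Subgroup.mem_normalizer_iff]
    have key : ∀ n, n ∈ W₁ → b * n * b⁻¹ = n := fun n hn => by
      rw [cyclicTI_comm hW (Subgroup.mem_sup_right hb) (Subgroup.mem_sup_left hn)]
      group
    intro n
    refine ⟨fun hn => by rw [key n hn]; exact hn, fun hn => ?_⟩
    have h2 := key _ hn
    have : n = b * n * b⁻¹ := by
      apply mul_left_cancel (a := b)
      apply mul_right_cancel (b := b⁻¹)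
      exact h2.symm
    rwa [this]
  have hw : (w : G) ∈ (↑(W₁ ⊔ W₂) : Set G) := w.2
  rw [Subgroup.coe_mul_of_right_le_normalizer_left W₁ W₂ hn] at hw
  obtain ⟨a, ha, b, hb, e⟩ := hw
  exact ⟨a, ha, b, hb, e.symm⟩

theorem mul_inj {a b a' b' : ↥(W₁ ⊔ W₂) →* ℂˣ} (ha : Triv W₂ a) (hb : Triv W₁ b)
    (ha' : Triv W₂ a') (hb' : Triv W₁ b') (h : a * b = a' * b') : a = a' ∧ b = b' := by
  constructor <;> refine cyclicTI_hom_ext hW fun w hw => ?_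
  · rcases hw with hw | hw
    · have := DFunLike.congr_fun h w
      simpa [hb w hw, hb' w hw] using this
    · rw [ha w hw, ha' w hw]
  · rcases hw with hw | hw
    · rw [hb w hw, hb' w hw]
    · have := DFunLike.congr_fun h w
      simpa [ha w hw, ha' w hw] using this

theorem coprime_card [Finite G] : Nat.Coprime (Nat.card W₁) (Nat.card W₂) := by
  refine Nat.coprime_of_dvd fun p hp h1 h2 => ?_
  haveI := Fact.mk hp
  haveI : IsCyclic ↥(W₁ ⊔ W₂) := hW.2.2.2.2.1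
  obtain ⟨a, ha⟩ := exists_prime_orderOf_dvd_card' p h1
  obtain ⟨b, hb⟩ := exists_prime_orderOf_dvd_card' p h2
  let a' : ↥(W₁ ⊔ W₂) := ⟨a, Subgroup.mem_sup_left a.2⟩
  let b' : ↥(W₁ ⊔ W₂) := ⟨b, Subgroup.mem_sup_right b.2⟩
  have e : Subgroup.zpowers a' = Subgroup.zpowers b' := eq_of_card_eq_of_cyclic (by
    rw [Nat.card_zpowers, Nat.card_zpowers, ← Subgroup.orderOf_coe a', ← Subgroup.orderOf_coe b']
    show orderOf (a : G) = orderOf (b : G)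
    rw [Subgroup.orderOf_coe, Subgroup.orderOf_coe, ha, hb])
  have hmem : a' ∈ Subgroup.zpowers b' := e ▸ Subgroup.mem_zpowers a'
  obtain ⟨k, hk⟩ := Subgroup.mem_zpowers_iff.mp hmem
  have hbot : W₁ ⊓ W₂ = ⊥ := hW.2.2.1
  have : (a : G) ∈ W₁ ⊓ W₂ := by
    refine ⟨a.2, ?_⟩
    have hk' : (b : G) ^ k = (a : G) := by simpa [a', b'] using congrArg Subtype.val hk
    rw [← hk']
    exact Subgroup.zpow_mem _ b.2 k
  rw [hbot, Subgroup.mem_bot] at this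
  have h0 : a = 1 := Subtype.ext this
  rw [h0, orderOf_one] at ha
  exact hp.one_lt.ne ha

/-- Exponents projecting onto the two factors. -/
theorem exists_proj [Finite G] :
    ∃ e e' : ℕ, ∀ w : ↥(W₁ ⊔ W₂),
      (w : G) ^ e ∈ W₁ ∧ (w : G) ^ e' ∈ W₂ ∧ w ^ e * w ^ e' = w ∧
      ((w : G) ∈ W₁ → w ^ e = w ∧ w ^ e' = 1) ∧ ((w : G) ∈ W₂ → w ^ e = 1 ∧ w ^ e' = w) := by
  obtain ⟨e, he1, he2⟩ := Nat.chineseRemainder (coprime_card hW) 1 0
  obtain ⟨e', he1', he2'⟩ := Nat.chineseRemainder (coprime_card hW) 0 1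
  have keep : ∀ (V : Subgroup G) (k : ℕ), k ≡ 1 [MOD Nat.card V] → ∀ a ∈ V, a ^ k = a := by
    intro V k hk a ha
    have := (pow_eq_pow_iff_modEq (x := a) (n := k) (m := 1)).mpr
      (hk.of_dvd (V.orderOf_dvd_natCard ha))
    rwa [pow_one] at this
  have drop : ∀ (V : Subgroup G) (k : ℕ), k ≡ 0 [MOD Nat.card V] → ∀ a ∈ V, a ^ k = 1 := by
    intro V k hk a ha
    have := (pow_eq_pow_iff_modEq (x := a) (n := k) (m := 0)).mpr
      (hk.of_dvd (V.orderOf_dvd_natCard ha))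
    rwa [pow_zero] at this
  refine ⟨e, e', fun w => ?_⟩
  obtain ⟨a, ha, b, hb, hab⟩ := decomp hW w
  have hc : Commute a b := cyclicTI_comm hW (Subgroup.mem_sup_left ha) (Subgroup.mem_sup_right hb)
  have h1 : (w : G) ^ e = a := by
    rw [hab, hc.mul_pow, keep W₁ e he1 a ha, drop W₂ e he2 b hb, mul_one]
  have h2 : (w : G) ^ e' = b := by
    rw [hab, hc.mul_pow, drop W₁ e' he1' a ha, keep W₂ e' he2' b hb, one_mul]
  refine ⟨h1 ▸ ha, h2 ▸ hb, ?_, fun hw => ⟨?_, ?_⟩, fun hw => ⟨?_, ?_⟩⟩ <;> refine Subtype.ext ?_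
  · rw [Subgroup.coe_mul, SubgroupClass.coe_pow, SubgroupClass.coe_pow, h1, h2, hab]
  · rw [SubgroupClass.coe_pow, keep W₁ e he1 _ hw]
  · rw [SubgroupClass.coe_pow, drop W₁ e' he1' _ hw, OneMemClass.coe_one]
  · rw [SubgroupClass.coe_pow, drop W₂ e he2 _ hw, OneMemClass.coe_one]
  · rw [SubgroupClass.coe_pow, keep W₂ e' he2' _ hw]

theorem exists_split [Finite G] (ω : ↥(W₁ ⊔ W₂) →* ℂˣ) :
    ∃ a b, Triv W₂ a ∧ Triv W₁ b ∧ ω = a * b := by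
  obtain ⟨e, e', h⟩ := exists_proj hW
  refine ⟨ω ^ e, ω ^ e', fun w hw => ?_, fun w hw => ?_, MonoidHom.ext fun w => ?_⟩
  · rw [MonoidHom.pow_apply, ← map_pow, ((h w).2.2.2.2 hw).1, map_one]
  · rw [MonoidHom.pow_apply, ← map_pow, ((h w).2.2.2.1 hw).2, map_one]
  · rw [MonoidHom.mul_apply, MonoidHom.pow_apply, MonoidHom.pow_apply, ← map_pow, ← map_pow,
      ← map_mul, (h w).2.2.1]

theorem exists_sep [Finite G] {x : ↥(W₁ ⊔ W₂)} :
    ((x : G) ∉ W₂ → ∃ a, Triv W₂ a ∧ a x ≠ 1) ∧ ((x : G) ∉ W₁ → ∃ b, Triv W₁ b ∧ b x ≠ 1) := by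
  obtain ⟨e, e', h⟩ := exists_proj hW
  haveI : IsCyclic ↥(W₁ ⊔ W₂) := hW.2.2.2.2.1
  letI : CommGroup ↥(W₁ ⊔ W₂) := IsCyclic.commGroup
  constructor <;> intro hx
  · have hne : x ^ e ≠ 1 := by
      intro h0
      have := (h x).2.2.1
      rw [h0, one_mul] at this
      exact hx (by rw [← this, SubgroupClass.coe_pow]; exact (h x).2.1)
    obtain ⟨ω, hω⟩ := CommGroup.exists_apply_ne_one_of_hasEnoughRootsOfUnity ↥(W₁ ⊔ W₂) ℂ hne
    refine ⟨ω ^ e, fun w hw => ?_, ?_⟩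
    · rw [MonoidHom.pow_apply, ← map_pow, ((h w).2.2.2.2 hw).1, map_one]
    · rwa [MonoidHom.pow_apply, ← map_pow]
  · have hne : x ^ e' ≠ 1 := by
      intro h0
      have := (h x).2.2.1
      rw [h0, mul_one] at this
      exact hx (by rw [← this, SubgroupClass.coe_pow]; exact (h x).1)
    obtain ⟨ω, hω⟩ := CommGroup.exists_apply_ne_one_of_hasEnoughRootsOfUnity ↥(W₁ ⊔ W₂) ℂ hne
    refine ⟨ω ^ e', fun w hw => ?_, ?_⟩
    · rw [MonoidHom.pow_apply, ← map_pow, ((h w).2.2.2.1 hw).2, map_one]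
    · rwa [MonoidHom.pow_apply, ← map_pow]

theorem card_triv [Finite G] :
    Nat.card {a : ↥(W₁ ⊔ W₂) →* ℂˣ // Triv W₂ a} = Nat.card W₁ ∧
    Nat.card {b : ↥(W₁ ⊔ W₂) →* ℂˣ // Triv W₁ b} = Nat.card W₂ := by
  obtain ⟨e, e', h⟩ := exists_proj hW
  have main : ∀ (V V' : Subgroup G) (k : ℕ) (hV : V ≤ W₁ ⊔ W₂),
      (∀ w : ↥(W₁ ⊔ W₂), (w : G) ^ k ∈ V) →
      (∀ w : ↥(W₁ ⊔ W₂), (w : G) ∈ V → w ^ k = w) →
      (∀ w : ↥(W₁ ⊔ W₂), (w : G) ∈ V' → w ^ k = 1) →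
      (∀ a a' : ↥(W₁ ⊔ W₂) →* ℂˣ, Triv V' a → Triv V' a' →
        (∀ v : ↥(W₁ ⊔ W₂), (v : G) ∈ V → a v = a' v) → a = a') →
      Nat.card {a : ↥(W₁ ⊔ W₂) →* ℂˣ // Triv V' a} = Nat.card V := by
    intro V V' k hV hk1 hk2 hk3 huniq
    haveI : IsCyclic ↥(W₁ ⊔ W₂) := hW.2.2.2.2.1
    haveI : IsCyclic ↥V := isCyclic_of_injective (Subgroup.inclusion hV)
      (Subgroup.inclusion_injective hV)
    letI : CommGroup ↥V := IsCyclic.commGroup
    let pr : ↥(W₁ ⊔ W₂) →* ↥V := MonoidHom.mk' (fun w => ⟨(w : G) ^ k, hk1 w⟩) fun u v =>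
      Subtype.ext (by
        simp only [Subgroup.coe_mul]
        exact (Commute.mul_pow (cyclicTI_comm hW u.2 v.2) k))
    rw [← CommGroup.card_monoidHom_of_hasEnoughRootsOfUnity ↥V ℂ]
    refine Nat.card_congr
      { toFun := fun a => a.1.comp (Subgroup.inclusion hV)
        invFun := fun l => ⟨l.comp pr, fun w hw => ?_⟩
        left_inv := fun a => ?_
        right_inv := fun l => ?_ }
    · have : pr w = 1 := Subtype.ext (by
        have := congrArg Subtype.val (hk3 w hw)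
        simpa [pr] using this)
      simp [this]
    · refine Subtype.ext (huniq _ _ ?_ a.2 fun v hv => ?_)
      · intro w hw
        have : pr w = 1 := Subtype.ext (by
          have := congrArg Subtype.val (hk3 w hw)
          simpa [pr] using this)
        simp [this]
      · have : Subgroup.inclusion hV (pr v) = v := Subtype.ext (by
          have := congrArg Subtype.val (hk2 v hv)
          simpa [pr] using this)
        show a.1 (Subgroup.inclusion hV (pr v)) = a.1 v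
        rw [this]
    · refine MonoidHom.ext fun v => ?_
      have : pr (Subgroup.inclusion hV v) = v := Subtype.ext (by
        have := congrArg Subtype.val (hk2 (Subgroup.inclusion hV v) v.2)
        simpa [pr] using this)
      show l (pr (Subgroup.inclusion hV v)) = l v
      rw [this]
  refine ⟨main W₁ W₂ e le_sup_left (fun w => (h w).1) (fun w hw => ((h w).2.2.2.1 hw).1)
      (fun w hw => ((h w).2.2.2.2 hw).1) (fun a a' ha ha' hv => cyclicTI_hom_ext hW fun w hw => ?_),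
    main W₂ W₁ e' le_sup_right (fun w => (h w).2.1) (fun w hw => ((h w).2.2.2.2 hw).2)
      (fun w hw => ((h w).2.2.2.1 hw).2) (fun a a' ha ha' hv => cyclicTI_hom_ext hW fun w hw => ?_)⟩
  · rcases hw with hw | hw
    · exact hv w hw
    · rw [ha w hw, ha' w hw]
  · rcases hw with hw | hw
    · rw [ha w hw, ha' w hw]
    · exact hv w hw

omit hW in
/-- The product `(1 - φ)(1 - ψ)`. -/
noncomputable def alpha (φ ψ : ↥(W₁ ⊔ W₂) →* ℂˣ) : ↥(W₁ ⊔ W₂) → ℂ :=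
  fun w => 1 - (φ w : ℂ) - (ψ w : ℂ) + (φ w : ℂ) * (ψ w : ℂ)

omit hW in
theorem alpha_eq (φ ψ : ↥(W₁ ⊔ W₂) →* ℂˣ) :
    alpha φ ψ = (fun w => ((1 : ↥(W₁ ⊔ W₂) →* ℂˣ) w : ℂ)) - (fun w => (φ w : ℂ)) -
      (fun w => (ψ w : ℂ)) + (fun w => ((φ * ψ : ↥(W₁ ⊔ W₂) →* ℂˣ) w : ℂ)) := by
  funext w
  simp [alpha]

/-- A function orthogonal to all products `(1 - φ)(1 - ψ)` vanishes outside both factors. -/
theorem kill [Finite G] [Fintype ↥(W₁ ⊔ W₂)] {f : ↥(W₁ ⊔ W₂) → ℂ}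
    (h : ∀ φ ψ : ↥(W₁ ⊔ W₂) →* ℂˣ, φ ≠ 1 → ψ ≠ 1 → Triv W₂ φ → Triv W₁ ψ →
      classInner (alpha φ ψ) f = 0)
    (w₀ : ↥(W₁ ⊔ W₂)) (h1 : (w₀ : G) ∉ W₁) (h2 : (w₀ : G) ∉ W₂) : f w₀ = 0 := by
  classical
  haveI : IsCyclic ↥(W₁ ⊔ W₂) := hW.2.2.2.2.1
  haveI : Finite (↥(W₁ ⊔ W₂) →* ℂˣ) := by
    letI : CommGroup ↥(W₁ ⊔ W₂) := IsCyclic.commGroup
    exact Nat.finite_of_card_ne_zero (by
      rw [CommGroup.card_monoidHom_of_hasEnoughRootsOfUnity ↥(W₁ ⊔ W₂) ℂ]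
      exact Nat.card_pos.ne')
  haveI := Fintype.ofFinite (↥(W₁ ⊔ W₂) →* ℂˣ)
  let S₂ := Finset.univ.filter fun a : ↥(W₁ ⊔ W₂) →* ℂˣ => Triv W₂ a
  let S₁ := Finset.univ.filter fun b : ↥(W₁ ⊔ W₂) →* ℂˣ => Triv W₁ b
  have orth : ∀ (V : Subgroup G) (x : ↥(W₁ ⊔ W₂)), (∃ a, Triv V a ∧ a x ≠ 1) →
      ∑ a ∈ Finset.univ.filter (fun a : ↥(W₁ ⊔ W₂) →* ℂˣ => Triv V a), (a x : ℂ) = 0 := by
    intro V x ⟨a₀, ha₀, hne⟩
    set S := ∑ a ∈ Finset.univ.filter (fun a : ↥(W₁ ⊔ W₂) →* ℂˣ => Triv V a), (a x : ℂ) with hS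
    have e : S = (a₀ x : ℂ) * S := by
      rw [hS, Finset.mul_sum]
      refine Finset.sum_nbij' (fun a => a₀⁻¹ * a) (fun a => a₀ * a) ?_ ?_ ?_ ?_ ?_
      · intro a ha
        simp only [Finset.mem_filter, Finset.mem_univ, true_and] at ha ⊢
        exact (ha₀.inv).mul ha
      · intro a ha
        simp only [Finset.mem_filter, Finset.mem_univ, true_and] at ha ⊢
        exact ha₀.mul ha
      · intro a _; exact MonoidHom.ext fun w => by simp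
      · intro a _; exact MonoidHom.ext fun w => by simp
      · intro a _; simp
    have : ((a₀ x : ℂ) - 1) * S = 0 := by linear_combination -e
    rcases mul_eq_zero.mp this with h' | h'
    · exact absurd (Units.ext (sub_eq_zero.mp h')) hne
    · exact h'
  have half : ∀ (V : Subgroup G), (∃ a : ↥(W₁ ⊔ W₂) →* ℂˣ, Triv V a ∧ a w₀⁻¹ ≠ 1) →
      ∀ w, ∑ a ∈ Finset.univ.filter (fun a : ↥(W₁ ⊔ W₂) →* ℂˣ => Triv V a),
        (a w₀⁻¹ : ℂ) * (1 - (a w : ℂ)) =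
      - ∑ a ∈ Finset.univ.filter (fun a : ↥(W₁ ⊔ W₂) →* ℂˣ => Triv V a), (a (w₀⁻¹ * w) : ℂ) := by
    intro V hV w
    simp only [mul_sub, mul_one, Finset.sum_sub_distrib, orth V w₀⁻¹ hV, zero_sub, map_mul,
      Units.val_mul]
  have hsum : ∀ φ ψ, φ ∈ S₂ → ψ ∈ S₁ →
      ∑ w, alpha φ ψ w * conj (f w) = 0 := by
    intro φ ψ hφ hψ
    simp only [S₁, S₂, Finset.mem_filter, Finset.mem_univ, true_and] at hφ hψ
    by_cases e1 : φ = 1
    · simp [alpha, e1]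
    by_cases e2 : ψ = 1
    · simp [alpha, e2]
    have := h φ ψ e1 e2 hφ hψ
    rw [classInner, mul_eq_zero] at this
    exact this.resolve_left (by simp)
  have key : ∀ w : ↥(W₁ ⊔ W₂), ∑ φ ∈ S₂, ∑ ψ ∈ S₁,
      (φ w₀⁻¹ : ℂ) * (ψ w₀⁻¹ : ℂ) * alpha φ ψ w =
      if w = w₀ then (S₂.card : ℂ) * (S₁.card : ℂ) else 0 := by
    intro w
    have e : ∀ φ ψ : ↥(W₁ ⊔ W₂) →* ℂˣ, (φ w₀⁻¹ : ℂ) * (ψ w₀⁻¹ : ℂ) * alpha φ ψ w =
        ((φ w₀⁻¹ : ℂ) * (1 - (φ w : ℂ))) * ((ψ w₀⁻¹ : ℂ) * (1 - (ψ w : ℂ))) := fun φ ψ => by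
      simp [alpha]; ring
    simp only [e, ← Finset.mul_sum, ← Finset.sum_mul]
    rw [half W₂ ((exists_sep hW).1 fun hh => h2 (by simpa using hh)) w,
      half W₁ ((exists_sep hW).2 fun hh => h1 (by simpa using hh)) w, neg_mul_neg]
    split_ifs with hw
    · subst hw
      simp
      rfl
    · by_cases c2 : ((w₀⁻¹ * w : ↥(W₁ ⊔ W₂)) : G) ∈ W₂
      · by_cases c1 : ((w₀⁻¹ * w : ↥(W₁ ⊔ W₂)) : G) ∈ W₁
        · exfalso
          have : ((w₀⁻¹ * w : ↥(W₁ ⊔ W₂)) : G) ∈ W₁ ⊓ W₂ := ⟨c1, c2⟩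
          rw [hW.2.2.1, Subgroup.mem_bot] at this
          exact hw (inv_mul_eq_one.mp (Subtype.ext this : w₀⁻¹ * w = 1)).symm
        · rw [orth W₁ _ ((exists_sep hW).2 c1), mul_zero]
      · rw [orth W₂ _ ((exists_sep hW).1 c2), zero_mul]
  have total : ∑ w, (∑ φ ∈ S₂, ∑ ψ ∈ S₁, (φ w₀⁻¹ : ℂ) * (ψ w₀⁻¹ : ℂ) * alpha φ ψ w) * conj (f w)
      = 0 := by
    simp only [Finset.sum_mul]
    rw [Finset.sum_comm]
    refine Finset.sum_eq_zero fun φ hφ => ?_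
    rw [Finset.sum_comm]
    refine Finset.sum_eq_zero fun ψ hψ => ?_
    simp only [mul_assoc, ← Finset.mul_sum]
    rw [hsum φ ψ hφ hψ]
    simp
  rw [Finset.sum_congr rfl fun w _ => by rw [key w]] at total
  simp only [ite_mul, zero_mul, Finset.sum_ite_eq', Finset.mem_univ, if_true, mul_eq_zero] at total
  rcases total with (hc | hc) | hc
  · exfalso
    have : (1 : ↥(W₁ ⊔ W₂) →* ℂˣ) ∈ S₂ := by simp [S₂, triv_one]
    rw [Nat.cast_eq_zero, Finset.card_eq_zero] at hc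
    simp [hc] at this
  · exfalso
    have : (1 : ↥(W₁ ⊔ W₂) →* ℂˣ) ∈ S₁ := by simp [S₁, triv_one]
    rw [Nat.cast_eq_zero, Finset.card_eq_zero] at hc
    simp [hc] at this
  · simpa using hc

end Cfsg.Agent.Char.CTI
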