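import Mathlib

/-!
# A finite check on sign vectors
-/

set_option autoImplicit false

namespace Cfsg.Agent.Char.Grid

/-- Sign vectors on seven points with the prescribed four pairings. -/
def cand (k : ℕ) : List (List ℤ) :=
  ([-1, 0, 1] : List ℤ).flatMap fun a => ([-1, 0, 1] : List ℤ).flatMap fun b =>
    ([-1, 0, 1] : List ℤ).flatMap fun c =>
      if a + b + c = (if k = 0 then 1 else 0) then
        ([-1, 0, 1] : List ℤ).flatMap fun d => ([-1, 0, 1] : List ℤ).flatMap fun e =>
          if a + d + e = (if k = 1 then 1 else 0) then
            ([-1, 0, 1] : List ℤ).flatMap fun f => ([-1, 0, 1] : List ℤ).flatMap fun g =>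
              if a + f + g = (if k = 2 then 1 else 0) ∧ b + d + f = (if k = 3 then 1 else 0) ∧
                  a * a + b * b + c * c + d * d + e * e + f * f + g * g ≤ 3
              then [[a, b, c, d, e, f, g]] else []
          else []
      else []

/-- Compatibility of two sign vectors. -/
def comp (x y : List ℤ) : Bool :=
  let p := List.zipWith (· * ·) x y
  p.all (fun z => decide (0 ≤ z)) && decide (p.sum ≤ 1) &&
    (decide ((x.map fun z => z * z).sum ≠ 3) || decide (p.sum = 1)) &&
    (decide ((y.map fun z => z * z).sum ≠ 3) || decide (p.sum = 1))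

theorem no_compatible :
    ∀ x ∈ cand 0, ∀ y ∈ cand 1, ∀ z ∈ cand 2, ∀ w ∈ cand 3,
      (comp x y && comp x z && comp x w && comp y z && comp y w && comp z w) = false := by
  decide +kernel

end Cfsg.Agent.Char.Grid
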