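import Cfsg.Agent.Lib.Char.Triple
import Cfsg.Agent.Lib.Char.GridFinite

/-!
# Grids of triples of signed irreducible characters
-/

set_option autoImplicit false
set_option linter.style.haveILetI false

namespace Cfsg.Agent.Char

open Cfsg
open scoped ComplexConjugate

universe u

variable {G : Type u} [Group G] [Fintype G]

theorem Meets.inner_eq_one {T T' : Finset (G → ℂ)} (h : Meets T T') (hT : IsTriple T) :
    classInner (∑ α ∈ T, α) (∑ α ∈ T', α) = 1 := by
  obtain ⟨x, hx, hx', hm⟩ := h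
  rw [classInner_sum_left, Finset.sum_eq_single_of_mem x hx (fun α hα hne => by
    rw [classInner_sum_right]
    exact Finset.sum_eq_zero fun β hβ => by
      by_contra h0
      exact hne (hm α hα β hβ h0).1), classInner_sum_right,
    Finset.sum_eq_single_of_mem x hx' (fun β hβ hne => by
      by_contra h0
      exact hne (hm x hx β hβ h0).2), classInner_self_signed (hT.signed x hx)]

/-- Coefficients of a triple at orthonormal points. -/
theorem triple_coef {U : Finset (G → ℂ)} (hU : IsTriple U) {p : G → ℂ} (hp : IsSigned p) :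
    ∃ v : ℤ, classInner (∑ α ∈ U, α) p = v ∧
      ((v = 0) ∨ (v = 1 ∧ p ∈ U) ∨ (v = -1 ∧ -p ∈ U)) := by
  classical
  rw [triple_inner_signed hU hp]
  by_cases h1 : p ∈ U
  · exact ⟨1, by rw [if_pos h1, if_neg (hU.neg_notMem h1)]; simp, Or.inr (Or.inl ⟨rfl, h1⟩)⟩
  by_cases h2 : -p ∈ U
  · exact ⟨-1, by rw [if_neg h1, if_pos h2]; simp, Or.inr (Or.inr ⟨rfl, h2⟩)⟩
  exact ⟨0, by rw [if_neg h1, if_neg h2]; simp, Or.inl rfl⟩

section Points

variable {ι : Type*} [Fintype ι] (pts : ι → G → ℂ) (hp : ∀ l, IsSigned (pts l))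
  (ho : ∀ l m, l ≠ m → classInner (pts l) (pts m) = 0)

include hp ho in
theorem bessel_points {U : Finset (G → ℂ)} (hU : IsTriple U) (v : ι → ℤ)
    (hv : ∀ l, classInner (∑ α ∈ U, α) (pts l) = v l) :
    ∑ l, v l * v l ≤ 3 ∧ (∑ l, v l * v l = 3 →
      ∑ α ∈ U, α = ∑ l, (v l : ℂ) • pts l) := by
  classical
  set u := ∑ α ∈ U, α with hu
  set q := ∑ l, (v l : ℂ) • pts l with hq
  have h1 : classInner u q = ∑ l, (v l : ℂ) * v l := by
    rw [hq, classInner_sum_right]
    exact Finset.sum_congr rfl fun l _ => by rw [classInner_smul_right, hv, map_intCast]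
  have h2 : classInner q u = ∑ l, (v l : ℂ) * v l := by
    rw [← classInner_conj_symm, h1]; simp [map_sum]
  have h3 : classInner q q = ∑ l, (v l : ℂ) * v l := by
    rw [hq, classInner_sum_left]
    refine Finset.sum_congr rfl fun l _ => ?_
    rw [classInner_smul_left, classInner_sum_right, Finset.sum_eq_single_of_mem l (Finset.mem_univ l)
      (fun m _ hne => by rw [classInner_smul_right, ho l m (Ne.symm hne), mul_zero]),
      classInner_smul_right, classInner_self_signed (hp l), map_intCast, mul_one]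
  have hr : classInner (u - q) (u - q) = ((3 - ∑ l, v l * v l : ℤ) : ℂ) := by
    rw [classInner_sub_left, classInner_sub_right, classInner_sub_right, hu, hU.norm, ← hu, h1, h2, h3]
    push_cast; ring
  have hnn := classInner_self_re_nonneg (u - q)
  rw [hr, Complex.intCast_re] at hnn
  have hnn' : (0 : ℤ) ≤ 3 - ∑ l, v l * v l := by exact_mod_cast hnn
  refine ⟨by omega, fun h => ?_⟩
  exact sub_eq_zero.mp (classInner_self_eq_zero (by rw [hr, h]; simp))

include hp ho in
theorem meets_points {U U' : Finset (G → ℂ)} (hU : IsTriple U) (hU' : IsTriple U')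
    (hm : Meets U U') (v v' : ι → ℤ)
    (hv : ∀ l, classInner (∑ α ∈ U, α) (pts l) = v l)
    (hv' : ∀ l, classInner (∑ α ∈ U', α) (pts l) = v' l) :
    (∀ l, 0 ≤ v l * v' l) ∧ ∑ l, v l * v' l ≤ 1 ∧
      (∑ l, v l * v l = 3 → ∑ l, v l * v' l = 1) := by
  classical
  obtain ⟨x, hx, hx', hmx⟩ := id hm
  have hxs := hU.signed x hx
  have key : ∀ l, v l * v' l = 0 ∨ (v l * v' l = 1 ∧ (pts l = x ∨ pts l = -x)) := by
    intro l
    obtain ⟨a, ha, ha'⟩ := triple_coef hU (hp l)
    obtain ⟨b, hb, hb'⟩ := triple_coef hU' (hp l)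
    have ea : a = v l := by exact_mod_cast ha.symm.trans (hv l)
    have eb : b = v' l := by exact_mod_cast hb.symm.trans (hv' l)
    rw [← ea, ← eb]
    have hs := classInner_self_signed (hp l)
    rcases ha' with h | ⟨h, hmem⟩ | ⟨h, hmem⟩
    · exact Or.inl (by simp [h])
    all_goals rcases hb' with h' | ⟨h', hmem'⟩ | ⟨h', hmem'⟩
    · exact Or.inl (by simp [h'])
    · refine Or.inr ⟨by simp [h, h'], Or.inl ?_⟩
      exact (hmx _ hmem _ hmem' (by rw [hs]; exact one_ne_zero)).1
    · exfalso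
      obtain ⟨e1, e2⟩ := hmx _ hmem _ hmem' (by rw [classInner_neg_right, hs]; norm_num)
      exact IsSigned.ne_neg (hp l) (e1.trans e2.symm)
    · exact Or.inl (by simp [h'])
    · exfalso
      obtain ⟨e1, e2⟩ := hmx _ hmem _ hmem' (by rw [classInner_neg_left, hs]; norm_num)
      exact IsSigned.ne_neg (hp l) (e2.trans e1.symm)
    · refine Or.inr ⟨by simp [h, h'], Or.inr ?_⟩
      rw [← (hmx _ hmem _ hmem' (by rw [classInner_neg_left, classInner_neg_right, hs]; norm_num)).1,
        neg_neg]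
  refine ⟨fun l => ?_, ?_, fun h3 => ?_⟩
  · rcases key l with h | ⟨h, -⟩ <;> omega
  · have e : ∀ l, v l * v' l = if v l * v' l = 1 then 1 else 0 := fun l => by
      rcases key l with h | ⟨h, -⟩ <;> simp [h]
    rw [Finset.sum_congr rfl fun l _ => e l, Finset.sum_boole]
    have : (Finset.univ.filter fun l => v l * v' l = 1).card ≤ 1 := by
      rw [Finset.card_le_one]
      intro l hl m hm'
      simp only [Finset.mem_filter, Finset.mem_univ, true_and] at hl hm'
      by_contra hne
      have h0 := ho l m hne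
      rcases key l with h | ⟨-, h⟩
      · omega
      rcases key m with h' | ⟨-, h'⟩
      · omega
      rcases h with h | h <;> rcases h' with h' | h' <;>
        simp [h, h', classInner_neg_left, classInner_neg_right, classInner_self_signed hxs] at h0
    exact_mod_cast this
  · have h := Meets.inner_eq_one hm hU
    rw [(bessel_points pts hp ho hU v hv).2 h3, classInner_sum_left] at h
    have : ((∑ l, v l * v' l : ℤ) : ℂ) = 1 := by
      rw [← h]
      push_cast
      refine Finset.sum_congr rfl fun l _ => ?_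
      rw [classInner_smul_left, ← classInner_conj_symm, hv', map_intCast]
    exact_mod_cast this

end Points

/-- The hypotheses on a grid of triples. -/
structure IsGrid {I J : Type*} (T : I → J → Finset (G → ℂ)) : Prop where
  triple : ∀ i j, IsTriple (T i j)
  row : ∀ i j l, j ≠ l → Meets (T i j) (T i l)
  col : ∀ i k j, i ≠ k → Meets (T i j) (T k j)
  off : ∀ i k j l, i ≠ k → j ≠ l → classInner (∑ α ∈ T i j, α) (∑ α ∈ T k l, α) = 0

variable {I J : Type*} {T : I → J → Finset (G → ℂ)}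

theorem IsGrid.swap (h : IsGrid T) : IsGrid (fun j i => T i j) where
  triple j i := h.triple i j
  row j i k hne := h.col i k j hne
  col j l i hne := h.row i j l hne
  off j l i k hne hne' := h.off i k j l hne' hne

theorem IsGrid.other_row (h : IsGrid T) {i k : I} (hik : i ≠ k) (j l : J) [Decidable (j = l)] :
    classInner (∑ α ∈ T k j, α) (∑ α ∈ T i l, α) = if j = l then (1 : ℂ) else 0 := by
  split_ifs with e
  · subst e
    exact Meets.inner_eq_one (h.col k i j (Ne.symm hik)) (h.triple k j)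
  · exact h.off k i j l (Ne.symm hik) e

theorem IsGrid.fourth_contra (h : IsGrid T) {i k : I} (hik : i ≠ k) (j : Fin 4 → J)
    (hj : Function.Injective j) {a : G → ℂ} (ha0 : a ∈ T i (j 0)) (ha1 : a ∈ T i (j 1))
    (ha2 : a ∈ T i (j 2)) (ha3 : a ∉ T i (j 3)) : False := by
  classical
  have hne : ∀ {s t : Fin 4}, s ≠ t → j s ≠ j t := fun hst e => hst (hj e)
  have ha : ∀ s : Fin 3, a ∈ T i (j s.castSucc) := by
    intro s; fin_cases s <;> assumption
  have hp : ∀ s : Fin 3, ∃ p q, T i (j s.castSucc) = {a, p, q} ∧ p ≠ a ∧ q ≠ a ∧ p ≠ q ∧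
      p ∈ T i (j 3) := by
    intro s
    have hs3 : s.castSucc ≠ (3 : Fin 4) := by fin_cases s <;> decide
    obtain ⟨p, hp, hp', -⟩ := h.row i _ _ (hne hs3)
    have hpa : p ≠ a := fun e => ha3 (e ▸ hp')
    obtain ⟨q, hq⟩ : ∃ q, q ∈ ((T i (j s.castSucc)).erase a).erase p := by
      refine Finset.card_pos.mp ?_
      rw [Finset.card_erase_of_mem (Finset.mem_erase.mpr ⟨hpa, hp⟩),
        Finset.card_erase_of_mem (ha s), (h.triple _ _).card]
      norm_num
    simp only [Finset.mem_erase] at hq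
    refine ⟨p, q, (Finset.eq_of_subset_of_card_le ?_ ?_).symm, hpa, hq.2.1, Ne.symm hq.1, hp'⟩
    · intro w hw
      simp only [Finset.mem_insert, Finset.mem_singleton] at hw
      rcases hw with rfl | rfl | rfl
      · exact ha s
      · exact hp
      · exact hq.2.2
    · rw [(h.triple _ _).card, Finset.card_insert_of_notMem (by simp [Ne.symm hpa, Ne.symm hq.2.1]),
        Finset.card_pair (Ne.symm hq.1)]
  choose p q hT hpa hqa hpq hp3 using hp
  have memp : ∀ s, p s ∈ T i (j s.castSucc) := fun s => by rw [hT]; simp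
  have memq : ∀ s, q s ∈ T i (j s.castSucc) := fun s => by rw [hT]; simp
  have cross : ∀ s t : Fin 3, s ≠ t → ∀ α ∈ T i (j s.castSucc), ∀ β ∈ T i (j t.castSucc),
      (α ≠ a ∨ β ≠ a) → classInner α β = 0 := fun s t hst α hα β hβ hor =>
    Meets.orth (h.row i _ _ (hne fun e => hst (Fin.castSucc_injective _ e))) (h.triple _ _)
      (ha s) (ha t) hα hβ hor
  have opq : ∀ s t : Fin 3, classInner (p s) (q t) = 0 := fun s t => by
    by_cases e : s = t
    · subst e; exact (h.triple _ _).orth _ (memp s) _ (memq s) (hpq s)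
    · exact cross s t e _ (memp s) _ (memq t) (Or.inl (hpa s))
  have oqp : ∀ s t : Fin 3, classInner (q s) (p t) = 0 := fun s t => by
    rw [← classInner_conj_symm, opq t s, map_zero]
  have opp : ∀ s t : Fin 3, s ≠ t → classInner (p s) (p t) = 0 := fun s t e =>
    cross s t e _ (memp s) _ (memp t) (Or.inl (hpa s))
  have oqq : ∀ s t : Fin 3, s ≠ t → classInner (q s) (q t) = 0 := fun s t e =>
    cross s t e _ (memq s) _ (memq t) (Or.inl (hqa s))
  have oap : ∀ s : Fin 3, classInner a (p s) = 0 := fun s =>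
    (h.triple _ _).orth _ (ha s) _ (memp s) (Ne.symm (hpa s))
  have oaq : ∀ s : Fin 3, classInner a (q s) = 0 := fun s =>
    (h.triple _ _).orth _ (ha s) _ (memq s) (Ne.symm (hqa s))
  have opa : ∀ s : Fin 3, classInner (p s) a = 0 := fun s => by
    rw [← classInner_conj_symm, oap, map_zero]
  have oqa : ∀ s : Fin 3, classInner (q s) a = 0 := fun s => by
    rw [← classInner_conj_symm, oaq, map_zero]
  have pinj : ∀ s t : Fin 3, s ≠ t → p s ≠ p t := fun s t e h' => by
    have := opp s t e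
    rw [h', classInner_self_signed ((h.triple _ _).signed _ (memp t))] at this
    exact one_ne_zero this
  have hT3 : T i (j 3) = {p 0, p 1, p 2} := by
    refine (Finset.eq_of_subset_of_card_le ?_ ?_).symm
    · intro w hw
      simp only [Finset.mem_insert, Finset.mem_singleton] at hw
      rcases hw with rfl | rfl | rfl <;> exact hp3 _
    · rw [(h.triple _ _).card, Finset.card_insert_of_notMem
        (by simp [pinj 0 1 (by decide), pinj 0 2 (by decide)]),
        Finset.card_pair (pinj 1 2 (by decide))]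
  let pts : Fin 7 → G → ℂ := ![a, p 0, q 0, p 1, q 1, p 2, q 2]
  have hps : ∀ l, IsSigned (pts l) := by
    have sa := (h.triple _ _).signed a ha0
    have sp : ∀ s, IsSigned (p s) := fun s => (h.triple _ _).signed _ (memp s)
    have sq : ∀ s, IsSigned (q s) := fun s => (h.triple _ _).signed _ (memq s)
    intro l
    fin_cases l
    · exact sa
    · exact sp 0
    · exact sq 0
    · exact sp 1
    · exact sq 1
    · exact sp 2
    · exact sq 2
  have ho : ∀ l m, l ≠ m → classInner (pts l) (pts m) = 0 := by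
    have p01 := opp 0 1 (by decide)
    have p02 := opp 0 2 (by decide)
    have p10 := opp 1 0 (by decide)
    have p12 := opp 1 2 (by decide)
    have p20 := opp 2 0 (by decide)
    have p21 := opp 2 1 (by decide)
    have q01 := oqq 0 1 (by decide)
    have q02 := oqq 0 2 (by decide)
    have q10 := oqq 1 0 (by decide)
    have q12 := oqq 1 2 (by decide)
    have q20 := oqq 2 0 (by decide)
    have q21 := oqq 2 1 (by decide)
    intro l m hlm
    fin_cases l <;> fin_cases m <;>
      simp [pts, opq, oqp, oap, oaq, opa, oqa, p01, p02, p10, p12, p20, p21, q01, q02, q10, q12,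
        q20, q21] at hlm ⊢
  let U : Fin 4 → Finset (G → ℂ) := fun s => T k (j s)
  have hU : ∀ s, IsTriple (U s) := fun s => h.triple k (j s)
  have hcoef : ∀ s l, ∃ v : ℤ, classInner (∑ α ∈ U s, α) (pts l) = v ∧
      v ∈ ([-1, 0, 1] : List ℤ) := fun s l => by
    obtain ⟨v, hv, hv'⟩ := triple_coef (hU s) (hps l)
    refine ⟨v, hv, ?_⟩
    rcases hv' with h | ⟨h, -⟩ | ⟨h, -⟩ <;> simp [h]
  choose v hv hvm using hcoef
  have hrow : ∀ (s t : Fin 4), classInner (∑ α ∈ U s, α) (∑ α ∈ T i (j t), α) =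
      if s = t then (1 : ℂ) else 0 := fun s t => by
    rw [h.other_row hik (j s) (j t)]
    simp [hj.eq_iff]
  have hsum : ∀ (s : Fin 4) (t : Fin 3), classInner (∑ α ∈ U s, α) a +
      classInner (∑ α ∈ U s, α) (p t) + classInner (∑ α ∈ U s, α) (q t) =
      if s = t.castSucc then (1 : ℂ) else 0 := by
    intro s t
    rw [← hrow s t.castSucc, hT t, Finset.sum_insert (by simp [Ne.symm (hpa t), Ne.symm (hqa t)]),
      Finset.sum_pair (hpq t), classInner_add_right, classInner_add_right]
    ring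
  have hsum3 : ∀ s : Fin 4, classInner (∑ α ∈ U s, α) (p 0) + classInner (∑ α ∈ U s, α) (p 1) +
      classInner (∑ α ∈ U s, α) (p 2) = if s = 3 then (1 : ℂ) else 0 := by
    intro s
    rw [← hrow s 3, hT3, Finset.sum_insert (by simp [pinj 0 1 (by decide), pinj 0 2 (by decide)]),
      Finset.sum_pair (pinj 1 2 (by decide)), classInner_add_right, classInner_add_right]
    ring
  let Lv : Fin 4 → List ℤ := fun s => [v s 0, v s 1, v s 2, v s 3, v s 4, v s 5, v s 6]
  have hcand : ∀ s : Fin 4, Lv s ∈ Grid.cand (s : ℕ) := by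
    intro s
    have hval : ∀ l, classInner (∑ α ∈ U s, α) (pts l) = (v s l : ℂ) := hv s
    have e0 := hsum s 0
    have e1 := hsum s 1
    have e2 := hsum s 2
    have e3 := hsum3 s
    rw [show classInner (∑ α ∈ U s, α) a = _ from hval 0,
      show classInner (∑ α ∈ U s, α) (p 0) = _ from hval 1,
      show classInner (∑ α ∈ U s, α) (q 0) = _ from hval 2] at e0
    rw [show classInner (∑ α ∈ U s, α) a = _ from hval 0,
      show classInner (∑ α ∈ U s, α) (p 1) = _ from hval 3,
      show classInner (∑ α ∈ U s, α) (q 1) = _ from hval 4] at e1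
    rw [show classInner (∑ α ∈ U s, α) a = _ from hval 0,
      show classInner (∑ α ∈ U s, α) (p 2) = _ from hval 5,
      show classInner (∑ α ∈ U s, α) (q 2) = _ from hval 6] at e2
    rw [show classInner (∑ α ∈ U s, α) (p 0) = _ from hval 1,
      show classInner (∑ α ∈ U s, α) (p 1) = _ from hval 3,
      show classInner (∑ α ∈ U s, α) (p 2) = _ from hval 5] at e3
    have i0 : v s 0 + v s 1 + v s 2 = if (s : ℕ) = 0 then 1 else 0 := by
      fin_cases s <;> simp at e0 ⊢ <;> exact_mod_cast e0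
    have i1 : v s 0 + v s 3 + v s 4 = if (s : ℕ) = 1 then 1 else 0 := by
      fin_cases s <;> simp at e1 ⊢ <;> exact_mod_cast e1
    have i2 : v s 0 + v s 5 + v s 6 = if (s : ℕ) = 2 then 1 else 0 := by
      fin_cases s <;> simp at e2 ⊢ <;> exact_mod_cast e2
    have i3 : v s 1 + v s 3 + v s 5 = if (s : ℕ) = 3 then 1 else 0 := by
      fin_cases s <;> simp at e3 ⊢ <;> exact_mod_cast e3
    have hb := (bessel_points pts hps ho (hU s) (v s) (hv s)).1
    rw [Fin.sum_univ_seven] at hb
    simp only [Grid.cand, List.mem_flatMap]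
    refine ⟨v s 0, hvm s 0, v s 1, hvm s 1, v s 2, hvm s 2, ?_⟩
    rw [if_pos i0, List.mem_flatMap]
    refine ⟨v s 3, hvm s 3, ?_⟩
    rw [List.mem_flatMap]
    refine ⟨v s 4, hvm s 4, ?_⟩
    rw [if_pos i1, List.mem_flatMap]
    refine ⟨v s 5, hvm s 5, ?_⟩
    rw [List.mem_flatMap]
    refine ⟨v s 6, hvm s 6, ?_⟩
    rw [if_pos ⟨i2, i3, hb⟩]
    exact List.mem_singleton_self _
  have hcomp : ∀ s t : Fin 4, s ≠ t → Grid.comp (Lv s) (Lv t) = true := by
    intro s t hst
    obtain ⟨h0, h1, h2⟩ := meets_points pts hps ho (hU s) (hU t) (h.row k _ _ (hne hst)) (v s) (v t)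
      (hv s) (hv t)
    obtain ⟨-, -, h2'⟩ := meets_points pts hps ho (hU t) (hU s) (h.row k _ _ (hne (Ne.symm hst)))
      (v t) (v s) (hv t) (hv s)
    simp only [Fin.sum_univ_seven] at h1 h2 h2'
    simp only [Grid.comp, Lv, List.zipWith_cons_cons, List.zipWith_nil_right, List.all_cons,
      List.all_nil, List.map_cons, List.map_nil, List.sum_cons, List.sum_nil, add_zero,
      Bool.and_true, Bool.and_eq_true, Bool.or_eq_true, decide_eq_true_eq]
    refine ⟨⟨⟨⟨h0 0, h0 1, h0 2, h0 3, h0 4, h0 5, h0 6⟩, ?_⟩, ?_⟩, ?_⟩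
    · linarith
    · by_cases e : v s 0 * v s 0 + v s 1 * v s 1 + v s 2 * v s 2 + v s 3 * v s 3 + v s 4 * v s 4 +
          v s 5 * v s 5 + v s 6 * v s 6 = 3
      · right; have := h2 e; linarith
      · left; intro e'; exact e (by linarith)
    · by_cases e : v t 0 * v t 0 + v t 1 * v t 1 + v t 2 * v t 2 + v t 3 * v t 3 + v t 4 * v t 4 +
          v t 5 * v t 5 + v t 6 * v t 6 = 3
      · right; have := h2' e; linarith
      · left; intro e'; exact e (by linarith)
  have := Grid.no_compatible _ (hcand 0) _ (hcand 1) _ (hcand 2) _ (hcand 3)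
  rw [hcomp 0 1 (by decide), hcomp 0 2 (by decide), hcomp 0 3 (by decide), hcomp 1 2 (by decide),
    hcomp 1 3 (by decide), hcomp 2 3 (by decide)] at this
  simp at this

/-- Three triples of a row have a common point. -/
theorem IsGrid.three_common (h : IsGrid T) {i k : I} (hik : i ≠ k) (j : Fin 4 → J)
    (hj : Function.Injective j) :
    ∃ x, x ∈ T i (j 0) ∧ x ∈ T i (j 1) ∧ x ∈ T i (j 2) := by
  classical
  by_contra hno
  push Not at hno
  have hne : ∀ {s t : Fin 4}, s ≠ t → j s ≠ j t := fun hst e => hst (hj e)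
  obtain ⟨a, ha0, ha1, -⟩ := h.row i _ _ (hne (show (0 : Fin 4) ≠ 1 by decide))
  obtain ⟨b, hb0, hb2, -⟩ := h.row i _ _ (hne (show (0 : Fin 4) ≠ 2 by decide))
  obtain ⟨d, hd1, hd2, -⟩ := h.row i _ _ (hne (show (1 : Fin 4) ≠ 2 by decide))
  have na : a ∉ T i (j 2) := hno a ha0 ha1
  have nb : b ∉ T i (j 1) := fun hh => hno b hb0 hh hb2
  have nd : d ∉ T i (j 0) := fun hh => hno d hh hd1 hd2
  by_cases wa : a ∈ T i (j 3)
  · exact h.fourth_contra hik ![j 0, j 1, j 3, j 2]
      (by intro s t; fin_cases s <;> fin_cases t <;> simp [hj.eq_iff]) ha0 ha1 wa na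
  by_cases wb : b ∈ T i (j 3)
  · exact h.fourth_contra hik ![j 0, j 2, j 3, j 1]
      (by intro s t; fin_cases s <;> fin_cases t <;> simp [hj.eq_iff]) hb0 hb2 wb nb
  by_cases wd : d ∈ T i (j 3)
  · exact h.fourth_contra hik ![j 1, j 2, j 3, j 0]
      (by intro s t; fin_cases s <;> fin_cases t <;> simp [hj.eq_iff]) hd1 hd2 wd nd
  obtain ⟨c, hc0, hc3, -⟩ := h.row i _ _ (hne (show (0 : Fin 4) ≠ 3 by decide))
  obtain ⟨e, he1, he3, -⟩ := h.row i _ _ (hne (show (1 : Fin 4) ≠ 3 by decide))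
  obtain ⟨f, hf2, hf3, -⟩ := h.row i _ _ (hne (show (2 : Fin 4) ≠ 3 by decide))
  have uniq : ∀ {s t : Fin 4}, s ≠ t → ∀ {y z : G → ℂ}, y ∈ T i (j s) → y ∈ T i (j t) →
      z ∈ T i (j s) → z ∈ T i (j t) → y = z := by
    intro s t hst y z h1 h2 h3 h4
    exact Meets.eq_of_mem (h.row i _ _ (hne hst)) (h.triple _ _) h1 h2 h3 h4
  have hab : a ≠ b := fun e => na (e ▸ hb2)
  have had : a ≠ d := fun e => na (e ▸ hd2)
  have hbd : b ≠ d := fun e => nb (e ▸ hd1)
  have hac : a ≠ c := fun e => wa (e ▸ hc3)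
  have hbc : b ≠ c := fun e => wb (e ▸ hc3)
  have hae : a ≠ e := fun h' => wa (h' ▸ he3)
  have hde : d ≠ e := fun h' => wd (h' ▸ he3)
  have hbf : b ≠ f := fun e => wb (e ▸ hf3)
  have hdf : d ≠ f := fun e => wd (e ▸ hf3)
  have hce : c ≠ e := fun h' =>
    hac (uniq (show (0 : Fin 4) ≠ 1 by decide) ha0 ha1 hc0 (h' ▸ he1))
  have hcf : c ≠ f := fun h' =>
    hbc (uniq (show (0 : Fin 4) ≠ 2 by decide) hb0 hb2 hc0 (h' ▸ hf2))
  have hef : e ≠ f := fun h' =>
    hde (uniq (show (1 : Fin 4) ≠ 2 by decide) hd1 hd2 he1 (h' ▸ hf2))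
  have mk3 : ∀ (t : J) (x y z : G → ℂ), x ∈ T i t → y ∈ T i t → z ∈ T i t → x ≠ y → x ≠ z → y ≠ z →
      ∑ α ∈ T i t, α = x + (y + z) := by
    intro t x y z hx hy hz hxy hxz hyz
    have : T i t = {x, y, z} := by
      refine (Finset.eq_of_subset_of_card_le ?_ ?_).symm
      · intro w hw
        simp only [Finset.mem_insert, Finset.mem_singleton] at hw
        rcases hw with rfl | rfl | rfl <;> assumption
      · rw [(h.triple _ _).card, Finset.card_insert_of_notMem (by simp [hxy, hxz]),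
          Finset.card_pair hyz]
    rw [this, Finset.sum_insert (by simp [hxy, hxz]), Finset.sum_pair hyz]
  set u := ∑ α ∈ T k (j 0), α
  have r0 := h.other_row hik (j 0) (j 0)
  have r1 := h.other_row hik (j 0) (j 1)
  have r2 := h.other_row hik (j 0) (j 2)
  have r3 := h.other_row hik (j 0) (j 3)
  rw [if_pos rfl, mk3 _ a b c ha0 hb0 hc0 hab hac hbc] at r0
  rw [if_neg (hne (show (0 : Fin 4) ≠ 1 by decide)), mk3 _ a d e ha1 hd1 he1 had hae hde] at r1
  rw [if_neg (hne (show (0 : Fin 4) ≠ 2 by decide)), mk3 _ b d f hb2 hd2 hf2 hbd hbf hdf] at r2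
  rw [if_neg (hne (show (0 : Fin 4) ≠ 3 by decide)), mk3 _ c e f hc3 he3 hf3 hce hcf hef] at r3
  simp only [classInner_add_right] at r0 r1 r2 r3
  have hs : ∀ x t, x ∈ T i t → ∃ z : ℤ, classInner u x = z := fun x t hx => by
    obtain ⟨z, hz, -⟩ := triple_coef (h.triple k (j 0)) ((h.triple i t).signed x hx)
    exact ⟨z, hz⟩
  obtain ⟨za, ea⟩ := hs a _ ha0
  obtain ⟨zb, eb⟩ := hs b _ hb0
  obtain ⟨zc, ec⟩ := hs c _ hc0
  obtain ⟨zd, ed⟩ := hs d _ hd1
  obtain ⟨ze, ee⟩ := hs e _ he1
  obtain ⟨zf, ef⟩ := hs f _ hf2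
  rw [ea, eb, ec] at r0
  rw [ea, ed, ee] at r1
  rw [eb, ed, ef] at r2
  rw [ec, ee, ef] at r3
  have i0 : za + (zb + zc) = 1 := by exact_mod_cast r0
  have i1 : za + (zd + ze) = 0 := by exact_mod_cast r1
  have i2 : zb + (zd + zf) = 0 := by exact_mod_cast r2
  have i3 : zc + (ze + zf) = 0 := by exact_mod_cast r3
  omega

/-- Every row has a centre. -/
theorem IsGrid.row_centre [Fintype I] [Fintype J] (h : IsGrid T) (hI : 2 ≤ Fintype.card I)
    (hJ : 4 ≤ Fintype.card J) (i : I) : ∃ x, ∀ j, x ∈ T i j := by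
  classical
  obtain ⟨k, hk⟩ := Fintype.exists_ne_of_one_lt_card hI i
  obtain ⟨e⟩ : Nonempty (Fin 4 ↪ J) := Function.Embedding.nonempty_of_card_le (by simpa using hJ)
  have h01 : e 0 ≠ e 1 := fun hh => absurd (e.injective hh) (by decide)
  obtain ⟨x, hx0, hx1, -⟩ := h.row i _ _ h01
  refine ⟨x, fun j => ?_⟩
  by_cases hj0 : j = e 0
  · rw [hj0]; exact hx0
  by_cases hj1 : j = e 1
  · rw [hj1]; exact hx1
  obtain ⟨l, hl⟩ : ∃ l, l ∉ ({e 0, e 1, j} : Finset J) := by
    by_contra hh
    push Not at hh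
    have : Fintype.card J ≤ ({e 0, e 1, j} : Finset J).card :=
      Finset.card_le_card (s := Finset.univ) fun a _ => hh a
    have := this.trans Finset.card_le_three
    omega
  simp only [Finset.mem_insert, Finset.mem_singleton, not_or] at hl
  obtain ⟨y, hy0, hy1, hy2⟩ := h.three_common (Ne.symm hk) ![e 0, e 1, j, l] (by
    intro s t
    fin_cases s <;> fin_cases t <;>
      simp [h01, Ne.symm h01, hj0, hj1, Ne.symm hj0, Ne.symm hj1, hl.1, hl.2.1, hl.2.2,
        Ne.symm hl.1, Ne.symm hl.2.1, Ne.symm hl.2.2])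
  have := Meets.eq_of_mem (h.row i _ _ h01) (h.triple _ _) hx0 hx1 hy0 hy1
  exact this ▸ hy2

/-- A point of a row centre cannot be opposed in too many places. -/
theorem IsGrid.opposed_bound [Fintype J] (h : IsGrid T) (hJ : 4 ≤ Fintype.card J) {i k : I}
    (hik : i ≠ k) (l : J) {x : G → ℂ} (hxi : ∀ j, x ∈ T i j) (hxk : x ∈ T k l) : False := by
  classical
  have hex : ∀ j : {j : J // j ≠ l}, ∃ z ∈ T i j.1, z ≠ x ∧ -z ∈ T k l := fun j =>
    exists_opposed (h.triple i j.1) (h.triple k l) (h.off i k j.1 l hik j.2) (hxi _) hxk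
  choose z hz1 hz2 hz3 using hex
  have hinj : Function.Injective fun j => -z j := by
    intro a b hab
    have hab' : z a = z b := neg_inj.mp hab
    by_contra hne
    exact hz2 a (Meets.eq_of_mem (h.row i _ _ fun e => hne (Subtype.ext e)) (h.triple _ _)
      (hz1 a) (hab' ▸ hz1 b) (hxi _) (hxi _))
  have hsub : Finset.univ.image (fun j => -z j) ⊆ (T k l).erase x := by
    intro w hw
    obtain ⟨j, -, rfl⟩ := Finset.mem_image.mp hw
    refine Finset.mem_erase.mpr ⟨fun e => ?_, hz3 j⟩
    exact (h.triple i j.1).neg_notMem (hz1 j) (e ▸ hxi _)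
  have := Finset.card_le_card hsub
  rw [Finset.card_image_of_injective _ hinj, Finset.card_univ, Finset.card_erase_of_mem hxk,
    (h.triple k l).card, Fintype.card_subtype_compl, Fintype.card_subtype_eq] at this
  omega

/-- The structure of a grid. -/
theorem IsGrid.structure_thm [Fintype I] [Fintype J] (h : IsGrid T) (hJ : 4 ≤ Fintype.card J)
    (hI : Fintype.card I = 2 ∨ 4 ≤ Fintype.card I) :
    ∃ (x : I → G → ℂ) (y : J → G → ℂ) (z : I → J → G → ℂ),
      (∀ i j, x i ∈ T i j ∧ y j ∈ T i j ∧ z i j ∈ T i j) ∧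
      (∀ i j, ∑ α ∈ T i j, α = x i + y j + z i j) ∧
      (∀ i k, i ≠ k → classInner (x i) (x k) = 0) ∧
      (∀ j l, j ≠ l → classInner (y j) (y l) = 0) ∧
      (∀ i j, classInner (x i) (y j) = 0) ∧
      (∀ i k l, classInner (x i) (z k l) = 0) ∧
      (∀ j k l, classInner (y j) (z k l) = 0) ∧
      (∀ i j k l, (i, j) ≠ (k, l) → classInner (z i j) (z k l) = 0) := by
  classical
  have hI2 : 2 ≤ Fintype.card I := by omega
  choose x hx using h.row_centre hI2 hJ
  have hy' : ∀ j : J, ∃ y, ∀ i, y ∈ T i j := by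
    intro j
    rcases hI with hI | hI
    · obtain ⟨a, b, hab, huniv⟩ := Finset.card_eq_two.mp (hI ▸ Finset.card_univ (α := I))
      obtain ⟨y, hya, hyb, -⟩ := h.col a b j hab
      refine ⟨y, fun i => ?_⟩
      have := huniv ▸ Finset.mem_univ i
      simp only [Finset.mem_insert, Finset.mem_singleton] at this
      rcases this with rfl | rfl <;> assumption
    · exact h.swap.row_centre (by omega) hI j
  choose y hy using hy'
  have hotherI : ∀ i : I, ∃ k, k ≠ i := fun i => Fintype.exists_ne_of_one_lt_card hI2 i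
  have hotherJ : ∀ j : J, ∃ l, l ≠ j := fun j => Fintype.exists_ne_of_one_lt_card (by omega) j
  have hxy : ∀ i j, x i ≠ y j := by
    intro i j e
    obtain ⟨k, hk⟩ := hotherI i
    exact h.opposed_bound hJ (Ne.symm hk) j (hx i) (e ▸ hy j k)
  have hz' : ∀ i j, ∃ z, z ∈ T i j ∧ z ≠ x i ∧ z ≠ y j := by
    intro i j
    obtain ⟨z, hz⟩ : ∃ z, z ∈ ((T i j).erase (x i)).erase (y j) := by
      refine Finset.card_pos.mp ?_
      rw [Finset.card_erase_of_mem (Finset.mem_erase.mpr ⟨Ne.symm (hxy i j), hy j i⟩),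
        Finset.card_erase_of_mem (hx i j), (h.triple _ _).card]
      norm_num
    simp only [Finset.mem_erase] at hz
    exact ⟨z, hz.2.2, hz.2.1, hz.1⟩
  choose z hz hzx hzy using hz'
  have hsum : ∀ i j, ∑ α ∈ T i j, α = x i + y j + z i j := by
    intro i j
    have : T i j = {x i, y j, z i j} := by
      refine (Finset.eq_of_subset_of_card_le ?_ ?_).symm
      · intro w hw
        simp only [Finset.mem_insert, Finset.mem_singleton] at hw
        rcases hw with rfl | rfl | rfl
        · exact hx i j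
        · exact hy j i
        · exact hz i j
      · rw [(h.triple _ _).card, Finset.card_insert_of_notMem (by simp [hxy i j, Ne.symm (hzx i j)]),
          Finset.card_pair (Ne.symm (hzy i j))]
    rw [this, Finset.sum_insert (by simp [hxy i j, Ne.symm (hzx i j)]),
      Finset.sum_pair (Ne.symm (hzy i j))]
    abel
  have hrowo : ∀ i j l, j ≠ l → ∀ α ∈ T i j, ∀ β ∈ T i l, (α ≠ x i ∨ β ≠ x i) →
      classInner α β = 0 := fun i j l hne α hα β hβ hor =>
    Meets.orth (h.row i j l hne) (h.triple _ _) (hx i j) (hx i l) hα hβ hor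
  have hcolo : ∀ i k j, i ≠ k → ∀ α ∈ T i j, ∀ β ∈ T k j, (α ≠ y j ∨ β ≠ y j) →
      classInner α β = 0 := fun i k j hne α hα β hβ hor =>
    Meets.orth (h.col i k j hne) (h.triple _ _) (hy j i) (hy j k) hα hβ hor
  obtain ⟨j₀⟩ : Nonempty J := Fintype.card_pos_iff.mp (by omega)
  obtain ⟨i₀⟩ : Nonempty I := Fintype.card_pos_iff.mp (by omega)
  have hxx : ∀ i k, i ≠ k → classInner (x i) (x k) = 0 := fun i k hne =>
    hcolo i k j₀ hne _ (hx i j₀) _ (hx k j₀) (Or.inl (hxy i j₀))
  have hyy : ∀ j l, j ≠ l → classInner (y j) (y l) = 0 := fun j l hne =>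
    hrowo i₀ j l hne _ (hy j i₀) _ (hy l i₀) (Or.inl (Ne.symm (hxy i₀ j)))
  have hxy0 : ∀ i j, classInner (x i) (y j) = 0 := fun i j =>
    (h.triple i j).orth _ (hx i j) _ (hy j i) (hxy i j)
  have hxz : ∀ i k l, classInner (x i) (z k l) = 0 := by
    intro i k l
    by_cases e : i = k
    · subst e
      exact (h.triple i l).orth _ (hx i l) _ (hz i l) (Ne.symm (hzx i l))
    · exact hcolo i k l e _ (hx i l) _ (hz k l) (Or.inl (hxy i l))
  have hyz : ∀ j k l, classInner (y j) (z k l) = 0 := by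
    intro j k l
    by_cases e : j = l
    · subst e
      exact (h.triple k j).orth _ (hy j k) _ (hz k j) (Ne.symm (hzy k j))
    · exact hrowo k j l e _ (hy j k) _ (hz k l) (Or.inl (Ne.symm (hxy k j)))
  refine ⟨x, y, z, fun i j => ⟨hx i j, hy j i, hz i j⟩, hsum, hxx, hyy, hxy0, hxz, hyz, ?_⟩
  intro i j k l hne
  by_cases e : i = k
  · subst e
    exact hrowo i j l (fun e' => hne (by rw [e'])) _ (hz i j) _ (hz i l) (Or.inl (hzx i j))
  by_cases e' : j = l
  · subst e'
    exact hcolo i k j e _ (hz i j) _ (hz k j) (Or.inl (hzy i j))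
  have h0 := h.off i k j l e e'
  rw [hsum, hsum] at h0
  have yx : classInner (y j) (x k) = 0 := by rw [← classInner_conj_symm, hxy0, map_zero]
  have zx : classInner (z i j) (x k) = 0 := by rw [← classInner_conj_symm, hxz, map_zero]
  have zy : classInner (z i j) (y l) = 0 := by rw [← classInner_conj_symm, hyz, map_zero]
  simp only [classInner_add_left, classInner_add_right, hxx i k e, hyy j l e', hxy0, hxz, hyz, yx,
    zx, zy, zero_add, add_zero] at h0
  exact h0

end Cfsg.Agent.Char
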