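import Cfsg.Agent.Lib.Char.CyclicTIData
import Cfsg.Agent.Lib.Char.Grid
import Cfsg.Agent.S1505

/-!
# The family attached to a self-normalizing cyclic subgroup
-/

set_option autoImplicit false
set_option linter.style.haveILetI false

namespace Cfsg.Agent.Char.CTI

open Cfsg
open scoped ComplexConjugate

universe u

variable {G : Type u} [Group G] [Fintype G] {W₁ W₂ : Subgroup G}

theorem classInner_alpha_hom [Fintype ↥(W₁ ⊔ W₂)] [DecidableEq (↥(W₁ ⊔ W₂) →* ℂˣ)]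
    (φ ψ ω : ↥(W₁ ⊔ W₂) →* ℂˣ) :
    classInner (alpha φ ψ) (fun w => (ω w : ℂ)) =
      (if (1 : ↥(W₁ ⊔ W₂) →* ℂˣ) = ω then (1 : ℂ) else 0) - (if φ = ω then 1 else 0) -
        (if ψ = ω then 1 else 0) + (if φ * ψ = ω then 1 else 0) := by
  rw [alpha_eq, classInner_add_left, classInner_sub_left, classInner_sub_left]
  simp only [classInner_monoidHom]

theorem hom_mul_one (a : ↥(W₁ ⊔ W₂) →* ℂˣ) : a * 1 = a := MonoidHom.ext fun w => by simp

theorem hom_one_mul (a : ↥(W₁ ⊔ W₂) →* ℂˣ) : 1 * a = a := MonoidHom.ext fun w => by simp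

/-- The part of the family axioms from which the values outside both factors follow. -/
structure IsPreFamily (W₁ W₂ : Subgroup G) (χ : (↥(W₁ ⊔ W₂) →* ℂˣ) → (G → ℂ)) : Prop where
  irr_or_neg : ∀ ω, IsIrrCharacter G (χ ω) ∨ IsIrrCharacter G (-χ ω)
  ortho : ∀ ω, classInner (χ ω) (χ ω) = 1 ∧ ∀ ω', ω ≠ ω' → classInner (χ ω) (χ ω') = 0
  map_one : χ 1 = fun _ => 1
  induced_eq : ∀ φ ψ : ↥(W₁ ⊔ W₂) →* ℂˣ, φ ≠ 1 → ψ ≠ 1 → Triv W₂ φ → Triv W₁ ψ →
    indFun (W₁ ⊔ W₂) (alpha φ ψ) = fun g => 1 - χ φ g - χ ψ g + χ (φ * ψ) g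

theorem IsPreFamily.classInner_ind {χ : (↥(W₁ ⊔ W₂) →* ℂˣ) → (G → ℂ)}
    (h : IsPreFamily W₁ W₂ χ) (φ ψ : ↥(W₁ ⊔ W₂) →* ℂˣ) (hφ : φ ≠ 1) (hψ : ψ ≠ 1)
    (hφ₂ : Triv W₂ φ) (hψ₁ : Triv W₁ ψ) (θ : G → ℂ) :
    classInner (indFun (W₁ ⊔ W₂) (alpha φ ψ)) θ =
      classInner (χ 1) θ - classInner (χ φ) θ - classInner (χ ψ) θ + classInner (χ (φ * ψ)) θ := by
  rw [h.induced_eq φ ψ hφ hψ hφ₂ hψ₁, show (fun g => 1 - χ φ g - χ ψ g + χ (φ * ψ) g) =
    χ 1 - χ φ - χ ψ + χ (φ * ψ) by funext g; simp [h.map_one], classInner_add_left,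
    classInner_sub_left, classInner_sub_left]

theorem IsPreFamily.eq_on (hW : IsSelfNormalizingCyclic W₁ W₂)
    {χ : (↥(W₁ ⊔ W₂) →* ℂˣ) → (G → ℂ)} (h : IsPreFamily W₁ W₂ χ) (ω : ↥(W₁ ⊔ W₂) →* ℂˣ)
    (w : ↥(W₁ ⊔ W₂)) (hw₁ : (w : G) ∉ W₁) (hw₂ : (w : G) ∉ W₂) : χ ω w = (ω w : ℂ) := by
  classical
  haveI := Fintype.ofFinite ↥(W₁ ⊔ W₂)
  have hcls : IsClassFunction G (χ ω) :=
    IsGeneralizedCharacter.isClassFunction (IsSigned.isGeneralized (h.irr_or_neg ω))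
  refine sub_eq_zero.mp (kill hW (f := (fun w : ↥(W₁ ⊔ W₂) => χ ω w) - fun w => (ω w : ℂ))
    (fun φ ψ hφ hψ hφ₂ hψ₁ => ?_) w hw₁ hw₂)
  have hval : ∀ ω', classInner (χ ω') (χ ω) = if ω' = ω then (1 : ℂ) else 0 := fun ω' => by
    split_ifs with e
    · rw [e]; exact (h.ortho ω).1
    · exact (h.ortho ω').2 ω e
  rw [classInner_sub_right, ← classInner_indFun _ _ hcls,
    h.classInner_ind φ ψ hφ hψ hφ₂ hψ₁, classInner_alpha_hom]
  simp only [hval, sub_self]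

theorem exists_family (hW : IsSelfNormalizingCyclic W₁ W₂) (hodd : Odd (Nat.card ↥(W₁ ⊔ W₂))) :
    ∃ χ, IsPreFamily W₁ W₂ χ := by
  classical
  haveI : IsCyclic ↥(W₁ ⊔ W₂) := hW.2.2.2.2.1
  haveI : Finite (↥(W₁ ⊔ W₂) →* ℂˣ) := by
    letI : CommGroup ↥(W₁ ⊔ W₂) := IsCyclic.commGroup
    exact Nat.finite_of_card_ne_zero (by
      rw [CommGroup.card_monoidHom_of_hasEnoughRootsOfUnity ↥(W₁ ⊔ W₂) ℂ]
      exact Nat.card_pos.ne')
  haveI := Fintype.ofFinite (↥(W₁ ⊔ W₂) →* ℂˣ)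
  let I := {a : ↥(W₁ ⊔ W₂) →* ℂˣ // Triv W₂ a ∧ a ≠ 1}
  let J := {b : ↥(W₁ ⊔ W₂) →* ℂˣ // Triv W₁ b ∧ b ≠ 1}
  let γ : I → J → (G → ℂ) := fun i j => indFun (W₁ ⊔ W₂) (alpha i.1 j.1) - fun _ => 1
  have hgen : ∀ i j, IsGeneralizedCharacter G (γ i j) := by
    intro i j
    haveI := Fintype.ofFinite ↥(W₁ ⊔ W₂)
    refine isGeneralizedCharacter_sub (isGeneralizedCharacter_indFun _ ?_)
      isGeneralizedCharacter_one
    have hl : ∀ l : ↥(W₁ ⊔ W₂) →* ℂˣ,
        IsGeneralizedCharacter ↥(W₁ ⊔ W₂) fun w => (l w : ℂ) := fun l =>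
      IsIrrCharacter.isGeneralized (isIrrCharacter_monoidHom l)
    rw [alpha_eq]
    exact isGeneralizedCharacter_add
      (isGeneralizedCharacter_sub (isGeneralizedCharacter_sub (hl _) (hl _)) (hl _)) (hl _)
  have hone : classInner (fun _ : G => (1 : ℂ)) (fun _ => 1) = 1 :=
    IsIrrCharacter.classInner_self (isIrrCharacter_one (G := G))
  have h5 : ∀ (i i' : I) (j j' : J),
      classInner (indFun (W₁ ⊔ W₂) (alpha i.1 j.1)) (fun _ => 1) = 1 ∧
      classInner (indFun (W₁ ⊔ W₂) (alpha i.1 j.1)) (indFun (W₁ ⊔ W₂) (alpha i'.1 j'.1)) =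
        1 + (if i = i' then 1 else 0) + (if j = j' then 1 else 0) +
          (if i = i' then 1 else 0) * (if j = j' then 1 else 0) := by
    intro i i' j j'
    have := Cfsg.Agent.S1505.result W₁ W₂ hW i.1 i'.1 j.1 j'.1 i.2.2 i'.2.2 j.2.2 j'.2.2
      (fun w hw => ⟨i.2.1 w hw, i'.2.1 w hw⟩) (fun w hw => ⟨j.2.1 w hw, j'.2.1 w hw⟩)
    simp only [Subtype.val_inj] at this
    exact this
  have hγ1 : ∀ i j, classInner (γ i j) (fun _ => 1) = 0 := fun i j => by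
    rw [classInner_sub_left, (h5 i i j j).1, hone, sub_self]
  have hγγ : ∀ i i' j j', classInner (γ i j) (γ i' j') =
      (if i = i' then (1 : ℂ) else 0) + (if j = j' then 1 else 0) +
        (if i = i' then 1 else 0) * (if j = j' then 1 else 0) := by
    intro i i' j j'
    show classInner (indFun (W₁ ⊔ W₂) (alpha i.1 j.1) - fun _ => 1)
      (indFun (W₁ ⊔ W₂) (alpha i'.1 j'.1) - fun _ => 1) = _
    rw [classInner_sub_left, classInner_sub_right, classInner_sub_right, (h5 i i' j j').2,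
      (h5 i i j j).1, ← classInner_conj_symm (indFun (W₁ ⊔ W₂) (alpha i'.1 j'.1)) (fun _ => 1),
      (h5 i' i' j' j').1, hone, map_one]
    ring
  have hval1 : ∀ i j, γ i j 1 = -1 := fun i j => by
    simp [γ, indFun_one_apply, alpha]
  choose T hT hTsum using fun i j => exists_triple (hgen i j) (by rw [hγγ]; simp; norm_num)
  have hgrid : IsGrid T := by
    refine ⟨hT, fun i j l hne => ?_, fun i k j hne => ?_, fun i k j l hne hne' => ?_⟩
    · refine meets_of_inner_one (hT i j) (hT i l) ?_ ?_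
      · rw [← hTsum, ← hTsum, hγγ]; simp [hne]
      · rw [← hTsum, ← hTsum, hval1, hval1]
    · refine meets_of_inner_one (hT i j) (hT k j) ?_ ?_
      · rw [← hTsum, ← hTsum, hγγ]; simp [hne]
      · rw [← hTsum, ← hTsum, hval1, hval1]
    · rw [← hTsum, ← hTsum, hγγ]; simp [hne, hne']
  obtain ⟨c₁, c₂⟩ := card_triv hW
  have hcI : Fintype.card I + 1 = Nat.card W₁ := by
    rw [← c₁, Fintype.card_subtype, Nat.card_eq_fintype_card, Fintype.card_subtype]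
    rw [show (Finset.univ.filter fun a : ↥(W₁ ⊔ W₂) →* ℂˣ => Triv W₂ a ∧ a ≠ 1) =
      (Finset.univ.filter fun a => Triv W₂ a).erase 1 by ext a; simp [and_comm]]
    exact Finset.card_erase_add_one (by simp [triv_one])
  have hcJ : Fintype.card J + 1 = Nat.card W₂ := by
    rw [← c₂, Fintype.card_subtype, Nat.card_eq_fintype_card, Fintype.card_subtype]
    rw [show (Finset.univ.filter fun a : ↥(W₁ ⊔ W₂) →* ℂˣ => Triv W₁ a ∧ a ≠ 1) =
      (Finset.univ.filter fun a => Triv W₁ a).erase 1 by ext a; simp [and_comm]]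
    exact Finset.card_erase_add_one (by simp [triv_one])
  have o1 : Odd (Nat.card W₁) :=
    Odd.of_dvd_nat hodd (Subgroup.card_dvd_of_le le_sup_left)
  have o2 : Odd (Nat.card W₂) :=
    Odd.of_dvd_nat hodd (Subgroup.card_dvd_of_le le_sup_right)
  have n1 : Nat.card W₁ ≠ 1 := fun e => hW.1 (Subgroup.card_eq_one.mp e)
  have n2 : Nat.card W₂ ≠ 1 := fun e => hW.2.1 (Subgroup.card_eq_one.mp e)
  have n12 : Nat.card W₁ ≠ Nat.card W₂ := fun e => by
    have := coprime_card hW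
    rw [e, Nat.coprime_self] at this
    exact n2 this
  have hstruct : ∃ (x : I → G → ℂ) (y : J → G → ℂ) (z : I → J → G → ℂ),
      (∀ i j, x i ∈ T i j ∧ y j ∈ T i j ∧ z i j ∈ T i j) ∧
      (∀ i j, ∑ α ∈ T i j, α = x i + y j + z i j) ∧
      (∀ i k, i ≠ k → classInner (x i) (x k) = 0) ∧
      (∀ j l, j ≠ l → classInner (y j) (y l) = 0) ∧
      (∀ i j, classInner (x i) (y j) = 0) ∧
      (∀ i k l, classInner (x i) (z k l) = 0) ∧
      (∀ j k l, classInner (y j) (z k l) = 0) ∧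
      (∀ i j k l, (i, j) ≠ (k, l) → classInner (z i j) (z k l) = 0) := by
    obtain ⟨a1, ha1⟩ := o1
    obtain ⟨a2, ha2⟩ := o2
    by_cases hJ : 4 ≤ Fintype.card J
    · exact hgrid.structure_thm hJ (by omega)
    · obtain ⟨y, x, z, hm, hs, hyy, hxx, hyx, hyz, hxz, hzz⟩ :=
        hgrid.swap.structure_thm (by omega) (by omega)
      refine ⟨x, y, fun i j => z j i, fun i j => ⟨(hm j i).2.1, (hm j i).1, (hm j i).2.2⟩,
        fun i j => by rw [hs j i]; abel, hxx, hyy,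
        fun i j => by rw [← classInner_conj_symm, hyx j i, map_zero],
        fun i k l => hxz i l k, fun j k l => hyz j l k, fun i j k l hne => hzz j i l k ?_⟩
      intro e
      exact hne (Prod.ext (congrArg Prod.snd e) (congrArg Prod.fst e))
  obtain ⟨x, y, z, hm, hs, hxx, hyy, hxy, hxz, hyz, hzz⟩ := hstruct
  obtain ⟨i₀⟩ : Nonempty I := Fintype.card_pos_iff.mp (by
    have := Nat.card_pos (α := W₁); omega)
  obtain ⟨j₀⟩ : Nonempty J := Fintype.card_pos_iff.mp (by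
    have := Nat.card_pos (α := W₂); omega)
  have hsx : ∀ i, IsSigned (x i) := fun i => (hT i j₀).signed _ (hm i j₀).1
  have hsy : ∀ j, IsSigned (y j) := fun j => (hT i₀ j).signed _ (hm i₀ j).2.1
  have hsz : ∀ i j, IsSigned (z i j) := fun i j => (hT i j).signed _ (hm i j).2.2
  have h1 : ∀ i j, ∀ p ∈ T i j, classInner p (fun _ => 1) = 0 := by
    intro i j p hp
    have hs1 : IsSigned (fun _ : G => (1 : ℂ)) := Or.inl (isIrrCharacter_one (G := G))
    have h := hγ1 i j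
    rw [hTsum, triple_inner_signed (hT i j) hs1, sub_eq_zero] at h
    have hn : (fun _ : G => (1 : ℂ)) ∉ T i j := fun hh => by
      rw [if_pos hh, if_neg ((hT i j).neg_notMem hh)] at h
      exact one_ne_zero h
    have hn' : -(fun _ : G => (1 : ℂ)) ∉ T i j := fun hh => by
      rw [if_neg hn, if_pos hh] at h
      exact one_ne_zero h.symm
    rw [classInner_isSigned ((hT i j).signed p hp) hs1, if_neg (fun e : p = (fun _ => 1) => hn (e ▸ hp)),
      if_neg (fun e : p = -(fun _ => 1) => hn' (e ▸ hp)), sub_zero]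
  choose A B hA hB hAB using exists_split hW
  have uniq : ∀ {a b : ↥(W₁ ⊔ W₂) →* ℂˣ}, Triv W₂ a → Triv W₁ b →
      A (a * b) = a ∧ B (a * b) = b := by
    intro a b ha hb
    exact mul_inj hW (hA _) (hB _) ha hb (hAB (a * b)).symm
  let P : ∀ a b : ↥(W₁ ⊔ W₂) →* ℂˣ, Triv W₂ a → Triv W₁ b → (G → ℂ) := fun a b ha hb =>
    if ea : a = 1 then
      (if eb : b = 1 then fun _ => 1 else -y ⟨b, hb, eb⟩)
    else
      (if eb : b = 1 then -x ⟨a, ha, ea⟩ else z ⟨a, ha, ea⟩ ⟨b, hb, eb⟩)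
  have Pcongr : ∀ a b a' b' ha hb ha' hb', a = a' → b = b' → P a b ha hb = P a' b' ha' hb' := by
    intro a b a' b' ha hb ha' hb' e e'
    subst e e'
    rfl
  let χ : (↥(W₁ ⊔ W₂) →* ℂˣ) → (G → ℂ) := fun ω => P (A ω) (B ω) (hA ω) (hB ω)
  have hχ : ∀ a b (ha : Triv W₂ a) (hb : Triv W₁ b), χ (a * b) = P a b ha hb := fun a b ha hb =>
    Pcongr (A (a * b)) (B (a * b)) a b (hA _) (hB _) ha hb (uniq ha hb).1 (uniq ha hb).2
  have Psigned : ∀ a b ha hb, IsSigned (P a b ha hb) := by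
    intro a b ha hb
    simp only [P]
    split_ifs
    · exact Or.inl (isIrrCharacter_one (G := G))
    · exact IsSigned.neg (hsy _)
    · exact IsSigned.neg (hsx _)
    · exact hsz _ _
  have Portho : ∀ a b a' b' ha hb ha' hb', ¬(a = a' ∧ b = b') →
      classInner (P a b ha hb) (P a' b' ha' hb') = 0 := by
    intro a b a' b' ha hb ha' hb' hne
    have sy : ∀ u v : G → ℂ, classInner u v = 0 → classInner v u = 0 := fun u v e => by
      rw [← classInner_conj_symm, e, map_zero]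
    have x1 : ∀ i, classInner (x i) (fun _ => 1) = 0 := fun i => h1 i j₀ _ (hm i j₀).1
    have y1 : ∀ j, classInner (y j) (fun _ => 1) = 0 := fun j => h1 i₀ j _ (hm i₀ j).2.1
    have z1 : ∀ i j, classInner (z i j) (fun _ => 1) = 0 := fun i j => h1 i j _ (hm i j).2.2
    simp only [P]
    by_cases ea : a = 1 <;> by_cases eb : b = 1 <;> by_cases ea' : a' = 1 <;>
      by_cases eb' : b' = 1
    all_goals simp only [ea, eb, ea', eb', dite_true, dite_false, classInner_neg_left,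
      classInner_neg_right, neg_neg, neg_eq_zero]
    -- first argument `1`
    · exact absurd ⟨ea.trans ea'.symm, eb.trans eb'.symm⟩ hne
    · exact sy _ _ (y1 _)
    · exact sy _ _ (x1 _)
    · exact sy _ _ (z1 _ _)
    -- first argument a `y`
    · exact y1 _
    · exact hyy _ _ fun e => hne ⟨ea.trans ea'.symm, congrArg Subtype.val e⟩
    · exact sy _ _ (hxy _ _)
    · exact hyz _ _ _
    -- first argument an `x`
    · exact x1 _
    · exact hxy _ _
    · exact hxx _ _ fun e => hne ⟨congrArg Subtype.val e, eb.trans eb'.symm⟩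
    · exact hxz _ _ _
    -- first argument a `z`
    · exact z1 _ _
    · exact sy _ _ (hyz _ _ _)
    · exact sy _ _ (hxz _ _ _)
    · exact hzz _ _ _ _ fun e =>
        hne ⟨congrArg (fun p => p.1.1) e, congrArg (fun p => p.2.1) e⟩
  refine ⟨χ, ⟨fun ω => Psigned (A ω) (B ω) (hA ω) (hB ω),
    fun ω => ⟨classInner_self_signed (Psigned (A ω) (B ω) (hA ω) (hB ω)),
      fun ω' hne => Portho (A ω) (B ω) (A ω') (B ω') (hA ω) (hB ω) (hA ω') (hB ω')
        fun e => hne ?_⟩, ?_, ?_⟩⟩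
  · rw [hAB ω, hAB ω', e.1, e.2]
  · have : χ ((1 : ↥(W₁ ⊔ W₂) →* ℂˣ) * 1) = P 1 1 (triv_one _) (triv_one _) :=
      hχ 1 1 (triv_one _) (triv_one _)
    rw [hom_mul_one] at this
    rw [this]
    simp [P]
  · intro φ ψ hφ hψ hφ₂ hψ₁
    have e1 : χ φ = -x ⟨φ, hφ₂, hφ⟩ := by
      have := hχ φ 1 hφ₂ (triv_one _)
      rw [hom_mul_one] at this
      rw [this]; simp [P, hφ]
    have e2 : χ ψ = -y ⟨ψ, hψ₁, hψ⟩ := by
      have := hχ 1 ψ (triv_one _) hψ₁
      rw [hom_one_mul] at this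
      rw [this]; simp [P, hψ]
    have e3 : χ (φ * ψ) = z ⟨φ, hφ₂, hφ⟩ ⟨ψ, hψ₁, hψ⟩ := by
      rw [hχ φ ψ hφ₂ hψ₁]; simp [P, hφ, hψ]
    funext g
    have h := congrFun ((hTsum ⟨φ, hφ₂, hφ⟩ ⟨ψ, hψ₁, hψ⟩).trans (hs ⟨φ, hφ₂, hφ⟩ ⟨ψ, hψ₁, hψ⟩)) g
    simp only [γ, Pi.sub_apply, Pi.add_apply] at h
    rw [e1, e2, e3]
    simp only [Pi.neg_apply]
    linear_combination h

theorem isPreFamily_of {χ : (↥(W₁ ⊔ W₂) →* ℂˣ) → (G → ℂ)} (h : IsCyclicTIFamily W₁ W₂ χ) :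
    IsPreFamily W₁ W₂ χ where
  irr_or_neg := h.irr_or_neg
  ortho ω := by
    classical
    exact ⟨(h.orthonormal ω ω).trans (if_pos rfl), fun ω' hne =>
      (h.orthonormal ω ω').trans (if_neg hne)⟩
  map_one := h.map_one
  induced_eq := h.induced_eq

theorem IsPreFamily.isFamily (hW : IsSelfNormalizingCyclic W₁ W₂)
    {χ : (↥(W₁ ⊔ W₂) →* ℂˣ) → (G → ℂ)} (h : IsPreFamily W₁ W₂ χ) :
    IsCyclicTIFamily W₁ W₂ χ where
  irr_or_neg := h.irr_or_neg
  orthonormal ω ω' := by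
    classical
    split_ifs with e
    · rw [e]; exact (h.ortho ω').1
    · exact (h.ortho ω).2 ω' e
  map_one := h.map_one
  eq_on := h.eq_on hW
  induced_eq := h.induced_eq

/-- The rectangle rule. -/
theorem rectangle
    {χ : (↥(W₁ ⊔ W₂) →* ℂˣ) → (G → ℂ)} (h : IsPreFamily W₁ W₂ χ) {θ : G → ℂ}
    (hθ : IsClassFunction G θ)
    (hθV : ∀ w : ↥(W₁ ⊔ W₂), (w : G) ∉ W₁ → (w : G) ∉ W₂ → θ w = 0)
    {φ ψ : ↥(W₁ ⊔ W₂) →* ℂˣ} (hφ₂ : Triv W₂ φ) (hψ₁ : Triv W₁ ψ) :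
    classInner θ (χ (φ * ψ)) + classInner θ (χ 1) =
      classInner θ (χ φ) + classInner θ (χ ψ) := by
  classical
  by_cases hφ : φ = 1
  · subst hφ; rw [hom_one_mul, add_comm]
  by_cases hψ : ψ = 1
  · subst hψ; rw [hom_mul_one]
  haveI := Fintype.ofFinite ↥(W₁ ⊔ W₂)
  have h0 : classInner (alpha φ ψ) (fun w : ↥(W₁ ⊔ W₂) => θ w) = 0 := by
    rw [classInner, Finset.sum_eq_zero, mul_zero]
    intro w _
    by_cases c1 : (w : G) ∈ W₁
    · simp [alpha, hψ₁ w c1]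
    by_cases c2 : (w : G) ∈ W₂
    · simp [alpha, hφ₂ w c2]
    simp [hθV w c1 c2]
  rw [← classInner_indFun _ _ hθ, h.classInner_ind φ ψ hφ hψ hφ₂ hψ₁] at h0
  have := congrArg conj h0
  simp only [map_add, map_sub, classInner_conj_symm, map_zero] at this
  linear_combination this

end Cfsg.Agent.Char.CTI
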