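import Cfsg.Agent.Lib.Char.Induction
import Cfsg.Agent.Lib.Char.CoprimeFix
import Cfsg.Agent.Lib.Char.Generalized
import Cfsg.Agent.S1498

/-!
# The Dade setup
-/

set_option autoImplicit false
set_option linter.style.haveILetI false

namespace Cfsg.Agent.Char

open Cfsg
open scoped ComplexConjugate

universe u

variable {G : Type u} [Group G] {A : Set G} {L : Subgroup G} {H : G → Subgroup G}

theorem dade_commute (hD : DadeHypothesis A L H) {a : G} (ha : a ∈ A) {u : G} (hu : u ∈ H a) :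
    Commute u a := by
  have h := Subgroup.mem_centralizer_singleton_iff.mp (hD.le_centralizer a ha hu)
  first
    | exact h
    | exact h.symm

/-- Conjugation by `L` carries the attached subgroups to one another. -/
theorem dade_conj_mem [Finite G] (hD : DadeHypothesis A L H) {a : G} (ha : a ∈ A) {x : G}
    (hx : x ∈ L) {u : G} (hu : u ∈ H a) : x * u * x⁻¹ ∈ H (x * a * x⁻¹) := by
  rw [Cfsg.Agent.S1498.result A L H hD a ha x hx]
  exact ⟨u, hu, by simp⟩

theorem dade_conj_mem' [Finite G] (hD : DadeHypothesis A L H) {a : G} (ha : a ∈ A) {x : G}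
    (hx : x ∈ L) {u : G} (hu : u ∈ H (x * a * x⁻¹)) : x⁻¹ * u * x ∈ H a := by
  rw [Cfsg.Agent.S1498.result A L H hD a ha x hx] at hu
  obtain ⟨v, hv, rfl⟩ := hu
  simpa [mul_assoc] using hv

theorem dade_card_conj [Finite G] (hD : DadeHypothesis A L H) {a : G} (ha : a ∈ A) {x : G}
    (hx : x ∈ L) : Nat.card (H (x * a * x⁻¹)) = Nat.card (H a) := by
  rw [Cfsg.Agent.S1498.result A L H hD a ha x hx,
    Subgroup.card_map_of_injective (MulEquiv.injective _)]

/-- The order of an element of `A` is prime to each of the attached subgroups. -/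
theorem dade_coprime_orderOf (hD : DadeHypothesis A L H) {a b : G} (ha : a ∈ A) (hb : b ∈ A) :
    Nat.Coprime (orderOf a) (Nat.card (H b)) := by
  refine ((hD.coprime b hb a ha).of_dvd_right ?_).symm
  refine Subgroup.orderOf_dvd_natCard _ ⟨hD.subset ha, ?_⟩
  show a ∈ Subgroup.centralizer ({a} : Set G)
  rw [Subgroup.mem_centralizer_singleton_iff]

/-- Conjugate elements of two cosets have conjugate first parts. -/
theorem dade_part_conj [Finite G] (hD : DadeHypothesis A L H) {a b : G} (ha : a ∈ A) (hb : b ∈ A)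
    {u v g : G} (hu : u ∈ H a) (hv : v ∈ H b) (h : g * (a * u) * g⁻¹ = b * v) :
    g * a * g⁻¹ = b := by
  have hcop : Nat.Coprime (orderOf a * orderOf b) (Nat.card (H a) * Nat.card (H b)) :=
    Nat.Coprime.mul_left
      ((dade_coprime_orderOf hD ha ha).mul_right (dade_coprime_orderOf hD ha hb))
      ((dade_coprime_orderOf hD hb ha).mul_right (dade_coprime_orderOf hD hb hb))
  obtain ⟨e, he1, he0⟩ := Nat.chineseRemainder hcop 1 0
  have key : ∀ c ∈ A, ∀ w ∈ H c, orderOf c ∣ orderOf a * orderOf b →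
      Nat.card (H c) ∣ Nat.card (H a) * Nat.card (H b) → (c * w) ^ e = c := by
    intro c hc w hw hd1 hd2
    have hcw : Commute w c := dade_commute hD hc hw
    rw [← hcw.eq]
    exact pow_mul_eq_right (he1.of_dvd hd1) (he0.of_dvd hd2) hcw
      (orderOf_dvd_iff_pow_eq_one.mp ((H c).orderOf_dvd_natCard hw)) (pow_orderOf_eq_one c)
  have e1 := congrArg (fun z => z ^ e) h
  simp only [conj_pow] at e1
  rwa [key a ha u hu (dvd_mul_right _ _) (dvd_mul_right _ _),
    key b hb v hv (dvd_mul_left _ _) (dvd_mul_left _ _)] at e1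

/-- An element of `G` conjugate into one of the cosets. -/
def InDade (A : Set G) (H : G → Subgroup G) (g : G) : Prop :=
  ∃ a ∈ A, ∃ u ∈ H a, ∃ x : G, x * g * x⁻¹ = a * u

theorem inDade_conj {g : G} (y : G) (h : InDade A H g) : InDade A H (y * g * y⁻¹) := by
  obtain ⟨a, ha, u, hu, x, hx⟩ := h
  refine ⟨a, ha, u, hu, x * y⁻¹, ?_⟩
  rw [← hx]
  group

/-- The image of a class function at a point of a coset. -/
theorem dadeIsometry_apply [Finite G] (hD : DadeHypothesis A L H) {α : L → ℂ}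
    (hα : IsClassFunction L α) {g : G} {a : L} (ha : (a : G) ∈ A) {u x : G}
    (hu : u ∈ H (a : G)) (hx : x * g * x⁻¹ = (a : G) * u) : dadeIsometry A L H α g = α a := by
  have hex : ∃ a : ↥L, (a : G) ∈ A ∧ ∃ x : G, ∃ u ∈ H (a : G), x * g * x⁻¹ = (a : G) * u :=
    ⟨a, ha, x, u, hu, hx⟩
  rw [dadeIsometry, dif_pos hex]
  obtain ⟨hb, y, v, hv, hy⟩ := Classical.choose_spec hex
  generalize Classical.choose hex = b at hb hv hy ⊢
  have hconj : (y * x⁻¹) * ((a : G) * u) * (y * x⁻¹)⁻¹ = (b : G) * v := by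
    rw [← hx, ← hy]
    group
  have h1 := dade_part_conj hD ha hb hu hv hconj
  obtain ⟨l, hl, hl'⟩ := hD.fusion _ ha _ (h1.symm ▸ hb)
  have hb' : b = ⟨l, hl⟩ * a * ⟨l, hl⟩⁻¹ :=
    Subtype.ext (by simp only [Subgroup.coe_mul, InvMemClass.coe_inv]; rw [hl', h1])
  rw [hb']
  exact hα a ⟨l, hl⟩

theorem dadeIsometry_of_not {α : L → ℂ} {g : G} (hg : ¬ InDade A H g) :
    dadeIsometry A L H α g = 0 := by
  rw [dadeIsometry, dif_neg]
  rintro ⟨a, ha, x, u, hu, hx⟩
  exact hg ⟨a, ha, u, hu, x, hx⟩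

theorem isClassFunction_dadeIsometry [Finite G] (hD : DadeHypothesis A L H) {α : L → ℂ}
    (hα : IsClassFunction L α) : IsClassFunction G (dadeIsometry A L H α) := by
  intro g y
  by_cases hg : InDade A H g
  · obtain ⟨a, ha, u, hu, x, hx⟩ := hg
    rw [dadeIsometry_apply hD hα (a := ⟨a, hD.subset ha⟩) ha hu hx]
    refine dadeIsometry_apply hD hα (a := ⟨a, hD.subset ha⟩) ha hu (x := x * y⁻¹) ?_
    show x * y⁻¹ * (y * g * y⁻¹) * (x * y⁻¹)⁻¹ = a * u
    rw [← hx]
    group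
  · rw [dadeIsometry_of_not hg, dadeIsometry_of_not fun h => hg ?_]
    have := inDade_conj (A := A) (H := H) y⁻¹ h
    simpa [mul_assoc] using this

open Classical in
/-- Summation over the elements conjugate into the cosets. -/
theorem dade_sum [Fintype G] [Fintype L] (hD : DadeHypothesis A L H) {f : G → ℂ}
    (hf : IsClassFunction G f) (hf0 : ∀ g, ¬ InDade A H g → f g = 0) :
    (Nat.card L : ℂ) * ∑ g : G, f g = (Nat.card G : ℂ) *
      ∑ a : L, if (a : G) ∈ A then
        (Nat.card (H (a : G)) : ℂ)⁻¹ * ∑ u : H (a : G), f ((a : G) * u) else 0 := by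
  let Φ : (Σ a : {a : L // (a : G) ∈ A}, H (a.1 : G) × G) → G := fun t =>
    t.2.2 * ((t.1.1 : G) * t.2.1) * t.2.2⁻¹
  let w : (Σ a : {a : L // (a : G) ∈ A}, H (a.1 : G) × G) → ℂ := fun t =>
    (Nat.card (H (t.1.1 : G)) : ℂ)⁻¹
  have hL : ∑ t, w t * f (Φ t) = (Nat.card G : ℂ) *
      ∑ a : L, if (a : G) ∈ A then
        (Nat.card (H (a : G)) : ℂ)⁻¹ * ∑ u : H (a : G), f ((a : G) * u) else 0 := by
    rw [Fintype.sum_sigma, ← Finset.sum_filter,
      Finset.sum_subtype (Finset.univ.filter fun a : L => (a : G) ∈ A) (p := fun a : L => (a : G) ∈ A)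
        (fun a => by simp), Finset.mul_sum]
    refine Finset.sum_congr rfl fun a _ => ?_
    rw [Fintype.sum_prod_type]
    have e : ∀ (u : H (a.1 : G)), ∑ x : G, w ⟨a, (u, x)⟩ * f (Φ ⟨a, (u, x)⟩) =
        (Nat.card G : ℂ) * ((Nat.card (H (a.1 : G)) : ℂ)⁻¹ * f ((a.1 : G) * u)) := by
      intro u
      simp only [w, Φ]
      rw [Finset.sum_congr rfl fun x _ => congrArg _ (hf ((a.1 : G) * u) x), Finset.sum_const, Finset.card_univ, nsmul_eq_mul,
        ← Nat.card_eq_fintype_card (α := G)]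
    rw [Finset.sum_congr rfl fun u _ => e u, ← Finset.mul_sum, ← Finset.mul_sum]
  rw [← hL, ← Finset.sum_fiberwise Finset.univ Φ, Finset.mul_sum]
  refine Finset.sum_congr rfl fun g _ => ?_
  by_cases hg : InDade A H g
  swap
  · rw [hf0 g hg, mul_zero, eq_comm]
    refine Finset.sum_eq_zero fun t ht => absurd ?_ hg
    rw [← (Finset.mem_filter.mp ht).2]
    refine ⟨t.1.1, t.1.2, t.2.1, t.2.1.2, t.2.2⁻¹, ?_⟩
    simp only [Φ]
    group
  obtain ⟨a, ha, u, hu, x, hx⟩ := hg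
  have haL := hD.subset ha
  have hg' : g = x⁻¹ * (a * u) * x := by rw [← hx]; group
  let ψ : L × H a → Σ a : {a : L // (a : G) ∈ A}, H (a.1 : G) × G := fun p =>
    ⟨⟨⟨(p.1 : G) * a * (p.1 : G)⁻¹, L.mul_mem (L.mul_mem p.1.2 haL) (L.inv_mem p.1.2)⟩,
        hD.conj_mem _ p.1.2 a ha⟩,
      (⟨(p.1 : G) * ((p.2 : G) * u * (p.2 : G)⁻¹) * (p.1 : G)⁻¹,
          dade_conj_mem hD ha p.1.2 ((H a).mul_mem ((H a).mul_mem p.2.2 hu) ((H a).inv_mem p.2.2))⟩,
        x⁻¹ * (p.2 : G)⁻¹ * (p.1 : G)⁻¹)⟩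
  have hbij : Finset.univ.image ψ = Finset.univ.filter fun t => Φ t = g := by
    ext t
    simp only [Finset.mem_image, Finset.mem_univ, true_and, Finset.mem_filter]
    constructor
    · rintro ⟨⟨l, v⟩, rfl⟩
      simp only [Φ, ψ]
      rw [hg']
      calc x⁻¹ * (v : G)⁻¹ * (l : G)⁻¹ *
            ((l : G) * a * (l : G)⁻¹ * ((l : G) * ((v : G) * u * (v : G)⁻¹) * (l : G)⁻¹)) *
            (x⁻¹ * (v : G)⁻¹ * (l : G)⁻¹)⁻¹
          = x⁻¹ * ((v : G)⁻¹ * (a * v)) * u * x := by group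
        _ = x⁻¹ * (a * u) * x := by
          rw [← (dade_commute hD ha v.2).eq]
          group
    · intro ht
      obtain ⟨⟨⟨a', ha'L⟩, ha'⟩, u', y⟩ := t
      simp only [Φ] at ht
      have hconj : (y⁻¹ * x⁻¹) * (a * u) * (y⁻¹ * x⁻¹)⁻¹ = a' * (u' : G) := by
        rw [← hx, ← ht]
        group
      have h1 := dade_part_conj hD ha ha' hu u'.2 hconj
      obtain ⟨l, hl, hl'⟩ := hD.fusion _ ha (y⁻¹ * x⁻¹) (by rw [h1]; exact ha')
      rw [h1] at hl'
      have hc : l⁻¹ * (y⁻¹ * x⁻¹) ∈ H a ⊔ (L ⊓ Subgroup.centralizer ({a} : Set G)) := by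
        rw [hD.sup_eq a ha, Subgroup.mem_centralizer_singleton_iff]
        have e2 : l⁻¹ * (y⁻¹ * x⁻¹) * a = a * (l⁻¹ * (y⁻¹ * x⁻¹)) := by
          calc l⁻¹ * (y⁻¹ * x⁻¹) * a
              = l⁻¹ * ((y⁻¹ * x⁻¹) * a * (y⁻¹ * x⁻¹)⁻¹) * (y⁻¹ * x⁻¹) := by group
            _ = l⁻¹ * (l * a * l⁻¹) * (y⁻¹ * x⁻¹) := by rw [h1, hl']
            _ = a * (l⁻¹ * (y⁻¹ * x⁻¹)) := by group
        first
          | exact e2
          | exact e2.symm
      have hnorm : (L ⊓ Subgroup.centralizer ({a} : Set G)) ≤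
          Subgroup.normalizer (H a : Set G) := by
        intro c hc
        rw [Subgroup.mem_normalizer_iff]
        intro n
        refine ⟨fun hn => hD.conj_mem_H a ha c hc.2 n hn, fun hn => ?_⟩
        have := hD.conj_mem_H a ha c⁻¹ (inv_mem hc.2) _ hn
        simpa [mul_assoc] using this
      rw [sup_comm, ← SetLike.mem_coe,
        Subgroup.coe_mul_of_left_le_normalizer_right _ _ hnorm] at hc
      obtain ⟨c, hcC, v, hv, hcv⟩ := hc
      refine ⟨(⟨l * c, L.mul_mem hl hcC.1⟩, ⟨v, hv⟩), ?_⟩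
      have hca : c * a * c⁻¹ = a := by
        have h := Subgroup.mem_centralizer_singleton_iff.mp hcC.2
        first
          | rw [h]; group
          | rw [← h]; group
      have hyy : y⁻¹ * x⁻¹ = l * c * v := by
        calc y⁻¹ * x⁻¹ = l * (l⁻¹ * (y⁻¹ * x⁻¹)) := by group
          _ = l * (c * v) := by rw [show c * v = l⁻¹ * (y⁻¹ * x⁻¹) from hcv]
          _ = l * c * v := by group
      have ea : l * c * a * (l * c)⁻¹ = a' := by
        calc l * c * a * (l * c)⁻¹ = l * (c * a * c⁻¹) * l⁻¹ := by group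
          _ = a' := by rw [hca, hl']
      subst ea
      refine Sigma.ext (Subtype.ext (Subtype.ext rfl)) (heq_of_eq (Prod.ext (Subtype.ext ?_) ?_))
      · show l * c * (v * u * v⁻¹) * (l * c)⁻¹ = (u' : G)
        rw [hyy] at hconj
        apply mul_left_cancel (a := l * c * a * (l * c)⁻¹)
        rw [← hconj]
        have hva := (dade_commute hD ha hv).eq
        calc l * c * a * (l * c)⁻¹ * (l * c * (v * u * v⁻¹) * (l * c)⁻¹)
            = l * c * (a * v) * u * v⁻¹ * (l * c)⁻¹ := by group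
          _ = l * c * v * (a * u) * (l * c * v)⁻¹ := by rw [← hva]; group
      · show x⁻¹ * v⁻¹ * (l * c)⁻¹ = y
        have e3 := congrArg (fun z => x⁻¹ * z⁻¹) hyy
        simp only [mul_inv_rev, inv_inv, inv_mul_cancel_left] at e3
        rw [e3]
        group
  have hinj : Function.Injective ψ := by
    rintro ⟨l, v⟩ ⟨l', v'⟩ h
    have e3 : x⁻¹ * (v : G)⁻¹ * (l : G)⁻¹ = x⁻¹ * (v' : G)⁻¹ * (l' : G)⁻¹ :=
      congrArg (fun t : (Σ a : {a : L // (a : G) ∈ A}, H (a.1 : G) × G) => t.2.2) h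
    have e4 : (l : G) * v = (l' : G) * v' := by
      have := congrArg (fun z => (x * z)⁻¹) e3
      simpa [mul_assoc] using this
    have e5 : (l' : G)⁻¹ * l = (v' : G) * (v : G)⁻¹ := by
      calc (l' : G)⁻¹ * l = (l' : G)⁻¹ * ((l : G) * v) * (v : G)⁻¹ := by group
        _ = (v' : G) * (v : G)⁻¹ := by rw [e4]; group
    have hm : (v' : G) * (v : G)⁻¹ ∈ H a := (H a).mul_mem v'.2 ((H a).inv_mem v.2)
    have h6 : (v' : G) * (v : G)⁻¹ = 1 := by
      rw [← Subgroup.mem_bot, ← hD.inf_eq_bot a ha]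
      exact ⟨hm, e5 ▸ L.mul_mem (L.inv_mem l'.2) l.2, hD.le_centralizer a ha hm⟩
    have hv : (v' : G) = v := mul_inv_eq_one.mp h6
    have hl : (l' : G) = l := inv_mul_eq_one.mp (e5.trans h6)
    exact Prod.ext (Subtype.ext hl.symm) (Subtype.ext hv.symm)
  rw [← hbij, Finset.sum_image (fun p _ q _ h => hinj h)]
  have e6 : ∀ p : L × H a, w (ψ p) * f (Φ (ψ p)) = (Nat.card (H a) : ℂ)⁻¹ * f g := by
    intro p
    have hp0 : ψ p ∈ Finset.univ.filter fun t => Φ t = g :=
      hbij ▸ Finset.mem_image_of_mem ψ (Finset.mem_univ p)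
    have hp : Φ (ψ p) = g := (Finset.mem_filter.mp hp0).2
    rw [hp]
    simp only [w, ψ]
    rw [dade_card_conj hD ha p.1.2]
  rw [Finset.sum_congr rfl fun p _ => e6 p, Finset.sum_const, Finset.card_univ, nsmul_eq_mul,
    Fintype.card_prod, Nat.cast_mul, ← Nat.card_eq_fintype_card, ← Nat.card_eq_fintype_card,
    mul_assoc, ← mul_assoc (Nat.card (H a) : ℂ),
    mul_inv_cancel₀ (Nat.cast_ne_zero.mpr Nat.card_pos.ne'), one_mul]

end Cfsg.Agent.Char
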