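import Cfsg.Agent.Lib.Char.Brauer
import Cfsg.Agent.Lib.Char.Clifford

/-!
# Dade's detection of invariant characters on elementary subgroups
-/

set_option autoImplicit false
set_option linter.style.haveILetI false

namespace Cfsg.Agent.Char

open Cfsg
open scoped ComplexConjugate

universe u

variable {G : Type u} [Group G]

/-- If an invariant product has inner product prime to `p` and the quotient is a `p`-group, some
invariant constituent has multiplicity prime to `p`. -/
theorem exists_invariant_constituent_not_dvd [Fintype G] (D : Subgroup G) [D.Normal] [Fintype D]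
    {p k : ℕ} (hp : p.Prime) (hind : D.index = p ^ k) {Θ Ψ : D → ℂ} (hΘ : IsCharacter D Θ)
    (hΨ : IsCharacter D Ψ) (iΘ : ∀ g, conjChar D g Θ = Θ) (iΨ : ∀ g, conjChar D g Ψ = Ψ) {n : ℕ}
    (hn : classInner (Θ * Ψ) Θ = n) (hpn : ¬ p ∣ n) :
    ∃ φ : D → ℂ, IsIrrCharacter D φ ∧ (∀ g, conjChar D g φ = φ) ∧
      ∃ m : ℕ, ¬ p ∣ m ∧ classInner Θ φ = m := by
  classical
  haveI := Fintype.ofFinite (IrrCharacter D)
  by_contra hcon
  push Not at hcon
  have hc : IsCharacter D (Θ * Ψ) := isCharacter_mul hΘ hΨ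
  choose m hm using fun φ : IrrCharacter D =>
    classInner_natCast_of_isCharacter hΘ (IsIrrCharacter.isCharacter φ.2)
  choose c hc' using fun φ : IrrCharacter D =>
    classInner_natCast_of_isCharacter hc (IsIrrCharacter.isCharacter φ.2)
  let s : Finset (D → ℂ) := (Finset.univ : Finset (IrrCharacter D)).image (fun φ => φ.1)
  let F : (D → ℂ) → ℕ := fun f => if h : IsIrrCharacter D f then c ⟨f, h⟩ * m ⟨f, h⟩ else 0
  have hn' : n = ∑ f ∈ s, F f := by
    rw [Finset.sum_image (fun a _ b _ h => Subtype.ext h)]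
    have e : classInner (Θ * Ψ) Θ = ∑ φ : IrrCharacter D, ((c φ * m φ : ℕ) : ℂ) := by
      conv_lhs =>
        arg 2
        rw [IsClassFunction.eq_sum (IsCharacter.isClassFunction hΘ)]
      rw [classInner_sum_right]
      refine Finset.sum_congr rfl fun φ _ => ?_
      rw [classInner_smul_right, hm, hc', map_natCast, Nat.cast_mul, mul_comm]
    rw [hn] at e
    rw [← Nat.cast_sum] at e
    exact (Nat.cast_inj.mp e).trans (Finset.sum_congr rfl fun φ _ =>
      (show F φ = c φ * m φ from dif_pos φ.2).symm)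
  apply hpn
  rw [hn', ← Finset.sum_fiberwise_of_maps_to (t := s.image (conjOrbit D))
    (g := conjOrbit D) (fun f hf => Finset.mem_image_of_mem _ hf) F]
  refine Finset.dvd_sum fun O hO => ?_
  obtain ⟨f₀, hf₀, rfl⟩ := Finset.mem_image.mp hO
  obtain ⟨φ₀, -, rfl⟩ := Finset.mem_image.mp hf₀
  change p ∣ _
  have hfib : (s.filter fun f => conjOrbit D f = conjOrbit D (φ₀ : D → ℂ)) =
      conjOrbit D (φ₀ : D → ℂ) := by
    ext f
    rw [Finset.mem_filter]
    refine ⟨fun h => ?_, fun h => ?_⟩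
    · rw [← h.2]
      exact (mem_conjOrbit D).mpr ⟨1, conjChar_one D f⟩
    · obtain ⟨g, rfl⟩ := (mem_conjOrbit D).mp h
      refine ⟨Finset.mem_image.mpr ⟨⟨_, isIrrCharacter_conjChar D φ₀.2 g⟩, Finset.mem_univ _, rfl⟩, ?_⟩
      ext f
      simp only [mem_conjOrbit, conjChar_mul]
      constructor
      · rintro ⟨a, ha⟩
        exact ⟨g * a, ha⟩
      · rintro ⟨a, ha⟩
        exact ⟨g⁻¹ * a, by rwa [mul_inv_cancel_left]⟩
  rw [hfib]
  have hconst : ∀ f ∈ conjOrbit D (φ₀ : D → ℂ), F f = c φ₀ * m φ₀ := by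
    intro f hf
    obtain ⟨g, rfl⟩ := (mem_conjOrbit D).mp hf
    have hirr := isIrrCharacter_conjChar D φ₀.2 g
    rw [show F (conjChar D g φ₀) = c ⟨_, hirr⟩ * m ⟨_, hirr⟩ from dif_pos hirr]
    have h1 : classInner Θ (conjChar D g φ₀) = classInner Θ (φ₀ : D → ℂ) := by
      conv_lhs => rw [← iΘ g]
      exact classInner_conjChar D g _ _
    have h2 : classInner (Θ * Ψ) (conjChar D g φ₀) = classInner (Θ * Ψ) (φ₀ : D → ℂ) := by
      conv_lhs => rw [show Θ * Ψ = conjChar D g (Θ * Ψ) from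
        (congrArg₂ (· * ·) (iΘ g) (iΨ g)).symm]
      exact classInner_conjChar D g _ _
    rw [hm ⟨_, hirr⟩, hm φ₀] at h1
    rw [hc' ⟨_, hirr⟩, hc' φ₀] at h2
    rw [Nat.cast_inj.mp h1, Nat.cast_inj.mp h2]
  rw [Finset.sum_congr rfl hconst, Finset.sum_const, smul_eq_mul, card_conjOrbit]
  have hle : D ≤ inertia D (φ₀ : D → ℂ) :=
    le_inertia D (IsCharacter.isClassFunction (IsIrrCharacter.isCharacter φ₀.2))
  obtain ⟨j, -, hj⟩ := (Nat.dvd_prime_pow hp).mp (hind ▸ Subgroup.index_dvd_of_le hle)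
  rcases Nat.eq_zero_or_pos j with h0 | hpos
  · have htop : inertia D (φ₀ : D → ℂ) = ⊤ := Subgroup.index_eq_one.mp (by rw [hj, h0, pow_zero])
    have hall : ∀ g, conjChar D g (φ₀ : D → ℂ) = φ₀ := fun g =>
      (mem_inertia D).mp (htop ▸ Subgroup.mem_top g)
    by_cases hpm : p ∣ m φ₀
    · exact Dvd.dvd.mul_left (Dvd.dvd.mul_left hpm _) _
    · exact absurd (hm φ₀) (hcon _ φ₀.2 hall _ hpm)
  · exact Dvd.dvd.mul_right (hj ▸ dvd_pow_self p hpos.ne') _

variable [Fintype G] (N : Subgroup G) [hN : N.Normal]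

/-- The average over a normal subgroup of an induced function against an invariant function. -/
theorem sum_indFun_mul_invariant [Fintype N] (E : Subgroup G) [Fintype (N.subgroupOf E)]
    (ψ : E → ℂ) (F : N → ℂ) (hF : ∀ g, conjChar N g F = F) :
    ∑ n : N, indFun E ψ (n : G) * F n =
      (E.index : ℂ) * ∑ d : N.subgroupOf E, ψ d.1 * F ⟨d.1.1, Subgroup.mem_subgroupOf.mp d.2⟩ := by
  classical
  haveI := Fintype.ofFinite E
  have hcE : (Nat.card E : ℂ) ≠ 0 := Nat.cast_ne_zero.mpr Nat.card_pos.ne'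
  have hx : ∀ x : G, ∑ n : N, extendByZero E ψ (x⁻¹ * n * x) * F n =
      ∑ d : N.subgroupOf E, ψ d.1 * F ⟨d.1.1, Subgroup.mem_subgroupOf.mp d.2⟩ := by
    intro x
    have h1 : ∑ n : N, extendByZero E ψ (x⁻¹ * n * x) * F n =
        ∑ n : N, extendByZero E ψ (n : G) * F n := by
      refine Fintype.sum_equiv (MulAut.conjNormal x⁻¹).toEquiv _ _ fun n => ?_
      have h2 : F (MulAut.conjNormal x⁻¹ n) = F n :=
        (conjChar_apply N x⁻¹ F n).symm.trans (congrFun (hF x⁻¹) n)
      show _ = extendByZero E ψ ((MulAut.conjNormal x⁻¹ n : N) : G) * F (MulAut.conjNormal x⁻¹ n)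
      rw [h2, MulAut.conjNormal_apply, inv_inv]
    rw [h1, ← Finset.sum_filter_add_sum_filter_not Finset.univ (fun n : N => (n : G) ∈ E),
      Finset.sum_eq_zero (s := Finset.univ.filter fun n : N => ¬ (n : G) ∈ E) (fun n hn => by
        rw [extendByZero_of_notMem _ _ (Finset.mem_filter.mp hn).2, zero_mul]), add_zero]
    refine (Finset.sum_bij (fun (d : N.subgroupOf E) _ => (⟨d.1.1, Subgroup.mem_subgroupOf.mp d.2⟩ : N))
      (fun d _ => by simp) (fun a _ b _ h => by
        apply Subtype.ext; apply Subtype.ext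
        simpa using h)
      (fun n hn => ⟨⟨⟨n.1, (Finset.mem_filter.mp hn).2⟩, n.2⟩, Finset.mem_univ _, rfl⟩)
      fun d _ => by rw [extendByZero_coe]).symm
  simp only [indFun_apply, mul_assoc, Finset.sum_mul]
  rw [← Finset.mul_sum, Finset.sum_comm]
  simp only [← mul_assoc, hx, Finset.sum_const, Finset.card_univ, nsmul_eq_mul]
  congr 1
  rw [← Nat.card_eq_fintype_card, ← E.index_mul_card, Nat.cast_mul]
  field_simp

theorem index_mul_card_subgroupOf (E : Subgroup G) :
    E.index * Nat.card (N.subgroupOf E) = (E ⊔ N).index * Nat.card N := by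
  have h1 := (N.subgroupOf E).index_mul_card
  have h2 := Subgroup.card_mul_index (E ⊔ N)
  have h3 := Subgroup.card_mul_index E
  have h4 := (N.subgroupOf (E ⊔ N)).index_mul_card
  rw [Nat.card_congr (Subgroup.subgroupOfEquivOfLe (le_sup_right : N ≤ E ⊔ N)).toEquiv] at h4
  have h5 : N.relIndex (E ⊔ N) = N.relIndex E := Subgroup.relIndex_sup_right E N
  change N.relIndex E * _ = _ at h1
  change N.relIndex (E ⊔ N) * _ = _ at h4
  have hpos : 0 < N.relIndex E := Nat.pos_of_ne_zero Subgroup.index_ne_zero_of_finite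
  refine Nat.eq_of_mul_eq_mul_left hpos ?_
  calc N.relIndex E * (E.index * Nat.card (N.subgroupOf E))
      = Nat.card G := by rw [← h3, ← h1]; ring
    _ = _ := by rw [← h2, ← h4, h5]; ring

/-- Dade's detection theorem, on the subgroup `N.subgroupOf E`. -/
theorem dade_detection {p : ℕ} (hp : p.Prime) (hind : ∃ k : ℕ, N.index = p ^ k) {ϑ : N → ℂ}
    (hϑ : IsIrrCharacter N ϑ) (hinv : ∀ g, conjChar N g ϑ = ϑ) :
    ∃ (E : Subgroup G) (φ : N.subgroupOf E → ℂ), IsElementary p E ∧ E ⊔ N = ⊤ ∧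
      IsIrrCharacter (N.subgroupOf E) φ ∧ (∀ e : E, conjChar (N.subgroupOf E) e φ = φ) ∧
      ∃ m : ℕ, ¬ p ∣ m ∧ (Nat.card (N.subgroupOf E) : ℂ)⁻¹ *
        ∑ᶠ d : N.subgroupOf E, ϑ ⟨d.1.1, Subgroup.mem_subgroupOf.mp d.2⟩ * conj (φ d) = m := by
  classical
  haveI := Fintype.ofFinite N
  obtain ⟨k, hk⟩ := hind
  by_contra hcon
  obtain ⟨m, hm, hmem⟩ := brauer_local (G := G) p hp
  let T : (G → ℂ) → ℂ := fun f => (Nat.card N : ℂ)⁻¹ * ∑ n : N, f n * (ϑ n * conj (ϑ n))
  have hcN : (Nat.card N : ℂ) ≠ 0 := Nat.cast_ne_zero.mpr Nat.card_pos.ne'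
  suffices h : ∀ f ∈ elemSpan p G, ∃ z : ℤ, T f = ((p * z : ℤ) : ℂ) by
    obtain ⟨z, hz⟩ := h _ hmem
    have e : T (fun _ => (m : ℂ)) = (m : ℂ) := by
      have h1 := IsIrrCharacter.classInner_self hϑ
      simp only [classInner] at h1
      simp only [T, ← Finset.mul_sum]
      rw [mul_left_comm, h1, mul_one]
    rw [e] at hz
    exact hm ⟨z, by exact_mod_cast hz⟩
  intro f hf
  induction hf using Submodule.span_induction with
  | zero => exact ⟨0, by simp [T]⟩
  | add x y _ _ hx hy =>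
    obtain ⟨a, ha⟩ := hx
    obtain ⟨b, hb⟩ := hy
    refine ⟨a + b, ?_⟩
    simp only [T] at ha hb ⊢
    simp only [Pi.add_apply, add_mul, Finset.sum_add_distrib, mul_add, ha, hb]
    push_cast
    ring
  | smul c x _ hx =>
    obtain ⟨a, ha⟩ := hx
    refine ⟨c * a, ?_⟩
    simp only [T] at ha ⊢
    simp only [Pi.smul_apply, zsmul_eq_mul, mul_assoc, ← Finset.mul_sum]
    rw [mul_left_comm, ha]
    push_cast
    ring
  | mem x hx =>
    obtain ⟨E, ψ, hE, hψ, rfl⟩ := hx
    haveI := Fintype.ofFinite E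
    haveI := Fintype.ofFinite (N.subgroupOf E)
    let ι : N.subgroupOf E →* N :=
      { toFun := fun d => ⟨d.1.1, Subgroup.mem_subgroupOf.mp d.2⟩
        map_one' := rfl
        map_mul' := fun _ _ => rfl }
    let Θ : N.subgroupOf E → ℂ := fun d => ϑ (ι d)
    let Ψ : N.subgroupOf E → ℂ := fun d => ψ d.1
    have hΘ : IsCharacter _ Θ := isCharacter_comp (IsIrrCharacter.isCharacter hϑ) ι
    have hΨ : IsCharacter _ Ψ := IsCharacter.restrict hψ _
    obtain ⟨n, hn⟩ := classInner_natCast_of_isCharacter (isCharacter_mul hΘ hΨ) hΘ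
    have hT : T (indFun E ψ) = (((E ⊔ N).index * n : ℕ) : ℂ) := by
      have h1 := sum_indFun_mul_invariant N E ψ (fun v => ϑ v * conj (ϑ v)) fun g => by
        funext v
        exact congrArg₂ (· * ·) (congrFun (hinv g) v) (congrArg conj (congrFun (hinv g) v))
      simp only [T]
      rw [h1]
      have h2 := index_mul_card_subgroupOf N E
      have hcD : (Nat.card (N.subgroupOf E) : ℂ) ≠ 0 := Nat.cast_ne_zero.mpr Nat.card_pos.ne'
      have h3 : ∑ d : N.subgroupOf E, ψ d.1 * (ϑ ⟨d.1.1, Subgroup.mem_subgroupOf.mp d.2⟩ * conj (ϑ ⟨d.1.1, Subgroup.mem_subgroupOf.mp d.2⟩)) =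
          (Nat.card (N.subgroupOf E) : ℂ) * n := by
        rw [← hn, classInner, ← mul_assoc, mul_inv_cancel₀ hcD, one_mul]
        refine Finset.sum_congr rfl fun d _ => ?_
        simp only [Pi.mul_apply, Θ, Ψ, ι, MonoidHom.coe_mk, OneHom.coe_mk]
        ring
      rw [h3, ← mul_assoc (E.index : ℂ), ← Nat.cast_mul, h2]
      push_cast
      field_simp
    rcases eq_or_ne (E ⊔ N) ⊤ with htop | htop
    · have hpn : p ∣ n := by
        by_contra hpn
        have hindD : (N.subgroupOf E).index = p ^ k := by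
          show N.relIndex E = _
          rw [← Subgroup.relIndex_sup_right E N, htop, Subgroup.relIndex_top_right, hk]
        obtain ⟨φ, hφ, iφ, m', hm', hinner⟩ := exists_invariant_constituent_not_dvd
          (N.subgroupOf E) hp hindD hΘ hΨ (fun e => funext fun d => congrFun (hinv e.1) (ι d))
          (fun e => funext fun d => IsCharacter.isClassFunction hψ d.1 e) hn hpn
        refine hcon ⟨E, φ, hE, htop, hφ, iφ, m', hm', ?_⟩
        rw [finsum_eq_sum_of_fintype]
        exact hinner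
      obtain ⟨j, rfl⟩ := hpn
      refine ⟨(E ⊔ N).index * j, ?_⟩
      rw [hT]
      push_cast
      ring
    · have hd : (E ⊔ N).index ∣ p ^ k := hk ▸ Subgroup.index_dvd_of_le le_sup_right
      obtain ⟨j, -, hj⟩ := (Nat.dvd_prime_pow hp).mp hd
      have hj0 : j ≠ 0 := fun h => htop (Subgroup.index_eq_one.mp (by rw [hj, h, pow_zero]))
      obtain ⟨i, rfl⟩ := Nat.exists_eq_succ_of_ne_zero hj0
      refine ⟨(p : ℤ) ^ i * n, ?_⟩
      rw [hT, hj]
      push_cast
      rw [pow_succ]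
      ring

end Cfsg.Agent.Char
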