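import Cfsg.Agent.Lib.Char.Dade

/-!
# The Dade image of a generalized character
-/

set_option autoImplicit false
set_option linter.style.haveILetI false

namespace Cfsg.Agent.Char

open Cfsg Representation Module
open scoped ComplexConjugate

universe u

variable {G : Type u} [Group G]

/-- The average of a character over the cosets of a normalised subgroup is a character. -/
theorem isCharacter_average [Finite G] {χ : G → ℂ} (hχ : IsCharacter G χ) {M : Type u} [Group M]
    (φ : M →* G) (K : Subgroup G) [Fintype K]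
    (hK : ∀ m, ∀ u ∈ K, φ m * u * (φ m)⁻¹ ∈ K) :
    IsCharacter M (fun m => (Nat.card K : ℂ)⁻¹ * ∑ u : K, χ (φ m * u)) := by
  classical
  obtain ⟨n, ρ, rfl⟩ := hχ
  have hk : (Nat.card K : ℂ) ≠ 0 := Nat.cast_ne_zero.mpr Nat.card_pos.ne'
  let P : Module.End ℂ (Fin n → ℂ) := (Nat.card K : ℂ)⁻¹ • ∑ u : K, ρ (u : G)
  have hP2 : ∀ v : K, ρ (v : G) * P = P := by
    intro v
    simp only [P, mul_smul_comm, Finset.mul_sum, ← map_mul]
    congr 1
    exact Fintype.sum_equiv (Equiv.mulLeft v) _ _ fun u => rfl
  have hPP : P * P = P := by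
    conv_lhs => arg 1; simp only [P]
    rw [smul_mul_assoc, Finset.sum_mul, Finset.sum_congr rfl fun v _ => hP2 v, Finset.sum_const,
      Finset.card_univ, ← Nat.card_eq_fintype_card (α := K), ← Nat.cast_smul_eq_nsmul ℂ, smul_smul,
      inv_mul_cancel₀ hk, one_smul]
  have hcomm : ∀ m, ρ (φ m) * P = P * ρ (φ m) := by
    intro m
    simp only [P, mul_smul_comm, smul_mul_assoc, Finset.mul_sum, Finset.sum_mul, ← map_mul]
    congr 1
    let e : K ≃ K :=
      { toFun := fun u => ⟨φ m * u * (φ m)⁻¹, hK m u u.2⟩
        invFun := fun u => ⟨(φ m)⁻¹ * u * φ m, by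
          have := hK m⁻¹ u u.2
          simpa using this⟩
        left_inv := fun u => Subtype.ext (by simp [mul_assoc])
        right_inv := fun u => Subtype.ext (by simp [mul_assoc]) }
    exact Fintype.sum_equiv e _ _ fun u => by simp [e]
  let W := LinearMap.range P
  let ι : W →ₗ[ℂ] (Fin n → ℂ) := W.subtype
  let π : (Fin n → ℂ) →ₗ[ℂ] W := P.rangeRestrict
  have hπι : ∀ w : W, π (ι w) = w := by
    rintro ⟨w, v, rfl⟩
    refine Subtype.ext ?_
    show P (P v) = P v
    rw [← Module.End.mul_apply, hPP]
  let σ : Representation ℂ M W :=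
    { toFun := fun m => π ∘ₗ ρ (φ m) ∘ₗ ι
      map_one' := LinearMap.ext fun w => by simpa using hπι w
      map_mul' := fun a b => LinearMap.ext fun w => by
        obtain ⟨w, v, rfl⟩ := w
        refine Subtype.ext ?_
        show P (ρ (φ (a * b)) (P v)) = P (ρ (φ a) (P (ρ (φ b) (P v))))
        simp only [← Module.End.mul_apply, map_mul]
        congr 1
        calc P * (ρ (φ a) * ρ (φ b)) * P = P * ρ (φ a) * (ρ (φ b) * P) := by simp only [mul_assoc]
          _ = P * ρ (φ a) * (ρ (φ b) * (P * P)) := by rw [hPP]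
          _ = P * ρ (φ a) * (P * (ρ (φ b) * P)) := by
            congr 1
            calc ρ (φ b) * (P * P) = ρ (φ b) * P * P := (mul_assoc _ _ _).symm
              _ = P * ρ (φ b) * P := by rw [hcomm b]
              _ = P * (ρ (φ b) * P) := mul_assoc _ _ _
          _ = P * (ρ (φ a) * (P * (ρ (φ b) * P))) := by rw [mul_assoc] }
  have hσ := isCharacter_character σ
  have e : σ.character = fun m => (Nat.card K : ℂ)⁻¹ * ∑ u : K, ρ.character (φ m * u) := by
    funext m
    show LinearMap.trace ℂ W (π ∘ₗ ρ (φ m) ∘ₗ ι) = _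
    rw [LinearMap.trace_comp_comm', LinearMap.comp_assoc]
    have hιπ : ι ∘ₗ π = P := LinearMap.ext fun v => rfl
    rw [hιπ]
    show LinearMap.trace ℂ _ (ρ (φ m) * P) = _
    simp only [P, mul_smul_comm, Finset.mul_sum, map_smul, map_sum, smul_eq_mul, ← map_mul]
    rfl
  rw [← e]
  exact hσ

/-- Averages of a class function over a coset and over its centralizing part agree. -/
theorem average_coset_eq [Finite G] {f : G → ℂ} (hf : IsClassFunction G f) (K C : Subgroup G)
    [Fintype K] [Fintype C] (g : G) (hC : C = K ⊓ Subgroup.centralizer ({g} : Set G))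
    (hg : g ∈ Subgroup.normalizer (K : Set G)) (hcop : Nat.Coprime (orderOf g) (Nat.card K)) :
    (Nat.card C : ℂ)⁻¹ * ∑ c : C, f (g * c) = (Nat.card K : ℂ)⁻¹ * ∑ k : K, f (g * k) := by
  classical
  have hCK : ∀ c : C, (c : G) ∈ K := fun c => by
    have h := c.2
    simp only [hC, Subgroup.mem_inf] at h
    exact h.1
  have hCC : ∀ c : C, (c : G) ∈ Subgroup.centralizer ({g} : Set G) := fun c => by
    have h := c.2
    simp only [hC, Subgroup.mem_inf] at h
    exact h.2
  have hCg : ∀ c : C, Commute (c : G) g := fun c => by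
    have h := Subgroup.mem_centralizer_singleton_iff.mp (hCC c)
    first
      | exact h
      | exact h.symm
  have hmem : ∀ p : K × C, (p.1 : G) * ((p.2 : G) * g) * (p.1 : G)⁻¹ * g⁻¹ ∈ K := by
    intro p
    have h2 : g * (p.1 : G)⁻¹ * g⁻¹ ∈ K :=
      (Subgroup.mem_normalizer_iff.mp hg _).mp (K.inv_mem p.1.2)
    have : (p.1 : G) * ((p.2 : G) * g) * (p.1 : G)⁻¹ * g⁻¹ =
        (p.1 : G) * (p.2 : G) * (g * (p.1 : G)⁻¹ * g⁻¹) := by group
    rw [this]
    exact K.mul_mem (K.mul_mem p.1.2 (hCK p.2)) h2
  let Φ : K × C → K := fun p => ⟨_, hmem p⟩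
  have hge : ∀ k : K, Fintype.card C ≤ (Finset.univ.filter fun p => Φ p = k).card := by
    intro k
    obtain ⟨x, hx, c, hc, hcg, hxc⟩ := exists_conj_coset K g hg hcop k.2
    have hcC : c ∈ Subgroup.centralizer ({g} : Set G) := by
      rw [Subgroup.mem_centralizer_singleton_iff]
      first
        | exact hcg
        | exact hcg.symm
    refine Finset.card_le_card_of_injOn (s := (Finset.univ : Finset C))
      (fun w => ((⟨x⁻¹ * (w : G)⁻¹, K.mul_mem (K.inv_mem hx) (K.inv_mem (hCK w))⟩ : K),
        w * (⟨c, by rw [hC]; exact ⟨hc, hcC⟩⟩ : C) * w⁻¹)) ?_ ?_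
    · intro w _
      simp only [Finset.coe_filter, Finset.mem_univ, true_and, Set.mem_ofPred_eq]
      refine Subtype.ext ?_
      show x⁻¹ * (w : G)⁻¹ * ((w : G) * c * (w : G)⁻¹ * g) * (x⁻¹ * (w : G)⁻¹)⁻¹ * g⁻¹ = k
      calc x⁻¹ * (w : G)⁻¹ * ((w : G) * c * (w : G)⁻¹ * g) * (x⁻¹ * (w : G)⁻¹)⁻¹ * g⁻¹
          = x⁻¹ * c * (w : G)⁻¹ * (g * (w : G)) * x * g⁻¹ := by group
        _ = x⁻¹ * c * (w : G)⁻¹ * ((w : G) * g) * x * g⁻¹ := by rw [(hCg w).eq]
        _ = x⁻¹ * (c * g) * x * g⁻¹ := by group
        _ = k := by rw [← hxc]; group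
    · intro w _ w' _ h
      have h1 : x⁻¹ * (w : G)⁻¹ = x⁻¹ * (w' : G)⁻¹ :=
        congrArg (fun p : K × C => (p.1 : G)) h
      exact Subtype.ext (inv_inj.mp (mul_left_cancel h1))
  have htot : ∑ k : K, (Finset.univ.filter fun p => Φ p = k).card =
      ∑ _k : K, Fintype.card C := by
    rw [← Finset.card_eq_sum_card_fiberwise (fun p _ => Finset.mem_coe.mpr (Finset.mem_univ (Φ p))),
      Finset.card_univ, Fintype.card_prod, Finset.sum_const, Finset.card_univ, smul_eq_mul]
  have heq : ∀ k : K, (Finset.univ.filter fun p => Φ p = k).card = Fintype.card C := fun k =>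
    ((Finset.sum_eq_sum_iff_of_le fun k _ => hge k).mp htot.symm k (Finset.mem_univ k)).symm
  have h1 : ∑ p : K × C, f (g * p.2) = (Fintype.card C : ℂ) * ∑ k : K, f (g * k) := by
    rw [← Finset.sum_fiberwise Finset.univ Φ, Finset.mul_sum]
    refine Finset.sum_congr rfl fun k _ => ?_
    rw [← heq k, ← nsmul_eq_mul, ← Finset.sum_const]
    refine Finset.sum_congr rfl fun p hp => ?_
    have e := congrArg Subtype.val (Finset.mem_filter.mp hp).2
    have e' : (k : G) * g = (p.1 : G) * ((p.2 : G) * g) * (p.1 : G)⁻¹ := by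
      rw [← e]
      show (p.1 : G) * ((p.2 : G) * g) * (p.1 : G)⁻¹ * g⁻¹ * g = _
      group
    calc f (g * p.2) = f ((p.2 : G) * g) := by rw [(hCg p.2).eq]
      _ = f ((k : G) * g) := by rw [e', hf]
      _ = f (g * k) := by
        rw [← hf ((k : G) * g) g]
        congr 1
        group
  rw [Fintype.sum_prod_type] at h1
  simp only [Finset.sum_const, Finset.card_univ, nsmul_eq_mul] at h1
  have hK0 : (Nat.card K : ℂ) ≠ 0 := Nat.cast_ne_zero.mpr Nat.card_pos.ne'
  have hC0 : (Nat.card C : ℂ) ≠ 0 := Nat.cast_ne_zero.mpr Nat.card_pos.ne'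
  rw [Nat.card_eq_fintype_card] at hK0 hC0
  rw [Nat.card_eq_fintype_card, Nat.card_eq_fintype_card]
  field_simp
  linear_combination h1

/-- Orbit counting with weights. -/
theorem card_dvd_sum_stabilizer {M X : Type*} [Group M] [Finite M] [MulAction M X] [Fintype X]
    (z : X → ℤ) (hz : ∀ (g : M) (x : X), z (g • x) = z x) :
    (Nat.card M : ℤ) ∣ ∑ x : X, (Nat.card (MulAction.stabilizer M x) : ℤ) * z x := by
  classical
  haveI := Fintype.ofFinite M
  haveI := Fintype.ofFinite (MulAction.orbitRel.Quotient M X)
  rw [← Finset.sum_fiberwise Finset.univ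
    (fun x : X => (Quotient.mk'' x : MulAction.orbitRel.Quotient M X))]
  refine Finset.dvd_sum fun q _ => ?_
  obtain ⟨x₀, rfl⟩ := Quotient.mk''_surjective q
  have horb : ∀ x : X, (Quotient.mk'' x : MulAction.orbitRel.Quotient M X) = Quotient.mk'' x₀ ↔
      x ∈ MulAction.orbit M x₀ := fun x =>
    (Quotient.eq'').trans MulAction.orbitRel_apply
  have hst : ∀ x ∈ Finset.univ.filter
      (fun x : X => (Quotient.mk'' x : MulAction.orbitRel.Quotient M X) = Quotient.mk'' x₀),
      (Nat.card (MulAction.stabilizer M x) : ℤ) * z x =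
        (Nat.card (MulAction.stabilizer M x₀) : ℤ) * z x₀ := by
    intro x hx
    obtain ⟨g, hg⟩ := (horb x).mp (Finset.mem_filter.mp hx).2
    subst hg
    show (Nat.card (MulAction.stabilizer M (g • x₀)) : ℤ) * z (g • x₀) = _
    rw [hz, Nat.card_congr (MulAction.stabilizerEquivStabilizer rfl :
      MulAction.stabilizer M x₀ ≃* MulAction.stabilizer M (g • x₀)).toEquiv]
  rw [Finset.sum_congr rfl hst, Finset.sum_const, nsmul_eq_mul, ← mul_assoc]
  refine Dvd.dvd.mul_right ?_ _
  have hc : (Finset.univ.filter
      (fun x : X => (Quotient.mk'' x : MulAction.orbitRel.Quotient M X) = Quotient.mk'' x₀)).card =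
      Nat.card (MulAction.orbit M x₀) := by
    rw [Nat.card_eq_fintype_card, Fintype.card_of_finset' _ fun x => ?_]
    simp [horb]
  rw [hc, ← Nat.cast_mul]
  refine dvd_of_eq ?_
  congr 1
  rw [Nat.card_eq_fintype_card, Nat.card_eq_fintype_card, Nat.card_eq_fintype_card,
    MulAction.card_orbit_mul_card_stabilizer_eq_card_group]

variable {A : Set G} {L : Subgroup G} {H : G → Subgroup G}

/-- An element centralising `a` of order prime to the centralizer in `L` lies in `H a`. -/
theorem dade_mem_of_coprime [Finite G] (hD : DadeHypothesis A L H) {a : G} (ha : a ∈ A) {u : G}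
    (huC : u ∈ Subgroup.centralizer ({a} : Set G))
    (hcop : Nat.Coprime (orderOf u) (Nat.card ↥(L ⊓ Subgroup.centralizer ({a} : Set G)))) :
    u ∈ H a := by
  have hnorm : Subgroup.centralizer ({a} : Set G) ≤ Subgroup.normalizer (H a : Set G) := by
    intro c hc
    rw [Subgroup.mem_normalizer_iff]
    intro n
    refine ⟨fun hn => hD.conj_mem_H a ha c hc n hn, fun hn => ?_⟩
    have := hD.conj_mem_H a ha c⁻¹ (inv_mem hc) _ hn
    simpa [mul_assoc] using this
  rw [← hD.sup_eq a ha, ← SetLike.mem_coe, Subgroup.coe_mul_of_right_le_normalizer_left _ _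
    (le_trans inf_le_right hnorm)] at huC
  obtain ⟨h, hh, l, hl, rfl⟩ := huC
  have hlN : l ∈ Subgroup.normalizer (H a : Set G) := hnorm hl.2
  have hpow : ∀ n : ℕ, ∃ h' ∈ H a, (h * l) ^ n = h' * l ^ n := by
    intro n
    induction n with
    | zero => exact ⟨1, one_mem _, by simp⟩
    | succ n ih =>
      obtain ⟨h', hh', e⟩ := ih
      refine ⟨h' * (l ^ n * h * (l ^ n)⁻¹), mul_mem hh' ?_, ?_⟩
      · exact (Subgroup.mem_normalizer_iff.mp (pow_mem hlN n) h).mp hh
      · rw [pow_succ, e, pow_succ]
        group
  obtain ⟨h', hh', e⟩ := hpow (orderOf (h * l))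
  rw [pow_orderOf_eq_one] at e
  have hl1 : l ^ orderOf (h * l) = 1 := by
    rw [← Subgroup.mem_bot, ← hD.inf_eq_bot a ha]
    refine ⟨?_, pow_mem hl _⟩
    rw [← inv_eq_of_mul_eq_one_right e.symm]
    exact (H a).inv_mem hh'
  have : l = 1 := orderOf_eq_one_iff.mp
    (Nat.eq_one_of_dvd_coprimes hcop (orderOf_dvd_of_pow_eq_one hl1)
      (Subgroup.orderOf_dvd_natCard _ hl))
  simpa [this] using hh

/-- The conjugation action on finite subsets. -/
@[reducible] def conjFinsetAction (M : Type*) [Group M] : MulAction M (Finset M) where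
  smul g B := B.map (MulAut.conj g).toEquiv.toEmbedding
  one_smul B := by
    show B.map (MulAut.conj (1 : M)).toEquiv.toEmbedding = B
    rw [show (MulAut.conj (1 : M)).toEquiv.toEmbedding = Function.Embedding.refl M from
      Function.Embedding.ext fun x => show 1 * x * 1⁻¹ = x by group, Finset.map_refl]
  mul_smul g h B := by
    show B.map (MulAut.conj (g * h)).toEquiv.toEmbedding =
      (B.map (MulAut.conj h).toEquiv.toEmbedding).map (MulAut.conj g).toEquiv.toEmbedding
    rw [Finset.map_map]
    congr 1
    refine Function.Embedding.ext fun x => ?_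
    show g * h * x * (g * h)⁻¹ = g * (h * x * h⁻¹) * g⁻¹
    group

/-- The Dade image of a generalized character is generalized. -/
theorem isGeneralized_dadeIsometry [Fintype G] [Fintype L] (hD : DadeHypothesis A L H) {α : L → ℂ}
    (hα : IsGeneralizedCharacter L α) (hαA : ∀ x : L, (x : G) ∉ A → α x = 0) :
    IsGeneralizedCharacter G (dadeIsometry A L H α) := by
  classical
  letI := conjFinsetAction L
  have hαc := IsGeneralizedCharacter.isClassFunction hα
  refine isGeneralizedCharacter_of_classInner_int (isClassFunction_dadeIsometry hD hαc)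
    fun χ hχ => ?_
  have hχc := IsIrrCharacter.isCharacter hχ
  have hχf := IsCharacter.isClassFunction hχc
  let K : Finset L → Subgroup G := fun B => ⨅ b ∈ B, H (b : G)
  let F : Finset L → L → ℂ := fun B a =>
    (Nat.card (K B) : ℂ)⁻¹ * ∑ u : K B, χ ((a : G) * u)
  let valid : Finset L → Prop := fun B => B.Nonempty ∧ ∀ b ∈ B, (b : G) ∈ A
  let S : Finset L → ℂ := fun B => if valid B then
    (-1 : ℂ) ^ (B.card + 1) * ∑ a ∈ Finset.univ.filter (fun a : L => a • B = B),
      α a * conj (F B a) else 0
  have hKmem : ∀ (B : Finset L) (u : G), u ∈ K B ↔ ∀ b ∈ B, u ∈ H (b : G) := fun B u => by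
    simp [K, Subgroup.mem_iInf]
  have hsmul : ∀ (l : L) (B : Finset L) (b : L), b ∈ l • B ↔ ∃ c ∈ B, l * c * l⁻¹ = b :=
    fun l B b => by
      show b ∈ B.map (MulAut.conj l).toEquiv.toEmbedding ↔ _
      rw [Finset.mem_map]
      rfl
  have hKconj : ∀ (l : L) (B : Finset L), (∀ b ∈ B, (b : G) ∈ A) → ∀ u : G,
      u ∈ K B ↔ (l : G) * u * (l : G)⁻¹ ∈ K (l • B) := by
    intro l B hB u
    rw [hKmem, hKmem]
    constructor
    · intro h b hb
      obtain ⟨c, hc, rfl⟩ := (hsmul l B b).mp hb
      exact dade_conj_mem hD (hB c hc) l.2 (h c hc)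
    · intro h c hc
      have := dade_conj_mem' hD (hB c hc) l.2 (h (l * c * l⁻¹) ((hsmul l B _).mpr ⟨c, hc, rfl⟩))
      simpa [mul_assoc] using this
  have hFconj : ∀ (l : L) (B : Finset L) (a : L), (∀ b ∈ B, (b : G) ∈ A) →
      F (l • B) (l * a * l⁻¹) = F B a := by
    intro l B a hB
    let e : K B ≃ K (l • B) :=
      { toFun := fun u => ⟨_, (hKconj l B hB u).mp u.2⟩
        invFun := fun v => ⟨(l : G)⁻¹ * v * l, (hKconj l B hB _).mpr (by
          simpa [mul_assoc] using v.2)⟩
        left_inv := fun u => Subtype.ext (by simp [mul_assoc])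
        right_inv := fun v => Subtype.ext (by simp [mul_assoc]) }
    simp only [F]
    rw [Nat.card_congr e]
    congr 1
    refine (Fintype.sum_equiv e _ _ fun u => ?_).symm
    rw [← hχf ((a : G) * u) l]
    congr 1
    simp only [e, Equiv.coe_fn_mk, Subgroup.coe_mul, InvMemClass.coe_inv]
    group
  have hvalid : ∀ (l : L) (B : Finset L), valid (l • B) ↔ valid B := by
    have key : ∀ (l : L) (B : Finset L), valid B → valid (l • B) := by
      rintro l B ⟨⟨b, hb⟩, h2⟩
      refine ⟨⟨_, (hsmul l B _).mpr ⟨b, hb, rfl⟩⟩, fun c hc => ?_⟩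
      obtain ⟨d, hd, rfl⟩ := (hsmul l B c).mp hc
      exact hD.conj_mem _ l.2 _ (h2 d hd)
    exact fun l B => ⟨fun h => by simpa using key l⁻¹ _ h, key l B⟩
  have hSinv : ∀ (l : L) (B : Finset L), S (l • B) = S B := by
    intro l B
    simp only [S, hvalid]
    split_ifs with hv
    swap
    · rfl
    have hcard : (l • B).card = B.card := by
      exact Finset.card_map _
    rw [hcard]
    congr 1
    symm
    refine Finset.sum_equiv (MulAut.conj l).toEquiv (fun a => ?_) (fun a _ => ?_)
    · simp only [Finset.mem_filter, Finset.mem_univ, true_and, MulEquiv.toEquiv_eq_coe,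
        EquivLike.coe_coe, MulAut.conj_apply]
      rw [mul_smul, mul_smul, inv_smul_smul, smul_left_cancel_iff]
    · show α a * conj (F B a) = α (l * a * l⁻¹) * conj (F (l • B) (l * a * l⁻¹))
      rw [hαc a l, hFconj l B a hv.2]
  have hz : ∀ B, ∃ z : ℤ, S B = (Nat.card (MulAction.stabilizer L B) : ℂ) * z := by
    intro B
    by_cases hv : valid B
    swap
    · exact ⟨0, by simp [S, hv]⟩
    haveI := Fintype.ofFinite (MulAction.stabilizer L B)
    have hθ : IsCharacter (MulAction.stabilizer L B)
        (fun m : MulAction.stabilizer L B => F B m) := by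
      refine isCharacter_average hχc (L.subtype.comp (MulAction.stabilizer L B).subtype) (K B)
        fun m u hu => ?_
      have h := (hKconj (m : L) B hv.2 u).mp hu
      have hm : (m : L) • B = B := m.2
      rw [hm] at h
      exact h
    have hr : IsGeneralizedCharacter (MulAction.stabilizer L B)
        (fun m : MulAction.stabilizer L B => α m) :=
      IsGeneralizedCharacter.restrict hα (MulAction.stabilizer L B)
    obtain ⟨z, hz⟩ := classInner_int_of_isGeneralized hr (IsCharacter.isGeneralized hθ)
    refine ⟨(-1) ^ (B.card + 1) * z, ?_⟩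
    simp only [S, if_pos hv]
    rw [Int.cast_mul, Int.cast_pow, Int.cast_neg, Int.cast_one, ← hz, classInner,
      mul_left_comm (Nat.card (MulAction.stabilizer L B) : ℂ), ← mul_assoc (Nat.card _ : ℂ),
      mul_inv_cancel₀ (Nat.cast_ne_zero.mpr Nat.card_pos.ne'), one_mul]
    congr 1
    exact Finset.sum_subtype _ (fun x => by simp [MulAction.mem_stabilizer_iff]) _
  choose z hz using hz
  have hzinv : ∀ (l : L) (B : Finset L), z (l • B) = z B := by
    intro l B
    have h := hSinv l B
    rw [hz, hz, Nat.card_congr (MulAction.stabilizerEquivStabilizer rfl :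
      MulAction.stabilizer L B ≃* MulAction.stabilizer L (l • B)).toEquiv] at h
    exact_mod_cast mul_left_cancel₀ (Nat.cast_ne_zero.mpr Nat.card_pos.ne') h
  obtain ⟨k, hk⟩ := card_dvd_sum_stabilizer (M := L) z hzinv
  have hpair : ∀ a : L, (a : G) ∈ A →
      ∑ B ∈ Finset.univ.filter (fun B : Finset L => valid B ∧ a • B = B),
        (-1 : ℂ) ^ (B.card + 1) * conj (F B a) =
      conj ((Nat.card (H (a : G)) : ℂ)⁻¹ * ∑ u : H (a : G), χ ((a : G) * u)) := by
    intro a ha
    have hfix : a • ({a} : Finset L) = {a} := by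
      show ({a} : Finset L).map (MulAut.conj a).toEquiv.toEmbedding = {a}
      simp
    have hmemS : ({a} : Finset L) ∈ Finset.univ.filter
        (fun B : Finset L => valid B ∧ a • B = B) := by
      exact Finset.mem_filter.mpr ⟨Finset.mem_univ _, ⟨Finset.singleton_nonempty a,
        fun b hb => by rw [Finset.mem_singleton.mp hb]; exact ha⟩, hfix⟩
    rw [← Finset.add_sum_erase _ _ hmemS]
    have hrest : ∑ B ∈ (Finset.univ.filter (fun B : Finset L => valid B ∧ a • B = B)).erase {a},
        (-1 : ℂ) ^ (B.card + 1) * conj (F B a) = 0 := by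
      refine Finset.sum_involution
        (fun B _ => if a ∈ B then B.erase a else insert a B) ?_ ?_ ?_ ?_
      · intro B hB
        simp only [Finset.mem_erase, Finset.mem_filter, Finset.mem_univ, true_and] at hB
        obtain ⟨hne, hv, hfB⟩ := hB
        have key : ∀ B' : Finset L, a ∉ B' → valid B' → a • B' = B' →
            F (insert a B') a = F B' a := by
          intro B' haB' hv' hfB'
          have hK : K (insert a B') = K B' ⊓ Subgroup.centralizer ({(a : G)} : Set G) := by
            obtain ⟨b, hb⟩ := hv'.1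
            ext u
            rw [Subgroup.mem_inf, hKmem, hKmem]
            constructor
            · intro h
              exact ⟨fun c hc => h c (Finset.mem_insert_of_mem hc),
                hD.le_centralizer _ ha (h a (Finset.mem_insert_self _ _))⟩
            · rintro ⟨h, hc⟩ c hc'
              rcases Finset.mem_insert.mp hc' with rfl | hc'
              · exact dade_mem_of_coprime hD ha hc
                  ((hD.coprime _ (hv'.2 b hb) _ ha).of_dvd_left
                    ((H (b : G)).orderOf_dvd_natCard (h b hb)))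
              · exact h c hc'
          obtain ⟨b, hb⟩ := hv'.1
          simp only [F]
          refine average_coset_eq hχf (K B') (K (insert a B')) (a : G) hK ?_ ?_
          · rw [Subgroup.mem_normalizer_iff]
            intro u
            have h := hKconj a B' hv'.2 u
            rwa [hfB'] at h
          · exact (dade_coprime_orderOf hD ha (hv'.2 b hb)).of_dvd_right
              (Subgroup.card_dvd_of_le (fun u hu => (hKmem B' u).mp hu b hb))
        by_cases haB : a ∈ B
        · have hv' : valid (B.erase a) := by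
            refine ⟨?_, fun b hb => hv.2 b (Finset.mem_of_mem_erase hb)⟩
            by_contra h0
            rw [Finset.not_nonempty_iff_eq_empty, Finset.erase_eq_empty_iff] at h0
            rcases h0 with h0 | h0
            · exact Finset.notMem_empty a (h0 ▸ haB)
            · exact hne h0
          have hf' : a • B.erase a = B.erase a := by
            show (B.erase a).map (MulAut.conj a).toEquiv.toEmbedding = _
            rw [Finset.map_erase, show (MulAut.conj a).toEquiv.toEmbedding a = a from mul_inv_cancel_right a a]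
            exact congrArg (fun s : Finset L => s.erase a) hfB
          rw [if_pos haB]
          have e := key _ (Finset.notMem_erase a B) hv' hf'
          rw [Finset.insert_erase haB] at e
          rw [e, ← Finset.card_erase_add_one haB, pow_succ _ ((B.erase a).card + 1)]
          ring
        · rw [if_neg haB, key B haB hv hfB, Finset.card_insert_of_notMem haB,
            pow_succ _ (B.card + 1)]
          ring
      · intro B hB _
        by_cases haB : a ∈ B
        · rw [if_pos haB]
          exact fun h => Finset.notMem_erase a B (h.symm ▸ haB)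
        · rw [if_neg haB]
          exact fun h => haB (h ▸ Finset.mem_insert_self a B)
      · intro B hB
        simp only [Finset.mem_erase, Finset.mem_filter, Finset.mem_univ, true_and] at hB ⊢
        obtain ⟨hne, hv, hfB⟩ := hB
        by_cases haB : a ∈ B
        · rw [if_pos haB]
          refine ⟨fun h => Finset.notMem_erase a B (h ▸ Finset.mem_singleton_self a), ⟨?_,
            fun b hb => hv.2 b (Finset.mem_of_mem_erase hb)⟩, ?_⟩
          · by_contra h0
            rw [Finset.not_nonempty_iff_eq_empty, Finset.erase_eq_empty_iff] at h0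
            rcases h0 with h0 | h0
            · exact Finset.notMem_empty a (h0 ▸ haB)
            · exact hne h0
          · show (B.erase a).map (MulAut.conj a).toEquiv.toEmbedding = _
            rw [Finset.map_erase, show (MulAut.conj a).toEquiv.toEmbedding a = a from mul_inv_cancel_right a a]
            exact congrArg (fun s : Finset L => s.erase a) hfB
        · rw [if_neg haB]
          refine ⟨fun h => ?_, ⟨Finset.insert_nonempty _ _, fun b hb => ?_⟩, ?_⟩
          · obtain ⟨b, hb⟩ := hv.1
            have : b ∈ ({a} : Finset L) := h ▸ Finset.mem_insert_of_mem hb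
            rw [Finset.mem_singleton] at this
            exact haB (this ▸ hb)
          · rcases Finset.mem_insert.mp hb with rfl | hb
            · exact ha
            · exact hv.2 b hb
          · show (insert a B).map (MulAut.conj a).toEquiv.toEmbedding = _
            rw [Finset.map_insert, show (MulAut.conj a).toEquiv.toEmbedding a = a from mul_inv_cancel_right a a]
            exact congrArg (insert a) hfB
      · intro B hB
        by_cases haB : a ∈ B
        · simp [haB, Finset.insert_erase haB]
        · simp [haB, Finset.erase_insert haB]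
    rw [hrest, add_zero, Finset.card_singleton]
    have hKa : K {a} = H (a : G) := by
      ext u
      simp [hKmem]
    have hs : ∑ u : K {a}, χ ((a : G) * u) = ∑ u : H (a : G), χ ((a : G) * u) :=
      Fintype.sum_equiv (MulEquiv.subgroupCongr hKa).toEquiv _ _ fun u => rfl
    simp only [F]
    rw [hs, Nat.card_congr (MulEquiv.subgroupCongr hKa).toEquiv]
    norm_num
  have hf1 : classInner (dadeIsometry A L H α) χ = (Nat.card L : ℂ)⁻¹ * ∑ B : Finset L, S B := by
    have hτ := isClassFunction_dadeIsometry hD hαc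
    have hs := dade_sum hD (f := fun g => dadeIsometry A L H α g * conj (χ g))
      (fun g y => by show _ * conj (χ _) = _; rw [hτ g y, hχf g y])
      (fun g hg => by simp [dadeIsometry_of_not hg])
    have e : (∑ a : L, if (a : G) ∈ A then (Nat.card (H (a : G)) : ℂ)⁻¹ *
        ∑ u : H (a : G), dadeIsometry A L H α ((a : G) * u) * conj (χ ((a : G) * u)) else 0) =
        ∑ B : Finset L, S B := by
      have hSB : ∀ B, S B = ∑ a : L, if valid B ∧ a • B = B then
          α a * ((-1 : ℂ) ^ (B.card + 1) * conj (F B a)) else 0 := by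
        intro B
        simp only [S]
        by_cases hv : valid B
        · rw [if_pos hv, Finset.mul_sum, Finset.sum_filter]
          refine Finset.sum_congr rfl fun a _ => ?_
          simp only [hv, true_and]
          split_ifs <;> ring
        · simp [hv]
      rw [Finset.sum_congr rfl fun B _ => hSB B, Finset.sum_comm]
      refine Finset.sum_congr rfl fun a _ => ?_
      rw [← Finset.sum_filter, ← Finset.mul_sum]
      split_ifs with ha
      · rw [hpair a ha, map_mul, map_inv₀, Complex.conj_natCast, map_sum, mul_left_comm,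
          Finset.mul_sum (a := α a)]
        congr 1
        refine Finset.sum_congr rfl fun u _ => ?_
        rw [dadeIsometry_apply hD hαc ha u.2 (x := 1) (by simp)]
      · rw [hαA a ha, zero_mul]
    rw [e] at hs
    simp only [classInner]
    have hG : (Nat.card G : ℂ) ≠ 0 := Nat.cast_ne_zero.mpr Nat.card_pos.ne'
    have hL : (Nat.card L : ℂ) ≠ 0 := Nat.cast_ne_zero.mpr Nat.card_pos.ne'
    field_simp
    linear_combination hs
  refine ⟨k, ?_⟩
  rw [hf1, Finset.sum_congr rfl fun B _ => hz B]
  have hk' : ∑ B : Finset L, (Nat.card (MulAction.stabilizer L B) : ℂ) * (z B : ℂ) =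
      (Nat.card L : ℂ) * k := by exact_mod_cast hk
  rw [hk', ← mul_assoc, inv_mul_cancel₀ (Nat.cast_ne_zero.mpr Nat.card_pos.ne'), one_mul]

end Cfsg.Agent.Char
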