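import Cfsg.Agent.Lib.Char.Extension2

/-!
# Extension of characters detected on a supplement by a linear character
-/

set_option autoImplicit false
set_option linter.style.haveILetI false

namespace Cfsg.Agent.Char

open Cfsg Representation Module
open scoped ComplexConjugate

universe u

variable {G : Type u} [Group G] (N : Subgroup G) [hN : N.Normal]

theorem finrank_invariants_eq {D : Type*} [Group D] [Fintype D] {V : Type*} [AddCommGroup V]
    [Module ℂ V] [FiniteDimensional ℂ V] (ρ : Representation ℂ D V) :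
    (Nat.card D : ℂ)⁻¹ * ∑ g : D, ρ.character g = finrank ℂ ρ.invariants := by
  haveI : Invertible (Fintype.card D : ℂ) :=
    invertibleOfNonzero (Nat.cast_ne_zero.mpr Fintype.card_ne_zero)
  rw [← (isProj_averageMap ρ).trace, Nat.card_eq_fintype_card]
  simp [Representation.character, Representation.averageMap, GroupAlgebra.average, map_sum]

/-- A supplement carrying a linear character gives, by determinants, the multiplicity as an
exponent. -/
theorem hasSplit_multiplicity [Finite G] {d : ℕ} (σ : Representation ℂ N (Fin d → ℂ))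
    (E : Subgroup G) (hE : E ⊔ N = ⊤) (μ : E →* ℂˣ) [Fintype (N.subgroupOf E)] (m : ℕ)
    (hm : (Nat.card (N.subgroupOf E) : ℂ)⁻¹ * ∑ x : N.subgroupOf E,
      σ.character ⟨x.1.1, Subgroup.mem_subgroupOf.mp x.2⟩ * conj (μ x.1 : ℂ) = m) :
    HasSplit N σ m := by
  classical
  let ι : N.subgroupOf E →* N :=
    { toFun := fun x => ⟨x.1.1, Subgroup.mem_subgroupOf.mp x.2⟩
      map_one' := rfl
      map_mul' := fun _ _ => rfl }
  let β : N.subgroupOf E →* ℂˣ := (μ.comp (N.subgroupOf E).subtype)⁻¹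
  let ρ : Representation ℂ (N.subgroupOf E) (Fin d → ℂ) := twistRep β (σ.comp ι)
  let U : Submodule ℂ (Fin d → ℂ) := ρ.invariants
  have hmemU : ∀ v : Fin d → ℂ, v ∈ U ↔ ∀ x, σ (ι x) v = (μ x.1 : ℂ) • v := by
    intro v
    refine forall_congr' fun x => ?_
    show ((((μ x.1)⁻¹ : ℂˣ) : ℂ) • σ (ι x) v = v) ↔ _
    rw [← Units.smul_def, inv_smul_eq_iff, Units.smul_def]
  have hrank : finrank ℂ U = m := by
    have h := finrank_invariants_eq ρ
    have h2 : ∀ x, ρ.character x = σ.character (ι x) * conj (μ x.1 : ℂ) := fun x => by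
      rw [twistRep_character, mul_comm]
      congr 1
      show ((((μ x.1)⁻¹ : ℂˣ)) : ℂ) = _
      rw [Units.val_inv_eq_inv_val, Complex.inv_eq_conj]
      exact Complex.norm_eq_one_of_pow_eq_one (n := orderOf x.1)
        (by rw [← Units.val_pow_eq_pow_val, ← map_pow, pow_orderOf_eq_one, map_one, Units.val_one])
        (orderOf_pos x.1).ne'
    simp only [h2] at h
    rw [show (Nat.card (N.subgroupOf E) : ℂ)⁻¹ * ∑ x, σ.character (ι x) * conj (μ x.1 : ℂ) = m
      from hm] at h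
    exact_mod_cast h.symm
  let W : Subgroup (twistGroup N σ) := E.comap (twistProj N σ)
  have hpres : ∀ w : W, ∀ v ∈ U, (w.1.1.2 : (Fin d → ℂ) →ₗ[ℂ] (Fin d → ℂ)) v ∈ U := by
    intro w v hv
    rw [hmemU] at hv ⊢
    intro x
    let h : E := ⟨twistProj N σ w.1, w.2⟩
    let y : N.subgroupOf E := ⟨h⁻¹ * x.1 * h, Subgroup.mem_subgroupOf.mpr (by
      have := hN.conj_mem x.1.1 (Subgroup.mem_subgroupOf.mp x.2) (twistProj N σ w.1)⁻¹
      simpa [h] using this)⟩
    have hy : MulAut.conjNormal w.1.1.1 (ι y) = ι x := Subtype.ext (by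
      show w.1.1.1 * ((h⁻¹ * x.1 * h : E) : G) * w.1.1.1⁻¹ = x.1.1
      have hh : (h : G) = w.1.1.1 := rfl
      simp only [Subgroup.coe_mul, Subgroup.coe_inv, hh]
      group)
    have hμy : μ y.1 = μ x.1 := by
      show μ (h⁻¹ * x.1 * h) = μ x.1
      rw [map_mul, map_mul, map_inv, mul_comm, mul_inv_cancel_left]
    have h1 := LinearMap.congr_fun (w.1.2 (ι y)) v
    rw [hy] at h1
    simp only [Module.End.mul_apply] at h1
    rw [← h1, hv y, hμy, map_smul]
  let R : W →* ((U →ₗ[ℂ] U))ˣ := MonoidHom.toHomUnits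
    { toFun := fun w => (w.1.1.2 : (Fin d → ℂ) →ₗ[ℂ] (Fin d → ℂ)).restrict (hpres w)
      map_one' := by ext; rfl
      map_mul' := fun a b => by ext; rfl }
  let D : W →* ℂˣ := (Units.map (LinearMap.det : (U →ₗ[ℂ] U) →* ℂ)).comp R
  let pE : W →* E := MonoidHom.mk' (fun w => ⟨twistProj N σ w.1, w.2⟩) fun a b =>
    Subtype.ext (map_mul (twistProj N σ) a.1 b.1)
  let f0 : W →* ℂˣ := D * ((μ.comp pE) ^ m)⁻¹
  haveI hnorm : (twistEmb N σ).range.Normal := ⟨fun x hx a => by
    obtain ⟨n, rfl⟩ := hx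
    exact ⟨_, (conj_twistEmb N σ a n).symm⟩⟩
  let q : W →* twistGroup N σ ⧸ (twistEmb N σ).range :=
    (QuotientGroup.mk' (twistEmb N σ).range).comp W.subtype
  have hq : Function.Surjective q := by
    intro z
    obtain ⟨e, rfl⟩ := QuotientGroup.mk'_surjective _ z
    obtain ⟨h, hh, n, hn, hhn⟩ := Subgroup.mem_sup_of_normal_right.mp
      (hE ▸ Subgroup.mem_top (twistProj N σ e))
    refine ⟨⟨e * (twistEmb N σ ⟨n, hn⟩)⁻¹, ?_⟩, ?_⟩
    · show twistProj N σ (e * _) ∈ E
      rw [map_mul, map_inv, twistProj_emb, ← hhn, mul_inv_cancel_right]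
      exact hh
    · exact (QuotientGroup.mk'_eq_mk' _).mpr ⟨twistEmb N σ ⟨n, hn⟩, ⟨_, rfl⟩,
        inv_mul_cancel_right _ _⟩
  have hker : q.ker ≤ f0.ker := by
    intro w hw
    obtain ⟨n, hn⟩ := (QuotientGroup.eq_one_iff _).mp hw
    have hnE : (n : G) ∈ E := by
      have := w.2
      rw [← twistProj_emb N σ n, hn]
      exact this
    let x : N.subgroupOf E := ⟨⟨n, hnE⟩, Subgroup.mem_subgroupOf.mpr n.2⟩
    have hpx : pE w = x.1 := Subtype.ext (by
      show twistProj N σ w.1 = n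
      rw [show w.1 = twistEmb N σ n from hn.symm, twistProj_emb])
    have hR : (R w : U →ₗ[ℂ] U) = (μ x.1 : ℂ) • 1 := by
      refine LinearMap.ext fun v => Subtype.ext ?_
      show (w.1.1.2 : (Fin d → ℂ) →ₗ[ℂ] (Fin d → ℂ)) v.1 = (μ x.1 : ℂ) • v.1
      rw [show w.1 = twistEmb N σ n from hn.symm]
      exact (hmemU v.1).mp v.2 x
    rw [MonoidHom.mem_ker]
    show D w * ((μ (pE w)) ^ m)⁻¹ = 1
    rw [hpx, mul_inv_eq_one]
    refine Units.ext ?_
    show LinearMap.det (R w : U →ₗ[ℂ] U) = _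
    rw [hR, LinearMap.det_smul, map_one, mul_one, hrank, Units.val_pow_eq_pow_val]
  let f : twistGroup N σ →* ℂˣ :=
    (q.liftOfSurjective hq ⟨f0, hker⟩).comp (QuotientGroup.mk' (twistEmb N σ).range)
  refine ⟨f, fun z => ?_, fun n => ?_⟩
  · have hw : twistScalar N σ z ∈ W := by
      show twistProj N σ _ ∈ E
      rw [twistProj_scalar]
      exact E.one_mem
    rw [show f (twistScalar N σ z) = f0 ⟨_, hw⟩ from
      MonoidHom.liftOfRightInverse_comp_apply q (Function.surjInv hq)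
        (Function.rightInverse_surjInv hq) ⟨f0, hker⟩ (⟨_, hw⟩ : W)]
    show D ⟨_, hw⟩ * ((μ (pE ⟨_, hw⟩)) ^ m)⁻¹ = _
    rw [show pE ⟨_, hw⟩ = 1 from Subtype.ext (twistProj_scalar N σ z), map_one, one_pow, inv_one,
      mul_one, zpow_natCast]
    refine Units.ext ?_
    show LinearMap.det (R ⟨_, hw⟩ : U →ₗ[ℂ] U) = _
    have hR : (R ⟨_, hw⟩ : U →ₗ[ℂ] U) = (z : ℂ) • 1 := by
      refine LinearMap.ext fun v => Subtype.ext ?_
      show (algebraMap ℂ ((Fin d → ℂ) →ₗ[ℂ] (Fin d → ℂ)) (z : ℂ)) v.1 = (z : ℂ) • v.1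
      rw [Algebra.algebraMap_eq_smul_one]
      rfl
    rw [hR, LinearMap.det_smul, map_one, mul_one, hrank, Units.val_pow_eq_pow_val]
  · show (q.liftOfSurjective hq ⟨f0, hker⟩) (QuotientGroup.mk' _ (twistEmb N σ n)) = 1
    rw [show (QuotientGroup.mk' (twistEmb N σ).range) (twistEmb N σ n) = 1 from
      (QuotientGroup.eq_one_iff _).mpr ⟨n, rfl⟩, map_one]

/-- A linear character of a supplement with multiplicity prime to `p` gives an extension when the
quotient is a `p`-group. -/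
theorem exists_extension_of_detection [Finite G] {p k : ℕ} (hp : p.Prime) (hind : N.index = p ^ k)
    {θ : N → ℂ} (hθ : IsIrrCharacter N θ) (hinv : ∀ g, conjChar N g θ = θ) (E : Subgroup G)
    (hE : E ⊔ N = ⊤) (μ : E →* ℂˣ) [Fintype (N.subgroupOf E)] (m : ℕ) (hpm : ¬ p ∣ m)
    (hm : (Nat.card (N.subgroupOf E) : ℂ)⁻¹ * ∑ x : N.subgroupOf E,
      θ ⟨x.1.1, Subgroup.mem_subgroupOf.mp x.2⟩ * conj (μ x.1 : ℂ) = m) :
    ∃ χ : G → ℂ, IsIrrCharacter G χ ∧ ∀ n : N, χ n = θ n := by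
  obtain ⟨d, σ, hσ, rfl⟩ := hθ
  haveI := hσ
  have hsurj := twistProj_surjective N σ hinv
  have hidx : HasSplit N σ ((p ^ k : ℕ) : ℤ) := hind ▸ hasSplit_index_self N σ hsurj
  obtain ⟨τ, hτ, hτN⟩ := exists_extension_of_hasSplit_one N σ hsurj
    (hasSplit_of_coprime N σ ((hp.coprime_iff_not_dvd.mpr hpm).pow_left k) hidx
      (hasSplit_multiplicity N σ E hE μ m hm))
  haveI := hτ
  exact ⟨τ.character, isIrrCharacter_character τ, fun n => by
    simp [Representation.character, hτN n]⟩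

end Cfsg.Agent.Char
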