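import Cfsg.Agent.Lib.Char.Clifford
import Cfsg.Agent.Lib.Char.Perm
import Cfsg.Agent.Lib.Char.Orthogonality
import Cfsg.Agent.Lib.Char.Linear
import Cfsg.Agent.Lib.Solv.FpfNilpotent

/-!
# Characters of a group with a kernel containing the centralizers of its elements
-/

set_option autoImplicit false
set_option linter.style.haveILetI false

namespace Cfsg.Agent.Char.FK

open Cfsg
open scoped ComplexConjugate

universe u

variable {G : Type u} [Group G] [Finite G] (K : Subgroup G) [hKn : K.Normal]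
  (hC : ∀ k ∈ K, k ≠ 1 → Subgroup.centralizer ({k} : Set G) ≤ K)

include hC

/-- A nontrivial irreducible character of the kernel is fixed only by the kernel. -/
theorem inertia_eq {τ : K → ℂ} (hτ : IsIrrCharacter K τ) (hτ1 : τ ≠ fun _ => 1) {g : G}
    (hg : conjChar K g τ = τ) : g ∈ K := by
  classical
  haveI := Fintype.ofFinite K
  by_contra hgK
  let α : K ≃* K := (MulAut.conjNormal g : MulAut K)
  let π : IrrCharacter K ≃ IrrCharacter K :=
    { toFun := fun χ => ⟨(χ : K → ℂ) ∘ α.symm, isIrrCharacter_comp_mulEquiv α.symm χ.2⟩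
      invFun := fun χ => ⟨(χ : K → ℂ) ∘ α, isIrrCharacter_comp_mulEquiv α χ.2⟩
      left_inv := fun χ => Subtype.ext (funext fun x => by simp)
      right_inv := fun χ => Subtype.ext (funext fun x => by simp) }
  let σ : ConjClasses K ≃ ConjClasses K :=
    { toFun := ConjClasses.map α.toMonoidHom
      invFun := ConjClasses.map α.symm.toMonoidHom
      left_inv := fun C => Quotient.inductionOn C fun x =>
        congrArg ConjClasses.mk (α.symm_apply_apply x)
      right_inv := fun C => Quotient.inductionOn C fun x =>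
        congrArg ConjClasses.mk (α.apply_symm_apply x) }
  have hc := card_fixed_irr π σ fun χ x x' hx => by
    show (χ : K → ℂ) (α.symm x') = (χ : K → ℂ) x
    exact IsIrrCharacter.apply_isConj χ.2
      (by simpa using α.symm.toMonoidHom.map_isConj (ConjClasses.mk_eq_mk_iff_isConj.mp hx))
  have hσ : Subsingleton {C // σ C = C} := by
    refine ⟨fun a b => ?_⟩
    have key : ∀ C, σ C = C → C = ConjClasses.mk 1 := by
      intro C hC'
      obtain ⟨x, rfl⟩ := ConjClasses.exists_rep C
      obtain ⟨y, hy⟩ := isConj_iff.mp (ConjClasses.mk_eq_mk_iff_isConj.mp hC')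
      have hy' : (y : G) * (g * x * g⁻¹) * (y : G)⁻¹ = x := congrArg Subtype.val hy
      have hgy : (y : G) * g * x = x * ((y : G) * g) := by
        conv_rhs => rw [← hy']
        group
      by_contra hne
      have hx1 : (x : G) ≠ 1 := fun h => hne (by rw [show x = 1 from Subtype.ext h])
      exact hgK ((Subgroup.mul_mem_cancel_left K y.2).mp
        (hC x x.2 hx1 (Subgroup.mem_centralizer_singleton_iff.mpr hgy)))
    exact Subtype.ext ((key a a.2).trans (key b b.2).symm)
  have hπ : Subsingleton {χ // π χ = χ} := by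
    rw [← Finite.card_le_one_iff_subsingleton, hc, Finite.card_le_one_iff_subsingleton]
    exact hσ
  have h1 : π ⟨τ, hτ⟩ = ⟨τ, hτ⟩ := by
    refine Subtype.ext ?_
    show τ ∘ α.symm = τ
    funext x
    conv_lhs => rw [Function.comp_apply, ← hg]
    show τ (α (α.symm x)) = τ x
    rw [α.apply_symm_apply]
  have h2 : π ⟨1, isIrrCharacter_one⟩ = ⟨1, isIrrCharacter_one⟩ := rfl
  exact hτ1 (congrArg (fun p : {χ // π χ = χ} => (p.1 : K → ℂ))
    (hπ.elim ⟨⟨τ, hτ⟩, h1⟩ ⟨⟨1, isIrrCharacter_one⟩, h2⟩))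

theorem isIrr_ind [Fintype G] {τ : K → ℂ} (hτ : IsIrrCharacter K τ) (hτ1 : τ ≠ fun _ => 1) :
    IsIrrCharacter G (indFun K τ) := by
  classical
  haveI := Fintype.ofFinite K
  refine isIrrCharacter_iff.mpr ⟨isCharacter_indFun K (IsIrrCharacter.isCharacter hτ), ?_⟩
  rw [classInner_indFun_indFun K hτ hτ]
  have e : (Finset.univ.filter fun g : G => conjChar K g τ = τ) =
      Finset.univ.filter fun g : G => g ∈ K := Finset.filter_congr fun g _ =>
    ⟨inertia_eq K hC hτ hτ1,
      conjChar_of_mem K (IsCharacter.isClassFunction (IsIrrCharacter.isCharacter hτ))⟩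
  rw [e, ← Fintype.card_subtype, ← Nat.card_eq_fintype_card, div_self]
  exact Nat.cast_ne_zero.mpr Nat.card_pos.ne'

omit hC in
/-- An irreducible character not trivial on `K` has a nonprincipal constituent on `K`. -/
theorem exists_nonprincipal [Fintype K] {χ : G → ℂ} (hχ : IsIrrCharacter G χ)
    (h : ∃ k ∈ K, χ k ≠ χ 1) :
    ∃ θ : K → ℂ, IsIrrCharacter K θ ∧ θ ≠ (fun _ => 1) ∧ classInner (fun k : K => χ k) θ ≠ 0 := by
  classical
  by_contra hh
  push Not at hh
  haveI := Fintype.ofFinite (IrrCharacter K)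
  have hres := IsCharacter.isClassFunction (IsCharacter.restrict (IsIrrCharacter.isCharacter hχ) K)
  have e := IsClassFunction.eq_sum hres
  rw [Finset.sum_eq_single (⟨1, isIrrCharacter_one⟩ : IrrCharacter K) (fun θ _ hne => by
    rw [hh θ θ.2 (fun e => hne (Subtype.ext e)), zero_smul]) (by simp)] at e
  obtain ⟨k, hk, hne⟩ := h
  have e1 := congrFun e ⟨k, hk⟩
  have e2 := congrFun e 1
  simp only [Pi.smul_apply, Pi.one_apply, OneMemClass.coe_one] at e1 e2
  exact hne (e1.trans e2.symm)

theorem exists_eq_ind [Fintype G] {χ : G → ℂ} (hχ : IsIrrCharacter G χ)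
    (h : ∃ k ∈ K, χ k ≠ χ 1) :
    ∃ θ : K → ℂ, IsIrrCharacter K θ ∧ θ ≠ (fun _ => 1) ∧ indFun K θ = χ := by
  classical
  haveI := Fintype.ofFinite K
  obtain ⟨θ, hθ, hθ1, hne⟩ := exists_nonprincipal K hχ h
  refine ⟨θ, hθ, hθ1, by_contra fun hh => hne ?_⟩
  have := IsIrrCharacter.classInner_eq_zero (isIrr_ind K hC hθ hθ1) hχ hh
  rw [classInner_indFun K θ (IsCharacter.isClassFunction (IsIrrCharacter.isCharacter hχ)),
    ← classInner_conj_symm, map_eq_zero] at this
  exact this

theorem vanish [Fintype G] {χ : G → ℂ} (hχ : IsIrrCharacter G χ) (h : ∃ k ∈ K, χ k ≠ χ 1)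
    {x : G} (hx : x ∉ K) : χ x = 0 := by
  obtain ⟨θ, -, -, rfl⟩ := exists_eq_ind K hC hχ h
  rw [indFun_apply, Finset.sum_eq_zero, mul_zero]
  intro t _
  refine extendByZero_of_notMem _ _ fun hm => hx ?_
  have := hKn.conj_mem _ hm t
  simpa [mul_assoc] using this

theorem sum_restrict_eq_zero [Fintype G] [Fintype K] {χ : G → ℂ} (hχ : IsIrrCharacter G χ)
    (h : ∃ k ∈ K, χ k ≠ χ 1) : ∑ k : K, χ k = 0 := by
  classical
  obtain ⟨θ, hθ, hθ1, rfl⟩ := exists_eq_ind K hC hχ h
  have h0 := classInner_indFun_restrict K hθ (φ := fun _ : K => 1) isIrrCharacter_one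
  rw [Finset.filter_eq_empty_iff.mpr fun g _ e => hθ1 (funext fun k => by
    have := congrFun e ((MulAut.conjNormal g⁻¹ : MulAut K) k)
    rw [← this]
    simp only [conjChar]
    exact congrArg θ (Subtype.ext (by simp [mul_assoc]))), Finset.card_empty, Nat.cast_zero,
    zero_div, classInner, mul_eq_zero] at h0
  simpa using h0.resolve_left (by simp)

open Classical in
/-- The constituents trivial on `K` have squared degrees adding up to the index. -/
theorem sum_sq_trivial [Fintype G] [Fintype (IrrCharacter G)] :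
    ∑ χ ∈ Finset.univ.filter (fun χ : IrrCharacter G => ¬∃ k ∈ K, (χ : G → ℂ) k ≠ (χ : G → ℂ) 1),
      (χ : G → ℂ) 1 ^ 2 = (K.index : ℂ) := by
  classical
  haveI := Fintype.ofFinite K
  have hcl : IsClassFunction G (indFun K fun _ => (1 : ℂ)) := isClassFunction_indFun K _
  have e := congrFun (IsClassFunction.eq_sum hcl) 1
  rw [indFun_one_apply, mul_one] at e
  rw [e, Finset.sum_apply]
  rw [Finset.sum_filter]
  refine Finset.sum_congr rfl fun χ _ => ?_
  rw [Pi.smul_apply, smul_eq_mul, classInner_indFun K _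
    (IsCharacter.isClassFunction (IsIrrCharacter.isCharacter χ.2)), classInner]
  by_cases h : ∃ k ∈ K, (χ : G → ℂ) k ≠ (χ : G → ℂ) 1
  · rw [if_neg (not_not.mpr h)]
    simp only [one_mul]
    rw [← map_sum, sum_restrict_eq_zero K hC χ.2 h, map_zero, mul_zero, zero_mul]
  · rw [if_pos h]
    push Not at h
    rw [Finset.sum_congr rfl fun (k : K) _ => show (1 : ℂ) * conj ((χ : G → ℂ) k) = (χ : G → ℂ) 1 by
      rw [one_mul, h k k.2, conj_irr_one], Finset.sum_const, Finset.card_univ, nsmul_eq_mul,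
      ← Nat.card_eq_fintype_card, ← mul_assoc, inv_mul_cancel₀, one_mul, sq]
    exact Nat.cast_ne_zero.mpr Nat.card_pos.ne'

/-- A class function in prescribed proportion to the degrees is constant on the kernel. -/
theorem const_on_kernel [Fintype G] {f : G → ℂ} (hf : IsClassFunction G f) (t : ℂ)
    (h : ∀ χ : G → ℂ, IsIrrCharacter G χ → (∃ k ∈ K, χ k ≠ χ 1) → classInner f χ = t * χ 1) :
    ∀ a ∈ K, ∀ b ∈ K, a ≠ 1 → b ≠ 1 → f a = f b := by
  classical
  haveI := Fintype.ofFinite (IrrCharacter G)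
  suffices key : ∀ a ∈ K, a ≠ 1 → f a =
      ∑ χ : IrrCharacter G, (if ∃ k ∈ K, (χ : G → ℂ) k ≠ (χ : G → ℂ) 1 then 0
        else (classInner f χ - t * (χ : G → ℂ) 1) * (χ : G → ℂ) 1) by
    intro a ha b hb ha1 hb1
    rw [key a ha ha1, key b hb hb1]
  intro a ha ha1
  have e := congrFun (IsClassFunction.eq_sum hf) a
  have h0 := regular_eq (G := G) a
  rw [if_neg ha1] at h0
  rw [e, Finset.sum_apply]
  calc ∑ χ : IrrCharacter G, (classInner f χ • (χ : G → ℂ)) a
      = ∑ χ : IrrCharacter G, ((classInner f χ - t * (χ : G → ℂ) 1) * (χ : G → ℂ) a +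
          t * ((χ : G → ℂ) 1 * (χ : G → ℂ) a)) :=
        Finset.sum_congr rfl fun χ _ => by rw [Pi.smul_apply, smul_eq_mul]; ring
    _ = _ := by
      rw [Finset.sum_add_distrib, ← Finset.mul_sum, h0, mul_zero, add_zero]
      refine Finset.sum_congr rfl fun χ _ => ?_
      split_ifs with hr
      · rw [h χ χ.2 hr, sub_self, zero_mul]
      · push Not at hr
        rw [hr a ha]

theorem isNilpotent (hK : K ≠ ⊤) : Group.IsNilpotent K := by
  classical
  obtain ⟨x, hx⟩ : ∃ x : G, x ∉ K := by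
    by_contra hh; push Not at hh; exact hK (eq_top_iff.mpr fun y _ => hh y)
  have hex : ∃ m, 0 < m ∧ x ^ m ∈ K :=
    ⟨orderOf x, orderOf_pos x, by rw [pow_orderOf_eq_one]; exact K.one_mem⟩
  obtain ⟨hm0, hmK⟩ := Nat.find_spec hex
  have hm1 : Nat.find hex ≠ 1 := fun e => hx (by simpa [e] using hmK)
  obtain ⟨p, hp, j, hj⟩ := Nat.exists_prime_and_dvd hm1
  have hj0 : 0 < j := Nat.pos_of_ne_zero fun e => by rw [hj, e, mul_zero] at hm0; exact lt_irrefl _ hm0
  have hyK : x ^ j ∉ K := fun h => Nat.find_min hex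
    (show j < Nat.find hex by rw [hj]; exact lt_mul_of_one_lt_left hj0 hp.one_lt) ⟨hj0, h⟩
  set y := x ^ j with hy
  have hypK : y ^ p ∈ K := by rw [hy, ← pow_mul, mul_comm, ← hj]; exact hmK
  have hyp : y ^ p = 1 := by_contra fun h => hyK (hC _ hypK h
    (Subgroup.mem_centralizer_singleton_iff.mpr (by rw [← pow_succ', ← pow_succ])))
  refine Cfsg.Agent.Solv.isNilpotent_of_fpf (φ := (MulAut.conjNormal y : MulAut K)) ?_ hp fun k => ?_
  · intro k hk
    by_contra hk1
    have : y * k * y⁻¹ = (k : G) := by simpa using congrArg Subtype.val hk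
    exact hyK (hC k k.2 (fun e => hk1 (Subtype.ext e))
      (Subgroup.mem_centralizer_singleton_iff.mpr (mul_inv_eq_iff_eq_mul.mp this)))
  · have e : ∀ n : ℕ, ∀ k : K, (((MulAut.conjNormal y : MulAut K) : K → K)^[n] k : G) =
        y ^ n * k * (y ^ n)⁻¹ := by
      intro n
      induction n with
      | zero => simp
      | succ n ih =>
        intro k
        rw [Function.iterate_succ_apply', MulAut.conjNormal_apply, ih, pow_succ']
        group
    refine Subtype.ext ?_
    rw [e p k, hyp]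
    group

theorem exists_linear [Fintype G] (hK : K ≠ ⊤) (hK1 : K ≠ ⊥) :
    ∃ θ : K → ℂ, IsIrrCharacter K θ ∧ θ ≠ (fun _ => 1) ∧ θ 1 = 1 := by
  classical
  haveI := isNilpotent K hC hK
  haveI : Nontrivial K := (Subgroup.nontrivial_iff_ne_bot K).mpr hK1
  haveI : Group.IsSolvable K := inferInstance
  have hlt : commutator K < ⊤ := Group.IsSolvable.commutator_lt_top_of_nontrivial K
  have hcard : 1 < Nat.card (K →* ℂˣ) := by
    rw [card_monoidHom_units]
    exact Subgroup.one_lt_index_of_ne_top hlt.ne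
  haveI : Nontrivial (K →* ℂˣ) := (Finite.one_lt_card_iff_nontrivial (α := K →* ℂˣ)).mp hcard
  obtain ⟨l, hl⟩ := exists_ne (1 : K →* ℂˣ)
  refine ⟨fun k => (l k : ℂ), isIrrCharacter_monoidHom l,
    fun e => hl (MonoidHom.ext fun k => Units.ext (congrFun e k)), by simp⟩

end Cfsg.Agent.Char.FK
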