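import Cfsg.Agent.Lib.Char.Generalized

/-!
# Trivial intersection sets and exceptional characters
-/

set_option autoImplicit false
set_option linter.style.haveILetI false

namespace Cfsg.Agent.Char

open Cfsg
open scoped ComplexConjugate

universe u

variable {G : Type u} [Group G] [Fintype G]

/-- Induction does not change values on a trivial intersection set. -/
theorem indFun_apply_ti (T : Set G) (N : Subgroup G)
    (hTI : ∀ g : G, g ∉ N → ∀ t ∈ T, g * t * g⁻¹ ∈ T → t = 1)
    {ψ : N → ℂ} (hψ : IsClassFunction N ψ) (hψT : ∀ x : N, (x : G) ∉ T → ψ x = 0)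
    (t : N) (htT : (t : G) ∈ T) (ht1 : t ≠ 1) : indFun N ψ t = ψ t := by
  classical
  have key : ∀ x : G, extendByZero N ψ (x⁻¹ * t * x) = if x ∈ N then ψ t else 0 := by
    intro x
    split_ifs with hx
    · have : x⁻¹ * t * x = ((⟨x, hx⟩⁻¹ * t * ⟨x, hx⟩ : N) : G) := rfl
      rw [this, extendByZero_coe]
      have := hψ t ⟨x, hx⟩⁻¹
      rwa [inv_inv] at this
    · by_cases hm : x⁻¹ * t * x ∈ N
      · rw [extendByZero_of_mem _ _ hm]
        refine hψT _ fun hT => ht1 (Subtype.ext ?_)
        exact hTI x⁻¹ (fun h => hx (inv_mem_iff.mp h)) t htT (by rwa [inv_inv])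
      · exact extendByZero_of_notMem _ _ hm
  rw [indFun_apply, Finset.sum_congr rfl fun x _ => key x, ← Finset.sum_filter, Finset.sum_const,
    nsmul_eq_mul, ← Fintype.card_subtype, ← Nat.card_eq_fintype_card, ← mul_assoc,
    inv_mul_cancel₀ (Nat.cast_ne_zero.mpr Nat.card_pos.ne'), one_mul]

/-- Induction is an isometry on functions supported on a trivial intersection set. -/
theorem classInner_indFun_ti (T : Set G) (N : Subgroup G) [Fintype N]
    (hTI : ∀ g : G, g ∉ N → ∀ t ∈ T, g * t * g⁻¹ ∈ T → t = 1)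
    {ψ θ : N → ℂ} (hθ : IsClassFunction N θ) (hψT : ∀ x : N, (x : G) ∉ T → ψ x = 0)
    (hθT : ∀ x : N, (x : G) ∉ T → θ x = 0) (hψ1 : ψ 1 = 0) :
    classInner (indFun N ψ) (indFun N θ) = classInner ψ θ := by
  rw [classInner_indFun N ψ (isClassFunction_indFun N θ)]
  simp only [classInner]
  congr 1
  refine Finset.sum_congr rfl fun x _ => ?_
  rcases eq_or_ne x 1 with rfl | hx1
  · simp [hψ1]
  by_cases hxT : (x : G) ∈ T
  · rw [indFun_apply_ti T N hTI hθ hθT x hxT hx1]
  · simp [hψT x hxT]

theorem classInner_sub_sub_irr [DecidableEq (IrrCharacter G)] (a b c d : IrrCharacter G) :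
    classInner ((a : G → ℂ) - (b : G → ℂ)) ((c : G → ℂ) - (d : G → ℂ)) =
      (((if a = c then 1 else 0) - (if a = d then 1 else 0) -
        ((if b = c then 1 else 0) - (if b = d then 1 else 0)) : ℤ) : ℂ) := by
  simp [classInner_sub_left, classInner_sub_right, classInner_irr]
  abel

/-- Differences with the inner products of differences of irreducible characters come from
irreducible characters. -/
theorem exists_exceptional {n : ℕ} (hn : 2 ≤ n) (A : Fin n → G → ℂ)
    (hgen : ∀ i j, IsGeneralizedCharacter G (A i - A j)) (h1 : ∀ i j, A i 1 = A j 1)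
    (hin : ∀ i j k l, classInner (A i - A j) (A k - A l) =
      (((if i = k then 1 else 0) - (if i = l then 1 else 0) -
        ((if j = k then 1 else 0) - (if j = l then 1 else 0)) : ℤ) : ℂ)) :
    ∃ ε : ℂ, (ε = 1 ∨ ε = -1) ∧ ∃ θ : Fin n → IrrCharacter G, Function.Injective θ ∧
      ∀ i j, A i - A j = ε • ((θ i : G → ℂ) - (θ j : G → ℂ)) := by
  classical
  let o : Fin n := ⟨0, by omega⟩
  let l : Fin n := ⟨1, by omega⟩
  have hlo : l ≠ o := fun h => absurd (congrArg Fin.val h) (by simp [l, o])
  have hex : ∀ i : Fin n, i ≠ o → ∃ a b : IrrCharacter G, a ≠ b ∧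
      A i - A o = (a : G → ℂ) - (b : G → ℂ) := fun i hi => by
    refine IsGeneralizedCharacter.exists_sub_of_norm_two (hgen i o) ?_ ?_
    · rw [hin, if_pos rfl, if_pos rfl, if_neg hi, if_neg (Ne.symm hi)]; norm_num
    · simp [h1 i o]
  choose a b hab heq using hex
  have hprod : ∀ i j (hi : i ≠ o) (hj : j ≠ o), i ≠ j →
      ((if a i hi = a j hj then (1 : ℤ) else 0) - (if a i hi = b j hj then 1 else 0) -
        ((if b i hi = a j hj then 1 else 0) - (if b i hi = b j hj then 1 else 0))) = 1 := by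
    intro i j hi hj hij
    have h2 := hin i o j o
    rw [heq i hi, heq j hj, classInner_sub_sub_irr, Int.cast_inj, if_neg hij, if_neg hi,
      if_neg (Ne.symm hj), if_pos rfl] at h2
    simpa using h2
  have hcase : (∀ i (hi : i ≠ o), a i hi = a l hlo) ∨ (∀ i (hi : i ≠ o), b i hi = b l hlo) := by
    by_contra hcon
    push Not at hcon
    obtain ⟨⟨i, hi, hia⟩, j, hj, hjb⟩ := hcon
    have hil : i ≠ l := fun h => by subst h; exact hia rfl
    have hjl : j ≠ l := fun h => by subst h; exact hjb rfl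
    have h1' := hprod i l hi hlo hil
    have h2' := hprod j l hj hlo hjl
    rw [if_neg hia] at h1'
    rw [if_neg hjb] at h2'
    have hib : b i hi = b l hlo := by
      by_contra hh; rw [if_neg hh] at h1'; split_ifs at h1' <;> omega
    have hja : a j hj = a l hlo := by
      by_contra hh; rw [if_neg hh] at h2'; split_ifs at h2' <;> omega
    have hij : i ≠ j := fun h => by subst h; exact hia hja
    have h3 := hprod i j hi hj hij
    rw [if_neg (show ¬a i hi = a j hj from hja ▸ hia),
      if_neg (show ¬b i hi = b j hj from fun h => hjb (h.symm.trans hib))] at h3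
    split_ifs at h3 <;> omega
  have hinj : ∀ (ε : ℂ) (θ : Fin n → IrrCharacter G),
      (∀ i j, A i - A j = ε • ((θ i : G → ℂ) - (θ j : G → ℂ))) → Function.Injective θ := by
    intro ε θ hθ i j hij
    by_contra hne
    have h2 := hin i j i j
    rw [if_pos rfl, if_pos rfl, if_neg hne, if_neg (Ne.symm hne), hθ i j, hij, sub_self,
      smul_zero, classInner_zero_left] at h2
    norm_num at h2
  rcases hcase with h | h
  · let θ : Fin n → IrrCharacter G := fun i => if hi : i = o then a l hlo else b i hi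
    have hθ : ∀ i, A i - A o = (-1 : ℂ) • ((θ i : G → ℂ) - (θ o : G → ℂ)) := fun i => by
      by_cases hi : i = o
      · subst hi; simp
      · rw [heq i hi, h i hi]
        simp [θ, hi]
    have hall : ∀ i j, A i - A j = (-1 : ℂ) • ((θ i : G → ℂ) - (θ j : G → ℂ)) := fun i j => by
      rw [← sub_sub_sub_cancel_right (A i) (A j) (A o), hθ i, hθ j, ← smul_sub,
        sub_sub_sub_cancel_right]
    exact ⟨-1, Or.inr rfl, θ, hinj _ θ hall, hall⟩
  · let θ : Fin n → IrrCharacter G := fun i => if hi : i = o then b l hlo else a i hi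
    have hθ : ∀ i, A i - A o = (1 : ℂ) • ((θ i : G → ℂ) - (θ o : G → ℂ)) := fun i => by
      by_cases hi : i = o
      · subst hi; simp
      · rw [heq i hi, h i hi]
        simp [θ, hi]
    have hall : ∀ i j, A i - A j = (1 : ℂ) • ((θ i : G → ℂ) - (θ j : G → ℂ)) := fun i j => by
      rw [← sub_sub_sub_cancel_right (A i) (A j) (A o), hθ i, hθ j, ← smul_sub,
        sub_sub_sub_cancel_right]
    exact ⟨1, Or.inl rfl, θ, hinj _ θ hall, hall⟩

/-- The exceptional characters of a trivial intersection set. -/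
theorem exists_exceptional_ti (S : Set G) (N : Subgroup G)
    (hTI : ∀ g : G, g ∉ N → ∀ s ∈ S, g * s * g⁻¹ ∈ S → s = 1) {n : ℕ} (hn : 2 ≤ n)
    (χ : Fin n → N → ℂ) (hirr : ∀ i, IsIrrCharacter N (χ i)) (hinj : Function.Injective χ)
    (hvan : ∀ i j, ∀ x : N, (x : G) ∉ S → χ i x = χ j x) (hdeg : ∀ i j, χ i 1 = χ j 1) :
    ∃ ε : ℂ, (ε = 1 ∨ ε = -1) ∧ ∃ θ : Fin n → IrrCharacter G, Function.Injective θ ∧
      ∀ i j, indFun N (χ i) - indFun N (χ j) = ε • ((θ i : G → ℂ) - (θ j : G → ℂ)) := by
  classical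
  have hcf : ∀ i, IsClassFunction N (χ i) := fun i =>
    IsCharacter.isClassFunction (IsIrrCharacter.isCharacter (hirr i))
  refine exists_exceptional hn (fun i => indFun N (χ i)) (fun i j => ?_) (fun i j => ?_)
    fun i j k l => ?_
  · exact isGeneralizedCharacter_sub
      (isGeneralizedCharacter_indFun N (IsIrrCharacter.isGeneralized (hirr i)))
      (isGeneralizedCharacter_indFun N (IsIrrCharacter.isGeneralized (hirr j)))
  · rw [indFun_one_apply, indFun_one_apply, hdeg i j]
  · rw [← indFun_sub, ← indFun_sub,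
      classInner_indFun_ti S N hTI (fun g h => by simp [hcf k g h, hcf l g h])
        (fun x hx => by simp [hvan i j x hx]) (fun x hx => by simp [hvan k l x hx])
        (by simp [hdeg i j])]
    have := classInner_sub_sub_irr (G := N) ⟨χ i, hirr i⟩ ⟨χ j, hirr j⟩ ⟨χ k, hirr k⟩ ⟨χ l, hirr l⟩
    rw [this]
    simp only [Subtype.mk.injEq, hinj.eq_iff]

end Cfsg.Agent.Char
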