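import Cfsg.Agent.Lib.Char.CoherenceDescent
import Cfsg.Agent.Lib.Char.CoherenceIrr
import Cfsg.Agent.Lib.Char.FrobeniusKernel
import Cfsg.Agent.Lib.Char.TI
import Mathlib.GroupTheory.Nilpotent

/-!
# Feit's coherence theorem for Frobenius groups
-/

set_option autoImplicit false
set_option linter.style.haveILetI false
set_option linter.unusedSectionVars false

namespace Cfsg.Agent.Char.Feit

open Cfsg Cfsg.Agent.Char Cfsg.Agent.Char.FK
open scoped ComplexConjugate commutatorElement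

universe u v

variable {N : Type u} [Group N] [Fintype N] (H : Subgroup N) [hHn : H.Normal]
  (hC : ∀ h ∈ H, h ≠ 1 → Subgroup.centralizer ({h} : Set N) ≤ H)

include hC

/-- The order of a normal subgroup inside the kernel is congruent to one. -/
theorem card_modEq_one (M : Subgroup N) [hM : M.Normal] (hMH : M ≤ H) :
    Nat.card M ≡ 1 [MOD H.index] := by
  classical
  let S : Finset N := Finset.univ.filter fun x => x ∈ M ∧ x ≠ 1
  have hcard : Nat.card M = S.card + 1 := by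
    rw [Nat.card_eq_fintype_card, Fintype.card_subtype]
    have : (Finset.univ.filter fun x : N => x ∈ M) = insert 1 S := by
      ext x
      simp only [S, Finset.mem_filter, Finset.mem_univ, true_and, Finset.mem_insert]
      by_cases h : x = 1
      · simp [h]
      · simp [h]
    rw [this, Finset.card_insert_of_notMem (by simp [S])]
  have hdvd : H.index ∣ S.card := by
    rw [Finset.card_eq_sum_card_image ConjClasses.mk S]
    refine Finset.dvd_sum fun c hc => ?_
    obtain ⟨x, hx, rfl⟩ := Finset.mem_image.mp hc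
    obtain ⟨-, hxM, hx1⟩ := Finset.mem_filter.mp hx
    have e : (S.filter fun y => ConjClasses.mk y = ConjClasses.mk x) =
        Finset.univ.filter fun y => IsConj x y := by
      ext y
      simp only [S, Finset.mem_filter, Finset.mem_univ, true_and, ConjClasses.mk_eq_mk_iff_isConj]
      refine ⟨fun h => h.2.symm, fun h => ⟨?_, h.symm⟩⟩
      obtain ⟨g, rfl⟩ := isConj_iff.mp h
      exact ⟨hM.conj_mem x hxM g, fun h1 => hx1 (conj_eq_one_iff.mp h1)⟩
    rw [e, ← Fintype.card_subtype, ← Nat.card_eq_fintype_card, card_isConj_eq_index]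
    exact Subgroup.index_dvd_of_le (hC x (hMH hxM) hx1)
  rw [hcard]
  exact ((Nat.modEq_zero_iff_dvd.mpr hdvd).add_right 1)

/-- Relative indices inside the kernel are congruent to one. -/
theorem relIndex_modEq_one (A B : Subgroup N) [A.Normal] [B.Normal] (hAB : A ≤ B) (hBH : B ≤ H) :
    A.relIndex B ≡ 1 [MOD H.index] := by
  have hB := card_modEq_one H hC B hBH
  have hA := card_modEq_one H hC A (hAB.trans hBH)
  have h : A.relIndex B * Nat.card A = Nat.card B := by
    rw [Subgroup.relIndex, ← Nat.card_congr (Subgroup.subgroupOfEquivOfLe hAB).toEquiv,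
      Subgroup.index_mul_card]
  calc A.relIndex B = A.relIndex B * 1 := (mul_one _).symm
    _ ≡ A.relIndex B * Nat.card A [MOD H.index] := (hA.symm).mul_left _
    _ = Nat.card B := h
    _ ≡ 1 [MOD H.index] := hB

theorem succ_le_relIndex (hH : H ≠ ⊤) (A B : Subgroup N) [A.Normal] [B.Normal] (hAB : A < B)
    (hBH : B ≤ H) : H.index + 1 ≤ A.relIndex B := by
  have he : 2 ≤ H.index := by
    have h0 : H.index ≠ 0 := Subgroup.index_ne_zero_of_finite
    have h1 : H.index ≠ 1 := fun h => hH (Subgroup.index_eq_one.mp h)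
    omega
  have h1 : A.relIndex B ≠ 1 := fun h => not_le_of_gt hAB (Subgroup.relIndex_eq_one.mp h)
  have h0 : A.relIndex B ≠ 0 := Subgroup.index_ne_zero_of_finite
  obtain ⟨t, ht⟩ : ∃ t, A.relIndex B = t + 1 := ⟨A.relIndex B - 1, by omega⟩
  have h := relIndex_modEq_one H hC A B hAB.le hBH
  rw [ht] at h ⊢
  have hd : H.index ∣ t := Nat.modEq_zero_iff_dvd.mp (Nat.ModEq.add_right_cancel' 1 (by simpa using h))
  have := Nat.le_of_dvd (by omega) hd
  omega

variable [Fintype H]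

theorem mem_S_of_mem {A : Subgroup N} {φ : N → ℂ} (h : φ ∈ inducedIrrAbove H A) :
    IsIrrCharacter N φ ∧ ∃ k ∈ H, φ k ≠ φ 1 := by
  obtain ⟨θ, hθ, hne, -, he⟩ := h
  have he' : φ = indFun H θ := he.trans (indFun_congr rfl _ _ fun x hx hx' => rfl)
  have hirr : IsIrrCharacter N φ := he' ▸ isIrr_ind H hC hθ hne
  refine ⟨hirr, ?_⟩
  by_contra hcon
  push Not at hcon
  have h1 : classInner (fun k : H => φ k) θ ≠ 0 := by
    intro h0
    have h2 := IsIrrCharacter.classInner_self hirr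
    nth_rw 1 [he'] at h2
    rw [classInner_indFun H θ (IsCharacter.isClassFunction (IsIrrCharacter.isCharacter hirr)),
      ← classInner_conj_symm, h0, map_zero] at h2
    exact zero_ne_one h2
  rw [show (fun k : H => φ k) = φ 1 • (1 : H → ℂ) from funext fun k => by simp [hcon k k.2],
    classInner_smul_left, IsIrrCharacter.classInner_eq_zero isIrrCharacter_one hθ (fun h => hne h.symm),
    mul_zero] at h1
  exact h1 rfl

theorem S_eq : {χ : N → ℂ | IsIrrCharacter N χ ∧ ∃ h ∈ H, χ h ≠ χ 1} = inducedIrrAbove H ⊥ := by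
  ext χ
  refine ⟨fun ⟨hχ, hk⟩ => ?_, fun h => mem_S_of_mem H hC h⟩
  obtain ⟨θ, hθ, hne, he⟩ := exists_eq_ind H hC hχ hk
  exact ⟨θ, hθ, hne, fun a ha => by rw [show a = 1 from Subtype.ext (Subgroup.mem_bot.mp ha)],
    he.symm.trans (indFun_congr rfl _ _ fun x hx hx' => rfl)⟩

variable {G : Type v} [Group G] [Fintype G] {τ : (N → ℂ) → (G → ℂ)}
  (hτ : IsLinearIsometryOn (zspanOn (inducedIrrAbove H ⊥) {1}ᶜ) τ)
  (hτ1 : ∀ α ∈ zspanOn (inducedIrrAbove H ⊥) {1}ᶜ, τ α 1 = 0)

include hτ hτ1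

/-- Characters of one degree are coherent. -/
theorem coherent_equal_degree (T : Finset (N → ℂ)) (hT : ↑T ⊆ inducedIrrAbove H ⊥) (c : ℂ)
    (hc : ∀ φ ∈ T, φ 1 = c) (h2 : 2 ≤ T.card) : IsCoherent (↑T : Set (N → ℂ)) {1}ᶜ τ := by
  classical
  let e := T.equivFin.symm
  let o : Fin T.card := ⟨0, by omega⟩
  let l : Fin T.card := ⟨1, by omega⟩
  let χ : Fin T.card → (N → ℂ) := fun i => (e i).1
  have hχT : ∀ i, χ i ∈ T := fun i => (e i).2
  have hχinj : Function.Injective χ := fun i j h => e.injective (Subtype.ext h)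
  have hirr : ∀ i, IsIrrCharacter N (χ i) := fun i => (mem_S_of_mem H hC (hT (hχT i))).1
  have hc0 : c ≠ 0 := hc _ (hχT o) ▸ IsIrrCharacter.apply_one_ne_zero (hirr o)
  have hm : ∀ i j, χ i - χ j ∈ zspanOnSub (inducedIrrAbove H ⊥) {1}ᶜ := fun i j =>
    mem_zspanOn_compl_one.mpr ⟨Submodule.sub_mem _ (Submodule.subset_span (hT (hχT i)))
      (Submodule.subset_span (hT (hχT j))), by rw [Pi.sub_apply, hc _ (hχT i), hc _ (hχT j), sub_self]⟩
  let A : Fin T.card → (G → ℂ) := fun i => τ (χ i - χ o)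
  have hA : ∀ i j, A i - A j = τ (χ i - χ j) := fun i j => by
    rw [← IsLinearIsometryOn.map_sub (P := zspanOnSub (inducedIrrAbove H ⊥) {1}ᶜ) hτ (hm i o) (hm j o),
      sub_sub_sub_cancel_right]
  have hin : ∀ i j : Fin T.card, classInner (χ i) (χ j) = if i = j then 1 else 0 := fun i j => by
    split_ifs with h
    · rw [h]; exact IsIrrCharacter.classInner_self (hirr j)
    · exact IsIrrCharacter.classInner_eq_zero (hirr i) (hirr j) (fun h' => h (hχinj h'))
  obtain ⟨ε, hε, θ, hθ, hθA⟩ := exists_exceptional h2 A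
    (fun i j => hA i j ▸ hτ.2.2.2 _ (hm i j))
    (fun i j => (hτ1 _ (hm i o)).trans (hτ1 _ (hm j o)).symm)
    (fun i j k l => by
      rw [hA, hA, hτ.2.2.1 _ (hm i j) _ (hm k l), classInner_sub_left, classInner_sub_right,
        classInner_sub_right, hin, hin, hin, hin]
      push_cast
      rfl)
  let T' : (N → ℂ) → (G → ℂ) := fun φ =>
    if h : φ ∈ T then ε • (θ (T.equivFin ⟨φ, h⟩) : G → ℂ) else 0
  have hT' : ∀ i, T' (χ i) = ε • (θ i : G → ℂ) := fun i => by
    simp only [T', dif_pos (hχT i)]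
    rw [show (⟨χ i, hχT i⟩ : T) = e i from rfl, Equiv.apply_symm_apply]
  have hsurj : ∀ φ ∈ T, ∃ i, χ i = φ := fun φ hφ => ⟨T.equivFin ⟨φ, hφ⟩, by simp [χ, e]⟩
  obtain ⟨τ₂, hτ₂, hτ₂T⟩ := exists_isometry_extension (↑T : Set (N → ℂ))
    (fun φ hφ => by
      obtain ⟨i, rfl⟩ := hsurj φ hφ
      rw [hin i i, if_pos rfl]; exact one_ne_zero)
    (fun φ hφ ψ hψ h => IsIrrCharacter.classInner_eq_zero (mem_S_of_mem H hC (hT hφ)).1
      (mem_S_of_mem H hC (hT hψ)).1 h) T'
    (fun φ hφ => by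
      obtain ⟨i, rfl⟩ := hsurj φ hφ
      rw [hT' i]
      rcases hε with rfl | rfl
      · simpa using IsIrrCharacter.isGeneralized (θ i).2
      · simpa using isGeneralizedCharacter_neg (IsIrrCharacter.isGeneralized (θ i).2))
    (fun φ hφ ψ hψ => by
      obtain ⟨i, rfl⟩ := hsurj φ hφ
      obtain ⟨j, rfl⟩ := hsurj ψ hψ
      rw [hT' i, hT' j, classInner_smul_left, classInner_smul_right, classInner_irr, hin]
      by_cases h : i = j
      · subst h; rcases hε with rfl | rfl <;> simp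
      · rw [if_neg (fun h' => h (hθ h')), if_neg h]; simp)
  have hme : χ l - χ o ∈ zspanOn (↑T : Set (N → ℂ)) {1}ᶜ := mem_zspanOn_compl_one.mpr
    ⟨Submodule.sub_mem _ (Submodule.subset_span (hχT l)) (Submodule.subset_span (hχT o)),
      (mem_zspanOn_compl_one.mp (hm l o)).2⟩
  refine ⟨⟨χ l - χ o, hme, fun h => absurd (hχinj (sub_eq_zero.mp h)) (by simp [l, o, Fin.ext_iff])⟩,
    τ₂, hτ₂, fun x hx => ?_⟩
  have hspan : ∀ x ∈ zspan (↑T : Set (N → ℂ)),
      ∃ k : ℤ, x - k • χ o ∈ Submodule.span ℤ (Set.range fun i => χ i - χ o) := by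
    intro x hx
    induction hx using Submodule.span_induction with
    | mem φ hφ =>
      obtain ⟨i, rfl⟩ := hsurj φ hφ
      exact ⟨1, by rw [one_smul]; exact Submodule.subset_span ⟨i, rfl⟩⟩
    | zero => exact ⟨0, by simp⟩
    | add x y _ _ ihx ihy =>
      obtain ⟨a, ha⟩ := ihx
      obtain ⟨b, hb⟩ := ihy
      refine ⟨a + b, ?_⟩
      rw [show x + y - (a + b) • χ o = (x - a • χ o) + (y - b • χ o) by rw [add_smul]; abel]
      exact Submodule.add_mem _ ha hb
    | smul a x _ ih =>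
      obtain ⟨k, hk⟩ := ih
      refine ⟨a * k, ?_⟩
      rw [show a • x - (a * k) • χ o = a • (x - k • χ o) by rw [smul_sub, smul_smul]]
      exact Submodule.smul_mem _ _ hk
  obtain ⟨k, hk⟩ := hspan x hx.1
  have hle : Submodule.span ℤ (Set.range fun i => χ i - χ o) ≤
      zspanOnSub (inducedIrrAbove H ⊥) {1}ᶜ :=
    Submodule.span_le.mpr (by rintro _ ⟨i, rfl⟩; exact hm i o)
  have h1 := (mem_zspanOn_compl_one.mp (hle hk)).2
  rw [Pi.sub_apply, (mem_zspanOn_compl_one.mp hx).2, Pi.smul_apply, zsmul_eq_mul, zero_sub,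
    neg_eq_zero, mul_eq_zero, hc _ (hχT o)] at h1
  rw [Int.cast_eq_zero.mp (h1.resolve_right hc0), zero_smul, sub_zero] at hk
  refine eq_on_span (P := zspanOnSub (inducedIrrAbove H ⊥) {1}ᶜ)
    (Q := Submodule.span ℤ (↑T : Set (N → ℂ))) hτ hτ₂ ?_ ?_ ?_ hk
  · rintro _ ⟨i, rfl⟩; exact hm i o
  · rintro _ ⟨i, rfl⟩
    exact Submodule.sub_mem _ (Submodule.subset_span (hχT i)) (Submodule.subset_span (hχT o))
  · rintro _ ⟨i, rfl⟩
    rw [IsLinearIsometryOn.map_sub (P := Submodule.span ℤ (↑T : Set (N → ℂ))) hτ₂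
      (Submodule.subset_span (hχT i)) (Submodule.subset_span (hχT o)), hτ₂T _ (hχT i),
      hτ₂T _ (hχT o), hT' i, hT' o, ← smul_sub, ← hθA i o, hA]

/-- Adjoining characters one by one. -/
theorem coherent_union_irr (d : (N → ℂ) → ℕ)
    (hd : ∀ φ ∈ inducedIrrAbove H ⊥, φ 1 = (d φ : ℂ)) (S₁ : Finset (N → ℂ))
    (hS₁ : ↑S₁ ⊆ inducedIrrAbove H ⊥) (hcoh : IsCoherent (↑S₁ : Set (N → ℂ)) {1}ᶜ τ)
    {ψ : N → ℂ} (hψ : ψ ∈ S₁) (T : Finset (N → ℂ)) (hT : ↑T ⊆ inducedIrrAbove H ⊥)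
    (hdvd : ∀ χ ∈ T, d ψ ∣ d χ) (hlt : ∀ χ ∈ T, 2 * d ψ * d χ < ∑ ξ ∈ S₁, d ξ ^ 2) :
    ∃ U : Finset (N → ℂ), S₁ ⊆ U ∧ T ⊆ U ∧ ↑U ⊆ inducedIrrAbove H ⊥ ∧
      IsCoherent (↑U : Set (N → ℂ)) {1}ᶜ τ := by
  classical
  induction T using Finset.induction with
  | empty => exact ⟨S₁, le_rfl, Finset.empty_subset _, hS₁, hcoh⟩
  | insert χ T hnot ih =>
    obtain ⟨U, h1, h2, h3, h5⟩ := ih
      (fun φ hφ => hT (Finset.mem_insert_of_mem hφ))
      (fun φ hφ => hdvd φ (Finset.mem_insert_of_mem hφ))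
      (fun φ hφ => hlt φ (Finset.mem_insert_of_mem hφ))
    have hχ : χ ∈ inducedIrrAbove H ⊥ := hT (Finset.mem_insert_self χ T)
    by_cases hc : χ ∈ U
    · exact ⟨U, h1, Finset.insert_subset hc h2, h3, h5⟩
    have hsub : (↑(insert χ U) : Set (N → ℂ)) ⊆ inducedIrrAbove H ⊥ := by
      rw [Finset.coe_insert]; exact Set.insert_subset hχ h3
    refine ⟨insert χ U, h1.trans (Finset.subset_insert _ _), Finset.insert_subset_insert _ h2, hsub,
      coherent_insert_irr U χ (fun ξ hξ => (mem_S_of_mem H hC (h3 hξ)).1) (mem_S_of_mem H hC hχ).1 hc d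
        (fun ξ hξ => hd ξ (hsub hξ)) τ
        ⟨fun a ha b hb => hτ.1 a ⟨zspan_mono hsub ha.1, ha.2⟩ b ⟨zspan_mono hsub hb.1, hb.2⟩,
          fun a ha n => hτ.2.1 a ⟨zspan_mono hsub ha.1, ha.2⟩ n,
          fun a ha b hb => hτ.2.2.1 a ⟨zspan_mono hsub ha.1, ha.2⟩ b ⟨zspan_mono hsub hb.1, hb.2⟩,
          fun a ha => hτ.2.2.2 a ⟨zspan_mono hsub ha.1, ha.2⟩⟩
        (fun a ha => hτ1 a ⟨zspan_mono hsub ha.1, ha.2⟩) h5 ψ (h1 hψ)
        (hdvd χ (Finset.mem_insert_self χ T)) ?_⟩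
    exact lt_of_lt_of_le (hlt χ (Finset.mem_insert_self χ T))
      (Finset.sum_le_sum_of_subset h1)

omit hτ hτ1 in
theorem commutator_pow_mem (B A : Subgroup N) [hB : B.Normal]
    (hAc : ∀ a ∈ A, ∀ x ∈ H, ⁅a, x⁆ ∈ B) {x h : N} (hx : x ∈ H) (hc : ⁅x, h⁆ ∈ A) (m : ℕ) :
    ⁅x ^ m, h⁆ * (⁅x, h⁆ ^ m)⁻¹ ∈ B := by
  rw [← QuotientGroup.eq_one_iff]
  let q : N →* N ⧸ B := QuotientGroup.mk' B
  show q (⁅x ^ m, h⁆ * (⁅x, h⁆ ^ m)⁻¹) = 1
  rw [map_mul, map_inv, map_commutatorElement, map_pow, map_pow, map_commutatorElement,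
    mul_inv_eq_one]
  have hcom : Commute ⁅q x, q h⁆ (q x) := by
    rw [← commutatorElement_eq_one_iff_commute, ← map_commutatorElement, ← map_commutatorElement]
    exact (QuotientGroup.eq_one_iff _).mpr (hAc _ hc x hx)
  induction m with
  | zero => simp [commutatorElement_def]
  | succ m ih =>
    have e : ⁅q x ^ (m + 1), q h⁆ = q x * ⁅q x ^ m, q h⁆ * (q x)⁻¹ * ⁅q x, q h⁆ := by
      simp only [commutatorElement_def, pow_succ', mul_inv_rev]
      group
    rw [e, ih, ← (hcom.pow_left m).eq, mul_inv_cancel_right, pow_succ]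

omit hτ hτ1 in
/-- Two primes in the index of the derived subgroup. -/
theorem derived_split (hH : H ≠ ⊤) (hp : ¬ ∃ p : ℕ, p.Prime ∧ ∃ m : ℕ, Nat.card H = p ^ m)
    (p : ℕ) [Fact p.Prime] :
    (∃ q : ℕ, q.Prime ∧ q ≠ p ∧ q ∣ ⁅H, H⁆.relIndex H) := by
  classical
  haveI := isNilpotent H hC hH
  let P : Sylow p H := default
  haveI : (P : Subgroup H).Normal := inferInstance
  have hne : (P : Subgroup H) ≠ ⊤ := fun h => hp ⟨p, Fact.out, by
    obtain ⟨m, hm⟩ := P.isPGroup'.exists_card_eq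
    exact ⟨m, by rwa [h, Subgroup.card_top] at hm⟩⟩
  haveI : Nontrivial (H ⧸ (P : Subgroup H)) := QuotientGroup.nontrivial_iff.mpr hne
  haveI : Group.IsSolvable (H ⧸ (P : Subgroup H)) := inferInstance
  have hlt := Group.IsSolvable.commutator_lt_top_of_nontrivial (H ⧸ (P : Subgroup H))
  have hi : (commutator (H ⧸ (P : Subgroup H))).index ≠ 1 := fun h => hlt.ne (Subgroup.index_eq_one.mp h)
  obtain ⟨q, hq, hqd⟩ := Nat.exists_prime_and_dvd hi
  have hd1 : (commutator (H ⧸ (P : Subgroup H))).index ∣ (commutator H).index := by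
    have h2 := Subgroup.index_map_dvd (H := commutator H) (f := QuotientGroup.mk' (P : Subgroup H))
      (QuotientGroup.mk'_surjective _)
    rwa [commutator_def, Subgroup.map_commutator,
      Subgroup.map_top_of_surjective _ (QuotientGroup.mk'_surjective _), ← commutator_def] at h2
  have hd2 : q ∣ (P : Subgroup H).index := by
    rw [Subgroup.index_eq_card]
    exact hqd.trans (Subgroup.index_dvd_card _)
  refine ⟨q, hq, fun h => P.not_dvd_index (h ▸ hd2), ?_⟩
  rw [Subgroup.relIndex]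
  have e : (⁅H, H⁆).subgroupOf H = commutator H := by
    apply Subgroup.map_injective H.subtype_injective
    rw [Subgroup.map_subgroupOf_eq_of_le (Subgroup.commutator_le_self H), commutator_def,
      Subgroup.map_commutator, ← MonoidHom.range_eq_map, Subgroup.range_subtype]
  rw [e]
  exact hqd.trans hd1

omit hτ hτ1 in
theorem index_derived_ge (hH : H ≠ ⊤) (hp : ¬ ∃ p : ℕ, p.Prime ∧ ∃ m : ℕ, Nat.card H = p ^ m) :
    (H.index + 1) ^ 2 ≤ ⁅H, H⁆.relIndex H := by
  classical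
  haveI := isNilpotent H hC hH
  obtain ⟨p, hp', -, hpd⟩ := @derived_split _ _ _ H _ hC _ hH hp 2 ⟨Nat.prime_two⟩
  haveI := Fact.mk hp'
  obtain ⟨q, hq, hqp, hqd⟩ := derived_split H hC hH hp p
  let P : Sylow p H := default
  haveI : (P : Subgroup H).Normal := inferInstance
  haveI : (P : Subgroup H).Characteristic := P.characteristic_of_normal inferInstance
  let P' : Subgroup N := (P : Subgroup H).map H.subtype
  haveI : P'.Normal := ConjAct.normal_of_characteristic_of_normal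
  set D := ⁅H, H⁆ with hD
  let X : Subgroup N := D ⊔ P'
  have hDH : D ≤ H := Subgroup.commutator_le_self H
  have hP'H : P' ≤ H := Subgroup.map_subtype_le _
  have hDX : D ≤ X := le_sup_left
  have hXH : X ≤ H := sup_le hDH hP'H
  have hmul : D.relIndex X * X.relIndex H = D.relIndex H := Subgroup.relIndex_mul_relIndex D X H hDX hXH
  have h1 : D.relIndex X ∣ Nat.card P' := by
    have : D.relIndex X = D.relIndex P' := by
      show D.relIndex (D ⊔ P') = _
      rw [sup_comm, Subgroup.relIndex_sup_right]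
    rw [this]
    exact Subgroup.relIndex_dvd_card ..
  obtain ⟨m, hm⟩ := (P.isPGroup'.map H.subtype).exists_card_eq
  have hlt1 : D < X := lt_of_le_of_ne hDX fun h => by
    have hpD : P' ≤ D := by rw [h]; exact le_sup_right
    have h3 : D.relIndex H ∣ P'.relIndex H := Subgroup.relIndex_dvd_of_le_left H hpD
    have h4 : P'.relIndex H = (P : Subgroup H).index := by
      rw [Subgroup.relIndex, Subgroup.subgroupOf, Subgroup.comap_map_eq_self_of_injective H.subtype_injective]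
    exact P.not_dvd_index (hpd.trans (h4 ▸ h3))
  have hlt2 : X < H := lt_of_le_of_ne hXH fun h => by
    have h4 : D.relIndex H ∣ p ^ m := by
      rw [← hm, ← congrArg (fun Y => D.relIndex Y) h]; exact h1
    exact hqp ((Nat.prime_dvd_prime_iff_eq hq hp').mp (hq.dvd_of_dvd_pow (hqd.trans h4)))
  rw [← hmul, sq]
  exact Nat.mul_le_mul (succ_le_relIndex H hC hH D X hlt1 hXH) (succ_le_relIndex H hC hH X H hlt2 le_rfl)

set_option maxHeartbeats 1000000 in
/-- Feit's theorem. -/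
theorem feit_coherence (hH : H ≠ ⊤) (hH1 : H ≠ ⊥) (he : Nat.card H ≠ H.index + 1) :
    IsCoherent (inducedIrrAbove H ⊥) {1}ᶜ τ ∨ ∃ p : ℕ, p.Prime ∧ (∃ m : ℕ, Nat.card H = p ^ m) ∧
      ¬ IsMulCommutative H ∧ (⁅H, H⁆.subgroupOf H).index ≤ 4 * H.index ^ 2 + 1 := by
  classical
  haveI hnil := isNilpotent H hC hH
  haveI : Group.IsSolvable H := inferInstance
  haveI := Fintype.ofFinite (IrrCharacter H)
  set e := H.index with hedef
  set r := ⁅H, H⁆.relIndex H with hrdef
  have he2 : 2 ≤ e := by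
    have h0 : H.index ≠ 0 := Subgroup.index_ne_zero_of_finite
    have h1 : H.index ≠ 1 := fun h => hH (Subgroup.index_eq_one.mp h)
    omega
  have hDlt : ⁅H, H⁆ < H := by
    refine lt_of_le_of_ne (Subgroup.commutator_le_self H) fun h => ?_
    haveI : Nontrivial H := (Subgroup.nontrivial_iff_ne_bot H).mpr hH1
    have hlt := Group.IsSolvable.commutator_lt_top_of_nontrivial H
    apply hlt.ne
    apply Subgroup.map_injective H.subtype_injective
    rw [commutator_def, Subgroup.map_commutator, ← MonoidHom.range_eq_map, Subgroup.range_subtype, h]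
  -- the exceptional alternative
  by_cases hright : ∃ p : ℕ, p.Prime ∧ (∃ m : ℕ, Nat.card H = p ^ m) ∧
      ¬ IsMulCommutative H ∧ (⁅H, H⁆.subgroupOf H).index ≤ 4 * H.index ^ 2 + 1
  · exact Or.inr hright
  left
  have hcases : ⁅H, H⁆ = ⊥ ∨ 4 * e ^ 2 + 1 < r ∨
      ((e + 1) ^ 2 ≤ r ∧ ¬ ∃ p : ℕ, p.Prime ∧ ∃ m : ℕ, Nat.card H = p ^ m) := by
    by_cases h1 : ⁅H, H⁆ = ⊥
    · exact Or.inl h1
    by_cases h2 : 4 * e ^ 2 + 1 < r
    · exact Or.inr (Or.inl h2)
    have h3 : ¬ ∃ p : ℕ, p.Prime ∧ ∃ m : ℕ, Nat.card H = p ^ m := by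
      rintro ⟨p, hp, hm⟩
      refine hright ⟨p, hp, hm, fun hab => h1 ?_, Nat.le_of_not_lt h2⟩
      rw [eq_bot_iff, Subgroup.commutator_le]
      intro x hx y hy
      rw [Subgroup.mem_bot, commutatorElement_eq_one_iff_commute]
      exact congrArg Subtype.val (hab.is_comm.comm (⟨x, hx⟩ : H) ⟨y, hy⟩)
    exact Or.inr (Or.inr ⟨index_derived_ge H hC hH h3, h3⟩)
  have hr1 : e + 1 ≤ r := succ_le_relIndex H hC hH _ H hDlt le_rfl
  have hrbig : e + 1 < r := by
    rcases hcases with h | h | h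
    · have h3 : r = Nat.card H := by rw [hrdef, h, Subgroup.relIndex_bot_left]
      omega
    · nlinarith
    · nlinarith [h.1]
  have hfin : (inducedIrrAbove H ⊥).Finite :=
    finite_of_orthogonal _
      (fun φ hφ => by rw [IsIrrCharacter.classInner_self (mem_S_of_mem H hC hφ).1]; exact one_ne_zero)
      (fun φ hφ ψ hψ h => IsIrrCharacter.classInner_eq_zero (mem_S_of_mem H hC hφ).1 (mem_S_of_mem H hC hψ).1 h)
  choose! d hd using fun φ (hφ : φ ∈ inducedIrrAbove H ⊥) =>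
    IsCharacter.exists_degree (IsIrrCharacter.isCharacter (mem_S_of_mem H hC hφ).1)
  let SA : Subgroup N → Finset (N → ℂ) := fun A =>
    (hfin.subset (inducedIrrAbove_subset_bot H A)).toFinset
  have hSA : ∀ A φ, φ ∈ SA A ↔ φ ∈ inducedIrrAbove H A := fun A φ => Set.Finite.mem_toFinset _
  have hSAc : ∀ A, (↑(SA A) : Set (N → ℂ)) = inducedIrrAbove H A := fun A => Set.Finite.coe_toFinset _
  have hSAsub : ∀ A, (↑(SA A) : Set (N → ℂ)) ⊆ inducedIrrAbove H ⊥ := fun A =>
    (hSAc A).le.trans (inducedIrrAbove_subset_bot H A)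
  have hsum : ∀ A : Subgroup N, A.Normal → ∑ ξ ∈ SA A, d ξ ^ 2 = e * (A.relIndex H - 1) := by
    intro A hA
    haveI := hA
    have h := sum_sq_div_norm H A (SA A) (hSA A) d (fun _ => 1)
      (fun φ hφ => hd φ (hSAsub A hφ))
      (fun φ hφ => by rw [IsIrrCharacter.classInner_self (mem_S_of_mem H hC (hSAsub A hφ)).1, Nat.cast_one])
    have hr0 : 1 ≤ A.relIndex H := Nat.one_le_iff_ne_zero.mpr Subgroup.index_ne_zero_of_finite
    simp only [Nat.cast_one, div_one] at h
    rw [← Nat.cast_one (R := ℝ), ← Nat.cast_sub hr0] at h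
    exact_mod_cast h
  -- linear characters
  have hlin : ∀ φ ∈ SA ⁅H, H⁆, d φ = e := by
    intro φ hφ
    obtain ⟨θ, hθ, -, hker, hee⟩ := (hSA _ φ).mp hφ
    have h1 : θ 1 = 1 := IsIrrCharacter.degree_one_of_commutator_ker hθ fun a b =>
      hker _ (by simpa [commutatorElement_def] using Subgroup.commutator_mem_commutator a.2 b.2)
    have h2 := hd φ (hSAsub _ hφ)
    rw [congrFun hee 1, indFun_one_apply, h1, mul_one] at h2
    exact_mod_cast h2.symm
  have hbase : IsCoherent (inducedIrrAbove H ⁅H, H⁆) {1}ᶜ τ := by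
    rw [← hSAc]
    refine coherent_equal_degree H hC hτ hτ1 _ (hSAsub _) (e : ℂ)
      (fun φ hφ => by rw [hd φ (hSAsub _ hφ), hlin φ hφ]) ?_
    have h := hsum ⁅H, H⁆ inferInstance
    rw [Finset.sum_congr rfl fun φ hφ => by rw [hlin φ hφ], Finset.sum_const, smul_eq_mul] at h
    have h' : (SA ⁅H, H⁆).card * e = r - 1 :=
      Nat.eq_of_mul_eq_mul_left (show 0 < e by omega) (by rw [← h]; ring)
    by_contra hh
    have : (SA ⁅H, H⁆).card * e ≤ 1 * e := Nat.mul_le_mul_right e (by omega)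
    omega
  obtain ⟨A, ⟨hAn, hAD, hAc⟩, hAmin⟩ := (Set.toFinite {A : Subgroup N | A.Normal ∧ A ≤ ⁅H, H⁆ ∧
    IsCoherent (inducedIrrAbove H A) {1}ᶜ τ}).exists_minimal ⟨⁅H, H⁆, inferInstance, le_rfl, hbase⟩
  haveI := hAn
  rcases eq_or_ne A ⊥ with hA0 | hA0
  · rwa [hA0] at hAc
  exfalso
  have hAH : A ≤ H := hAD.trans hDlt.le
  obtain ⟨B, ⟨hBn, hBA⟩, hBmax⟩ := (Set.toFinite {B : Subgroup N | B.Normal ∧ B < A}).exists_maximal
    ⟨⊥, inferInstance, bot_lt_iff_ne_bot.mpr hA0⟩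
  haveI := hBn
  have hcent : ⁅A, H⁆ ≤ B := by
    have hle : ⁅A, H⁆ ⊔ B ≤ A := sup_le (Subgroup.commutator_le_left A H) hBA.le
    rcases eq_or_lt_of_le hle with heq | hlt'
    · exfalso
      obtain ⟨c, hc⟩ := Subgroup.nilpotent_iff_lowerCentralSeries.mp hnil
      have hind : ∀ k, A ≤ ((Subgroup.lowerCentralSeries (⊤ : Subgroup H) k)).map H.subtype ⊔ B := by
        intro k
        induction k with
        | zero =>
          refine le_sup_of_le_left ?_
          rw [Subgroup.lowerCentralSeries_zero, ← MonoidHom.range_eq_map, Subgroup.range_subtype]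
          exact hAH
        | succ k ih =>
          conv_lhs => rw [← heq]
          refine sup_le ?_ le_sup_right
          refine (Subgroup.commutator_mono ih le_rfl).trans ?_
          rw [Subgroup.commutator_le]
          intro x hx y hy
          obtain ⟨u, hu, v, hv, rfl⟩ := Subgroup.mem_sup_of_normal_right.mp hx
          have e2 : ⁅u * v, y⁆ = u * ⁅v, y⁆ * u⁻¹ * ⁅u, y⁆ := by simp [commutatorElement_def]; group
          rw [e2]
          refine Subgroup.mul_mem _ (Subgroup.mem_sup_right ?_) (Subgroup.mem_sup_left ?_)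
          · exact hBn.conj_mem _ (Subgroup.commutator_le_left B ⊤
              (Subgroup.commutator_mem_commutator hv (Subgroup.mem_top y))) u
          · obtain ⟨u', hu', rfl⟩ := hu
            refine ⟨⁅u', (⟨y, hy⟩ : H)⁆, ?_, map_commutatorElement _ _ _⟩
            rw [SetLike.mem_coe, Subgroup.lowerCentralSeries_succ]
            exact Subgroup.commutator_mem_commutator hu' (Subgroup.mem_top _)
      have h1 := hind c
      rw [hc, Subgroup.map_bot, bot_sup_eq] at h1
      exact not_le_of_gt hBA h1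
    · exact le_sup_left.trans (hBmax ⟨inferInstance, hlt'⟩ le_sup_right)
  set x := A.relIndex H with hxdef
  have hxmul : A.relIndex ⁅H, H⁆ * r = x := Subgroup.relIndex_mul_relIndex A ⁅H, H⁆ H hAD hDlt.le
  -- a bound on the degrees
  obtain ⟨s, hs, hdeg⟩ : ∃ s : ℕ, 4 * e ^ 2 * s < (x - 1) ^ 2 ∧ ∀ θ : H → ℂ, IsIrrCharacter H θ →
      (∀ b : H, (b : N) ∈ B → θ b = θ 1) → ∀ f : ℕ, θ 1 = f → f ^ 2 ≤ s := by
    have hgen : ∀ D : Subgroup N, B ≤ D → D ≤ H → (∀ z ∈ D, ∀ h ∈ H, ⁅z, h⁆ ∈ B) →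
        ∀ θ : H → ℂ, IsIrrCharacter H θ → (∀ b : H, (b : N) ∈ B → θ b = θ 1) →
          ∀ f : ℕ, θ 1 = f → f ^ 2 ≤ D.relIndex H := by
      intro D hBD hDH hDc θ hθ hker f hf
      have h1 := degree_sq_le_of_central (B.subgroupOf H) ⊤ (D.subgroupOf H)
        (fun z hz => Subgroup.mem_subgroupOf.mpr (hBD (Subgroup.mem_subgroupOf.mp hz))) le_top
        (fun z hz y _ => Subgroup.mem_subgroupOf.mpr (by
          simpa [commutatorElement_def] using hDc z (Subgroup.mem_subgroupOf.mp hz) y y.2))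
        hθ (fun b hb => hker b (Subgroup.mem_subgroupOf.mp hb)) hf
      rwa [Subgroup.index_top, one_pow, one_mul, Subgroup.relIndex_top_right] at h1
    by_cases hbig : 4 * e ^ 2 + 2 ≤ x
    · refine ⟨x, ?_, hgen A hBA.le hAH fun z hz h hh => hcent (Subgroup.commutator_mem_commutator hz hh)⟩
      generalize x = X at hbig ⊢
      obtain ⟨y, rfl⟩ : ∃ y, X = y + 1 := ⟨X - 1, by omega⟩
      rw [Nat.add_sub_cancel]
      nlinarith
    -- small index: the bottom layer
    have hAeq : A = ⁅H, H⁆ := by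
      rcases eq_or_lt_of_le hAD with h | h
      · exact h
      exfalso
      have h1 := succ_le_relIndex H hC hH A ⁅H, H⁆ h hDlt.le
      have h2 : (e + 1) * r ≤ x := hxmul ▸ Nat.mul_le_mul_right r h1
      rcases hcases with h3 | h3 | h3
      · rw [h3] at h; exact not_lt_bot h
      · nlinarith
      · have h4 := h3.1
        have h5 : (e + 1) * (e + 1) ^ 2 ≤ x := (Nat.mul_le_mul_left _ h4).trans h2
        nlinarith
    have hxr : x = r := by rw [hxdef, hAeq]
    have hnp : (e + 1) ^ 2 ≤ r ∧ ¬ ∃ p : ℕ, p.Prime ∧ ∃ m : ℕ, Nat.card H = p ^ m := by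
      rcases hcases with h3 | h3 | h3
      · exact absurd (eq_bot_iff.mpr (h3 ▸ hAD)) hA0
      · omega
      · exact h3
    -- the prime of the factor
    obtain ⟨p, hp, hpd⟩ := Nat.exists_prime_and_dvd
      (show B.relIndex A ≠ 1 from fun h => not_le_of_gt hBA (Subgroup.relIndex_eq_one.mp h))
    haveI := Fact.mk hp
    have hr0 : r ≠ 0 := by omega
    let m := ordCompl[p] r
    let D : Subgroup N :=
      { carrier := {z | z ∈ H ∧ z ^ m ∈ A}
        one_mem' := ⟨H.one_mem, by rw [one_pow]; exact A.one_mem⟩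
        mul_mem' := fun {a b} ⟨ha, ha'⟩ ⟨hb, hb'⟩ => ⟨H.mul_mem ha hb, by
          rw [← QuotientGroup.eq_one_iff, QuotientGroup.mk_pow, QuotientGroup.mk_mul]
          have hcm : Commute (a : N ⧸ A) (b : N ⧸ A) := by
            rw [← commutatorElement_eq_one_iff_commute]
            exact (QuotientGroup.eq_one_iff ⁅a, b⁆).mpr (hAeq ▸ Subgroup.commutator_mem_commutator ha hb)
          rw [hcm.mul_pow, ← QuotientGroup.mk_pow, ← QuotientGroup.mk_pow,
            (QuotientGroup.eq_one_iff _).mpr ha', (QuotientGroup.eq_one_iff _).mpr hb', one_mul]⟩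
        inv_mem' := fun {a} ⟨ha, ha'⟩ => ⟨H.inv_mem ha, by rw [inv_pow]; exact A.inv_mem ha'⟩ }
    have hDn : D.Normal := ⟨fun z ⟨hz, hz'⟩ g => ⟨hHn.conj_mem z hz g, by
      rw [conj_pow]; exact hAn.conj_mem _ hz' g⟩⟩
    haveI := hDn
    have hAD' : A ≤ D := fun z hz => ⟨hAH hz, A.pow_mem hz m⟩
    have hDH : D ≤ H := fun z hz => hz.1
    have hADlt : A < D := by
      obtain ⟨q, hq, hqp, hqd⟩ := derived_split H hC hH hnp.2 p
      haveI := Fact.mk hq
      haveI : (A.subgroupOf H).Normal := Subgroup.normal_subgroupOf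
      have hqc : q ∣ Nat.card (H ⧸ A.subgroupOf H) := by
        rw [← Subgroup.index_eq_card]
        rw [hAeq]; exact hqd
      obtain ⟨w, hw⟩ := exists_prime_orderOf_dvd_card' q hqc
      obtain ⟨z, rfl⟩ := QuotientGroup.mk'_surjective _ w
      have hqm : q ∣ m := by
        have h7 : q ∣ ordProj[p] r * m := by rw [Nat.ordProj_mul_ordCompl_eq_self]; exact hqd
        exact (((Nat.coprime_primes hq hp).mpr hqp).pow_right _).dvd_of_dvd_mul_left h7
      refine lt_of_le_of_ne hAD' fun h => ?_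
      have hzD : (z : N) ∈ D := ⟨z.2, by
        have h7 : (QuotientGroup.mk' (A.subgroupOf H) z) ^ m = 1 :=
          orderOf_dvd_iff_pow_eq_one.mp (hw ▸ hqm)
        rw [← map_pow] at h7
        have h8 := Subgroup.mem_subgroupOf.mp ((QuotientGroup.eq_one_iff _).mp h7)
        simpa using h8⟩
      rw [← h] at hzD
      rw [show QuotientGroup.mk' (A.subgroupOf H) z = 1 from
        (QuotientGroup.eq_one_iff _).mpr (Subgroup.mem_subgroupOf.mpr hzD), orderOf_one] at hw
      exact hq.one_lt.ne hw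
    have hDc : ∀ z ∈ D, ∀ h ∈ H, ⁅z, h⁆ ∈ B := by
      intro z hz h hh
      have hcA : ⁅z, h⁆ ∈ A := hAeq ▸ Subgroup.commutator_mem_commutator hz.1 hh
      have h1 := commutator_pow_mem H hC B A (fun a ha y hy =>
        hcent (Subgroup.commutator_mem_commutator ha hy)) hz.1 hcA m
      have h2 : ⁅z ^ m, h⁆ ∈ B := hcent (Subgroup.commutator_mem_commutator hz.2 hh)
      have h3 : ⁅z, h⁆ ^ m ∈ B := by
        have h4 := B.mul_mem (B.inv_mem h1) h2
        rwa [mul_inv_rev, inv_inv, inv_mul_cancel_right] at h4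
      -- the factor is a `p`-group
      let Mp : Subgroup N :=
        { carrier := {u | u ∈ A ∧ ∃ k : ℕ, u ^ (p ^ k) ∈ B}
          one_mem' := ⟨A.one_mem, 0, by simp [B.one_mem]⟩
          mul_mem' := fun {a b} ⟨ha, i, hi⟩ ⟨hb, j, hj⟩ => ⟨A.mul_mem ha hb, i + j, by
            rw [← QuotientGroup.eq_one_iff, QuotientGroup.mk_pow, QuotientGroup.mk_mul]
            have hcm : Commute (a : N ⧸ B) (b : N ⧸ B) := by
              rw [← commutatorElement_eq_one_iff_commute]
              exact (QuotientGroup.eq_one_iff ⁅a, b⁆).mpr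
                (hcent (Subgroup.commutator_mem_commutator ha (hAH hb)))
            rw [hcm.mul_pow, ← QuotientGroup.mk_pow, ← QuotientGroup.mk_pow]
            rw [(QuotientGroup.eq_one_iff (a ^ p ^ (i + j))).mpr (by
              rw [pow_add, pow_mul]; exact B.pow_mem hi _),
              (QuotientGroup.eq_one_iff (b ^ p ^ (i + j))).mpr (by
              rw [pow_add, mul_comm, pow_mul]; exact B.pow_mem hj _), one_mul]⟩
          inv_mem' := fun {a} ⟨ha, i, hi⟩ => ⟨A.inv_mem ha, i, by rw [inv_pow]; exact B.inv_mem hi⟩ }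
      have hMn : Mp.Normal := ⟨fun u ⟨hu, k, hk⟩ g => ⟨hAn.conj_mem u hu g, k, by
        rw [conj_pow]; exact hBn.conj_mem _ hk g⟩⟩
      have hMpA : Mp = A := by
        by_contra hne
        have hlt : Mp < A := lt_of_le_of_ne (fun u hu => hu.1) hne
        have hBM : B ≤ Mp := fun u hu => ⟨hBA.le hu, 0, by simpa using hu⟩
        have hMB : Mp ≤ B := hBmax ⟨hMn, hlt⟩ hBM
        have hpc : p ∣ Nat.card (A ⧸ B.subgroupOf A) := by rw [← Subgroup.index_eq_card]; exact hpd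
        haveI : (B.subgroupOf A).Normal := Subgroup.normal_subgroupOf
        obtain ⟨w, hw⟩ := exists_prime_orderOf_dvd_card' p hpc
        obtain ⟨u, rfl⟩ := QuotientGroup.mk'_surjective _ w
        have hu : (u : N) ∈ B := hMB ⟨u.2, 1, by
          have h7 := pow_orderOf_eq_one (QuotientGroup.mk' (B.subgroupOf A) u)
          rw [hw, ← map_pow] at h7
          rw [pow_one]
          simpa using Subgroup.mem_subgroupOf.mp ((QuotientGroup.eq_one_iff _).mp h7)⟩
        rw [show QuotientGroup.mk' (B.subgroupOf A) u = 1 from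
          (QuotientGroup.eq_one_iff _).mpr (Subgroup.mem_subgroupOf.mpr hu), orderOf_one] at hw
        exact hp.one_lt.ne hw
      obtain ⟨-, k, hk⟩ := (hMpA.ge hcA : ⁅z, h⁆ ∈ Mp)
      rw [← QuotientGroup.eq_one_iff, ← orderOf_eq_one_iff]
      refine Nat.eq_one_of_dvd_coprimes ((Nat.coprime_ordCompl hp hr0).pow_left k)
        (orderOf_dvd_of_pow_eq_one ?_) (orderOf_dvd_of_pow_eq_one ?_)
      · rw [← QuotientGroup.mk_pow]; exact (QuotientGroup.eq_one_iff _).mpr hk
      · rw [← QuotientGroup.mk_pow]; exact (QuotientGroup.eq_one_iff _).mpr h3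
    refine ⟨D.relIndex H, ?_, hgen D (hBA.le.trans hAD') hDH hDc⟩
    have h1 := succ_le_relIndex H hC hH A D hADlt hDH
    have h2 : A.relIndex D * D.relIndex H = x := Subgroup.relIndex_mul_relIndex A D H hAD' hDH
    have h3 : (e + 1) * D.relIndex H ≤ x := h2 ▸ Nat.mul_le_mul_right _ h1
    have hx2 : (e + 1) ^ 2 ≤ x := hxr ▸ hnp.1
    clear_value x
    refine Nat.lt_of_mul_lt_mul_left (a := e + 1) ?_
    have h4 : (e + 1) * (4 * e ^ 2 * D.relIndex H) ≤ 4 * e ^ 2 * x := by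
      have := Nat.mul_le_mul_left (4 * e ^ 2) h3
      linarith
    refine lt_of_le_of_lt h4 ?_
    obtain ⟨y, rfl⟩ : ∃ y, x = y + 1 :=
      ⟨x - 1, by have h9 : 1 ≤ (e + 1) ^ 2 := Nat.one_le_pow _ _ (by omega); omega⟩
    rw [Nat.add_sub_cancel]
    -- `4 e² (y + 1) < (e + 1) y²`
    have hy : e ^ 2 + 2 * e ≤ y := by nlinarith
    have h5 : 4 * e ^ 2 + 8 ≤ (e + 1) * y := by
      nlinarith [Nat.mul_le_mul_left (e + 1) hy, Nat.mul_le_mul_left (e ^ 2) he2]
    have h6 := Nat.mul_le_mul_right y h5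
    nlinarith
  -- adjoin the characters over `B`
  obtain ⟨ψ, hψ⟩ : (SA ⁅H, H⁆).Nonempty := by
    rw [Finset.nonempty_iff_ne_empty]
    intro h0
    have h := hsum ⁅H, H⁆ inferInstance
    rw [h0, Finset.sum_empty] at h
    rcases Nat.mul_eq_zero.mp h.symm with h1 | h1 <;> omega
  have hψA : ψ ∈ SA A := by
    obtain ⟨θ, hθ, hne, hker, hee⟩ := (hSA _ ψ).mp hψ
    exact (hSA A ψ).mpr ⟨θ, hθ, hne, fun a ha => hker a (hAD ha), hee⟩
  obtain ⟨U, -, h2, -, h5⟩ := coherent_union_irr H hC hτ hτ1 d hd (SA A) (hSAsub A)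
    (by rw [hSAc]; exact hAc) hψA (SA B) (hSAsub B) (fun χ hχ => by
      obtain ⟨θ, hθ, -, -, hee⟩ := (hSA B χ).mp hχ
      obtain ⟨f, -, hf⟩ := IsIrrCharacter.degree_pos hθ
      have h2 := hd χ (hSAsub B hχ)
      rw [congrFun hee 1, indFun_one_apply, hf, ← Nat.cast_mul] at h2
      rw [hlin ψ hψ, ← Nat.cast_inj.mp h2]
      exact dvd_mul_right _ _) (fun χ hχ => by
      obtain ⟨θ, hθ, -, hker, hee⟩ := (hSA B χ).mp hχ
      obtain ⟨f, -, hf⟩ := IsIrrCharacter.degree_pos hθ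
      have h2 := hd χ (hSAsub B hχ)
      rw [congrFun hee 1, indFun_one_apply, hf, ← Nat.cast_mul] at h2
      rw [hlin ψ hψ, ← Nat.cast_inj.mp h2, hsum A hAn]
      have h3 : (2 * e * f) ^ 2 < (x - 1) ^ 2 := by
        refine lt_of_le_of_lt ?_ hs
        calc (2 * e * f) ^ 2 = 4 * e ^ 2 * f ^ 2 := by ring
          _ ≤ _ := Nat.mul_le_mul_left _ (hdeg θ hθ hker f hf)
      have h4 : 2 * e * f < x - 1 := lt_of_pow_lt_pow_left₀ 2 (Nat.zero_le _) h3
      calc 2 * e * (e * f) = e * (2 * e * f) := by ring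
        _ < e * (x - 1) := Nat.mul_lt_mul_of_pos_left h4 (by omega))
  refine hBA.not_ge (hAmin ⟨hBn, hBA.le.trans hAD, ?_⟩ hBA.le)
  rw [← hSAc B]
  refine isCoherent_mono h2 h5 ?_
  obtain ⟨⟨α, hα, hne⟩, -⟩ := hbase
  refine ⟨α, ⟨zspan_mono (fun φ hφ => ?_) hα.1, hα.2⟩, hne⟩
  obtain ⟨θ, hθ, hne', hker, hee⟩ := hφ
  exact (hSA B φ).mpr ⟨θ, hθ, hne', fun a ha => hker a ((hBA.le.trans hAD) ha), hee⟩

end Cfsg.Agent.Char.Feit
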