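import Cfsg.Agent.Lib.Char.FpfLift

/-!
Fixed point free representations over a field of characteristic zero.
-/

set_option autoImplicit false
set_option linter.style.haveILetI false
set_option linter.unusedSectionVars false

namespace Cfsg.Agent.Char.FpfLift

open MonoidAlgebra Finset

variable {G : Type*} [Group G] [Finite G] {K : Type*} [Field K] [CharZero K]

theorem one_not_mem_charZero (hG : FpfData G) : (1 : MonoidAlgebra K G) ∉ normIdeal K G := by
  intro h1
  obtain ⟨π, hπ⟩ := LinearMap.exists_leftInverse_of_injective (Algebra.linearMap ℚ K)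
    (LinearMap.ker_eq_bot.2 (algebraMap ℚ K).injective)
  have hπ1 : π 1 = 1 := by
    have := LinearMap.congr_fun hπ 1
    simpa using this
  let ι : MonoidAlgebra ℤ G →+* MonoidAlgebra ℚ G := mapRingHom G (Int.castRingHom ℚ)
  let P : MonoidAlgebra K G → Prop := fun x =>
    ∃ n : ℕ, n ≠ 0 ∧ ∃ y ∈ normIdeal ℤ G, ι y = n • MonoidAlgebra.map π.toAddMonoidHom x
  have hadd : ∀ u v, P u → P v → P (u + v) := by
    rintro u v ⟨n, hn, y, hy, e⟩ ⟨n', hn', y', hy', e'⟩
    refine ⟨n * n', Nat.mul_ne_zero hn hn', n' • y + n • y',
      add_mem (nsmul_mem hy _) (nsmul_mem hy' _), ?_⟩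
    rw [map_add, map_nsmul, map_nsmul, e, e', MonoidAlgebra.map_add, smul_add, ← mul_smul,
      ← mul_smul, mul_comm n' n]
  have hzero : P 0 := ⟨1, one_ne_zero, 0, zero_mem _, by simp⟩
  have hgen : ∀ g : G, g ≠ 1 → ∀ (k h : G) (a : K),
      P (single k (1 : K) * nsum K g * single h a) := by
    intro g hg k h a
    refine ⟨(π a).den, (π a).den_nz, single k 1 * (nsum ℤ g * single h (π a).num),
      Ideal.mul_mem_left _ _ (mem_normIdeal hg _), ?_⟩
    have e : MonoidAlgebra.map π.toAddMonoidHom (single k (1 : K) * nsum K g * single h a) =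
        single k 1 * nsum ℚ g * single h (π a) := by
      simp only [nsum, mul_sum, sum_mul, single_mul_single, one_mul, MonoidAlgebra.map_sum,
        MonoidAlgebra.map_single]
      rfl
    rw [e, map_mul, map_mul, map_nsum, ← mul_assoc, ← mul_smul_comm]
    congr 1
    · simp [ι]
    · rw [show ι (single h (π a).num) = single h ((π a).num : ℚ) by simp [ι], MonoidAlgebra.smul_single,
        nsmul_eq_mul, mul_comm, Rat.mul_den_eq_num]
  have hx : ∀ x ∈ normIdeal K G, ∀ w, P (w * x) := by
    intro x hx
    induction hx using Submodule.span_induction with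
    | mem x hx =>
      obtain ⟨g, hg, y, rfl⟩ := hx
      intro w
      induction w using MonoidAlgebra.induction_linear with
      | zero => rw [zero_mul]; exact hzero
      | add u v hu hv => rw [add_mul]; exact hadd _ _ hu hv
      | single k c =>
        induction y using MonoidAlgebra.induction_linear with
        | zero => rw [mul_zero, mul_zero]; exact hzero
        | add u v hu hv => rw [mul_add, mul_add]; exact hadd _ _ hu hv
        | single h a =>
          have : single k c * (nsum K g * single h a) =
              single k (1 : K) * nsum K g * single h (c * a) := by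
            simp only [nsum, mul_sum, sum_mul, single_mul_single, one_mul, mul_one, mul_assoc]
          rw [this]
          exact hgen g hg k h _
    | zero => intro w; rw [mul_zero]; exact hzero
    | add x y _ _ hx hy => intro w; rw [mul_add]; exact hadd _ _ (hx w) (hy w)
    | smul a x _ hx => intro w; rw [smul_eq_mul, ← mul_assoc]; exact hx _
  obtain ⟨n, hn, y, hy, e⟩ := hx 1 h1 1
  rw [one_mul, one_def, MonoidAlgebra.map_single,
    show π.toAddMonoidHom 1 = (1 : ℚ) from hπ1, ← one_def, nsmul_one] at e
  have hy' : y = (n : MonoidAlgebra ℤ G) := by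
    obtain ⟨z, hz⟩ := kernel_eq 0 (Int.castRingHom ℚ)
      (fun a ha => ⟨0, by rw [zero_smul]; exact Int.cast_eq_zero.1 ha⟩)
      (x := y - (n : MonoidAlgebra ℤ G))
      (by rw [map_sub, show mapRingHom G (Int.castRingHom ℚ) y = _ from e, map_natCast, sub_self])
    rwa [zero_smul, sub_eq_zero] at hz
  exact hG n hn (hy' ▸ hy)

theorem exists_irreducible (hG : FpfData G) :
    ∃ (n : ℕ) (ρ : G →* GL (Fin n) K), 0 < n ∧ Function.Injective ρ ∧
      (∀ W : Submodule K (Fin n → K),
        (∀ g : G, ∀ w ∈ W, ((ρ g : GL (Fin n) K) : Matrix (Fin n) (Fin n) K).mulVec w ∈ W) →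
          W = ⊥ ∨ W = ⊤) ∧
      ∀ g : G, g ≠ 1 → ∀ v : Fin n → K,
        ((ρ g : GL (Fin n) K) : Matrix (Fin n) (Fin n) K).mulVec v = v → v = 0 := by
  classical
  haveI := Fintype.ofFinite G
  obtain ⟨m, hm, hle⟩ := Ideal.exists_le_maximal (normIdeal K G)
    (fun e => one_not_mem_charZero hG (e ▸ Submodule.mem_top))
  let M := MonoidAlgebra K G ⧸ m
  haveI : Module.Finite K M :=
    Module.Finite.of_surjective (m.mkQ.restrictScalars K) m.mkQ_surjective
  haveI : Nontrivial M := Submodule.Quotient.nontrivial_iff.2 hm.ne_top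
  let b := Module.finBasis K M
  let n := Module.finrank K M
  let ρ₀ : G →* Matrix (Fin n) (Fin n) K :=
    (((LinearMap.toMatrixAlgEquiv b).toAlgHom.comp (Algebra.lsmul K K M)).toMonoidHom).comp
      (MonoidAlgebra.of K G)
  have hρ : ∀ (g : G) (v : M), (ρ₀ g).mulVec (b.equivFun v) =
      b.equivFun (single g (1 : K) • v) := by
    intro g v
    have := LinearMap.toMatrix_mulVec_repr b b (Algebra.lsmul K K M (single g (1 : K))) v
    exact this
  have hfix : ∀ g : G, g ≠ 1 → ∀ v : Fin n → K, (ρ₀ g).mulVec v = v → v = 0 := by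
    intro g hg v hv
    obtain ⟨w, rfl⟩ := b.equivFun.surjective v
    rw [hρ] at hv
    replace hv := b.equivFun.injective hv
    obtain ⟨x, rfl⟩ := Submodule.Quotient.mk_surjective _ w
    have h1 : ∀ i : ℕ, single (g ^ i) (1 : K) • (Submodule.Quotient.mk x : M) =
        Submodule.Quotient.mk x := by
      intro i
      induction i with
      | zero => rw [pow_zero, ← one_def, one_smul]
      | succ i ih =>
        rw [pow_succ, show single (g ^ i * g) (1 : K) = single (g ^ i) 1 * single g 1 by
          rw [single_mul_single, one_mul], mul_smul, hv, ih]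
    have h2 : nsum K g • (Submodule.Quotient.mk x : M) = orderOf g • (Submodule.Quotient.mk x) := by
      rw [nsum, sum_smul, sum_congr rfl (fun i _ => h1 i), sum_const, card_range]
    rw [← Submodule.Quotient.mk_smul, smul_eq_mul, (Submodule.Quotient.mk_eq_zero m).2 (hle (mem_normIdeal hg x)),
      ← Nat.cast_smul_eq_nsmul K] at h2
    rw [(smul_eq_zero.1 h2.symm).resolve_left (Nat.cast_ne_zero.2 (orderOf_pos g).ne'), map_zero]
  have hn : 0 < n := Module.finrank_pos
  refine ⟨n, ρ₀.toHomUnits, hn, ?_, ?_, fun g hg v hv => hfix g hg v hv⟩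
  · refine (injective_iff_map_eq_one _).2 fun g hg => by_contra fun hne => ?_
    have h0 := hfix g hne (fun _ => 1) (by
      have e := congrArg Units.val hg
      rw [MonoidHom.coe_toHomUnits, Units.val_one] at e
      rw [e, Matrix.one_mulVec])
    exact one_ne_zero (congrFun h0 ⟨0, hn⟩)
  · intro W hW
    let e : MonoidAlgebra K G →ₗ[K] (Fin n → K) :=
      b.equivFun.toLinearMap.comp (m.mkQ.restrictScalars K)
    have hmul : ∀ a x : MonoidAlgebra K G, e x ∈ W → e (a * x) ∈ W := by
      intro a x hx
      induction a using MonoidAlgebra.induction_linear with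
      | zero => rw [zero_mul, map_zero]; exact zero_mem _
      | add u v hu hv => rw [add_mul, map_add]; exact add_mem hu hv
      | single g c =>
        have h1 : single g c * x = c • (single g (1 : K) * x) := by
          rw [← smul_mul_assoc, MonoidAlgebra.smul_single, smul_eq_mul, mul_one]
        rw [h1, map_smul]
        refine W.smul_mem c ?_
        have h2 := hW g _ hx
        rw [MonoidHom.coe_toHomUnits] at h2
        rw [show e x = b.equivFun (Submodule.Quotient.mk x : M) from rfl, hρ] at h2
        exact h2
    let U : Ideal (MonoidAlgebra K G) :=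
      { carrier := {x | e x ∈ W}
        add_mem' := fun {x y} hx hy => by
          show e (x + y) ∈ W
          rw [map_add]; exact add_mem hx hy
        zero_mem' := by show e 0 ∈ W; rw [map_zero]; exact zero_mem _
        smul_mem' := fun a x hx => hmul a x hx }
    have he : ∀ x ∈ m, e x = 0 := fun x hx => by
      show b.equivFun (Submodule.Quotient.mk x : M) = 0
      rw [(Submodule.Quotient.mk_eq_zero m).2 hx, map_zero]
    have hsur : ∀ w, ∃ x, e x = w := fun w => by
      obtain ⟨x, hx⟩ := Submodule.Quotient.mk_surjective m (b.equivFun.symm w)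
      exact ⟨x, by show b.equivFun (Submodule.Quotient.mk x : M) = w; rw [hx, LinearEquiv.apply_symm_apply]⟩
    rcases eq_or_lt_of_le (show m ≤ U from fun x hx => show e x ∈ W by rw [he x hx]; exact zero_mem _)
      with h | h
    · refine Or.inl ((Submodule.eq_bot_iff _).2 fun w hw => ?_)
      obtain ⟨x, rfl⟩ := hsur w
      exact he x (h ▸ hw)
    · refine Or.inr (eq_top_iff.2 fun w _ => ?_)
      obtain ⟨x, rfl⟩ := hsur w
      have : x ∈ U := by rw [hm.out.2 U h]; exact Submodule.mem_top
      exact this

end Cfsg.Agent.Char.FpfLift
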