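import Cfsg.Prelude.Def_Solvable
import Cfsg.Agent.Lib.Struct.Frobenius
import Cfsg.Agent.Lib.Solv.FpfNilpotent
import Mathlib

/-!
Fixed point free representations in different characteristics.

For a group `G` put `N g = ∑_{i < orderOf g} g ^ i` in a group algebra.  A fixed point free module
in coprime characteristic exists iff the left ideal generated by all `N g * y` is proper, and this
does not depend on the characteristic.
-/

set_option autoImplicit false
set_option linter.style.haveILetI false
set_option linter.unusedSectionVars false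

namespace Cfsg.Agent.Char.FpfLift

open MonoidAlgebra Finset

variable (R : Type*) [CommRing R] {G : Type*} [Group G] [Finite G]

/-- The sum of the powers of `g`. -/
noncomputable def nsum (g : G) : MonoidAlgebra R G :=
  ∑ i ∈ range (orderOf g), single (g ^ i) 1

variable (G) in
/-- The left ideal generated by the products `nsum g * y`, `g ≠ 1`. -/
noncomputable def normIdeal : Ideal (MonoidAlgebra R G) :=
  Ideal.span {x | ∃ g : G, g ≠ 1 ∧ ∃ y, x = nsum R g * y}

variable (G) in
/-- The norm ideal over the integers contains no nonzero integer. -/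
def FpfData : Prop := ∀ n : ℕ, n ≠ 0 → (n : MonoidAlgebra ℤ G) ∉ normIdeal ℤ G

variable {R}

theorem mem_normIdeal {g : G} (hg : g ≠ 1) (y : MonoidAlgebra R G) :
    nsum R g * y ∈ normIdeal R G :=
  Ideal.subset_span ⟨g, hg, y, rfl⟩

theorem map_nsum {S : Type*} [CommRing S] (f : R →+* S) (g : G) :
    mapRingHom G f (nsum R g) = nsum S g := by
  simp [nsum, map_sum]

theorem map_mem {S : Type*} [CommRing S] (f : R →+* S) {x : MonoidAlgebra R G}
    (hx : x ∈ normIdeal R G) : mapRingHom G f x ∈ normIdeal S G := by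
  induction hx using Submodule.span_induction with
  | mem x hx =>
    obtain ⟨g, hg, y, rfl⟩ := hx
    rw [map_mul, map_nsum]; exact mem_normIdeal hg _
  | zero => rw [map_zero]; exact zero_mem _
  | add x y _ _ hx hy => rw [map_add]; exact add_mem hx hy
  | smul a x _ hx => rw [smul_eq_mul, map_mul]; exact Ideal.mul_mem_left _ _ hx

theorem single_mul_nsum (g : G) : single g (1 : R) * nsum R g = nsum R g := by
  simp only [nsum, mul_sum, single_mul_single, one_mul, ← pow_succ']
  apply add_right_cancel (b := single (g ^ 0) (1 : R))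
  rw [← sum_range_succ' (fun i => single (g ^ i) (1 : R)) (orderOf g),
    sum_range_succ (fun i => single (g ^ i) (1 : R)) (orderOf g), pow_orderOf_eq_one, pow_zero]

theorem nsum_sq (g : G) : nsum R g * nsum R g = orderOf g • nsum R g := by
  have h : ∀ i : ℕ, single (g ^ i) (1 : R) * nsum R g = nsum R g := by
    intro i
    induction i with
    | zero => rw [pow_zero, ← one_def, one_mul]
    | succ i ih =>
      rw [pow_succ, show single (g ^ i * g) (1 : R) = single (g ^ i) 1 * single g 1 by
        rw [single_mul_single, one_mul], mul_assoc, single_mul_nsum, ih]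
  conv_lhs => arg 1; rw [nsum]
  rw [sum_mul, sum_congr rfl (fun i _ => h i), sum_const, card_range]

theorem kernel_eq (n : ℕ) {S : Type*} [CommRing S] (f : R →+* S)
    (hf : ∀ a : R, f a = 0 → ∃ b : R, a = n • b) {x : MonoidAlgebra R G}
    (hx : mapRingHom G f x = 0) : ∃ z : MonoidAlgebra R G, x = n • z := by
  classical
  have h : ∀ m : G, ∃ b : R, x.coeff m = n • b := fun m => hf _ (by
    rw [← coeff_mapRingHom, hx]; simp)
  choose b hb using h
  haveI := Fintype.ofFinite G
  refine ⟨MonoidAlgebra.ofCoeff (Finsupp.equivFunOnFinite.symm b), ?_⟩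
  ext m
  rw [coeff_smul_apply, hb m]
  rfl

theorem mapRingHom_surjective {S : Type*} [CommRing S] {f : R →+* S}
    (hf : Function.Surjective f) : Function.Surjective (mapRingHom G f) := by
  intro x
  induction x using MonoidAlgebra.induction_linear with
  | zero => exact ⟨0, map_zero _⟩
  | add x y hx hy =>
    obtain ⟨a, rfl⟩ := hx; obtain ⟨b, rfl⟩ := hy
    exact ⟨a + b, map_add _ _ _⟩
  | single m r => obtain ⟨a, rfl⟩ := hf r; exact ⟨single m a, mapRingHom_single _ _ _⟩

section mod_r

variable {r : ℕ} [Fact r.Prime]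

/-- A nonzero idempotent killed by all norms, from a fixed point free module. -/
theorem exists_idem (hr : ¬ r ∣ Nat.card G) {V : Type*} [AddCommGroup V] [Module (ZMod r) V]
    [Nontrivial V] (ρ : G →* Module.End (ZMod r) V)
    (hfpf : ∀ g : G, g ≠ 1 → ∀ v : V, ρ g v = v → v = 0) :
    ∃ e : MonoidAlgebra (ZMod r) G, e ≠ 0 ∧ IsIdempotentElem e ∧
      ∀ g : G, g ≠ 1 → ∀ y, nsum (ZMod r) g * y * e = 0 := by
  haveI : NeZero (Nat.card G : ZMod r) := ⟨fun h => hr ((ZMod.natCast_eq_zero_iff _ _).1 h)⟩
  let φ := MonoidAlgebra.lift (ZMod r) (Module.End (ZMod r) V) G ρ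
  have hof : ∀ g : G, φ (single g 1) = ρ g := fun g => by simp [φ]
  obtain ⟨L, hL⟩ := MonoidAlgebra.Submodule.exists_isCompl (RingHom.ker φ : Ideal (MonoidAlgebra (ZMod r) G))
  have htop : (1 : MonoidAlgebra (ZMod r) G) ∈ (RingHom.ker φ : Ideal _) ⊔ L := by
    rw [hL.sup_eq_top]; exact Submodule.mem_top
  obtain ⟨j, hj, e, he, hje⟩ := Submodule.mem_sup.1 htop
  rw [RingHom.mem_ker] at hj
  have hzero : ∀ x, φ x = 0 → x * e = 0 := fun x hx => by
    have h1 : x * e ∈ (RingHom.ker φ : Ideal _) ⊓ L :=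
      ⟨RingHom.mem_ker.2 (by rw [map_mul, hx, zero_mul]), L.smul_mem x he⟩
    rw [hL.inf_eq_bot] at h1
    exact (Submodule.mem_bot _).1 h1
  refine ⟨e, ?_, ?_, ?_⟩
  · rintro rfl
    rw [add_zero] at hje
    rw [hje, map_one] at hj
    exact one_ne_zero hj
  · show e * e = e
    conv_rhs => rw [← one_mul e, ← hje, add_mul, hzero j hj, zero_add]
  · intro g hg y
    refine hzero _ ?_
    suffices φ (nsum (ZMod r) g) = 0 by rw [map_mul, this, zero_mul]
    ext v
    refine hfpf g hg _ ?_
    rw [← hof, ← Module.End.mul_apply, ← map_mul, single_mul_nsum]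

theorem fpfData_of_module (hr : ¬ r ∣ Nat.card G) {V : Type*} [AddCommGroup V] [Module (ZMod r) V]
    [Nontrivial V] (ρ : G →* Module.End (ZMod r) V)
    (hfpf : ∀ g : G, g ≠ 1 → ∀ v : V, ρ g v = v → v = 0) : FpfData G := by
  have hp : r.Prime := Fact.out
  obtain ⟨e, he0, hei, hek⟩ := exists_idem hr ρ hfpf
  intro n hn hmem
  let m := r ^ (n + 1)
  haveI : NeZero m := ⟨pow_ne_zero _ hp.ne_zero⟩
  let c : ZMod m →+* ZMod r := ZMod.castHom (dvd_pow_self r (Nat.succ_ne_zero n)) (ZMod r)
  let F := mapRingHom G c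
  have hker : ∀ a : ZMod m, c a = 0 → ∃ b : ZMod m, a = r • b := by
    intro a ha
    rw [← ZMod.natCast_zmod_val a, map_natCast, ZMod.natCast_eq_zero_iff] at ha
    obtain ⟨t, ht⟩ := ha
    exact ⟨(t : ZMod m), by rw [← ZMod.natCast_zmod_val a, ht]; simp⟩
  have hpow : ∀ z : MonoidAlgebra (ZMod m) G, r ^ (n + 1) • z = 0 := fun z => by
    rw [← Nat.cast_smul_eq_nsmul (ZMod m), ZMod.natCast_self, zero_smul]
  obtain ⟨e', hei', hee⟩ := exists_isIdempotentElem_eq_of_ker_isNilpotent F
    (fun x hx => ⟨n + 1, by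
      obtain ⟨z, rfl⟩ := kernel_eq r c hker (RingHom.mem_ker.1 hx)
      rw [smul_pow, hpow]⟩) e
    (by obtain ⟨a, ha⟩ := mapRingHom_surjective (G := G) (ZMod.ringHom_surjective c) e
        exact ⟨a, ha⟩) hei
  have hind : ∀ j : ℕ, ∀ g : G, g ≠ 1 → ∀ y,
      ∃ z, nsum (ZMod m) g * y * e' = r ^ j • z := by
    intro j
    induction j with
    | zero => exact fun g _ y => ⟨_, by rw [pow_zero, one_smul]⟩
    | succ j ih =>
      intro g hg y
      obtain ⟨z, hz⟩ := ih g hg y
      obtain ⟨z', hz'⟩ := kernel_eq r c hker (x := nsum (ZMod m) g * z * e') (by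
        rw [map_mul, map_mul, map_nsum]
        show nsum (ZMod r) g * F z * F e' = 0
        rw [hee, hek g hg])
      have hu : IsUnit ((orderOf g : ℕ) : ZMod m) := by
        rw [ZMod.isUnit_iff_coprime]
        exact Nat.Coprime.pow_right _ ((Nat.Prime.coprime_iff_not_dvd hp).2
          (fun h => hr (h.trans (orderOf_dvd_natCard g)))).symm
      obtain ⟨u, hu⟩ := hu
      have h1 : (u : ZMod m) • (nsum (ZMod m) g * y * e') = r ^ (j + 1) • z' := by
        calc (u : ZMod m) • (nsum (ZMod m) g * y * e')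
            = orderOf g • (nsum (ZMod m) g * y * e') := by rw [hu, Nat.cast_smul_eq_nsmul]
          _ = (orderOf g • nsum (ZMod m) g) * y * e' := by rw [smul_mul_assoc, smul_mul_assoc]
          _ = nsum (ZMod m) g * (nsum (ZMod m) g * y * e') * e' := by
            rw [← nsum_sq]
            simp only [mul_assoc]
            rw [hei'.eq]
          _ = r ^ j • (nsum (ZMod m) g * z * e') := by
            rw [hz, mul_smul_comm, smul_mul_assoc]
          _ = r ^ (j + 1) • z' := by rw [hz', ← mul_smul, ← pow_succ]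
      refine ⟨((u⁻¹ : (ZMod m)ˣ) : ZMod m) • z', ?_⟩
      rw [smul_comm, ← h1, ← mul_smul, Units.inv_mul, one_smul]
  have hall : ∀ x ∈ normIdeal (ZMod m) G, x * e' = 0 := by
    intro x hx
    induction hx using Submodule.span_induction with
    | mem x hx =>
      obtain ⟨g, hg, y, rfl⟩ := hx
      obtain ⟨z, hz⟩ := hind (n + 1) g hg y
      rw [hz, hpow]
    | zero => rw [zero_mul]
    | add x y _ _ hx hy => rw [add_mul, hx, hy, add_zero]
    | smul a x _ hx => rw [smul_eq_mul, mul_assoc, hx, mul_zero]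
  have h2 := hall _ (map_mem (Int.castRingHom (ZMod m)) hmem)
  rw [map_natCast, ← nsmul_eq_mul] at h2
  obtain ⟨g, hg⟩ : ∃ g, c (e'.coeff g) ≠ 0 := by
    by_contra hne
    push Not at hne
    refine he0 ?_
    rw [← hee]
    ext g
    simpa [F] using hne g
  have hunit : IsUnit (e'.coeff g) := by
    rw [← ZMod.natCast_zmod_val (e'.coeff g)] at hg ⊢
    rw [map_natCast, Ne, ZMod.natCast_eq_zero_iff] at hg
    rw [ZMod.isUnit_iff_coprime]
    exact Nat.Coprime.pow_right _ ((Nat.Prime.coprime_iff_not_dvd hp).2 hg).symm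
  have h3 : (n : ZMod m) * e'.coeff g = 0 := by
    have := congrArg (fun x : MonoidAlgebra (ZMod m) G => x.coeff g) h2
    simp only [coeff_smul_apply, coeff_zero, Finsupp.coe_zero, Pi.zero_apply] at this
    rwa [nsmul_eq_mul] at this
  rw [hunit.mul_left_eq_zero, ZMod.natCast_eq_zero_iff] at h3
  have := Nat.le_of_dvd (Nat.pos_of_ne_zero hn) h3
  have h4 : n + 1 < m := Nat.lt_pow_self hp.one_lt
  omega

/-- Conversely, a fixed point free module for every prime not dividing the group order. -/
theorem one_not_mem_mod (hG : FpfData G) :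
    (1 : MonoidAlgebra (ZMod r) G) ∉ normIdeal (ZMod r) G := by
  have hp : r.Prime := Fact.out
  intro h1
  let f := Int.castRingHom (ZMod r)
  have hs : Function.Surjective (mapRingHom G f) := mapRingHom_surjective ZMod.intCast_surjective
  have hle : normIdeal (ZMod r) G ≤ Ideal.map (mapRingHom G f) (normIdeal ℤ G) := by
    refine Ideal.span_le.2 ?_
    rintro _ ⟨g, hg, y, rfl⟩
    obtain ⟨y', rfl⟩ := hs y
    rw [← map_nsum f, ← map_mul]
    exact Ideal.mem_map_of_mem _ (mem_normIdeal hg y')
  obtain ⟨y, hy, hy1⟩ := (Ideal.mem_map_iff_of_surjective _ hs).1 (hle h1)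
  obtain ⟨z, hz⟩ := kernel_eq r f (fun a ha => by
    rw [eq_intCast, ZMod.intCast_zmod_eq_zero_iff_dvd] at ha
    obtain ⟨b, rfl⟩ := ha
    exact ⟨b, by simp⟩) (x := 1 - y) (by rw [map_sub, map_one, hy1, sub_self])
  let I : Submodule ℤ (MonoidAlgebra ℤ G) := (normIdeal ℤ G).restrictScalars ℤ
  haveI : Module.Finite ℤ (MonoidAlgebra ℤ G) :=
    inferInstance
  have hfg : (⊤ : Submodule ℤ (MonoidAlgebra ℤ G ⧸ I)).FG := Module.Finite.fg_top
  obtain ⟨s, hs1, hs0⟩ := Submodule.exists_sub_one_mem_and_smul_eq_zero_of_fg_of_le_smul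
    (Ideal.span {(r : ℤ)}) ⊤ hfg (fun v _ => by
      obtain ⟨a, rfl⟩ := I.mkQ_surjective v
      have : I.mkQ a = (r : ℤ) • I.mkQ (a * z) := by
        rw [← map_smul, Submodule.mkQ_apply, Submodule.mkQ_apply, Submodule.Quotient.eq]
        show a - (r : ℤ) • (a * z) ∈ normIdeal ℤ G
        rw [natCast_zsmul, ← mul_smul_comm, ← hz, mul_sub, mul_one, sub_sub_cancel]
        exact Ideal.mul_mem_left _ _ hy
      rw [this]
      exact Submodule.smul_mem_smul (Ideal.mem_span_singleton_self _) Submodule.mem_top)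
  have h0 := hs0 (I.mkQ 1) Submodule.mem_top
  rw [← map_smul, Submodule.mkQ_apply, Submodule.Quotient.mk_eq_zero] at h0
  have h0' : (s.natAbs : MonoidAlgebra ℤ G) ∈ normIdeal ℤ G := by
    have h0'' : s • (1 : MonoidAlgebra ℤ G) ∈ normIdeal ℤ G := h0
    rw [zsmul_one] at h0''
    rcases Int.natAbs_eq s with e | e
    · rw [e] at h0''; simpa using h0''
    · rw [e] at h0''
      simpa using (Submodule.neg_mem_iff _).1 (by simpa using h0'')
  by_cases hs : s = 0
  · rw [hs, zero_sub, Ideal.mem_span_singleton, dvd_neg] at hs1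
    exact hp.ne_one (by exact_mod_cast Int.eq_one_of_dvd_one (by positivity) hs1)
  · exact hG _ (by simpa using hs) h0'

theorem exists_module (hG : FpfData G) (hr : ¬ r ∣ Nat.card G) :
    ∃ (I : Ideal (MonoidAlgebra (ZMod r) G)), I ≠ ⊤ ∧
      ∀ g : G, g ≠ 1 → ∀ v : MonoidAlgebra (ZMod r) G ⧸ I, single g (1 : ZMod r) • v = v → v = 0 := by
  refine ⟨normIdeal (ZMod r) G, fun e => one_not_mem_mod hG (e ▸ Submodule.mem_top), ?_⟩
  intro g hg v hv
  obtain ⟨x, rfl⟩ := Submodule.Quotient.mk_surjective _ v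
  have h1 : ∀ i : ℕ, single (g ^ i) (1 : ZMod r) •
      (Submodule.Quotient.mk x : MonoidAlgebra (ZMod r) G ⧸ normIdeal (ZMod r) G) =
      Submodule.Quotient.mk x := by
    intro i
    induction i with
    | zero => rw [pow_zero, ← one_def, one_smul]
    | succ i ih =>
      rw [pow_succ, show single (g ^ i * g) (1 : ZMod r) = single (g ^ i) 1 * single g 1 by
        rw [single_mul_single, one_mul], mul_smul, hv, ih]
  have h2 : nsum (ZMod r) g •
      (Submodule.Quotient.mk x : MonoidAlgebra (ZMod r) G ⧸ normIdeal (ZMod r) G) =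
      orderOf g • (Submodule.Quotient.mk x) := by
    rw [nsum, sum_smul, sum_congr rfl (fun i _ => h1 i), sum_const, card_range]
  have h3 : nsum (ZMod r) g •
      (Submodule.Quotient.mk x : MonoidAlgebra (ZMod r) G ⧸ normIdeal (ZMod r) G) = 0 := by
    rw [← Submodule.Quotient.mk_smul, Submodule.Quotient.mk_eq_zero]
    exact mem_normIdeal hg x
  rw [h3, ← Nat.cast_smul_eq_nsmul (ZMod r)] at h2
  refine (smul_eq_zero.1 h2.symm).resolve_left fun h => hr ?_
  exact ((ZMod.natCast_eq_zero_iff _ _).1 h).trans (orderOf_dvd_natCard g)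

end mod_r

/-- A representation from additive maps. -/
noncomputable def repOfAdd {G : Type*} [Group G] {r : ℕ} {V : Type*} [AddCommGroup V]
    [Module (ZMod r) V] (f : G → V →+ V)
    (h1 : ∀ v, f 1 v = v) (hm : ∀ g h v, f (g * h) v = f g (f h v)) :
    G →* Module.End (ZMod r) V where
  toFun g := (f g).toZModLinearMap r
  map_one' := LinearMap.ext h1
  map_mul' g h := LinearMap.ext (hm g h)

/-- A Frobenius complement has fixed point free data. -/
theorem fpfData_of_complement {L : Type*} [Group L] [Finite L] {H : Subgroup L}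
    (hH : Cfsg.IsFrobeniusComplement H) (α : G →* L) (hα : Function.Injective α)
    (hαH : ∀ g, α g ∈ H) : FpfData G := by
  classical
  open Cfsg.Agent.Struct.Frobenius in
  obtain ⟨N, -, hN, hNH⟩ := exists_kernel hH
  haveI := hN
  have hfix : ∀ h ∈ H, h ≠ 1 → ∀ k ∈ N, h * k * h⁻¹ = k → k = 1 := fun h hh h1 k hk e =>
    Subgroup.disjoint_def.1 hNH.disjoint hk
      (Cfsg.Agent.Struct.Frobenius.centralizer_le hH hh h1 (mul_inv_eq_iff_eq_mul.1 e).symm)
  have hNne : N ≠ ⊥ := fun e => hH.2.1 (Subgroup.isComplement'_bot_left.1 (e ▸ hNH))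
  have hH1 : Nat.card H ≠ 1 := fun e => hH.1 (Subgroup.card_eq_one.1 e)
  obtain ⟨q, hq, hqH⟩ := Nat.exists_prime_and_dvd hH1
  haveI := Fact.mk hq
  obtain ⟨h₀, hh₀⟩ := exists_prime_orderOf_dvd_card' (G := H) q hqH
  have h₀1 : (h₀ : L) ≠ 1 := fun e => hq.ne_one (by
    rw [← hh₀, ← Subgroup.orderOf_coe, e, orderOf_one])
  haveI : Group.IsNilpotent N := Cfsg.Agent.Solv.isNilpotent_of_fpf
    (φ := (MulAut.conjNormal (h₀ : L) : MulAut N))
    (fun k hk => Subtype.ext (hfix _ h₀.2 h₀1 k k.2 (by simpa using congrArg Subtype.val hk)))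
    hq (fun k => by
      have e : ∀ n : ℕ, ∀ k : N, (((MulAut.conjNormal (h₀ : L) : MulAut N) : N → N)^[n] k : L) =
          (h₀ : L) ^ n * k * ((h₀ : L) ^ n)⁻¹ := by
        intro n
        induction n with
        | zero => simp
        | succ n ih =>
          intro k
          rw [Function.iterate_succ_apply', MulAut.conjNormal_apply, ih, pow_succ']
          group
      refine Subtype.ext ?_
      rw [e q k, ← hh₀, ← Subgroup.orderOf_coe, pow_orderOf_eq_one]
      group)
  haveI : Nontrivial N := (Subgroup.nontrivial_iff_ne_bot N).2 hNne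
  haveI : Nontrivial (Subgroup.center N) :=
    (Subgroup.nontrivial_iff_ne_bot _).2 (Group.IsNilpotent.center_ne_bot _)
  obtain ⟨r, hr, hrZ⟩ := Nat.exists_prime_and_dvd
    (show Nat.card (Subgroup.center N) ≠ 1 from ne_of_gt Finite.one_lt_card)
  haveI := Fact.mk hr
  let E : Subgroup N :=
    { carrier := {z | z ∈ Subgroup.center N ∧ z ^ r = 1}
      one_mem' := ⟨one_mem _, one_pow _⟩
      mul_mem' := fun {a b} ha hb => ⟨mul_mem ha.1 hb.1, by
        rw [Commute.mul_pow ((Subgroup.mem_center_iff.1 ha.1 b).symm), ha.2, hb.2, one_mul]⟩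
      inv_mem' := fun {a} ha => ⟨inv_mem ha.1, by rw [inv_pow, ha.2, inv_one]⟩ }
  haveI : IsMulCommutative E := ⟨⟨fun a b => Subtype.ext (Subgroup.mem_center_iff.1 b.2.1 a)⟩⟩
  obtain ⟨z₀, hz₀⟩ := exists_prime_orderOf_dvd_card' (G := Subgroup.center N) r hrZ
  haveI : Nontrivial E := ⟨⟨⟨z₀, z₀.2, by
      rw [← hz₀, ← Subgroup.orderOf_coe, pow_orderOf_eq_one]⟩, 1, fun e => hr.ne_one (by
      rw [← hz₀, ← Subgroup.orderOf_coe, show ((z₀ : N)) = 1 from congrArg Subtype.val e,
        orderOf_one])⟩⟩
  letI : CommGroup E := { (inferInstance : Group E) with mul_comm := fun a b => Std.Commutative.comm a b }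
  letI : Module (ZMod r) (Additive E) := AddCommGroup.zmodModule (n := r) (fun x => by
    refine Additive.toMul.injective (Subtype.ext ?_)
    rw [toMul_nsmul]
    exact (Additive.toMul x).2.2)
  have hinv : ∀ (l : L) (z : E), MulAut.conjNormal l (z : N) ∈ E := fun l z =>
    ⟨by
      rw [Subgroup.mem_center_iff]
      intro y
      obtain ⟨y', rfl⟩ := (MulAut.conjNormal l : MulAut N).surjective y
      rw [← map_mul, ← map_mul, Subgroup.mem_center_iff.1 z.2.1 y'],
    by rw [← map_pow, z.2.2, map_one]⟩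
  let f : G → Additive E →+ Additive E := fun g =>
    { toFun := fun v => Additive.ofMul ⟨_, hinv (α g) (Additive.toMul v)⟩
      map_zero' := by
        refine Additive.toMul.injective (Subtype.ext ?_)
        simp
      map_add' := fun v w => by
        refine Additive.toMul.injective (Subtype.ext ?_)
        simp }
  let ρ := repOfAdd (r := r) f
    (fun v => Additive.toMul.injective (Subtype.ext (by simp [f])))
    (fun g h v => Additive.toMul.injective (Subtype.ext (by simp [f])))
  refine fpfData_of_module (r := r) ?_ ρ ?_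
  · intro hd
    have h1 : Nat.card G ∣ Nat.card H := by
      let β : G →* H := α.codRestrict H hαH
      exact Subgroup.card_dvd_of_injective β fun a b e => hα (congrArg Subtype.val e)
    have h2 := Cfsg.Agent.Struct.Frobenius.coprime_card_index hH
    have h3 : H.index = Nat.card N := by
      refine Nat.eq_of_mul_eq_mul_right (Nat.card_pos (α := H)) ?_
      rw [H.index_mul_card, hNH.card_mul_card]
    rw [h3] at h2
    exact hr.not_dvd_one (h2.gcd_eq_one ▸ Nat.dvd_gcd (hd.trans h1)
      (hrZ.trans (Subgroup.card_subgroup_dvd_card _)))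
  · intro g hg v hv
    refine Additive.toMul.injective (Subtype.ext (Subtype.ext ?_))
    refine hfix (α g) (hαH g) (fun e => hg (hα (e.trans (map_one α).symm))) _
      ((Additive.toMul v : E) : N).2 ?_
    exact congrArg (fun x : Additive E => (((Additive.toMul x : E) : N) : L)) hv

theorem fpfData_of_injective {K : Type*} [Group K] [Finite K] (hK : FpfData K) (α : G →* K)
    (hα : Function.Injective α) : FpfData G := by
  intro n hn hmem
  refine hK n hn ?_
  have : ∀ x ∈ normIdeal ℤ G, mapDomainRingHom ℤ α x ∈ normIdeal ℤ K := by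
    intro x hx
    induction hx using Submodule.span_induction with
    | mem x hx =>
      obtain ⟨g, hg, y, rfl⟩ := hx
      rw [map_mul]
      have e : mapDomainRingHom ℤ α (nsum ℤ g) = nsum ℤ (α g) := by
        simp [nsum, map_sum, orderOf_injective α hα]
      rw [e]
      exact mem_normIdeal (fun e => hg (hα (e.trans (map_one α).symm))) _
    | zero => rw [map_zero]; exact zero_mem _
    | add x y _ _ hx hy => rw [map_add]; exact add_mem hx hy
    | smul a x _ hx => rw [smul_eq_mul, map_mul]; exact Ideal.mul_mem_left _ _ hx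
  simpa using this _ hmem

end Cfsg.Agent.Char.FpfLift
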