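import Cfsg.Agent.Lib.Char.FpfLift
import Cfsg.Agent.Lib.Perm.FpfMatrixAction

/-!
Direct products of Frobenius complements.
-/

set_option autoImplicit false
set_option linter.style.haveILetI false
set_option linter.unusedSectionVars false

namespace Cfsg.Agent.Char.FpfLift

open MonoidAlgebra Finset

theorem not_two_lines {G : Type*} [Group G] [Finite G] (hG : FpfData G) {p : ℕ} (hp : p.Prime)
    {x y : G} (hxy : Commute x y) (hx : orderOf x = p) (hy : orderOf y = p)
    (hne : ∀ i : ℕ, x * y ^ i ≠ 1) : False := by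
  refine hG p hp.ne_zero ?_
  have hop : ∀ z : G, z ≠ 1 → z ^ p = 1 → orderOf z = p := fun z h1 h2 =>
    (hp.eq_one_or_self_of_dvd _ (orderOf_dvd_of_pow_eq_one h2)).resolve_left
      (fun e => h1 (orderOf_eq_one_iff.1 e))
  have h1 : ∀ i, nsum ℤ (x * y ^ i) =
      ∑ j ∈ range p, single (x ^ j) (1 : ℤ) * single ((y ^ j) ^ i) 1 := by
    intro i
    rw [nsum, hop _ (hne i) (by
      rw [(hxy.pow_right i).mul_pow, ← hx, pow_orderOf_eq_one, one_mul, ← pow_mul,
        mul_comm, pow_mul, hx, ← hy, pow_orderOf_eq_one, one_pow])]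
    refine sum_congr rfl fun j _ => ?_
    rw [single_mul_single, one_mul, (hxy.pow_right i).mul_pow, ← pow_mul, ← pow_mul, mul_comm i]
  have h2 : ∑ i ∈ range p, nsum ℤ (x * y ^ i) =
      ∑ j ∈ range p, single (x ^ j) (1 : ℤ) * ∑ i ∈ range p, single ((y ^ j) ^ i) 1 := by
    rw [sum_congr rfl (fun i _ => h1 i), sum_comm]
    exact sum_congr rfl fun j _ => (mul_sum _ _ _).symm
  have h3 : ∀ j ∈ (range p).erase 0,
      ∑ i ∈ range p, single ((y ^ j) ^ i) (1 : ℤ) ∈ normIdeal ℤ G := by
    intro j hj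
    rw [mem_erase, mem_range] at hj
    have hj1 : y ^ j ≠ 1 := pow_ne_one_of_lt_orderOf hj.1 (hy ▸ hj.2)
    have ho : orderOf (y ^ j) = p := hop _ hj1 (by
      rw [← pow_mul, mul_comm, pow_mul, ← hy, pow_orderOf_eq_one, one_pow])
    have := mem_normIdeal (R := ℤ) hj1 1
    rwa [mul_one, nsum, ho] at this
  have h4 : ∀ i ∈ range p, nsum ℤ (x * y ^ i) ∈ normIdeal ℤ G := fun i _ => by
    have := mem_normIdeal (R := ℤ) (hne i) 1
    rwa [mul_one] at this
  conv_rhs at h2 => rw [← add_sum_erase _ _ (mem_range.2 hp.pos)]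
  have h5 : (p : MonoidAlgebra ℤ G) = ∑ i ∈ range p, nsum ℤ (x * y ^ i) -
      ∑ j ∈ (range p).erase 0, single (x ^ j) (1 : ℤ) * ∑ i ∈ range p, single ((y ^ j) ^ i) 1 := by
    rw [h2, add_sub_cancel_right]
    simp [natCast_def]
  rw [h5]
  exact sub_mem (Submodule.sum_mem _ h4) (Submodule.sum_mem _ fun j hj => Ideal.mul_mem_left _ _ (h3 j hj))

theorem coprime_of_prod {A B : Type*} [Group A] [Finite A] [Group B] [Finite B]
    (h : FpfData (A × B)) : (Nat.card A).Coprime (Nat.card B) := by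
  refine Nat.coprime_of_dvd fun p hp hA hB => ?_
  haveI := Fact.mk hp
  obtain ⟨a, ha⟩ := exists_prime_orderOf_dvd_card' (G := A) p hA
  obtain ⟨b, hb⟩ := exists_prime_orderOf_dvd_card' (G := B) p hB
  refine not_two_lines h hp (x := (a, 1)) (y := (1, b)) ?_
    (by rw [Prod.orderOf]; simp [ha]) (by rw [Prod.orderOf]; simp [hb]) fun i hi => ?_
  · exact Prod.ext (by simp) (by simp)
  · have : a = 1 := by simpa using congrArg Prod.fst hi
    rw [this, orderOf_one] at ha
    exact hp.ne_one ha.symm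

theorem exists_complement_prod {A B : Type} [Group A] [Finite A] [Nontrivial A] [Group B]
    [Finite B] (hA : FpfData A) (hB : FpfData B) (hco : (Nat.card A).Coprime (Nat.card B)) :
    ∃ (L : Type) (_ : Group L) (_ : Finite L) (K : Subgroup L),
      Cfsg.IsFrobeniusComplement K ∧ Nonempty ((A × B) ≃* K) := by
  obtain ⟨r, hr, hrp⟩ := Nat.exists_infinite_primes (Nat.card A + Nat.card B + 1)
  haveI := Fact.mk hrp
  have hrA : ¬ r ∣ Nat.card A := fun h => by have := Nat.le_of_dvd Nat.card_pos h; omega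
  have hrB : ¬ r ∣ Nat.card B := fun h => by have := Nat.le_of_dvd Nat.card_pos h; omega
  obtain ⟨I, hI, hIf⟩ := exists_module hA hrA
  obtain ⟨J, hJ, hJf⟩ := exists_module hB hrB
  haveI : Module.Finite (ZMod r) (MonoidAlgebra (ZMod r) A ⧸ I) :=
    Module.Finite.of_surjective (I.mkQ.restrictScalars (ZMod r)) I.mkQ_surjective
  haveI : Module.Finite (ZMod r) (MonoidAlgebra (ZMod r) B ⧸ J) :=
    Module.Finite.of_surjective (J.mkQ.restrictScalars (ZMod r)) J.mkQ_surjective
  let V := MonoidAlgebra (ZMod r) A ⧸ I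
  let W := MonoidAlgebra (ZMod r) B ⧸ J
  haveI : Finite V := Module.finite_of_finite (ZMod r)
  haveI : Finite W := Module.finite_of_finite (ZMod r)
  haveI : Nontrivial V := Submodule.Quotient.nontrivial_iff.2 hI
  haveI : Nontrivial W := Submodule.Quotient.nontrivial_iff.2 hJ
  let TA : A → (V →ₗ[ZMod r] V) := fun a =>
    Algebra.lsmul (ZMod r) (ZMod r) V (single a (1 : ZMod r))
  let TB : B → (W →ₗ[ZMod r] W) := fun b =>
    Algebra.lsmul (ZMod r) (ZMod r) W (single b (1 : ZMod r))
  have hTA : ∀ a v, TA a v = single a (1 : ZMod r) • v := fun a v => rfl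
  have hTB : ∀ b w, TB b w = single b (1 : ZMod r) • w := fun b w => rfl
  haveI : Finite (W →ₗ[ZMod r] V) := Finite.of_injective _ DFunLike.coe_injective
  haveI : Nontrivial (W →ₗ[ZMod r] V) := by
    obtain ⟨w, hw⟩ := exists_ne (0 : W)
    obtain ⟨v, hv⟩ := exists_ne (0 : V)
    obtain ⟨φ, hφ⟩ := Module.Projective.exists_dual_ne_zero (ZMod r) hw
    exact ⟨⟨φ.smulRight v, 0, fun e => (smul_ne_zero hφ hv) (by
      have := LinearMap.congr_fun e w
      simpa using this)⟩⟩
  refine Cfsg.Agent.Perm.exists_frobenius_of_fpf_fun (V := W →ₗ[ZMod r] V)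
    (fun g m => (TA g.1).comp (m.comp (TB g.2⁻¹))) ?_ ?_ ?_ ?_
  · intro m
    refine LinearMap.ext fun w => ?_
    simp [hTA, hTB, ← one_def]
  · intro g h m
    refine LinearMap.ext fun w => ?_
    simp [hTA, hTB, ← mul_smul, single_mul_single, mul_inv_rev]
  · intro g m m'
    refine LinearMap.ext fun w => ?_
    simp [hTA, hTB, smul_add]
  · intro g m hm
    by_contra hcon
    push Not at hcon
    obtain ⟨hg, hm0⟩ := hcon
    have hpow : ∀ (k : ℕ) (w : W), single (g.1 ^ k) (1 : ZMod r) • m (single ((g.2 ^ k)⁻¹) (1 : ZMod r) • w) = m w := by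
      intro k
      induction k with
      | zero => intro w; simp [← one_def]
      | succ k ih =>
        intro w
        have h1 := LinearMap.congr_fun hm w
        simp only [LinearMap.comp_apply, hTA, hTB] at h1
        rw [← h1, ← ih (single g.2⁻¹ (1 : ZMod r) • w), ← mul_smul, ← mul_smul, single_mul_single,
          single_mul_single, one_mul, pow_succ', pow_succ', mul_inv_rev]
    by_cases ha : g.1 = 1
    · have hb : g.2⁻¹ ≠ 1 := fun e => hg (Prod.ext ha (inv_eq_one.1 e))
      refine hm0 (LinearMap.ext fun w => ?_)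
      have hinj : Function.Injective fun u : W => single g.2⁻¹ (1 : ZMod r) • u - u := by
        intro u v huv
        have := hJf _ hb (u - v) (by
          rw [smul_sub]
          exact sub_eq_sub_iff_sub_eq_sub.1 huv)
        exact sub_eq_zero.1 this
      obtain ⟨u, hu⟩ := Finite.surjective_of_injective hinj w
      have h2 := hpow 1 u
      rw [pow_one, pow_one, ha, ← one_def, one_smul] at h2
      simp only at hu
      rw [← hu, map_sub, h2, sub_self, LinearMap.zero_apply]
    · refine hm0 (LinearMap.ext fun w => ?_)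
      have h2 := hpow (orderOf g.2) w
      rw [pow_orderOf_eq_one, inv_one, ← one_def, one_smul] at h2
      refine hIf _ (fun e => ha ?_) (m w) h2
      have h3 : orderOf g.1 ∣ Nat.gcd (Nat.card A) (Nat.card B) :=
        Nat.dvd_gcd (orderOf_dvd_natCard _) ((orderOf_dvd_of_pow_eq_one e).trans (orderOf_dvd_natCard _))
      rw [hco.gcd_eq_one, Nat.dvd_one, orderOf_eq_one_iff] at h3
      exact h3

end Cfsg.Agent.Char.FpfLift
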