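import Cfsg.Agent.Lib.Char.FrobeniusKernel
import Cfsg.Agent.Lib.Char.TI
import Mathlib.GroupTheory.SpecificGroups.ZGroup

/-!
# The exceptional family attached to a Frobenius normalizer of a trivial intersection subgroup
-/

set_option autoImplicit false
set_option linter.style.haveILetI false

namespace Cfsg.Agent.Char.FrobFamily

open Cfsg
open scoped ComplexConjugate

universe u

section Nilp

variable {K : Type*} [Group K] [Finite K]

/-- A nilpotent group whose abelianization has squarefree order is commutative. -/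
theorem commutator_eq_bot_of_squarefree (hK : Group.IsNilpotent K)
    (hsq : Squarefree (commutator K).index) : commutator K = ⊥ := by
  classical
  have hab : Squarefree (Nat.card (Abelianization K)) := by
    rw [Subgroup.index_eq_card] at hsq; exact hsq
  haveI : IsZGroup (Abelianization K) := IsZGroup.of_squarefree hab
  haveI : IsCyclic (Abelianization K) := inferInstance
  obtain ⟨y, hy⟩ := IsCyclic.exists_generator (α := Abelianization K)
  obtain ⟨x, rfl⟩ := QuotientGroup.mk_surjective y
  have hx : Subgroup.zpowers x = ⊤ := by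
    by_contra hne
    obtain ⟨M, hM, hle⟩ := (eq_top_or_exists_le_coatom (Subgroup.zpowers x)).resolve_left hne
    haveI hMn : M.Normal :=
      Subgroup.NormalizerCondition.normal_of_coatom M (Group.normalizerCondition_of_isNilpotent) hM
    have hc : commutator K ≤ M := by
      have hsimple : ∀ Y : Subgroup (K ⧸ M), Y = ⊥ ∨ Y = ⊤ := by
        intro Y
        have h1 : M ≤ Y.comap (QuotientGroup.mk' M) := fun m hm => by
          rw [Subgroup.mem_comap, QuotientGroup.mk'_apply, (QuotientGroup.eq_one_iff m).mpr hm]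
          exact Y.one_mem
        rcases hM.le_iff.mp h1 with h | h
        · right
          rw [← Subgroup.map_comap_eq_self_of_surjective (QuotientGroup.mk'_surjective M) Y, h,
            Subgroup.map_top_of_surjective _ (QuotientGroup.mk'_surjective M)]
        · left
          rw [← Subgroup.map_comap_eq_self_of_surjective (QuotientGroup.mk'_surjective M) Y, h]
          exact (Subgroup.map_eq_bot_iff _).mpr (QuotientGroup.ker_mk' M).ge
      have hcomm : ∀ a b : K ⧸ M, a * b = b * a := by
        intro a b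
        rcases hsimple (Subgroup.zpowers a) with h | h
        · rw [Subgroup.zpowers_eq_bot] at h; simp [h]
        · obtain ⟨j, rfl⟩ := Subgroup.mem_zpowers_iff.mp (h.ge (Subgroup.mem_top b))
          exact (Commute.refl a).zpow_right j
      rw [commutator_eq_closure, Subgroup.closure_le]
      rintro _ ⟨a, b, rfl⟩
      rw [SetLike.mem_coe, ← QuotientGroup.eq_one_iff, commutatorElement_def]
      simp only [QuotientGroup.mk_mul, QuotientGroup.mk_inv]
      rw [hcomm (a : K ⧸ M) (b : K ⧸ M)]
      group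
    refine hM.1 (eq_top_iff.mpr fun k _ => ?_)
    obtain ⟨j, hj⟩ := Subgroup.mem_zpowers_iff.mp (hy (QuotientGroup.mk k))
    have hj : (QuotientGroup.mk (x ^ j) : K ⧸ commutator K) = QuotientGroup.mk k := hj
    rw [QuotientGroup.eq] at hj
    have h2 := M.mul_mem (M.zpow_mem (hle (Subgroup.mem_zpowers x)) j) (hc hj)
    simpa using h2
  rw [commutator_eq_closure, Subgroup.closure_eq_bot_iff]
  rintro _ ⟨a, b, rfl⟩
  obtain ⟨i, rfl⟩ := Subgroup.mem_zpowers_iff.mp (hx.ge (Subgroup.mem_top a))
  obtain ⟨j, rfl⟩ := Subgroup.mem_zpowers_iff.mp (hx.ge (Subgroup.mem_top b))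
  rw [Set.mem_singleton_iff, commutatorElement_eq_one_iff_commute]
  exact Commute.zpow_zpow (Commute.refl x) i j

/-- The small values of `n * e + 1` are squarefree. -/
theorem squarefree_small {n e : ℕ} (he : 3 ≤ e) (heo : Odd e) (hn : 2 ≤ n) (hne : Even n)
    (h : n * e + 1 < 25) : Squarefree (n * e + 1) := by
  have hn' : n ≤ 7 := by nlinarith
  have he' : e ≤ 11 := by nlinarith
  obtain ⟨m, rfl⟩ := hne
  obtain ⟨k, rfl⟩ := heo
  have hm : m ≤ 3 := by omega
  have hk : k ≤ 5 := by omega
  interval_cases m <;> interval_cases k <;>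
    first
    | omega
    | exact ((Nat.squarefree_iff_prime_squarefree).mpr fun q hq hd => by
        have h5 : q < 5 := by
          have := Nat.le_of_dvd (by norm_num) hd
          nlinarith
        revert hq hd
        interval_cases q <;> norm_num)

end Nilp

section Local

variable {L : Type u} [Group L] [Fintype L] (K : Subgroup L) [hKn : K.Normal]

/-- The permutation character on the cosets of a normal subgroup. -/
noncomputable def piK : L → ℂ :=
  open scoped Classical in fun x => if x ∈ K then (K.index : ℂ) else 0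

theorem piK_eq : piK K = indFun K (fun _ => (1 : ℂ)) := by
  classical
  funext x
  rw [indFun_apply]
  by_cases hx : x ∈ K
  · rw [piK, if_pos hx, Finset.sum_congr rfl fun t _ => show
        extendByZero K (fun _ => (1 : ℂ)) (t⁻¹ * x * t) = 1 by
      rw [extendByZero_of_mem _ _ (by simpa using hKn.conj_mem x hx t⁻¹)],
      Finset.sum_const, Finset.card_univ, nsmul_eq_mul, mul_one, ← Nat.card_eq_fintype_card,
      ← K.index_mul_card, Nat.cast_mul]
    rw [mul_comm, mul_assoc, mul_inv_cancel₀ (Nat.cast_ne_zero.mpr Nat.card_pos.ne'), mul_one]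
  · rw [piK, if_neg hx, Finset.sum_eq_zero, mul_zero]
    intro t _
    refine extendByZero_of_notMem _ _ fun hm => hx ?_
    simpa [mul_assoc] using hKn.conj_mem _ hm t

omit hKn in
theorem sum_mul_piK (f : L → ℂ) [Fintype K] :
    ∑ x, f x * piK K x = (K.index : ℂ) * ∑ k : K, f k := by
  classical
  simp only [piK, mul_ite, mul_zero]
  rw [← Finset.sum_filter, Finset.sum_subtype (Finset.univ.filter fun x : L => x ∈ K)
    (p := fun x => x ∈ K) (fun x => by simp) fun x => f x * (K.index : ℂ), ← Finset.sum_mul,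
    mul_comm]

/-- The characters induced from the nonprincipal linear characters of the kernel. -/
theorem exists_linear_family (hC : ∀ k ∈ K, k ≠ 1 → Subgroup.centralizer ({k} : Set L) ≤ K)
    (hK : K ≠ ⊤) (hK1 : K ≠ ⊥) (hodd : Odd (Nat.card L)) :
    ∃ (n : ℕ) (ψ : Fin n → L → ℂ) (σ : Fin n → Fin n),
      2 ≤ n ∧ Even n ∧ 3 ≤ K.index ∧ Odd K.index ∧
      n * K.index + 1 ∣ Nat.card K ∧ (n * K.index + 1 < 25 → n * K.index + 1 = Nat.card K) ∧
      (∀ l, IsIrrCharacter L (ψ l)) ∧ Function.Injective ψ ∧ (∀ l, ψ l 1 = K.index) ∧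
      (∀ l x, x ∉ K → ψ l x = 0) ∧ (∀ l x, ψ (σ l) x = conj (ψ l x)) ∧ (∀ l, σ l ≠ l) := by
  classical
  haveI := Fintype.ofFinite K
  have hodd' : Odd K.index := Odd.of_dvd_nat hodd K.index_dvd_card
  have he3 : 3 ≤ K.index := by
    have h1 : K.index ≠ 1 := fun e => hK (Subgroup.index_eq_one.mp e)
    obtain ⟨r, hr⟩ := hodd'
    omega
  let Lin := {l : K →* ℂˣ // l ≠ 1}
  haveI : Finite (K →* ℂˣ) := Nat.finite_of_card_ne_zero (by
    rw [card_monoidHom_units]; exact Subgroup.index_ne_zero_of_finite)
  haveI : Fintype Lin := Fintype.ofFinite _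
  let tau : Lin → K → ℂ := fun l k => (l.1 k : ℂ)
  have htirr : ∀ l, IsIrrCharacter K (tau l) := fun l => isIrrCharacter_monoidHom l.1
  have ht1 : ∀ l, tau l ≠ fun _ => 1 := fun l e =>
    l.2 (MonoidHom.ext fun k => Units.ext (congrFun e k))
  have htinj : Function.Injective tau := fun a b e => Subtype.ext (monoidHom_coe_injective e)
  let F : Lin → L → ℂ := fun l => indFun K (tau l)
  have hFirr : ∀ l, IsIrrCharacter L (F l) := fun l => FK.isIrr_ind K hC (htirr l) (ht1 l)
  let S : Finset (L → ℂ) := Finset.univ.image F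
  have hfib : ∀ ψ ∈ S, (Finset.univ.filter fun l => F l = ψ).card = K.index := by
    intro ψ hψ
    obtain ⟨l, -, rfl⟩ := Finset.mem_image.mp hψ
    have hk : (Nat.card K : ℂ) ≠ 0 := Nat.cast_ne_zero.mpr Nat.card_pos.ne'
    let act : L → Lin := fun g => ⟨l.1.comp (MulAut.conjNormal g : MulAut K).toMonoidHom, fun e =>
      l.2 (MonoidHom.ext fun k => by
        simpa using DFunLike.congr_fun e ((MulAut.conjNormal g : MulAut K).symm k))⟩
    have hact : ∀ g l', conjChar K g (tau l) = tau l' ↔ act g = l' := by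
      intro g l'
      have e : conjChar K g (tau l) = tau (act g) := funext fun k => conjChar_apply K g (tau l) k
      rw [e]
      exact htinj.eq_iff
    have hcount : ∀ l', (Finset.univ.filter fun g : L => act g = l').card =
        if F l' = F l then Nat.card K else 0 := by
      intro l'
      have h := classInner_indFun_indFun K (htirr l) (htirr l')
      rw [Finset.filter_congr fun g _ => hact g l'] at h
      split_ifs with hh
      · have h1 : classInner (F l') (F l) = 1 := by
          rw [hh]; exact IsIrrCharacter.classInner_self (hFirr l)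
        rw [show classInner (indFun K (tau l')) (indFun K (tau l)) = 1 from h1,
          eq_comm, div_eq_one_iff_eq hk] at h
        exact_mod_cast h
      · have h1 : classInner (F l') (F l) = 0 :=
          IsIrrCharacter.classInner_eq_zero (hFirr l') (hFirr l) hh
        rw [show classInner (indFun K (tau l')) (indFun K (tau l)) = 0 from h1,
          eq_comm, div_eq_zero_iff] at h
        exact_mod_cast h.resolve_right hk
    have htot := Finset.card_eq_sum_card_fiberwise (f := act) (s := Finset.univ) (t := Finset.univ)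
      fun g _ => Finset.mem_coe.mpr (Finset.mem_univ _)
    rw [Finset.sum_congr rfl fun l' _ => hcount l', ← Finset.sum_filter, Finset.sum_const,
      smul_eq_mul, Finset.card_univ, ← Nat.card_eq_fintype_card, ← K.index_mul_card] at htot
    exact (Nat.eq_of_mul_eq_mul_right Nat.card_pos htot).symm
  have hlin : Fintype.card Lin + 1 = (commutator K).index := by
    haveI := Fintype.ofFinite (K →* ℂˣ)
    rw [← card_monoidHom_units, Nat.card_eq_fintype_card, Fintype.card_subtype_compl,
      Fintype.card_subtype_eq]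
    have : 0 < Fintype.card (K →* ℂˣ) := Fintype.card_pos
    omega
  have hcard : S.card * K.index + 1 = (commutator K).index := by
    rw [← hlin, ← Finset.card_univ (α := Lin),
      Finset.card_eq_sum_card_fiberwise (f := F) (s := Finset.univ) (t := S) fun l hl => by
        simp [S],
      Finset.sum_congr rfl hfib, Finset.sum_const, smul_eq_mul]
  have hne : S.Nonempty := by
    obtain ⟨θ, hθ, hθ1, hθd⟩ := FK.exists_linear K hC hK hK1
    obtain ⟨l, hl⟩ := IsCharacter.exists_monoidHom (IsIrrCharacter.isCharacter hθ) hθd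
    exact ⟨F ⟨l, fun e => hθ1 (by funext k; rw [hl, e]; simp)⟩,
      Finset.mem_image_of_mem _ (Finset.mem_univ _)⟩
  have hdvd : (commutator K).index ∣ Nat.card K := (commutator K).index_dvd_card
  have hev : Even S.card := by
    have h1 : Odd (S.card * K.index + 1) := hcard ▸ Odd.of_dvd_nat
      (Odd.of_dvd_nat hodd K.card_subgroup_dvd_card) hdvd
    rw [Nat.odd_add_one, Nat.not_odd_iff_even, Nat.even_mul] at h1
    exact h1.resolve_right (Nat.not_even_iff_odd.mpr hodd')
  have hn2 : 2 ≤ S.card := by
    have := hne.card_pos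
    obtain ⟨r, hr⟩ := hev
    omega
  let e := S.equivFin
  let ψ : Fin S.card → L → ℂ := fun i => (e.symm i : L → ℂ)
  have hψF : ∀ i, ∃ l, F l = ψ i := fun i => by
    obtain ⟨l, -, hl⟩ := Finset.mem_image.mp (e.symm i).2
    exact ⟨l, hl⟩
  have hirr : ∀ i, IsIrrCharacter L (ψ i) := fun i => by
    obtain ⟨l, hl⟩ := hψF i; exact hl ▸ hFirr l
  have hdeg : ∀ i, ψ i 1 = K.index := fun i => by
    obtain ⟨l, hl⟩ := hψF i
    rw [← hl]; simp [F, tau, indFun_one_apply]
  have hvan : ∀ i x, x ∉ K → ψ i x = 0 := fun i x hx => by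
    obtain ⟨l, hl⟩ := hψF i
    rw [← hl]
    show indFun K (tau l) x = 0
    rw [indFun_apply, Finset.sum_eq_zero, mul_zero]
    intro t _
    refine extendByZero_of_notMem _ _ fun hm => hx ?_
    simpa [mul_assoc] using hKn.conj_mem _ hm t
  have hconjF : ∀ l : Lin, ∃ l' : Lin, ∀ x, F l' x = conj (F l x) := by
    intro l
    refine ⟨⟨l.1⁻¹, fun h => l.2 (MonoidHom.ext fun k => inv_eq_one.mp (DFunLike.congr_fun h k))⟩, fun x => ?_⟩
    show indFun K (tau _) x = conj (indFun K (tau l) x)
    rw [indFun_apply, indFun_apply, map_mul, map_inv₀, Complex.conj_natCast, map_sum]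
    congr 1
    refine Finset.sum_congr rfl fun t _ => ?_
    by_cases hm : t⁻¹ * x * t ∈ K
    · rw [extendByZero_of_mem _ _ hm, extendByZero_of_mem _ _ hm,
        ← IsCharacter.map_inv (IsIrrCharacter.isCharacter (htirr l))]
      simp [tau]
    · rw [extendByZero_of_notMem _ _ hm, extendByZero_of_notMem _ _ hm, map_zero]
  have hσ : ∀ i, ∃ j, ∀ x, ψ j x = conj (ψ i x) := by
    intro i
    obtain ⟨l, hl⟩ := hψF i
    obtain ⟨l', hl'⟩ := hconjF l
    refine ⟨e ⟨F l', Finset.mem_image_of_mem _ (Finset.mem_univ _)⟩, fun x => ?_⟩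
    simp only [ψ, Equiv.symm_apply_apply]
    rw [hl' x, hl]
  choose σ hσ using hσ
  refine ⟨S.card, ψ, σ, hn2, hev, he3, hodd', hcard ▸ hdvd, fun hlt => ?_, hirr,
    fun i j h => e.symm.injective (Subtype.ext h), hdeg, hvan, hσ, fun i h => ?_⟩
  · rw [hcard] at hlt ⊢
    have hsq : Squarefree (commutator K).index :=
      hcard ▸ squarefree_small he3 hodd' hn2 hev (hcard.symm ▸ hlt)
    rw [commutator_eq_bot_of_squarefree (FK.isNilpotent K hC hK) hsq, Subgroup.index_bot]
  · have hreal : ψ i = fun _ => 1 := real_irr_eq_one hodd ⟨ψ i, hirr i⟩ fun x => by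
      have := hσ i x
      rw [h] at this
      exact Complex.conj_eq_iff_im.mp this.symm
    have h1 := hdeg i
    rw [hreal] at h1
    simp only at h1
    have : (1 : ℕ) = K.index := by exact_mod_cast h1
    omega

omit hKn in
theorem classInner_piK_self : classInner (piK K) (piK K) = (K.index : ℂ) := by
  classical
  haveI := Fintype.ofFinite K
  have h : ∀ x, piK K x * conj (piK K x) = piK K x * piK K x := fun x => by
    simp only [piK]; split_ifs <;> simp
  rw [classInner, Finset.sum_congr rfl fun x _ => h x, sum_mul_piK]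
  simp only [piK, SetLike.coe_mem, if_true, Finset.sum_const, Finset.card_univ, nsmul_eq_mul,
    ← Nat.card_eq_fintype_card]
  rw [← K.index_mul_card, Nat.cast_mul]
  have h1 : (K.index : ℂ) ≠ 0 := Nat.cast_ne_zero.mpr Subgroup.index_ne_zero_of_finite
  have h2 : (Nat.card K : ℂ) ≠ 0 := Nat.cast_ne_zero.mpr Nat.card_pos.ne'
  field_simp

omit hKn in
theorem classInner_piK_one : classInner (piK K) (fun _ => (1 : ℂ)) = 1 := by
  classical
  haveI := Fintype.ofFinite K
  have h : ∀ x, piK K x * conj (1 : ℂ) = 1 * piK K x := fun x => by simp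
  rw [classInner, Finset.sum_congr rfl fun x _ => h x, sum_mul_piK]
  simp only [Finset.sum_const, Finset.card_univ, nsmul_eq_mul, mul_one,
    ← Nat.card_eq_fintype_card]
  rw [← Nat.cast_mul, K.index_mul_card, inv_mul_cancel₀ (Nat.cast_ne_zero.mpr Nat.card_pos.ne')]

theorem classInner_piK_irr (hC : ∀ k ∈ K, k ≠ 1 → Subgroup.centralizer ({k} : Set L) ≤ K)
    (he : 3 ≤ K.index) {ψ : L → ℂ} (hψ : IsIrrCharacter L ψ) (hdeg : ψ 1 = K.index)
    (hvan : ∀ x, x ∉ K → ψ x = 0) : classInner ψ (piK K) = 0 := by
  classical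
  haveI := Fintype.ofFinite K
  have hrel : ∃ k ∈ K, ψ k ≠ ψ 1 := by
    by_contra hh
    push Not at hh
    have e : ψ = piK K := funext fun x => by
      by_cases hx : x ∈ K
      · rw [hh x hx, hdeg, piK, if_pos hx]
      · rw [hvan x hx, piK, if_neg hx]
    have h1 := IsIrrCharacter.classInner_self hψ
    rw [e, classInner_piK_self] at h1
    have : K.index = 1 := by exact_mod_cast h1
    omega
  have h : ∀ x, ψ x * conj (piK K x) = ψ x * piK K x := fun x => by
    simp only [piK]; split_ifs <;> simp
  rw [classInner, Finset.sum_congr rfl fun x _ => h x, sum_mul_piK,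
    FK.sum_restrict_eq_zero K hC hψ hrel, mul_zero, mul_zero]

end Local

/-- The data attached to one trivial intersection subgroup with Frobenius normalizer. -/
structure Fam (G : Type u) [Group G] [Fintype G] (X : Set G) where
  n : ℕ
  e : ℕ
  β : Fin n → G → ℂ
  θ : Fin n → IrrCharacter G
  σ : Fin n → Fin n
  ε : ℂ
  two_le : 2 ≤ n
  sign : ε = 1 ∨ ε = -1
  gen : ∀ l, IsGeneralizedCharacter G (β l)
  inj : Function.Injective θ
  diff : ∀ l k, β l - β k = ε • ((θ k : G → ℂ) - (θ l : G → ℂ))
  inner : ∀ l k, classInner (β l) (β k) = (e : ℂ) + if l = k then 1 else 0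
  inner_one : ∀ l, classInner (β l) (fun _ => 1) = 1
  conj_β : ∀ l g, β (σ l) g = conj (β l g)
  σ_ne : ∀ l, σ l ≠ l
  supp : ∀ l g, β l g ≠ 0 → g ≠ 1 ∧ ∃ x : G, x * g * x⁻¹ ∈ X

/-- The family of one trivial intersection subgroup. -/
theorem exists_fam {G : Type u} [Group G] [Fintype G] (hodd : Odd (Nat.card G)) (N H : Subgroup G)
    (hHN : H < N) (hH1 : H ≠ ⊥) (hHn : ∀ x ∈ N, ∀ h ∈ H, x * h * x⁻¹ ∈ H)
    (hfrob : ∀ h ∈ H, h ≠ 1 → N ⊓ Subgroup.centralizer ({h} : Set G) ≤ H)
    (hTI : ∀ g : G, g ∉ N → ∀ x ∈ (H : Set G), g * x * g⁻¹ ∈ (H : Set G) → x = 1) :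
    ∃ F : Fam G (H : Set G), F.e = H.relIndex N ∧ Even F.n ∧ 3 ≤ F.e ∧ Odd F.e ∧
      F.n * F.e + 1 ∣ Nat.card H ∧ (F.n * F.e + 1 < 25 → F.n * F.e + 1 = Nat.card H) := by
  classical
  haveI : Fintype N := Fintype.ofFinite _
  haveI hKn : (H.subgroupOf N).Normal := ⟨fun k hk x => hHn x x.2 k hk⟩
  set K := H.subgroupOf N with hKdef
  have hC : ∀ k ∈ K, k ≠ 1 → Subgroup.centralizer ({k} : Set N) ≤ K := fun k hk hk1 x hx =>
    hfrob k hk (fun e => hk1 (Subtype.ext e)) ⟨x.2, Subgroup.mem_centralizer_singleton_iff.mpr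
      (congrArg Subtype.val (Subgroup.mem_centralizer_singleton_iff.mp hx))⟩
  have hK : K ≠ ⊤ := fun e => hHN.not_ge (Subgroup.subgroupOf_eq_top.mp e)
  have hKc : Nat.card K = Nat.card H := Nat.card_congr (Subgroup.subgroupOfEquivOfLe hHN.le).toEquiv
  have hK1 : K ≠ ⊥ := fun e => hH1 (Subgroup.card_eq_one.mp (by rw [← hKc, e, Subgroup.card_bot]))
  obtain ⟨n, ψ, σ, hn, hnev, he3, heo, hdvd, hsmall, hirr, hinj, hdeg, hvan, hσ, hσne⟩ :=
    exists_linear_family K hC hK hK1 (Odd.of_dvd_nat hodd N.card_subgroup_dvd_card)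
  let ξ : Fin n → N → ℂ := fun l => piK K - ψ l
  have hξgen : ∀ l, IsGeneralizedCharacter N (ξ l) := fun l => isGeneralizedCharacter_sub
    (piK_eq K ▸ isGeneralizedCharacter_indFun K
      (IsIrrCharacter.isGeneralized isIrrCharacter_one))
    (IsIrrCharacter.isGeneralized (hirr l))
  have hξcf : ∀ l, IsClassFunction N (ξ l) := fun l =>
    IsGeneralizedCharacter.isClassFunction (hξgen l)
  have hξS : ∀ l (x : N), (x : G) ∉ (H : Set G) → ξ l x = 0 := fun l x hx => by
    have hxK : x ∉ K := hx
    simp [ξ, piK, hxK, hvan l x hxK]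
  have hξ1 : ∀ l, ξ l 1 = 0 := fun l => by simp [ξ, piK, hdeg l]
  have hξin : ∀ l k, classInner (ξ l) (ξ k) = (K.index : ℂ) + if l = k then 1 else 0 := by
    intro l k
    have h2 : classInner (piK K) (ψ k) = 0 := by
      rw [← classInner_conj_symm, classInner_piK_irr K hC he3 (hirr k) (hdeg k) (hvan k), map_zero]
    simp only [ξ, classInner_sub_left, classInner_sub_right, classInner_piK_self, h2,
      classInner_piK_irr K hC he3 (hirr l) (hdeg l) (hvan l)]
    by_cases hlk : l = k
    · subst hlk
      rw [IsIrrCharacter.classInner_self (hirr l), if_pos rfl]; ring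
    · rw [IsIrrCharacter.classInner_eq_zero (hirr l) (hirr k) (fun e => hlk (hinj e)),
        if_neg hlk]; ring
  obtain ⟨ε, hε, θ, hθinj, hθ⟩ := exists_exceptional_ti (H : Set G) N hTI hn ψ hirr hinj
    (fun i j x hx => by rw [hvan i x hx, hvan j x hx]) (fun i j => by rw [hdeg, hdeg])
  refine ⟨{
    n := n
    e := K.index
    β := fun l => indFun N (ξ l)
    θ := θ
    σ := σ
    ε := ε
    two_le := hn
    sign := hε
    gen := fun l => isGeneralizedCharacter_indFun N (hξgen l)
    inj := hθinj
    diff := fun l k => by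
      rw [← hθ k l, ← indFun_sub, ← indFun_sub]
      congr 1
      simp only [ξ]
      abel
    inner := fun l k => by
      rw [classInner_indFun_ti (H : Set G) N hTI (hξcf k) (hξS l) (hξS k) (hξ1 l)]
      exact hξin l k
    inner_one := fun l => by
      have h1 : IsClassFunction G (fun _ : G => (1 : ℂ)) := fun _ _ => rfl
      rw [classInner_indFun N (ξ l) h1]
      show classInner (piK K - ψ l) (fun _ : N => (1 : ℂ)) = 1
      have h0 : classInner (ψ l) (fun _ : N => (1 : ℂ)) = 0 :=
        IsIrrCharacter.classInner_eq_zero (hirr l) isIrrCharacter_one fun e => by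
          have := congrFun e 1
          rw [hdeg] at this
          have : K.index = 1 := by exact_mod_cast this
          omega
      rw [classInner_sub_left, classInner_piK_one, h0, sub_zero]
    conj_β := fun l g => by
      rw [indFun_apply, indFun_apply, map_mul, map_inv₀, Complex.conj_natCast, map_sum]
      congr 1
      refine Finset.sum_congr rfl fun t _ => ?_
      by_cases hm : t⁻¹ * g * t ∈ N
      · rw [extendByZero_of_mem _ _ hm, extendByZero_of_mem _ _ hm]
        simp only [ξ, Pi.sub_apply, map_sub, hσ, piK]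
        split_ifs <;> simp
      · rw [extendByZero_of_notMem _ _ hm, extendByZero_of_notMem _ _ hm, map_zero]
    σ_ne := hσne
    supp := fun l g hg => by
      rw [indFun_apply] at hg
      obtain ⟨t, -, ht⟩ := Finset.exists_ne_zero_of_sum_ne_zero (right_ne_zero_of_mul hg)
      have hm : t⁻¹ * g * t ∈ N := by_contra fun hm => ht (extendByZero_of_notMem _ _ hm)
      rw [extendByZero_of_mem _ _ hm] at ht
      refine ⟨fun e => ht ?_, t⁻¹, ?_⟩
      · rw [show (⟨t⁻¹ * g * t, hm⟩ : N) = 1 from Subtype.ext (by simp [e]), hξ1]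
      · by_contra hh
        exact ht (hξS l _ (by simpa using hh)) },
    rfl, hnev, he3, heo, hKc ▸ hdvd, fun h => hKc ▸ hsmall h⟩

end Cfsg.Agent.Char.FrobFamily
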