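import Cfsg.Agent.Lib.Char.FrobFamily

/-!
# No group of odd order is covered by coprime Frobenius kernels
-/

set_option autoImplicit false
set_option linter.style.haveILetI false

namespace Cfsg.Agent.Char.FrobPartition

open Cfsg FrobFamily
open scoped ComplexConjugate

universe u

variable {G : Type u} [Group G] [Fintype G]

theorem ne_zero_of_sign {ε : ℂ} (h : ε = 1 ∨ ε = -1) : ε ≠ 0 := by
  rcases h with rfl | rfl <;> norm_num

theorem mul_self_of_sign {ε : ℂ} (h : ε = 1 ∨ ε = -1) : ε * ε = 1 := by
  rcases h with rfl | rfl <;> norm_num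

theorem conj_of_sign {ε : ℂ} (h : ε = 1 ∨ ε = -1) : conj ε = ε := by
  rcases h with rfl | rfl <;> simp

/-- Bessel's inequality. -/
theorem bessel {κ : Type*} [DecidableEq κ] (s : Finset κ) (f : κ → G → ℂ) (χ : G → ℂ) (c N : κ → ℝ)
    (hN : ∀ i ∈ s, 0 < N i) (hc : ∀ i ∈ s, classInner (f i) χ = (c i : ℂ))
    (hf : ∀ i ∈ s, ∀ j ∈ s, classInner (f i) (f j) = if i = j then (N i : ℂ) else 0)
    (hχ : classInner χ χ = 1) : ∑ i ∈ s, c i ^ 2 / N i ≤ 1 := by
  classical
  let t : κ → ℂ := fun i => ((c i / N i : ℝ) : ℂ)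
  let F : G → ℂ := ∑ i ∈ s, t i • f i
  have hFχ : classInner F χ = ((∑ i ∈ s, c i ^ 2 / N i : ℝ) : ℂ) := by
    rw [classInner_sum_left, Complex.ofReal_sum]
    refine Finset.sum_congr rfl fun i hi => ?_
    rw [classInner_smul_left, hc i hi]
    simp only [t]
    rw [← Complex.ofReal_mul]
    congr 1
    ring
  have hχF : classInner χ F = ((∑ i ∈ s, c i ^ 2 / N i : ℝ) : ℂ) := by
    rw [← classInner_conj_symm, hFχ, Complex.conj_ofReal]
  have hFF : classInner F F = ((∑ i ∈ s, c i ^ 2 / N i : ℝ) : ℂ) := by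
    rw [classInner_sum_left, Complex.ofReal_sum]
    refine Finset.sum_congr rfl fun i hi => ?_
    rw [classInner_smul_left, classInner_sum_right, Finset.sum_eq_single i]
    · rw [classInner_smul_right, hf i hi i hi, if_pos rfl]
      simp only [t, Complex.conj_ofReal]
      rw [← Complex.ofReal_mul, ← Complex.ofReal_mul]
      congr 1
      field_simp [(hN i hi).ne']
    · intro j hj hji
      rw [classInner_smul_right, hf i hi j hj, if_neg (Ne.symm hji), mul_zero]
    · exact fun h => absurd hi h
  have h := classInner_self_re_nonneg (χ - F)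
  rw [classInner_sub_left, classInner_sub_right, classInner_sub_right, hχ, hχF, hFχ, hFF] at h
  simp only [Complex.sub_re, Complex.one_re, Complex.ofReal_re, sub_self, sub_zero] at h
  linarith

/-- Two real generalized characters, one orthogonal to the principal one, have an even product. -/
theorem even_inner (hodd : Odd (Nat.card G)) {f f' : G → ℂ} (hf : IsGeneralizedCharacter G f)
    (hf' : IsGeneralizedCharacter G f') (hr : ∀ g, conj (f g) = f g) (hr' : ∀ g, conj (f' g) = f' g)
    (h1 : classInner f (fun _ => 1) = 0) : ∃ z : ℤ, classInner f f' = ((2 * z : ℤ) : ℂ) := by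
  classical
  haveI := Fintype.ofFinite (IrrCharacter G)
  obtain ⟨c, -, hc⟩ := IsGeneralizedCharacter.exists_intCoeff hf
  obtain ⟨d, -, hd⟩ := IsGeneralizedCharacter.exists_intCoeff hf'
  have key : ∀ (φ : G → ℂ), (∀ g, conj (φ g) = φ g) → ∀ χ : IrrCharacter G,
      classInner φ (conjIrr χ : G → ℂ) = conj (classInner φ (χ : G → ℂ)) := by
    intro φ hφ χ
    simp only [classInner, map_mul, map_inv₀, Complex.conj_natCast, map_sum, conjIrr_apply,
      Complex.conj_conj, hφ]
  have hci : ∀ χ, c (conjIrr χ) = c χ := fun χ => by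
    have := key f hr χ
    rw [hc, hc, map_intCast] at this
    exact_mod_cast this
  have hdi : ∀ χ, d (conjIrr χ) = d χ := fun χ => by
    have := key f' hr' χ
    rw [hd, hd, map_intCast] at this
    exact_mod_cast this
  have h0 : ∑ χ, ((c χ * d χ : ℤ) : ZMod 2) = 0 := by
    refine Finset.sum_involution (fun χ _ => conjIrr χ) (fun χ _ => ?_) (fun χ _ hne e => hne ?_)
      (fun _ _ => Finset.mem_univ _) (fun χ _ => Subtype.ext (funext fun g => Complex.conj_conj _))
    · rw [hci, hdi]; exact CharTwo.add_self_eq_zero _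
    · have h2 : (χ : G → ℂ) = fun _ => 1 := real_irr_eq_one hodd χ ((conjIrr_eq_iff χ).mp e)
      have h3 := hc χ
      rw [h2, h1] at h3
      have : c χ = 0 := by exact_mod_cast h3.symm
      simp [this]
  rw [← Int.cast_sum, ZMod.intCast_zmod_eq_zero_iff_dvd] at h0
  obtain ⟨z, hz⟩ := h0
  refine ⟨z, ?_⟩
  have e : ((2 * z : ℤ) : ℂ) = ((∑ χ, c χ * d χ : ℤ) : ℂ) := by rw [hz]; norm_num
  rw [e, classInner_eq_sum_mul (IsGeneralizedCharacter.isClassFunction hf)
    (IsGeneralizedCharacter.isClassFunction hf')]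
  simp [hc, hd]

section One

variable {X : Set G} (F : Fam G X)

/-- The first index of a family. -/
def o : Fin F.n := ⟨0, lt_of_lt_of_le Nat.zero_lt_two F.two_le⟩

theorem θ_inner (l k : Fin F.n) :
    classInner (F.θ l : G → ℂ) (F.θ k : G → ℂ) = if l = k then 1 else 0 := by
  classical
  simp [classInner_irr, F.inj.eq_iff]

theorem conj_θ (l : Fin F.n) (g : G) :
    (F.θ (F.σ l) : G → ℂ) g = conj ((F.θ l : G → ℂ) g) := by
  classical
  obtain ⟨k, hk⟩ : ∃ k, k ≠ l := ⟨F.σ l, F.σ_ne l⟩
  have e : (conjIrr (F.θ l) : G → ℂ) - (conjIrr (F.θ k) : G → ℂ) =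
      (F.θ (F.σ l) : G → ℂ) - (F.θ (F.σ k) : G → ℂ) := by
    funext x
    have h1 := congrFun (F.diff k l) x
    have h2 := congrFun (F.diff (F.σ k) (F.σ l)) x
    simp only [Pi.sub_apply, Pi.smul_apply, smul_eq_mul, F.conj_β] at h1 h2
    rw [← map_sub, h1, map_mul, conj_of_sign F.sign, map_sub] at h2
    exact mul_left_cancel₀ (ne_zero_of_sign F.sign) h2
  have hne : conjIrr (F.θ k) ≠ conjIrr (F.θ l) := fun h => hk (F.inj (conjIrr.injective h))
  have h3 := congrArg (fun f : G → ℂ => classInner f (conjIrr (F.θ l) : G → ℂ)) e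
  simp only [classInner_sub_left, classInner_irr, if_neg hne, if_true, sub_zero] at h3
  have h4 : F.θ (F.σ l) = conjIrr (F.θ l) := by
    by_contra hh
    rw [if_neg hh] at h3
    split_ifs at h3 <;> norm_num at h3
  rw [h4, conjIrr_apply]

theorem θ_ne_one (l : Fin F.n) : (F.θ l : G → ℂ) ≠ fun _ => 1 := by
  intro h
  refine F.σ_ne l (F.inj (Subtype.ext (funext fun g => ?_)))
  rw [conj_θ, h]
  simp

theorem θ_inner_one (l : Fin F.n) : classInner (F.θ l : G → ℂ) (fun _ => 1) = 0 :=
  IsIrrCharacter.classInner_eq_zero (F.θ l).2 isIrrCharacter_one (θ_ne_one F l)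

theorem one_inner_one : classInner (fun _ : G => (1 : ℂ)) (fun _ => 1) = 1 :=
  IsIrrCharacter.classInner_self isIrrCharacter_one

theorem one_inner_θ (l : Fin F.n) : classInner (fun _ : G => (1 : ℂ)) (F.θ l : G → ℂ) = 0 := by
  rw [← classInner_conj_symm, θ_inner_one, map_zero]

/-- The part of an induced function not explained by the principal and exceptional characters. -/
def Δ : G → ℂ := F.β (o F) - (fun _ => 1) + F.ε • (F.θ (o F) : G → ℂ)

theorem β_eq (l : Fin F.n) :
    F.β l = Δ F + (fun _ => 1) - F.ε • (F.θ l : G → ℂ) := by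
  have h := F.diff l (o F)
  rw [sub_eq_iff_eq_add] at h
  rw [h, Δ, smul_sub]
  abel

theorem Δ_real (g : G) : conj (Δ F g) = Δ F g := by
  have h := congrFun (β_eq F (F.σ (o F))) g
  simp only [Pi.sub_apply, Pi.add_apply, Pi.smul_apply, smul_eq_mul, F.conj_β, conj_θ] at h
  simp only [Δ, Pi.sub_apply, Pi.add_apply, Pi.smul_apply, smul_eq_mul] at h ⊢
  rw [map_add, map_sub, map_one, map_mul, conj_of_sign F.sign, h]
  ring

theorem Δ_gen : IsGeneralizedCharacter G (Δ F) := by
  have hθ := IsIrrCharacter.isGeneralized (F.θ (o F)).2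
  refine isGeneralizedCharacter_add (isGeneralizedCharacter_sub (F.gen _)
    isGeneralizedCharacter_one) ?_
  rcases F.sign with h | h <;> rw [h]
  · rwa [one_smul]
  · rw [neg_one_smul]; exact isGeneralizedCharacter_neg hθ

theorem Δ_one : classInner (Δ F) (fun _ => 1) = 0 := by
  rw [Δ, classInner_add_left, classInner_sub_left, classInner_smul_left, F.inner_one,
    one_inner_one, θ_inner_one, mul_zero, sub_self, zero_add]

theorem β_θ_diff (l k k' : Fin F.n) :
    classInner (F.β l) (F.θ k : G → ℂ) - classInner (F.β l) (F.θ k' : G → ℂ) =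
      F.ε * ((if l = k' then 1 else 0) - if l = k then 1 else 0) := by
  have h := congrArg (fun f : G → ℂ => classInner (F.β l) f) (F.diff k' k)
  simp only [classInner_sub_right, classInner_smul_right, F.inner, conj_of_sign F.sign] at h
  linear_combination (-F.ε) * h -
    (classInner (F.β l) (F.θ k : G → ℂ) - classInner (F.β l) (F.θ k' : G → ℂ)) * mul_self_of_sign F.sign

theorem θ_β_diff (l k m : Fin F.n) :
    classInner (F.β l) (F.θ m : G → ℂ) - classInner (F.β k) (F.θ m : G → ℂ) =
      F.ε * ((if k = m then 1 else 0) - if l = m then 1 else 0) := by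
  rw [← classInner_sub_left, F.diff, classInner_smul_left, classInner_sub_left, θ_inner, θ_inner]

end One

variable {ι : Type*} {X : ι → Set G} (F : ∀ i, Fam G (X i))

/-- The supports are disjoint. -/
def Disj : Prop :=
  ∀ i m, i ≠ m → ∀ g : G, g ≠ 1 → (∃ x : G, x * g * x⁻¹ ∈ X i) → (∃ x : G, x * g * x⁻¹ ∈ X m) → False

variable {F}
variable (hD : Disj (X := X))

include hD in
theorem β_orth {i m : ι} (him : i ≠ m) (l : Fin (F i).n) (k : Fin (F m).n) :
    classInner ((F i).β l) ((F m).β k) = 0 := by
  rw [classInner, Finset.sum_eq_zero, mul_zero]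
  intro g _
  by_contra hne
  have h1 := (F i).supp l g (left_ne_zero_of_mul hne)
  have h2 := (F m).supp k g (fun h => hne (by rw [h, map_zero, mul_zero]))
  exact hD i m him g h1.1 h1.2 h2.2

include hD in
theorem θ_ne {i m : ι} (him : i ≠ m) (l : Fin (F i).n) (k : Fin (F m).n) :
    (F i).θ l ≠ (F m).θ k := by
  classical
  intro h
  have h' : (F i).θ ((F i).σ l) = (F m).θ ((F m).σ k) := Subtype.ext (funext fun g => by
    rw [conj_θ, conj_θ, h])
  have h0 : classInner ((F i).β ((F i).σ l) - (F i).β l) ((F m).β ((F m).σ k) - (F m).β k) = 0 := by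
    simp [classInner_sub_left, classInner_sub_right, β_orth hD him]
  rw [(F i).diff, (F m).diff, ← h, ← h', classInner_smul_left, classInner_smul_right,
    classInner_sub_left, classInner_sub_right, classInner_sub_right] at h0
  simp only [θ_inner, if_true, if_neg ((F i).σ_ne l), if_neg ((F i).σ_ne l).symm,
    mul_eq_zero, map_eq_zero, ne_zero_of_sign (F i).sign, ne_zero_of_sign (F m).sign,
    false_or] at h0
  norm_num at h0

include hD in
theorem θ_orth {i m : ι} (him : i ≠ m) (l : Fin (F i).n) (k : Fin (F m).n) :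
    classInner ((F i).θ l : G → ℂ) ((F m).θ k : G → ℂ) = 0 := by
  classical
  rw [classInner_irr, if_neg (θ_ne hD him l k)]

/-- The common product of one induced function with another family of exceptional characters. -/
noncomputable def cc (i m : ι) : ℂ := classInner ((F i).β (o (F i))) ((F m).θ (o (F m)) : G → ℂ)

include hD in
theorem β_θ {i m : ι} (him : i ≠ m) (l : Fin (F i).n) (k : Fin (F m).n) :
    classInner ((F i).β l) ((F m).θ k : G → ℂ) = cc (F := F) i m := by
  have h1 : ∀ l, classInner ((F i).β l) ((F m).θ k : G → ℂ) =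
      classInner ((F i).β (o (F i))) ((F m).θ k : G → ℂ) := fun l => by
    rw [← sub_eq_zero, ← classInner_sub_left, (F i).diff, classInner_smul_left,
      classInner_sub_left, θ_orth hD him, θ_orth hD him, sub_zero, mul_zero]
  rw [h1, cc, ← sub_eq_zero, ← classInner_sub_right]
  have h := congrArg (fun f : G → ℂ => classInner ((F i).β (o (F i))) f) ((F m).diff (o (F m)) k)
  simp only [classInner_sub_right, β_orth hD him, classInner_smul_right, sub_zero] at h
  rcases mul_eq_zero.mp h.symm with h0 | h0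
  · exact absurd ((map_eq_zero _).mp h0) (ne_zero_of_sign (F m).sign)
  · rw [classInner_sub_right, h0]

theorem cc_int (i m : ι) : ∃ z : ℤ, cc (F := F) i m = z :=
  classInner_int_of_isGeneralized ((F i).gen _)
    (IsIrrCharacter.isGeneralized ((F m).θ (o (F m))).2)

include hD in
theorem cc_or (hodd : Odd (Nat.card G)) {i m : ι} (him : i ≠ m) :
    cc (F := F) i m ≠ 0 ∨ cc (F := F) m i ≠ 0 := by
  by_contra hh
  push Not at hh
  have hΔθ : ∀ a b : ι, a ≠ b → classInner (Δ (F a)) ((F b).θ (o (F b)) : G → ℂ) = cc (F := F) a b := by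
    intro a b hab
    rw [Δ, classInner_add_left, classInner_sub_left, classInner_smul_left, θ_orth hD hab,
      one_inner_θ, sub_zero, mul_zero, add_zero, cc]
  have h0 := β_orth hD him (o (F i)) (o (F m))
  rw [β_eq (F i), β_eq (F m)] at h0
  simp only [classInner_add_left, classInner_sub_left, classInner_smul_left, classInner_add_right,
    classInner_sub_right, classInner_smul_right, one_inner_one, one_inner_θ, θ_inner_one,
    θ_orth hD him, Δ_one] at h0
  have e1 : classInner (fun _ : G => (1 : ℂ)) (Δ (F m)) = 0 := by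
    rw [← classInner_conj_symm, Δ_one, map_zero]
  have e2 : classInner ((F i).θ (o (F i)) : G → ℂ) (Δ (F m)) = 0 := by
    rw [← classInner_conj_symm, hΔθ m i him.symm, hh.2, map_zero]
  rw [e1, e2, hΔθ i m him, hh.1] at h0
  obtain ⟨z, hz⟩ := even_inner hodd (Δ_gen (F i)) (Δ_gen (F m)) (Δ_real (F i)) (Δ_real (F m))
    (Δ_one (F i))
  rw [hz] at h0
  have h1 : ((2 * z + 1 : ℤ) : ℂ) = 0 := by push_cast at h0 ⊢; linear_combination h0
  have : 2 * z + 1 = 0 := by exact_mod_cast h1
  omega

include hD in
/-- The total size of the families met by one induced function. -/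
theorem sum_in_le [DecidableEq ι] (i : ι) (s : Finset ι) (hs : ∀ m ∈ s, m ≠ i)
    (hc : ∀ m ∈ s, cc (F := F) i m ≠ 0) : ∑ m ∈ s, (F m).n + 1 ≤ (F i).e := by
  classical
  haveI := Fintype.ofFinite (IrrCharacter G)
  obtain ⟨c, -, hcc⟩ := IsGeneralizedCharacter.exists_intCoeff ((F i).gen (o (F i)))
  have hnorm := IsGeneralizedCharacter.classInner_self_eq_sum_sq ((F i).gen (o (F i))) c hcc
  rw [(F i).inner, if_pos rfl] at hnorm
  have hnorm' : ∑ χ, c χ ^ 2 = (F i).e + 1 := by exact_mod_cast hnorm.symm
  let one' : IrrCharacter G := ⟨1, isIrrCharacter_one⟩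
  let A : Finset (IrrCharacter G) := s.biUnion fun m => Finset.univ.image (F m).θ
  let B : Finset (IrrCharacter G) := {(F i).θ (o (F i)), (F i).θ ((F i).σ (o (F i)))}
  have h1A : one' ∉ A ∪ B := by
    intro h
    rcases Finset.mem_union.mp h with h | h
    · obtain ⟨m, -, hm⟩ := Finset.mem_biUnion.mp h
      obtain ⟨k, -, hk⟩ := Finset.mem_image.mp hm
      exact θ_ne_one (F m) k (congrArg Subtype.val hk)
    · rcases Finset.mem_insert.mp h with h | h
      · exact θ_ne_one (F i) _ (congrArg Subtype.val h).symm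
      · exact θ_ne_one (F i) _ (congrArg Subtype.val (Finset.mem_singleton.mp h)).symm
  have hAB : Disjoint A B := by
    rw [Finset.disjoint_left]
    intro χ hA hB
    obtain ⟨m, hm, hm'⟩ := Finset.mem_biUnion.mp hA
    obtain ⟨k, -, rfl⟩ := Finset.mem_image.mp hm'
    rcases Finset.mem_insert.mp hB with h | h
    · exact θ_ne hD (hs m hm) k _ h
    · exact θ_ne hD (hs m hm) k _ (Finset.mem_singleton.mp h)
  have hA : ∑ m ∈ s, ((F m).n : ℤ) ≤ ∑ χ ∈ A, c χ ^ 2 := by
    rw [Finset.sum_biUnion]
    · refine Finset.sum_le_sum fun m hm => ?_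
      rw [Finset.sum_image fun a _ b _ h => (F m).inj h]
      have hk : ∀ k, 1 ≤ c ((F m).θ k) ^ 2 := fun k => by
        have h : c ((F m).θ k) ≠ 0 := fun e => hc m hm (by
          rw [← β_θ hD (hs m hm).symm (o (F i)) k, hcc, e, Int.cast_zero])
        nlinarith [Int.one_le_abs h, sq_abs (c ((F m).θ k))]
      have := Finset.sum_le_sum (s := Finset.univ) fun k (_ : k ∈ (Finset.univ : Finset (Fin (F m).n))) => hk k
      simpa using this
    · intro a _ b _ hab
      rw [Function.onFun, Finset.disjoint_left]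
      intro χ h1 h2
      obtain ⟨k, -, rfl⟩ := Finset.mem_image.mp h1
      obtain ⟨k', -, h⟩ := Finset.mem_image.mp h2
      exact θ_ne hD hab k k' h.symm
  have hB : 1 ≤ ∑ χ ∈ B, c χ ^ 2 := by
    have hd := β_θ_diff (F i) (o (F i)) (o (F i)) ((F i).σ (o (F i)))
    rw [if_neg ((F i).σ_ne _).symm, if_pos rfl, hcc, hcc] at hd
    have hne : (F i).θ (o (F i)) ≠ (F i).θ ((F i).σ (o (F i))) := fun h =>
      (F i).σ_ne _ ((F i).inj h).symm
    rw [Finset.sum_pair hne]
    by_contra hlt
    push Not at hlt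
    have h1 : c ((F i).θ (o (F i))) = 0 := by nlinarith [sq_nonneg (c ((F i).θ ((F i).σ (o (F i)))))]
    have h2 : c ((F i).θ ((F i).σ (o (F i)))) = 0 := by nlinarith [sq_nonneg (c ((F i).θ (o (F i))))]
    rw [h1, h2] at hd
    rcases (F i).sign with e | e <;> rw [e] at hd <;> norm_num at hd
  have h1 : c one' = 1 := by
    have h := hcc one'
    rw [show ((one' : IrrCharacter G) : G → ℂ) = fun _ => 1 from rfl, (F i).inner_one] at h
    exact_mod_cast h.symm
  have hle : ∑ χ ∈ insert one' (A ∪ B), c χ ^ 2 ≤ ∑ χ, c χ ^ 2 :=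
    Finset.sum_le_sum_of_subset_of_nonneg (Finset.subset_univ _) fun χ _ _ => sq_nonneg _
  rw [Finset.sum_insert h1A, Finset.sum_union hAB, hnorm', h1] at hle
  have : (((∑ m ∈ s, (F m).n) + 1 : ℕ) : ℤ) ≤ ((F i).e : ℤ) := by
    push_cast
    linarith
  exact_mod_cast this

include hD in
/-- The total weight of the families meeting one exceptional character. -/
theorem sum_out_le [DecidableEq ι] (m : ι) (s : Finset ι) (hs : ∀ i ∈ s, i ≠ m)
    (hc : ∀ i ∈ s, cc (F := F) i m ≠ 0) :
    ∑ i ∈ s, ((F i).n : ℝ) / (((F i).n : ℝ) * (F i).e + 1) ≤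
      1 / ((F m).n : ℝ) - 1 / (Nat.card G : ℝ) := by
  classical
  choose z hz using fun i => cc_int (F := F) i m
  let χ : G → ℂ := ((F m).θ (o (F m)) : G → ℂ)
  obtain ⟨d, hd0, hd⟩ := IsIrrCharacter.degree_pos ((F m).θ (o (F m))).2
  let δ : G → ℂ := fun g => if g = 1 then 1 else 0
  let Sb : ι → G → ℂ := fun i => ∑ l, (F i).β l
  let O : G → ℂ := ((F m).n : ℂ) • (F m).β (o (F m)) - Sb m
  have hβ1 : ∀ i l, (F i).β l 1 = 0 := fun i l => by
    by_contra h
    exact ((F i).supp l 1 h).1 rfl
  have hS : ∀ i l, classInner (Sb i) ((F i).β l) = ((F i).n : ℂ) * (F i).e + 1 := fun i l => by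
    simp [Sb, classInner_sum_left, (F i).inner, Finset.sum_add_distrib]
  have hSS : ∀ i, classInner (Sb i) (Sb i) = ((F i).n : ℂ) * (((F i).n : ℂ) * (F i).e + 1) := fun i => by
    conv_lhs => arg 2; simp only [Sb]
    rw [classInner_sum_right]
    simp [hS]
    ring
  let f : Option (Option ι) → G → ℂ := fun
    | none => δ
    | some none => O
    | some (some i) => Sb i
  let N : Option (Option ι) → ℝ := fun
    | none => 1 / (Nat.card G : ℝ)
    | some none => ((F m).n : ℝ) ^ 2 - (F m).n
    | some (some i) => ((F i).n : ℝ) * (((F i).n : ℝ) * (F i).e + 1)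
  let c : Option (Option ι) → ℝ := fun
    | none => (d : ℝ) / (Nat.card G : ℝ)
    | some none => (-(F m).ε.re) * (((F m).n : ℝ) - 1)
    | some (some i) => ((F i).n : ℝ) * (z i : ℝ)
  let S : Finset (Option (Option ι)) :=
    insert none (insert (some none) (s.image fun i => some (some i)))
  have hn : ∀ i, (2 : ℝ) ≤ (F i).n := fun i => by exact_mod_cast (F i).two_le
  have hG : (0 : ℝ) < Nat.card G := Nat.cast_pos.mpr Nat.card_pos
  have hδ : ∀ i l, classInner δ ((F i).β l) = 0 := fun i l => by
    simp [classInner, δ, hβ1]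
  have hδδ : classInner δ δ = ((1 / (Nat.card G : ℝ) : ℝ) : ℂ) := by
    simp [classInner, δ]
  have hδS : ∀ i, classInner δ (Sb i) = 0 := fun i => by
    simp [Sb, classInner_sum_right, hδ]
  have hδO : classInner δ O = 0 := by
    simp only [O, classInner_sub_right, classInner_smul_right, hδ, hδS, mul_zero, sub_zero]
  have hSO : ∀ i ∈ s, classInner (Sb i) O = 0 := fun i hi => by
    simp only [O, Sb, classInner_sub_right, classInner_smul_right, classInner_sum_left,
      classInner_sum_right, β_orth hD (hs i hi), Finset.sum_const_zero, mul_zero, sub_zero]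
  have hSmβ : ∀ l, classInner ((F m).β l) (Sb m) = ((F m).n : ℂ) * (F m).e + 1 := fun l => by
    rw [← classInner_conj_symm, hS]; simp
  have hOO : classInner O O = (((F m).n : ℝ) ^ 2 - (F m).n : ℝ) := by
    simp only [O, classInner_sub_left, classInner_sub_right, classInner_smul_left,
      classInner_smul_right, hS, hSmβ, hSS, (F m).inner, if_true, Complex.conj_natCast]
    push_cast
    ring
  have hOχ : classInner O χ = ((-(F m).ε.re * (((F m).n : ℝ) - 1) : ℝ) : ℂ) := by
    have hsum : ((F m).n : ℂ) • (F m).β (o (F m)) - Sb m = ∑ l, ((F m).β (o (F m)) - (F m).β l) := by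
      simp [Sb, Finset.sum_sub_distrib, Nat.cast_smul_eq_nsmul ℂ]
    have hre : ((F m).ε.re : ℂ) = (F m).ε := by rcases (F m).sign with e | e <;> simp [e]
    simp only [O, χ]
    rw [hsum, classInner_sum_left]
    simp only [classInner_sub_left, θ_β_diff, if_true]
    rw [← Finset.mul_sum, Finset.sum_sub_distrib]
    simp only [Finset.sum_ite_eq', Finset.mem_univ, if_true, Finset.sum_const, Finset.card_univ,
      Fintype.card_fin, nsmul_eq_mul, mul_one]
    push_cast
    rw [hre]
    ring
  have hb : ∑ i ∈ S, c i ^ 2 / N i ≤ 1 := by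
    refine bessel S f χ c N ?_ ?_ ?_ (IsIrrCharacter.classInner_self ((F m).θ (o (F m))).2)
    · intro i _
      rcases i with _ | _ | i
      · exact div_pos one_pos hG
      · show (0 : ℝ) < ((F m).n : ℝ) ^ 2 - (F m).n
        nlinarith [hn m]
      · show (0 : ℝ) < ((F i).n : ℝ) * (((F i).n : ℝ) * (F i).e + 1)
        have := hn i
        positivity
    · intro i hi
      rcases i with _ | _ | i
      · show classInner δ χ = _
        have : conj (χ 1) = (d : ℂ) := by
          show conj (((F m).θ (o (F m)) : G → ℂ) 1) = _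
          rw [hd, Complex.conj_natCast]
        simp [classInner, δ, c, this, div_eq_inv_mul]
      · exact hOχ
      · have hi' : i ∈ s := by simpa [S] using hi
        show classInner (Sb i) χ = _
        simp only [Sb, χ, classInner_sum_left, β_θ hD (hs i hi'), hz, Finset.sum_const,
          Finset.card_univ, Fintype.card_fin, nsmul_eq_mul, c]
        push_cast
        ring
    · intro i hi j hj
      rcases i with _ | _ | i <;> rcases j with _ | _ | j
      · rw [if_pos rfl]; exact hδδ
      · rw [if_neg (by simp)]; exact hδO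
      · rw [if_neg (by simp)]; exact hδS j
      · rw [if_neg (by simp)]; show classInner O δ = 0; rw [← classInner_conj_symm, hδO, map_zero]
      · rw [if_pos rfl]; exact hOO
      · have hj' : j ∈ s := by simpa [S] using hj
        rw [if_neg (by simp)]; show classInner O (Sb j) = 0
        rw [← classInner_conj_symm, hSO j hj', map_zero]
      · rw [if_neg (by simp)]; show classInner (Sb i) δ = 0
        rw [← classInner_conj_symm, hδS, map_zero]
      · have hi' : i ∈ s := by simpa [S] using hi
        rw [if_neg (by simp)]; exact hSO i hi'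
      · show classInner (Sb i) (Sb j) = _
        by_cases hij : i = j
        · subst hij
          rw [if_pos rfl, hSS]
          simp [N]
        · rw [if_neg (by simpa using hij)]
          simp only [Sb, classInner_sum_left, classInner_sum_right, β_orth hD hij,
            Finset.sum_const_zero]
  rw [Finset.sum_insert (by simp), Finset.sum_insert (by simp),
    Finset.sum_image (by simp)] at hb
  have e1 : 1 / (Nat.card G : ℝ) ≤ c none ^ 2 / N none := by
    have hd1 : (1 : ℝ) ≤ d := by exact_mod_cast hd0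
    have : c none ^ 2 / N none = (d : ℝ) ^ 2 / (Nat.card G : ℝ) := by
      simp only [c, N]; field_simp
    rw [this]
    gcongr
    nlinarith
  have e2 : 1 - 1 / ((F m).n : ℝ) = c (some none) ^ 2 / N (some none) := by
    have h1 : (F m).ε.re ^ 2 = 1 := by rcases (F m).sign with e | e <;> simp [e]
    have h2 : ((F m).n : ℝ) ≠ 0 := by linarith [hn m]
    have h3 : ((F m).n : ℝ) - 1 ≠ 0 := by linarith [hn m]
    simp only [c, N]
    rw [mul_pow, neg_sq, h1, one_mul, show ((F m).n : ℝ) ^ 2 - (F m).n = (F m).n * ((F m).n - 1) by ring]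
    field_simp
  have e3 : ∑ i ∈ s, ((F i).n : ℝ) / (((F i).n : ℝ) * (F i).e + 1) ≤
      ∑ i ∈ s, c (some (some i)) ^ 2 / N (some (some i)) := by
    refine Finset.sum_le_sum fun i hi => ?_
    have h1 : (1 : ℝ) ≤ (z i : ℝ) ^ 2 := by
      have : z i ≠ 0 := fun e => hc i hi (by rw [hz, e, Int.cast_zero])
      have : (1 : ℤ) ≤ z i ^ 2 := by nlinarith [Int.one_le_abs this, sq_abs (z i)]
      exact_mod_cast this
    have h2 : (0 : ℝ) < (F i).n := by linarith [hn i]
    have h3 : (0 : ℝ) < ((F i).n : ℝ) * (F i).e + 1 := by positivity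
    simp only [c, N]
    rw [mul_pow, pow_two ((F i).n : ℝ), mul_assoc, mul_div_mul_left _ _ h2.ne']
    gcongr
    nlinarith
  linarith

end Cfsg.Agent.Char.FrobPartition
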