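import Mathlib

/-!
# The counting behind the partition by Frobenius kernels
-/

set_option autoImplicit false

namespace Cfsg.Agent.Char.FrobPartition

variable {ι : Type*}

theorem numeric [Fintype ι] (n e h : ι → ℕ) (R : ι → ι → Prop) (g : ℝ) (hg : 0 ≤ g) (hg1 : g < 1)
    (hn : ∀ i, 2 ≤ n i ∧ Even (n i)) (he : ∀ i, 3 ≤ e i ∧ Odd (e i))
    (hh : ∀ i, n i * e i + 1 ≤ h i) (hs : ∀ i, n i * e i + 1 < 25 → n i * e i + 1 = h i)
    (hinj : ∀ i j, i ≠ j → n i * e i ≠ n j * e j)
    (hT : ∀ i m, i ≠ m → R i m ∨ R m i)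
    (hI : ∀ i (s : Finset ι), (∀ m ∈ s, m ≠ i) → (∀ m ∈ s, R i m) → ∑ m ∈ s, n m + 1 ≤ e i)
    (hO : ∀ m (s : Finset ι), (∀ i ∈ s, i ≠ m) → (∀ i ∈ s, R i m) →
      ∑ i ∈ s, (n i : ℝ) / ((n i : ℝ) * e i + 1) ≤ 1 / (n m : ℝ) - g)
    (hE : ∑ i, 1 / (e i : ℝ) * (1 - 1 / (h i : ℝ)) = 1 - g) : False := by
  classical
  obtain hempty | hne := isEmpty_or_nonempty ι
  · rw [Finset.univ_eq_empty, Finset.sum_empty] at hE
    linarith
  set w : ι → ℝ := fun i => 1 / (e i : ℝ) * (1 - 1 / (h i : ℝ)) with hw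
  set v : ι → ℝ := fun i => (n i : ℝ) / ((n i : ℝ) * e i + 1) with hv
  have hn2 : ∀ i, (2 : ℝ) ≤ n i := fun i => by exact_mod_cast (hn i).1
  have he3 : ∀ i, (3 : ℝ) ≤ e i := fun i => by exact_mod_cast (he i).1
  have hv0 : ∀ i, 0 ≤ v i := fun i => by simp only [hv]; positivity
  have hwe : ∀ i, w i ≤ 1 / (e i : ℝ) := fun i => by
    have h1 : (0 : ℝ) ≤ 1 / (h i : ℝ) := by positivity
    have h2 : (0 : ℝ) ≤ 1 / (e i : ℝ) := by positivity
    simp only [hw]
    nlinarith
  have hwv : ∀ i, w i ≤ 25 / 24 * v i := by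
    intro i
    have hpos : (0 : ℝ) < (n i : ℝ) * e i + 1 := by positivity
    by_cases hlt : n i * e i + 1 < 25
    · have hc : (h i : ℝ) = (n i : ℝ) * e i + 1 := by exact_mod_cast (hs i hlt).symm
      have hwi : w i = v i := by
        simp only [hw, hv, hc]
        have h3 : (e i : ℝ) ≠ 0 := by linarith [he3 i]
        field_simp
        ring
      linarith [hv0 i]
    · have h24 : (24 : ℝ) ≤ (n i : ℝ) * e i := by
        have : 24 ≤ n i * e i := by omega
        exact_mod_cast this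
      refine (hwe i).trans ?_
      simp only [hv]
      rw [div_le_iff₀ (by linarith [he3 i]), show 25 / 24 * ((n i : ℝ) / ((n i : ℝ) * e i + 1)) * e i =
        25 / 24 * ((n i : ℝ) * e i) / ((n i : ℝ) * e i + 1) by ring, le_div_iff₀ hpos]
      linarith
  obtain ⟨z, -, hz⟩ := Finset.exists_min_image Finset.univ e Finset.univ_nonempty
  let In := (Finset.univ.erase z).filter (fun m => R z m)
  let Out := (Finset.univ.erase z).filter (fun m => ¬R z m)
  have hsplit : w z + (∑ m ∈ In, w m + ∑ m ∈ Out, w m) = 1 - g := by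
    rw [← hE, Finset.sum_filter_add_sum_filter_not, Finset.add_sum_erase _ _ (Finset.mem_univ z)]
  have hIn : (∑ m ∈ In, (n m : ℝ)) ≤ (e z : ℝ) - 1 := by
    have h1 := hI z In (fun m hm => Finset.ne_of_mem_erase (Finset.mem_filter.mp hm).1)
      fun m hm => (Finset.mem_filter.mp hm).2
    have h2 : ((∑ m ∈ In, n m + 1 : ℕ) : ℝ) ≤ (e z : ℝ) := by exact_mod_cast h1
    push_cast at h2
    linarith
  have hOut : ∑ m ∈ Out, v m ≤ 1 / (n z : ℝ) - g :=
    hO z Out (fun m hm => Finset.ne_of_mem_erase (Finset.mem_filter.mp hm).1) fun m hm =>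
      (hT z m (Finset.ne_of_mem_erase (Finset.mem_filter.mp hm).1).symm).resolve_left
        (Finset.mem_filter.mp hm).2
  have he0 : (0 : ℝ) < e z := by linarith [he3 z]
  by_cases hnz : 4 ≤ n z
  · have hA : ∑ m ∈ In, w m ≤ ((e z : ℝ) - 1) / (2 * e z) := by
      calc ∑ m ∈ In, w m ≤ ∑ m ∈ In, (n m : ℝ) / (2 * e z) := by
            refine Finset.sum_le_sum fun m _ => (hwe m).trans ?_
            have h1 : (e z : ℝ) ≤ e m := by exact_mod_cast hz m (Finset.mem_univ m)
            rw [div_le_div_iff₀ (by linarith [he3 m]) (by linarith)]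
            nlinarith [mul_le_mul (hn2 m) h1 he0.le (by positivity)]
        _ ≤ _ := by rw [← Finset.sum_div]; gcongr
    have hB : ∑ m ∈ Out, w m ≤ 25 / 24 * (1 / (n z : ℝ) - g) := by
      calc ∑ m ∈ Out, w m ≤ ∑ m ∈ Out, 25 / 24 * v m := Finset.sum_le_sum fun m _ => hwv m
        _ ≤ _ := by rw [← Finset.mul_sum]; gcongr
    have h4 : 1 / (n z : ℝ) ≤ 1 / 4 := by
      gcongr
      exact_mod_cast hnz
    have h3 : 1 / (e z : ℝ) ≤ 1 / 3 := by gcongr; exact he3 z
    have h5 : ((e z : ℝ) - 1) / (2 * e z) = 1 / 2 - 1 / (e z : ℝ) / 2 := by field_simp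
    linarith [hwe z]
  have hz2 : n z = 2 := by
    obtain ⟨r, hr⟩ := (hn z).2
    have := (hn z).1
    omega
  have hbig : ∀ m, m ≠ z → 2 * e z + 4 ≤ n m * e m := by
    intro m hm
    have h1 := hz m (Finset.mem_univ m)
    have h2 := hinj m z hm
    rw [hz2] at h2
    have h3 := (hn m).1
    have h4 := (he z).1
    obtain ⟨r, hr⟩ := (hn m).2
    by_cases h5 : 4 ≤ n m
    · nlinarith
    · have h6 : n m = 2 := by omega
      rw [h6] at h2 ⊢
      obtain ⟨a, ha⟩ := (he m).2
      obtain ⟨b, hb⟩ := (he z).2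
      omega
  have hbig' : ∀ m, m ≠ z → 2 * (e z : ℝ) + 4 ≤ (n m : ℝ) * e m := fun m hm => by
    exact_mod_cast hbig m hm
  rw [hz2] at hOut
  norm_num at hOut
  by_cases he9 : 9 ≤ e z
  · have he9' : (9 : ℝ) ≤ e z := by exact_mod_cast he9
    have hA : ∑ m ∈ In, w m ≤ ((e z : ℝ) - 1) / (2 * e z + 4) := by
      calc ∑ m ∈ In, w m ≤ ∑ m ∈ In, (n m : ℝ) / (2 * e z + 4) := by
            refine Finset.sum_le_sum fun m hm => (hwe m).trans ?_
            rw [div_le_div_iff₀ (by linarith [he3 m]) (by linarith)]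
            linarith [hbig' m (Finset.ne_of_mem_erase (Finset.mem_filter.mp hm).1)]
        _ ≤ _ := by rw [← Finset.sum_div]; gcongr
    have hB : ∑ m ∈ Out, w m ≤ (1 + 1 / (2 * (e z : ℝ) + 4)) * (1 / 2 - g) := by
      calc ∑ m ∈ Out, w m ≤ ∑ m ∈ Out, (1 + 1 / (2 * (e z : ℝ) + 4)) * v m := by
            refine Finset.sum_le_sum fun m hm => (hwe m).trans ?_
            have hb := hbig' m (Finset.ne_of_mem_erase (Finset.mem_filter.mp hm).1)
            have hpos : (0 : ℝ) < (n m : ℝ) * e m + 1 := by positivity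
            simp only [hv]
            rw [one_add_div (by positivity), div_mul_div_comm,
              div_le_div_iff₀ (by linarith [he3 m]) (by positivity)]
            nlinarith
        _ ≤ _ := by rw [← Finset.mul_sum]; gcongr
    have hkey : 1 / (e z : ℝ) + ((e z : ℝ) - 1) / (2 * e z + 4) +
        (1 + 1 / (2 * (e z : ℝ) + 4)) * (1 / 2) < 1 := by
      field_simp
      nlinarith
    have : 0 ≤ 1 / (2 * (e z : ℝ) + 4) * g := by positivity
    linarith [hwe z]
  · have hwz : w z = 2 / (2 * (e z : ℝ) + 1) := by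
      have hc : n z * e z + 1 = h z := hs z (by rw [hz2]; omega)
      rw [hz2] at hc
      simp only [hw]
      rw [← hc]
      push_cast
      field_simp
      ring
    have hA : ∑ m ∈ In, w m ≤ 25 / 24 * (((e z : ℝ) - 1) / (2 * e z + 5)) := by
      calc ∑ m ∈ In, w m ≤ ∑ m ∈ In, 25 / 24 * ((n m : ℝ) / (2 * e z + 5)) := by
            refine Finset.sum_le_sum fun m hm => (hwv m).trans ?_
            have hb := hbig' m (Finset.ne_of_mem_erase (Finset.mem_filter.mp hm).1)
            simp only [hv]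
            gcongr 25 / 24 * ?_
            apply div_le_div_of_nonneg_left (by positivity) (by positivity)
            linarith
        _ ≤ _ := by rw [← Finset.mul_sum, ← Finset.sum_div]; gcongr
    have hB : ∑ m ∈ Out, w m ≤ 25 / 24 * (1 / 2 - g) := by
      calc ∑ m ∈ Out, w m ≤ ∑ m ∈ Out, 25 / 24 * v m := Finset.sum_le_sum fun m _ => hwv m
        _ ≤ _ := by rw [← Finset.mul_sum]; gcongr
    obtain ⟨r, hr⟩ := (he z).2
    have h3 := (he z).1
    have hcases : e z = 3 ∨ e z = 5 ∨ e z = 7 := by omega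
    rcases hcases with h | h | h <;> rw [h] at hA hwz <;> push_cast at hA hwz <;>
      norm_num at hA hwz <;> linarith

end Cfsg.Agent.Char.FrobPartition
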