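import Cfsg.Agent.Lib.Char.Clifford
import Cfsg.Agent.Lib.Char.Perm
import Mathlib.GroupTheory.CommutingProbability

/-!
# Frobenius groups: induced characters and classes
-/

set_option autoImplicit false
set_option linter.style.haveILetI false

namespace Cfsg.Agent.Char

open Cfsg
open scoped ComplexConjugate

universe u

variable {G : Type u} [Group G] [Finite G] (K H : Subgroup G) [hKn : K.Normal]

section Split

variable (hKH : K ⊓ H = ⊥) (hKH' : K ⊔ H = ⊤)
  (hfpf : ∀ h ∈ H, h ≠ 1 → ∀ k ∈ K, h * k = k * h → k = 1)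

include hKH in
omit [Finite G] hKn in
theorem eq_of_mul_eq {k k' h h' : G} (hk : k ∈ K) (hk' : k' ∈ K) (hh : h ∈ H) (hh' : h' ∈ H)
    (e : k * h = k' * h') : k = k' ∧ h = h' := by
  have h1 : k'⁻¹ * k = h' * h⁻¹ := by
    calc k'⁻¹ * k = k'⁻¹ * (k * h) * h⁻¹ := by group
      _ = h' * h⁻¹ := by rw [e]; group
  have h2 : k'⁻¹ * k ∈ K ⊓ H :=
    Subgroup.mem_inf.mpr ⟨K.mul_mem (K.inv_mem hk') hk, h1 ▸ H.mul_mem hh' (H.inv_mem hh)⟩
  rw [hKH, Subgroup.mem_bot] at h2
  obtain rfl : k' = k := inv_mul_eq_one.mp h2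
  exact ⟨rfl, mul_left_cancel e⟩

include hKH' in
omit [Finite G] in
theorem exists_mul_eq (g : G) : ∃ k ∈ K, ∃ h ∈ H, k * h = g := by
  have : g ∈ K ⊔ H := hKH' ▸ Subgroup.mem_top g
  exact Subgroup.mem_sup_of_normal_left.mp this

include hKH hKH' in
theorem card_mul_card : Nat.card K * Nat.card H = Nat.card G := by
  rw [← Nat.card_prod]
  refine Nat.card_eq_of_bijective (fun p : K × H => (p.1 : G) * p.2) ⟨?_, ?_⟩
  · rintro ⟨k, h⟩ ⟨k', h'⟩ e
    obtain ⟨e1, e2⟩ := eq_of_mul_eq K H hKH k.2 k'.2 h.2 h'.2 e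
    exact Prod.ext (Subtype.ext e1) (Subtype.ext e2)
  · intro g
    obtain ⟨k, hk, h, hh, e⟩ := exists_mul_eq K H hKH' g
    exact ⟨(⟨k, hk⟩, ⟨h, hh⟩), e⟩

include hKH hKH' hfpf in
/-- A nontrivial complement element has its centralizer in the complement. -/
theorem centralizer_le_complement {h : G} (hh : h ∈ H) (h1 : h ≠ 1) {x : G} (hx : x * h = h * x) :
    x ∈ H := by
  obtain ⟨k, hk, h', hh', rfl⟩ := exists_mul_eq K H hKH' x
  have e : k * (h' * h) = (h * k * h⁻¹) * (h * h') := by rw [← mul_assoc k, hx]; group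
  obtain ⟨e1, -⟩ := eq_of_mul_eq K H hKH hk (hKn.conj_mem k hk h) (H.mul_mem hh' hh)
    (H.mul_mem hh hh') e
  have : k = 1 := hfpf h hh h1 k hk (by
    calc h * k = h * k * h⁻¹ * h := by group
      _ = k * h := by rw [← e1])
  simpa [this] using hh'

include hKH hKH' hfpf in
/-- Every element outside the kernel is a conjugate of exactly one complement element by
exactly one kernel element. -/
theorem bijective_conj : Function.Bijective
    (fun p : K × {h : H // h ≠ 1} =>
      (⟨(p.1 : G) * p.2.1 * (p.1 : G)⁻¹, fun hm => by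
        have h2 := hKn.conj_mem _ hm (p.1 : G)⁻¹
        simp only [inv_inv, mul_assoc, inv_mul_cancel, mul_one, inv_mul_cancel_left] at h2
        have h3 : (p.2.1 : G) ∈ K ⊓ H := ⟨h2, p.2.1.2⟩
        rw [hKH, Subgroup.mem_bot] at h3
        exact p.2.2 (Subtype.ext h3)⟩ : {g : G // g ∉ K})) := by
  classical
  haveI := Fintype.ofFinite G
  refine (Function.Injective.bijective_of_nat_card_le ?_ ?_)
  · rintro ⟨a, ⟨h, h1⟩⟩ ⟨b, ⟨h', h1'⟩⟩ e
    have e' : (a : G) * h * (a : G)⁻¹ = (b : G) * h' * (b : G)⁻¹ := congrArg Subtype.val e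
    have hxh : ((b : G)⁻¹ * a) * (h : G) = (h' : G) * ((b : G)⁻¹ * a) := by
      calc ((b : G)⁻¹ * a) * (h : G) = (b : G)⁻¹ * ((a : G) * h * (a : G)⁻¹) * a := by group
        _ = (h' : G) * ((b : G)⁻¹ * a) := by rw [e']; group
    have hk : (b : G)⁻¹ * a ∈ K := K.mul_mem (K.inv_mem b.2) a.2
    have e2 : ((b : G)⁻¹ * a) * (h : G) =
        ((h' : G) * ((b : G)⁻¹ * a) * (h' : G)⁻¹) * h' := by rw [hxh]; group
    obtain ⟨e3, e4⟩ := eq_of_mul_eq K H hKH hk (hKn.conj_mem _ hk (h' : G)) h.2 h'.2 e2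
    obtain rfl : h = h' := Subtype.ext e4
    have h5 : (b : G)⁻¹ * a = 1 :=
      hfpf h h.2 (fun hh => h1 (Subtype.ext hh)) _ hk hxh.symm
    exact Prod.ext (Subtype.ext (inv_mul_eq_one.mp h5).symm) rfl
  · rw [Nat.card_prod, Nat.card_eq_fintype_card (α := {g : G // g ∉ K}),
      Fintype.card_subtype_compl, Nat.card_eq_fintype_card (α := {h : H // h ≠ 1}),
      Fintype.card_subtype_compl, Fintype.card_subtype_eq, ← Nat.card_eq_fintype_card,
      ← Nat.card_eq_fintype_card, ← Nat.card_eq_fintype_card, ← card_mul_card K H hKH hKH',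
      Nat.mul_sub_left_distrib, mul_one]

include hKH hKH' hfpf in
/-- A nontrivial kernel element has its centralizer in the kernel. -/
theorem centralizer_le_kernel {k : G} (hk : k ∈ K) (k1 : k ≠ 1) {x : G} (hx : x * k = k * x) :
    x ∈ K := by
  by_contra hxK
  obtain ⟨⟨a, h, h1⟩, e⟩ := (bijective_conj K H hKH hKH' hfpf).2 ⟨x, hxK⟩
  have e' : (a : G) * h * (a : G)⁻¹ = x := congrArg Subtype.val e
  have hc : (h : G) * ((a : G)⁻¹ * k * a) = ((a : G)⁻¹ * k * a) * h := by
    rw [← e'] at hx
    calc (h : G) * ((a : G)⁻¹ * k * a) = (a : G)⁻¹ * ((a : G) * h * (a : G)⁻¹ * k) * a := by group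
      _ = ((a : G)⁻¹ * k * a) * h := by rw [hx]; group
  have h2 := hfpf h h.2 (fun hh => h1 (Subtype.ext hh)) _
    (by simpa using hKn.conj_mem k hk (a : G)⁻¹) hc
  apply k1
  calc k = (a : G) * ((a : G)⁻¹ * k * a) * (a : G)⁻¹ := by group
    _ = 1 := by rw [h2]; group

include hKH hKH' hfpf in
/-- A nontrivial irreducible character of the kernel is fixed only by the kernel. -/
theorem inertia_eq_kernel {τ : K → ℂ} (hτ : IsIrrCharacter K τ) (hτ1 : τ ≠ fun _ => 1) {g : G}
    (hg : conjChar K g τ = τ) : g ∈ K := by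
  classical
  haveI := Fintype.ofFinite K
  by_contra hgK
  let α : K ≃* K := (MulAut.conjNormal g : MulAut K)
  let π : IrrCharacter K ≃ IrrCharacter K :=
    { toFun := fun χ => ⟨(χ : K → ℂ) ∘ α.symm, isIrrCharacter_comp_mulEquiv α.symm χ.2⟩
      invFun := fun χ => ⟨(χ : K → ℂ) ∘ α, isIrrCharacter_comp_mulEquiv α χ.2⟩
      left_inv := fun χ => Subtype.ext (funext fun x => by simp)
      right_inv := fun χ => Subtype.ext (funext fun x => by simp) }
  let σ : ConjClasses K ≃ ConjClasses K :=
    { toFun := ConjClasses.map α.toMonoidHom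
      invFun := ConjClasses.map α.symm.toMonoidHom
      left_inv := fun C => Quotient.inductionOn C fun x =>
        congrArg ConjClasses.mk (α.symm_apply_apply x)
      right_inv := fun C => Quotient.inductionOn C fun x =>
        congrArg ConjClasses.mk (α.apply_symm_apply x) }
  have hc := card_fixed_irr π σ fun χ x x' hx => by
    show (χ : K → ℂ) (α.symm x') = (χ : K → ℂ) x
    exact IsIrrCharacter.apply_isConj χ.2
      (by simpa using α.symm.toMonoidHom.map_isConj (ConjClasses.mk_eq_mk_iff_isConj.mp hx))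
  have hσ : Subsingleton {C // σ C = C} := by
    refine ⟨fun a b => ?_⟩
    have key : ∀ C, σ C = C → C = ConjClasses.mk 1 := by
      intro C hC
      obtain ⟨x, rfl⟩ := ConjClasses.exists_rep C
      obtain ⟨y, hy⟩ := isConj_iff.mp (ConjClasses.mk_eq_mk_iff_isConj.mp hC)
      have hy' : (y : G) * (g * x * g⁻¹) * (y : G)⁻¹ = x := congrArg Subtype.val hy
      have hgy : (y : G) * g * x = x * ((y : G) * g) := by
        conv_rhs => rw [← hy']
        group
      by_contra hne
      have hx1 : (x : G) ≠ 1 := fun h => hne (by rw [show x = 1 from Subtype.ext h])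
      exact hgK ((Subgroup.mul_mem_cancel_left K y.2).mp
        (centralizer_le_kernel K H hKH hKH' hfpf x.2 hx1 hgy))
    exact Subtype.ext ((key a a.2).trans (key b b.2).symm)
  have hπ : Subsingleton {χ // π χ = χ} := by
    rw [← Finite.card_le_one_iff_subsingleton, hc, Finite.card_le_one_iff_subsingleton]
    exact hσ
  have h1 : π ⟨τ, hτ⟩ = ⟨τ, hτ⟩ := by
    refine Subtype.ext ?_
    show τ ∘ α.symm = τ
    funext x
    conv_lhs => rw [Function.comp_apply, ← hg]
    show τ (α (α.symm x)) = τ x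
    rw [α.apply_symm_apply]
  have h2 : π ⟨1, isIrrCharacter_one⟩ = ⟨1, isIrrCharacter_one⟩ := rfl
  exact hτ1 (congrArg (fun p : {χ // π χ = χ} => (p.1 : K → ℂ))
    (hπ.elim ⟨⟨τ, hτ⟩, h1⟩ ⟨⟨1, isIrrCharacter_one⟩, h2⟩))

include hKH hKH' hfpf in
/-- Induced characters of a Frobenius group. -/
theorem isIrrCharacter_indFun_frobenius [Fintype G] {τ : K → ℂ} (hτ : IsIrrCharacter K τ)
    (hτ1 : τ ≠ fun _ => 1) : IsIrrCharacter G (indFun K τ) := by
  classical
  haveI := Fintype.ofFinite K
  refine isIrrCharacter_iff.mpr ⟨isCharacter_indFun K (IsIrrCharacter.isCharacter hτ), ?_⟩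
  rw [classInner_indFun_indFun K hτ hτ]
  have e : (Finset.univ.filter fun g : G => conjChar K g τ = τ) =
      Finset.univ.filter fun g : G => g ∈ K := Finset.filter_congr fun g _ =>
    ⟨inertia_eq_kernel K H hKH hKH' hfpf hτ hτ1,
      conjChar_of_mem K (IsCharacter.isClassFunction (IsIrrCharacter.isCharacter hτ))⟩
  rw [e, ← Fintype.card_subtype, ← Nat.card_eq_fintype_card, div_self]
  exact Nat.cast_ne_zero.mpr Nat.card_pos.ne'

include hKH hKH' hfpf in
/-- The class number of a Frobenius group. -/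
theorem card_classes_frobenius :
    Nat.card H * Nat.card (ConjClasses G) + 1 =
      Nat.card H * Nat.card (ConjClasses H) + Nat.card (ConjClasses K) := by
  classical
  haveI := Fintype.ofFinite G
  haveI := Fintype.ofFinite K
  haveI := Fintype.ofFinite H
  have hcnt : ∀ (M : Type u) [Group M] [Fintype M], Nat.card (ConjClasses M) * Nat.card M =
      ∑ x : M, Nat.card (Subgroup.centralizer ({x} : Set M)) := by
    intro M _ _
    rw [← card_comm_eq_card_conjClasses_mul_card, ← Nat.card_sigma]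
    exact Nat.card_congr
      { toFun := fun p => ⟨p.1.1, p.1.2, Subgroup.mem_centralizer_singleton_iff.mpr p.2.symm⟩
        invFun := fun s => ⟨(s.1, s.2.1), (Subgroup.mem_centralizer_singleton_iff.mp s.2.2).symm⟩
        left_inv := fun _ => rfl
        right_inv := fun _ => rfl }
  have hK : ∑ x ∈ Finset.univ.filter (fun x : G => x ∈ K),
      Nat.card (Subgroup.centralizer ({x} : Set G)) + Nat.card K =
      Nat.card G + Nat.card (ConjClasses K) * Nat.card K := by
    rw [hcnt K, Finset.sum_subtype (Finset.univ.filter (fun x : G => x ∈ K))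
      (p := fun x => x ∈ K) (fun x => by simp) fun x => Nat.card (Subgroup.centralizer ({x} : Set G))]
    rw [← Finset.add_sum_erase _ _ (Finset.mem_univ (1 : K)),
      ← Finset.add_sum_erase (Finset.univ : Finset K) (fun x : K =>
        Nat.card (Subgroup.centralizer ({x} : Set K))) (Finset.mem_univ (1 : K))]
    have h1 : Nat.card (Subgroup.centralizer ({((1 : K) : G)} : Set G)) = Nat.card G :=
      (Nat.card_congr (Equiv.subtypeUnivEquiv fun x =>
        Subgroup.mem_centralizer_singleton_iff.mpr (by simp))).trans rfl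
    have h2 : Nat.card (Subgroup.centralizer ({(1 : K)} : Set K)) = Nat.card K :=
      (Nat.card_congr (Equiv.subtypeUnivEquiv fun x =>
        Subgroup.mem_centralizer_singleton_iff.mpr (by simp))).trans rfl
    rw [h1, h2, Finset.sum_congr rfl fun x hx => ?_]
    · ring
    · have hx1 : (x : G) ≠ 1 := fun h => (Finset.ne_of_mem_erase hx) (Subtype.ext h)
      exact Nat.card_congr
        { toFun := fun z => ⟨⟨z, centralizer_le_kernel K H hKH hKH' hfpf x.2 hx1
              (Subgroup.mem_centralizer_singleton_iff.mp z.2)⟩,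
            Subgroup.mem_centralizer_singleton_iff.mpr
              (Subtype.ext (Subgroup.mem_centralizer_singleton_iff.mp z.2))⟩
          invFun := fun z => ⟨z.1.1, Subgroup.mem_centralizer_singleton_iff.mpr
            (congrArg Subtype.val (Subgroup.mem_centralizer_singleton_iff.mp z.2))⟩
          left_inv := fun _ => rfl
          right_inv := fun _ => rfl }
  have hterm : ∀ (a : K) (h : {h : H // h ≠ 1}),
      Nat.card (Subgroup.centralizer ({(a : G) * (h.1 : G) * (a : G)⁻¹} : Set G)) =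
        Nat.card (Subgroup.centralizer ({h.1} : Set H)) := by
    intro a h
    have hh1 : ((h : H) : G) ≠ 1 := fun e => h.2 (Subtype.ext e)
    refine Nat.card_congr
      { toFun := fun z => ⟨⟨(a : G)⁻¹ * z * a, centralizer_le_complement K H hKH hKH' hfpf h.1.2
            hh1 ?_⟩, ?_⟩
        invFun := fun z => ⟨(a : G) * z.1.1 * (a : G)⁻¹, ?_⟩
        left_inv := fun z => Subtype.ext (by simp [mul_assoc])
        right_inv := fun z => Subtype.ext (Subtype.ext (by simp [mul_assoc])) }
    · have hz : (z : G) * ((a : G) * h.1 * (a : G)⁻¹) = ((a : G) * h.1 * (a : G)⁻¹) * z :=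
        Subgroup.mem_centralizer_singleton_iff.mp z.2
      calc (a : G)⁻¹ * z * a * (h.1 : G)
          = (a : G)⁻¹ * ((z : G) * ((a : G) * h.1 * (a : G)⁻¹)) * a := by group
        _ = (h.1 : G) * ((a : G)⁻¹ * z * a) := by rw [hz]; group
    · have hz : (z : G) * ((a : G) * h.1 * (a : G)⁻¹) = ((a : G) * h.1 * (a : G)⁻¹) * z :=
        Subgroup.mem_centralizer_singleton_iff.mp z.2
      refine Subgroup.mem_centralizer_singleton_iff.mpr (Subtype.ext ?_)
      show (a : G)⁻¹ * z * a * (h.1 : G) = (h.1 : G) * ((a : G)⁻¹ * z * a)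
      calc (a : G)⁻¹ * z * a * (h.1 : G)
          = (a : G)⁻¹ * ((z : G) * ((a : G) * h.1 * (a : G)⁻¹)) * a := by group
        _ = (h.1 : G) * ((a : G)⁻¹ * z * a) := by rw [hz]; group
    · refine Subgroup.mem_centralizer_singleton_iff.mpr ?_
      have hz : (z.1.1 : G) * h.1 = (h.1 : G) * z.1.1 :=
        congrArg Subtype.val (Subgroup.mem_centralizer_singleton_iff.mp z.2)
      show (a : G) * z.1.1 * (a : G)⁻¹ * ((a : G) * h.1 * (a : G)⁻¹) =
        ((a : G) * h.1 * (a : G)⁻¹) * ((a : G) * z.1.1 * (a : G)⁻¹)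
      calc _ = (a : G) * ((z.1.1 : G) * h.1) * (a : G)⁻¹ := by group
        _ = _ := by rw [hz]; group
  have hnK : ∑ x ∈ Finset.univ.filter (fun x : G => x ∉ K),
      Nat.card (Subgroup.centralizer ({x} : Set G)) + Nat.card K * Nat.card H =
      Nat.card K * (Nat.card (ConjClasses H) * Nat.card H) := by
    rw [hcnt H, Finset.sum_subtype (Finset.univ.filter (fun x : G => x ∉ K))
      (p := fun x => x ∉ K) (fun x => by simp) fun x => Nat.card (Subgroup.centralizer ({x} : Set G)),
      ← Equiv.sum_comp (Equiv.ofBijective _ (bijective_conj K H hKH hKH' hfpf)),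
      Fintype.sum_prod_type,
      ← Finset.add_sum_erase (Finset.univ : Finset H) (fun x : H =>
        Nat.card (Subgroup.centralizer ({x} : Set H))) (Finset.mem_univ (1 : H))]
    have h2 : Nat.card (Subgroup.centralizer ({(1 : H)} : Set H)) = Nat.card H :=
      (Nat.card_congr (Equiv.subtypeUnivEquiv fun x =>
        Subgroup.mem_centralizer_singleton_iff.mpr (by simp))).trans rfl
    rw [h2]
    simp only [Equiv.ofBijective_apply, hterm]
    rw [Finset.sum_const, Finset.card_univ, ← Nat.card_eq_fintype_card, smul_eq_mul,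
      ← Finset.sum_subtype (Finset.univ.erase (1 : H)) (p := fun x : H => x ≠ 1)
        (fun x => by simp) fun x => Nat.card (Subgroup.centralizer ({x} : Set H))]
    ring
  have htot := hcnt G
  rw [← Finset.sum_filter_add_sum_filter_not Finset.univ (fun x : G => x ∈ K)] at htot
  rw [← card_mul_card K H hKH hKH'] at htot hK
  refine Nat.eq_of_mul_eq_mul_left (Nat.card_pos (α := K)) ?_
  nlinarith [htot, hK, hnK]

end Split

end Cfsg.Agent.Char
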