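import Cfsg.Agent.Lib.Char.FrobeniusKernel
import Cfsg.Agent.Lib.Char.Coherence
import Cfsg.Agent.Lib.Char.TI

/-!
# A trivial intersection subgroup with Frobenius normalizer
-/

set_option autoImplicit false
set_option linter.style.haveILetI false

namespace Cfsg.Agent.Char.FTI

open Cfsg
open scoped ComplexConjugate

universe u

variable {G : Type u} [Group G] [Fintype G] (K : Subgroup G)

/-- The kernel inside its normalizer. -/
abbrev kerN : Subgroup (Subgroup.normalizer (K : Set G)) :=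
  K.subgroupOf (Subgroup.normalizer (K : Set G))

omit [Fintype G] in
theorem kerN_normal : (kerN K).Normal := inferInstance

omit [Fintype G] in
theorem kerN_centralizer (hC : ∀ k ∈ K, k ≠ 1 → Subgroup.centralizer ({k} : Set G) ≤ K) :
    ∀ k ∈ kerN K, k ≠ 1 →
      Subgroup.centralizer ({k} : Set (Subgroup.normalizer (K : Set G))) ≤ kerN K := by
  intro k hk hk1 x hx
  exact hC k hk (fun e => hk1 (Subtype.ext e)) (Subgroup.mem_centralizer_singleton_iff.mpr
    (congrArg Subtype.val (Subgroup.mem_centralizer_singleton_iff.mp hx)))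

omit [Fintype G] in
theorem kerN_ne_top (hlt : K < Subgroup.normalizer (K : Set G)) : kerN K ≠ ⊤ := fun e =>
  hlt.not_ge (Subgroup.subgroupOf_eq_top.mp e)

variable [Fintype ↥(Subgroup.normalizer (K : Set G))]
  {S : Set (↥(Subgroup.normalizer (K : Set G)) → ℂ)}
  {star : (↥(Subgroup.normalizer (K : Set G)) → ℂ) → (G → ℂ)}

/-- The part of a restriction not explained by the isometry is constant on the kernel. -/
theorem sub_const (hC : ∀ k ∈ K, k ≠ 1 → Subgroup.centralizer ({k} : Set G) ≤ K)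
    (hS : S = {χ | IsIrrCharacter ↥(Subgroup.normalizer (K : Set G)) χ ∧
      ∃ k : ↥(Subgroup.normalizer (K : Set G)), (k : G) ∈ K ∧ χ k ≠ χ 1})
    (hstar : IsLinearIsometryOn (zspan S) star)
    (hext : ∀ α ∈ zspanOn S ({1}ᶜ : Set ↥(Subgroup.normalizer (K : Set G))),
      star α = indFun (Subgroup.normalizer (K : Set G)) α)
    {χ₀ : ↥(Subgroup.normalizer (K : Set G)) → ℂ} (hχ₀ : χ₀ ∈ S)
    {f : G → ℂ} (hf : IsClassFunction G f) {h : ↥(Subgroup.normalizer (K : Set G)) → ℂ}
    (hh : IsClassFunction _ h)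
    (hfh : ∀ ξ ∈ S, classInner h ξ = classInner f (star ξ))
    {a b : ↥(Subgroup.normalizer (K : Set G))} (ha : (a : G) ∈ K) (hb : (b : G) ∈ K)
    (ha1 : a ≠ 1) (hb1 : b ≠ 1) : f a - h a = f b - h b := by
  haveI := kerN_normal K
  have hirr : ∀ ξ ∈ S, IsIrrCharacter ↥(Subgroup.normalizer (K : Set G)) ξ := fun ξ hξ => by rw [hS] at hξ; exact hξ.1
  let g : ↥(Subgroup.normalizer (K : Set G)) → ℂ := fun x => f x - h x
  have hg : IsClassFunction ↥(Subgroup.normalizer (K : Set G)) g := fun x y => by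
    show f (y * x * y⁻¹ : ↥(Subgroup.normalizer (K : Set G))) - h (y * x * y⁻¹) = f x - h x
    rw [hh x y]
    congr 1
    exact hf (x : G) (y : G)
  obtain ⟨d₀, hd₀⟩ := IsCharacter.exists_degree (IsIrrCharacter.isCharacter (hirr χ₀ hχ₀))
  have hne : (d₀ : ℂ) ≠ 0 := hd₀ ▸ IsIrrCharacter.apply_one_ne_zero (hirr χ₀ hχ₀)
  refine FK.const_on_kernel (kerN K) (kerN_centralizer K hC) hg (classInner g χ₀ / (d₀ : ℂ))
    (fun ξ hξ hrel => ?_) a ha b hb ha1 hb1
  have hξS : ξ ∈ S := by rw [hS]; exact ⟨hξ, hrel.choose, hrel.choose_spec.1, hrel.choose_spec.2⟩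
  obtain ⟨d, hd⟩ := IsCharacter.exists_degree (IsIrrCharacter.isCharacter hξ)
  set α : ↥(Subgroup.normalizer (K : Set G)) → ℂ := (d₀ : ℤ) • ξ - (d : ℤ) • χ₀ with hα
  have hαS : α ∈ zspanOn S {1}ᶜ := mem_zspanOn_compl_one.mpr
    ⟨Submodule.sub_mem _ (Submodule.smul_mem _ _ (Submodule.subset_span hξS))
      (Submodule.smul_mem _ _ (Submodule.subset_span hχ₀)), by
      simp [hα, hd, hd₀]; ring⟩
  have hα' : α = (d₀ : ℂ) • ξ - (d : ℂ) • χ₀ := by
    rw [hα, ← Int.cast_smul_eq_zsmul ℂ, ← Int.cast_smul_eq_zsmul ℂ, Int.cast_natCast,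
      Int.cast_natCast]
  have hg' : ∀ η ∈ S, classInner g η =
      classInner (fun x : ↥(Subgroup.normalizer (K : Set G)) => f x) η - classInner f (star η) := fun η hη => by
    rw [← hfh η hη, ← classInner_sub_left]
    rfl
  have hsα : star α = (d₀ : ℂ) • star ξ - (d : ℂ) • star χ₀ := by
    rw [hα, IsLinearIsometryOn.map_sub (P := Submodule.span ℤ S) hstar
      (Submodule.smul_mem _ _ (Submodule.subset_span hξS))
      (Submodule.smul_mem _ _ (Submodule.subset_span hχ₀)),
      hstar.2.1 ξ (Submodule.subset_span hξS), hstar.2.1 χ₀ (Submodule.subset_span hχ₀),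
      ← Int.cast_smul_eq_zsmul ℂ, ← Int.cast_smul_eq_zsmul ℂ, Int.cast_natCast, Int.cast_natCast]
  have e1 : classInner f (star α) = classInner (fun x : ↥(Subgroup.normalizer (K : Set G)) => f x) α := by
    rw [hext α hαS, ← classInner_conj_symm (indFun (Subgroup.normalizer (K : Set G)) α) f, classInner_indFun (Subgroup.normalizer (K : Set G)) α hf,
      classInner_conj_symm]
  rw [hsα, hα', classInner_sub_right, classInner_sub_right, classInner_smul_right,
    classInner_smul_right, classInner_smul_right, classInner_smul_right, Complex.conj_natCast,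
    Complex.conj_natCast] at e1
  rw [hd, div_mul_eq_mul_div, eq_div_iff hne, hg' ξ hξS, hg' χ₀ hχ₀]
  linear_combination -e1

end Cfsg.Agent.Char.FTI
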