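import Cfsg.Agent.Lib.Char.BlichfeldtHall
import Mathlib.NumberTheory.PrimeCounting
import Mathlib.Data.Finite.Perm
import Mathlib.Data.Nat.Factorial.BigOperators

/-!
# The bound of Jordan in explicit form

An abelian normal subgroup meeting every abelian subgroup in index at most `12 ^ n`, combined with monomiality
of `p`-groups for the small primes and an abelian Hall subgroup for the large ones.
-/

set_option autoImplicit false
set_option linter.style.haveILetI false

namespace Cfsg.Agent.Char.Blichfeldt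

open Cfsg
open Cfsg.Agent.Block (charDegree_cast)

universe u

variable {G : Type u} [Group G] [Finite G]

/-- A linear group of prime power order has an abelian subgroup of index dividing `n!`. -/
theorem pgroup_abelian_index {χ : G → ℂ} (hχ : IsCharacter G χ) (hfaith : ∀ g : G, χ g = χ 1 → g = 1)
    {p : ℕ} (hp : p.Prime) (hG : IsPGroup p G) :
    ∃ D : Subgroup G, (∀ a ∈ D, ∀ b ∈ D, a * b = b * a) ∧ D.index ∣ (charDegree χ).factorial := by
  classical
  haveI := Fintype.ofFinite G
  haveI := Fintype.ofFinite (IrrCharacter G)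
  haveI := Fact.mk hp
  haveI : Group.IsNilpotent G := hG.isNilpotent
  obtain ⟨m, hm, hdeg⟩ := exists_decomp hχ
  let I := {ψ : IrrCharacter G // m ψ ≠ 0}
  choose U l hUl using fun ψ : I => monomial_of_cond abelianNormalCond_of_isNilpotent ψ.1.2
  let Φ : G →* ((ψ : I) → Equiv.Perm (G ⧸ U ψ)) := Pi.monoidHom fun ψ => MulAction.toPermHom G (G ⧸ U ψ)
  have hmem : ∀ a ∈ Φ.ker, ∀ (ψ : I) (x : G), x⁻¹ * a * x ∈ U ψ := fun a ha ψ x => by
    have h1 : a • (x : G ⧸ U ψ) = (x : G ⧸ U ψ) :=
      congrArg (fun f : Equiv.Perm (G ⧸ U ψ) => f (x : G ⧸ U ψ)) (congrFun (MonoidHom.mem_ker.1 ha) ψ)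
    rw [mul_assoc]
    exact QuotientGroup.eq.1 h1.symm
  have hd : ∀ ψ : I, (U ψ).index = charDegree (ψ.1 : G → ℂ) := fun ψ => by
    apply Nat.cast_injective (R := ℂ)
    rw [charDegree_cast (IsIrrCharacter.isCharacter ψ.1.2), ← congrFun (hUl ψ) 1, indFun_one_apply]
    simp
  refine ⟨Φ.ker, fun a ha b hb => ?_, ?_⟩
  · suffices h : a * b * a⁻¹ * b⁻¹ = 1 by
      exact mul_inv_eq_iff_eq_mul.mp (mul_inv_eq_one.mp h)
    refine hfaith _ ?_
    rw [hm, hm 1]
    refine Finset.sum_congr rfl fun ψ _ => ?_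
    rcases eq_or_ne (m ψ) 0 with h0 | h0
    · simp [h0]
    congr 1
    have e := hUl ⟨ψ, h0⟩
    simp only at e
    rw [← e, indFun_one_apply, indFun_apply]
    have hterm : ∀ x : G, extendByZero (U ⟨ψ, h0⟩) (fun u => (l ⟨ψ, h0⟩ u : ℂ)) (x⁻¹ * (a * b * a⁻¹ * b⁻¹) * x) = 1 := fun x => by
      let a' : U ⟨ψ, h0⟩ := ⟨x⁻¹ * a * x, hmem a ha _ x⟩
      let b' : U ⟨ψ, h0⟩ := ⟨x⁻¹ * b * x, hmem b hb _ x⟩
      have e : x⁻¹ * (a * b * a⁻¹ * b⁻¹) * x = ((a' * b' * a'⁻¹ * b'⁻¹ : U ⟨ψ, h0⟩) : G) := by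
        simp [a', b', mul_assoc]
      rw [e, extendByZero_of_mem _ _ (SetLike.coe_mem _), Subtype.coe_eta]
      simp [mul_comm, mul_left_comm]
    rw [Finset.sum_congr rfl fun x _ => hterm x, Finset.sum_const, Finset.card_univ, nsmul_eq_mul, mul_one,
      ← Nat.card_eq_fintype_card, ← (U ⟨ψ, h0⟩).index_mul_card, Nat.cast_mul]
    simp only [map_one, Units.val_one, mul_one]
    have : (Nat.card (U ⟨ψ, h0⟩) : ℂ) ≠ 0 := Nat.cast_ne_zero.2 Nat.card_pos.ne'
    field_simp
  · rw [Subgroup.index_ker]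
    refine (Subgroup.card_subgroup_dvd_card _).trans ?_
    rw [Nat.card_pi]
    have e : ∀ ψ : I, Nat.card (Equiv.Perm (G ⧸ U ψ)) = (charDegree (ψ.1 : G → ℂ)).factorial := fun ψ => by
      rw [Nat.card_perm, ← Subgroup.index_eq_card, hd]
    simp only [e]
    refine (Nat.prod_factorial_dvd_factorial_sum _ _).trans (Nat.factorial_dvd_factorial ?_)
    rw [hdeg, ← Finset.sum_subtype (Finset.univ.filter fun ψ : IrrCharacter G => m ψ ≠ 0) (by simp)
      (fun ψ => charDegree (ψ : G → ℂ))]
    refine (Finset.sum_le_sum fun ψ hψ => Nat.le_mul_of_pos_left _ (Nat.pos_of_ne_zero (Finset.mem_filter.1 hψ).2)).trans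
      (Finset.sum_le_sum_of_subset (f := fun ψ : IrrCharacter G => m ψ * charDegree (ψ : G → ℂ)) (Finset.filter_subset _ _))

/-- The explicit bound of Jordan. -/
theorem jordan_bound {χ : G → ℂ} (hχ : IsCharacter G χ) (hfaith : ∀ g : G, χ g = χ 1 → g = 1) (n : ℕ)
    (hn : charDegree χ = n) :
    ∃ A : Subgroup G, A.Normal ∧ (∀ x ∈ A, ∀ y ∈ A, x * y = y * x) ∧
      A.index ≤ n.factorial * 12 ^ (n * (Nat.primeCounting (n + 1) + 1)) := by
  classical
  obtain ⟨A, hAn, hAc, hA⟩ := exists_abelian_normal χ hχ hfaith n (by rw [← charDegree_cast hχ, hn])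
  obtain ⟨H, hHc, -, hHi⟩ := exists_hall _ G rfl χ hχ hfaith n hn
  refine ⟨A, hAn, hAc, ?_⟩
  have hI : A.index ≠ 0 := Subgroup.index_ne_zero_of_finite
  set s := A.index.primeFactors.filter (fun p => p ≤ n + 1) with hs
  set t := A.index.primeFactors.filter (fun p => ¬ p ≤ n + 1) with ht
  have hsplit : A.index = (∏ p ∈ s, p ^ A.index.factorization p) * ∏ p ∈ t, p ^ A.index.factorization p := by
    rw [Finset.prod_filter_mul_prod_filter_not, ← Nat.prod_factorization_eq_prod_primeFactors,
      Nat.prod_factorization_pow_eq_self hI]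
  -- the large primes
  have hlarge : ∏ p ∈ t, p ^ A.index.factorization p ≤ 12 ^ n := by
    refine le_trans (Nat.le_of_dvd (Nat.pos_of_ne_zero Subgroup.index_ne_zero_of_finite) ?_) (hA H hHc)
    have hdvd : A.index ∣ H.index * (A.subgroupOf H).index := by
      have h1 : (A ⊓ H).index = (A ⊓ H).relIndex H * H.index := (Subgroup.relIndex_mul_index inf_le_right).symm
      have h2 : (A ⊓ H).relIndex H = (A.subgroupOf H).index := Subgroup.inf_relIndex_right A H
      rw [mul_comm, ← h2, ← h1]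
      exact Subgroup.index_dvd_of_le inf_le_left
    have hco : (∏ p ∈ t, p ^ A.index.factorization p).Coprime H.index := by
      refine Nat.Coprime.prod_left fun p hp => Nat.Coprime.pow_left _ ?_
      obtain ⟨hp1, hp2⟩ := Finset.mem_filter.1 hp
      exact (Nat.prime_of_mem_primeFactors hp1).coprime_iff_not_dvd.2 fun hd =>
        hp2 (hHi p (Nat.prime_of_mem_primeFactors hp1) hd)
    refine hco.dvd_of_dvd_mul_left ((Dvd.intro_left _ hsplit.symm).trans hdvd)
  -- the small primes
  have hsmall : ∀ p ∈ s, p ^ A.index.factorization p ≤ p ^ n.factorial.factorization p * 12 ^ n := fun p hp => by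
    have hpp := Nat.prime_of_mem_primeFactors (Finset.mem_filter.1 hp).1
    haveI := Fact.mk hpp
    obtain ⟨P⟩ := (inferInstance : Nonempty (Sylow p G))
    obtain ⟨D, hDc, hDi⟩ := pgroup_abelian_index (G := P) (IsCharacter.restrict hχ P)
      (fun g hg => Subtype.ext (hfaith g hg)) hpp P.isPGroup'
    have hDdeg : charDegree (fun g : (P : Subgroup G) => χ g) = n := by rw [← hn]; simp [charDegree]
    rw [hDdeg] at hDi
    obtain ⟨e, he⟩ := IsPGroup.iff_card.1 P.isPGroup'
    obtain ⟨i, -, hi⟩ := (Nat.dvd_prime_pow hpp).1 (he ▸ D.index_dvd_card)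
    have h1 : D.index ≤ p ^ n.factorial.factorization p := by
      rw [hi] at hDi ⊢
      exact Nat.pow_le_pow_right hpp.pos ((hpp.pow_dvd_iff_le_factorization (Nat.factorial_ne_zero n)).1 hDi)
    let D' := D.map (P : Subgroup G).subtype
    have h2 : (A.subgroupOf D').index ≤ 12 ^ n := hA D' (by
      rintro _ ⟨a, ha, rfl⟩ _ ⟨b, hb, rfl⟩
      exact congrArg Subtype.val (hDc a ha b hb))
    have hD'i : D'.index = D.index * (P : Subgroup G).index := by
      rw [Subgroup.index_map_of_injective _ (Subgroup.subtype_injective _), Subgroup.range_subtype]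
    have hdvd : A.index ∣ (A.subgroupOf D').index * D.index * (P : Subgroup G).index := by
      have h3 : (A ⊓ D').index = (A ⊓ D').relIndex D' * D'.index := (Subgroup.relIndex_mul_index inf_le_right).symm
      have h4 : (A ⊓ D').relIndex D' = (A.subgroupOf D').index := Subgroup.inf_relIndex_right A D'
      rw [mul_assoc, ← hD'i, ← h4, ← h3]
      exact Subgroup.index_dvd_of_le inf_le_left
    have h5 : p ^ A.index.factorization p ∣ (A.subgroupOf D').index * D.index :=
      (((hpp.coprime_iff_not_dvd.2 P.not_dvd_index)).pow_left _).dvd_of_dvd_mul_right ((Nat.ordProj_dvd _ _).trans hdvd)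
    calc p ^ A.index.factorization p ≤ (A.subgroupOf D').index * D.index :=
          Nat.le_of_dvd (Nat.pos_of_ne_zero (mul_ne_zero Subgroup.index_ne_zero_of_finite Subgroup.index_ne_zero_of_finite)) h5
      _ ≤ 12 ^ n * p ^ n.factorial.factorization p := Nat.mul_le_mul h2 h1
      _ = _ := mul_comm _ _
  have hcards : s.card ≤ Nat.primeCounting (n + 1) := by
    rw [Nat.primeCounting, Nat.primeCounting', Nat.count_eq_card_filter_range]
    refine Finset.card_le_card fun p hp => ?_
    obtain ⟨hp1, hp2⟩ := Finset.mem_filter.1 hp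
    exact Finset.mem_filter.2 ⟨Finset.mem_range.2 (by omega), Nat.prime_of_mem_primeFactors hp1⟩
  have hfac : ∏ p ∈ s, p ^ n.factorial.factorization p ≤ n.factorial := by
    refine Nat.le_of_dvd n.factorial_pos ?_
    refine Finset.prod_dvd_of_isRelPrime ?_ (fun p _ => Nat.ordProj_dvd _ _)
    intro p hp q hq hne
    refine Nat.coprime_iff_isRelPrime.1 ?_
    exact ((Nat.coprime_primes (Nat.prime_of_mem_primeFactors (Finset.mem_filter.1 hp).1)
      (Nat.prime_of_mem_primeFactors (Finset.mem_filter.1 hq).1)).2 hne).pow _ _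
  rw [hsplit]
  calc (∏ p ∈ s, p ^ A.index.factorization p) * ∏ p ∈ t, p ^ A.index.factorization p
      ≤ ((∏ p ∈ s, p ^ n.factorial.factorization p) * (12 ^ n) ^ s.card) * 12 ^ n := by
        refine Nat.mul_le_mul ?_ hlarge
        refine (Finset.prod_le_prod' hsmall).trans ?_
        rw [Finset.prod_mul_distrib, Finset.prod_const]
    _ ≤ (n.factorial * (12 ^ n) ^ Nat.primeCounting (n + 1)) * 12 ^ n :=
        Nat.mul_le_mul_right _ (Nat.mul_le_mul hfac (Nat.pow_le_pow_right (by positivity) hcards))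
    _ = n.factorial * 12 ^ (n * (Nat.primeCounting (n + 1) + 1)) := by
        rw [← pow_mul, mul_assoc, ← pow_add, mul_add, mul_one]

end Cfsg.Agent.Char.Blichfeldt
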