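import Cfsg.Agent.Lib.Char.Gallagher
import Cfsg.Agent.Lib.Char.Schur
import Cfsg.Agent.Lib.Char.ExtendDetect
import Cfsg.Agent.Lib.Block.Regular

/-!
Linear characters of a group against the characters lying over an extendible character of a
non-abelian minimal normal subgroup.
-/

set_option autoImplicit false
set_option linter.style.haveILetI false

namespace Cfsg.Agent.Char.LinearOver

open Cfsg Cfsg.Agent.Char Cfsg.Agent.Block Matrix
open scoped ComplexConjugate

universe u

variable {G : Type u} [Group G] [Finite G]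

theorem le_commutator_of_minimal (N : Subgroup G) [hN : N.Normal]
    (hmin : ∀ M : Subgroup G, M.Normal → M ≤ N → M = ⊥ ∨ M = N) (hna : ¬ IsMulCommutative N) :
    N ≤ commutator G := by
  rcases hmin ⁅N, N⁆ inferInstance (Subgroup.commutator_le_self N) with h | h
  · refine absurd (⟨⟨fun a b => Subtype.ext ?_⟩⟩ : IsMulCommutative N) hna
    have hm := Subgroup.commutator_mem_commutator a.2 b.2
    rw [h, Subgroup.mem_bot, commutatorElement_eq_one_iff_mul_comm] at hm
    exact hm
  · conv_lhs => rw [← h]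
    exact Subgroup.commutator_mono le_top le_top

/-- Vanishing of the averaged tensor product of two representations. -/
theorem sum_entry_mul_eq_zero {D : Type*} [Group D] [Fintype D] {k : ℕ}
    (σ τ : Representation ℂ D (Fin k → ℂ)) (h : ∑ d : D, σ.character d * τ.character d = 0) (a b c e : Fin k) :
    ∑ d : D, repMatrix σ d a b * repMatrix τ d c e = 0 := by
  classical
  let R : Representation ℂ D (Matrix (Fin k) (Fin k) ℂ) :=
    { toFun := fun g =>
        { toFun := fun X => repMatrix σ g * X * (repMatrix τ g)ᵀ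
          map_add' := fun X Y => by simp [Matrix.mul_add, Matrix.add_mul]
          map_smul' := fun c X => by simp }
      map_one' := LinearMap.ext fun X => by simp [repMatrix_one]
      map_mul' := fun a b => LinearMap.ext fun X => by simp [repMatrix_mul, Matrix.transpose_mul, Matrix.mul_assoc] }
  have hR : ∀ (g : D) (X : Matrix (Fin k) (Fin k) ℂ), R g X = repMatrix σ g * X * (repMatrix τ g)ᵀ := fun g X => rfl
  have htr : ∀ g, R.character g = σ.character g * τ.character g := fun g => by
    rw [Representation.character, LinearMap.trace_eq_matrix_trace ℂ (Matrix.stdBasis ℂ (Fin k) (Fin k)), Matrix.trace]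
    simp only [Matrix.diag_apply, LinearMap.toMatrix_apply, stdBasis_apply', hR]
    have h := trace_mul_mul_transpose (repMatrix σ g) (repMatrix τ g)ᵀ id
    have e : ∀ ij : Fin k × Fin k, ∀ Y : Matrix (Fin k) (Fin k) ℂ,
        (Matrix.stdBasis ℂ (Fin k) (Fin k)).repr Y ij = Y ij.1 ij.2 := fun ij Y => by
      simp [Matrix.stdBasis]
    simp only [e]
    refine h.trans ?_
    rw [← trace_repMatrix, ← trace_repMatrix, Matrix.trace, Matrix.trace, Finset.sum_mul_sum, Fintype.sum_prod_type]
    rfl
  have hfin := finrank_invariants_eq R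
  simp only [htr, h, mul_zero] at hfin
  have hbot : R.invariants = ⊥ := Submodule.finrank_eq_zero.1 (by exact_mod_cast hfin.symm)
  have hmem : (∑ d : D, R d (Matrix.single b e 1)) ∈ R.invariants := fun g => by
    rw [map_sum]
    exact Fintype.sum_equiv (Equiv.mulLeft g) _ _ fun x => by rw [← Module.End.mul_apply, ← map_mul]; rfl
  rw [hbot, Submodule.mem_bot] at hmem
  have h0 := congrFun (congrFun hmem a) c
  simp only [Matrix.sum_apply, Matrix.zero_apply, hR] at h0
  rw [← h0]
  refine Finset.sum_congr rfl fun d _ => ?_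
  simp [Matrix.mul_apply, Matrix.single, ite_and, Finset.sum_ite_eq]

variable [Fintype G] (N : Subgroup G) [N.Normal] [Fintype N]

/-- The indicator is unchanged by induction from the inertia group of a real character. -/
theorem indicatorFS_indFun {φ : N → ℂ} (hφ : IsIrrCharacter N φ) {I : Subgroup G} [Fintype I]
    (hI : I = inertia N φ) (hNI : N ≤ I) {ψ : I → ℂ} (hψ : IsIrrCharacter I ψ)
    (hψN : ∀ n : N, ψ (Subgroup.inclusion hNI n) = φ n) (hν : indicatorFS ψ = 1) :
    indicatorFS (indFun I ψ) = 1 := by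
  classical
  have hreal : ∀ s, conj (ψ s) = ψ s := by
    rcases indicatorFS_trichotomy hψ with ⟨h, -⟩ | ⟨-, h⟩
    · exact fun s => Complex.conj_eq_iff_im.mpr (h s)
    · rw [hν] at h; exact absurd h one_ne_zero
  have hG0 : (Nat.card G : ℂ) ≠ 0 := Nat.cast_ne_zero.2 Nat.card_pos.ne'
  have hstep : indicatorFS (indFun I ψ) = (Nat.card I : ℂ)⁻¹ * ∑ g : G, extendByZero I ψ (g * g) := by
    simp only [indicatorFS, indFun_apply, ← Finset.mul_sum]
    rw [Finset.sum_comm]
    have h1 : ∀ x : G, ∑ g : G, extendByZero I ψ (x⁻¹ * (g * g) * x) = ∑ g : G, extendByZero I ψ (g * g) := fun x => by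
      refine Fintype.sum_equiv (MulAut.conj x⁻¹).toEquiv _ _ fun g => ?_
      show _ = extendByZero I ψ (x⁻¹ * g * (x⁻¹)⁻¹ * (x⁻¹ * g * (x⁻¹)⁻¹))
      congr 1
      group
    simp only [h1, Finset.sum_const, Finset.card_univ, nsmul_eq_mul, ← Nat.card_eq_fintype_card (α := G)]
    field_simp
  have hout : ∑ g ∈ Finset.univ.filter (fun g : G => g ∉ I), extendByZero I ψ (g * g) = 0 := by
    have hg : ∀ g : G, g ∉ I → ∑ n : N, extendByZero I ψ (((n : G) * g) * ((n : G) * g)) = 0 := by
      intro g hgI
      have e : ∀ n : N, ((n : G) * g) * ((n : G) * g) = (n : G) * ((MulAut.conjNormal g n : N) : G) * (g * g) := fun n => by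
        rw [MulAut.conjNormal_apply]; group
      by_cases hgg : g * g ∈ I
      · obtain ⟨k, ρ, hρ, rfl⟩ := hψ
        let σ : Representation ℂ N (Fin k → ℂ) := ρ.comp (Subgroup.inclusion hNI)
        let τ : Representation ℂ N (Fin k → ℂ) := σ.comp (MulAut.conjNormal g : MulAut N).toMonoidHom
        have hσ : σ.character = φ := funext hψN
        have hτ : τ.character = conjChar N g φ := funext fun n => by
          rw [conjChar_apply, ← hσ]; rfl
        have hne : conjChar N g φ ≠ φ := fun h => hgI (hI ▸ h)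
        have h0 : ∑ d : N, σ.character d * τ.character d = 0 := by
          have h := IsIrrCharacter.classInner_eq_zero hφ (isIrrCharacter_conjChar N hφ g) (Ne.symm hne)
          rw [classInner, mul_eq_zero, or_iff_right (inv_ne_zero (Nat.cast_ne_zero.2 Nat.card_pos.ne'))] at h
          rw [← h]
          refine Finset.sum_congr rfl fun d _ => ?_
          rw [hτ, hσ]
          congr 1
          rw [conjChar_apply, ← hψN, hreal]
        simp only [e]
        have hval : ∀ n : N, extendByZero I ρ.character ((n : G) * ((MulAut.conjNormal g n : N) : G) * (g * g)) =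
            ∑ i, ∑ j, ∑ l, repMatrix σ n i j * repMatrix τ n j l * repMatrix ρ ⟨g * g, hgg⟩ l i := fun n => by
          have hm : (n : G) * ((MulAut.conjNormal g n : N) : G) * (g * g) ∈ I :=
            I.mul_mem (I.mul_mem (hNI n.2) (hNI (MulAut.conjNormal g n : N).2)) hgg
          rw [extendByZero_of_mem I _ hm, show (⟨_, hm⟩ : I) = Subgroup.inclusion hNI n *
            Subgroup.inclusion hNI (MulAut.conjNormal g n) * ⟨g * g, hgg⟩ from rfl,
            ← trace_repMatrix, repMatrix_mul, repMatrix_mul]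
          simp only [Matrix.trace, Matrix.diag_apply, Matrix.mul_apply, Finset.sum_mul]
          refine Finset.sum_congr rfl fun i _ => ?_
          rw [Finset.sum_comm]
          rfl
        simp only [hval]
        rw [Finset.sum_comm, Finset.sum_eq_zero fun i _ => ?_]
        rw [Finset.sum_comm, Finset.sum_eq_zero fun j _ => ?_]
        rw [Finset.sum_comm, Finset.sum_eq_zero fun l _ => ?_]
        rw [← Finset.sum_mul, sum_entry_mul_eq_zero σ τ h0, zero_mul]
      · refine Finset.sum_eq_zero fun n _ => ?_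
        rw [e n]
        have hm : (n : G) * ((MulAut.conjNormal g n : N) : G) * (g * g) ∉ I := fun h => hgg (by
          have := I.mul_mem (I.inv_mem (I.mul_mem (hNI n.2) (hNI (MulAut.conjNormal g n : N).2))) h
          rwa [inv_mul_cancel_left] at this)
        rw [extendByZero]
        exact Function.extend_apply' _ _ _ (by rintro ⟨⟨w, hw⟩, rfl⟩; exact hm hw)
    have h2 : (Nat.card N : ℂ) * ∑ g ∈ Finset.univ.filter (fun g : G => g ∉ I), extendByZero I ψ (g * g) = 0 := by
      rw [Nat.card_eq_fintype_card, ← Finset.card_univ, ← nsmul_eq_mul, ← Finset.sum_const]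
      rw [Finset.sum_congr rfl fun (n : N) _ => (Finset.sum_equiv (Equiv.mulLeft (n : G))
        (s := Finset.univ.filter (fun g : G => g ∉ I)) (t := Finset.univ.filter (fun g : G => g ∉ I))
        (f := fun g => extendByZero I ψ (((n : G) * g) * ((n : G) * g))) (g := fun g => extendByZero I ψ (g * g))
        (fun g => by simp [I.mul_mem_cancel_left (hNI n.2)]) (fun g _ => rfl)).symm, Finset.sum_comm]
      exact Finset.sum_eq_zero fun g hgm => hg g (Finset.mem_filter.1 hgm).2
    exact (mul_eq_zero.1 h2).resolve_left (Nat.cast_ne_zero.2 Nat.card_pos.ne')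
  rw [hstep, ← Finset.sum_filter_add_sum_filter_not Finset.univ (fun g : G => g ∈ I), hout, add_zero, ← hν, indicatorFS]
  congr 1
  rw [Finset.sum_subtype _ (p := fun g => g ∈ I) (fun g => by simp)]
  exact Finset.sum_congr rfl fun g _ => extendByZero_of_mem I ψ (mul_mem g.2 g.2)

/-- The counting bound. -/
theorem card_le (hmin : ∀ M : Subgroup G, M.Normal → M ≤ N → M = ⊥ ∨ M = N) (hna : ¬ IsMulCommutative N)
    {φ : N → ℂ} (hφ : IsIrrCharacter N φ) {I : Subgroup G} [Fintype I] (hI : I = inertia N φ) (hNI : N ≤ I)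
    {ψ : I → ℂ} (hψ : IsIrrCharacter I ψ) (hψN : ∀ n : N, ψ (Subgroup.inclusion hNI n) = φ n)
    (P Q : (G → ℂ) → Prop)
    (hPQ : ∀ l : G →* ℂˣ, P (fun g => (l g : ℂ)) → Q (indFun I (fun h : I => (l h : ℂ) * ψ h))) :
    Nat.card {χ : IrrCharacter G // charDegree (χ : G → ℂ) = 1 ∧ P χ} ≤
      I.index * Nat.card {χ : IrrCharacter G // charDegree (χ : G → ℂ) = charDegree φ * I.index ∧ Q χ} := by
  classical
  have hNG := le_commutator_of_minimal N hmin hna
  have hlN : ∀ (l : G →* ℂˣ) (n : N), l n = 1 := fun l n => Abelianization.commutator_subset_ker l (hNG n.2)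
  obtain ⟨d, hd⟩ := IsCharacter.exists_degree (IsIrrCharacter.isCharacter hψ)
  have hdφ : φ 1 = (d : ℂ) := by rw [← hd, ← hψN 1, map_one]
  have hξ : ∀ l : G →* ℂˣ, IsIrrCharacter I (fun h : I => (l h : ℂ) * ψ h) := fun l =>
    (exists_twist_character (l.comp I.subtype) hψ hd).1
  have hξN : ∀ (l : G →* ℂˣ) (n : N), (l n : ℂ) * ψ ⟨(n : G), hNI n.2⟩ = φ n := fun l n => by
    rw [hlN, Units.val_one, one_mul]; exact hψN n
  have hξinner : ∀ l : G →* ℂˣ, classInner (fun n : N => (l n : ℂ) * ψ ⟨(n : G), hNI n.2⟩) φ = 1 := fun l => by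
    rw [funext (hξN l)]; exact IsIrrCharacter.classInner_self hφ
  have hcore : ∀ l : G →* ℂˣ, ∃ χ : IrrCharacter G, (χ : G → ℂ) = indFun I (fun h : I => (l h : ℂ) * ψ h) ∧
      classInner (fun t : I => (χ : G → ℂ) t) (fun h : I => (l h : ℂ) * ψ h) ≠ 0 ∧
      classInner (fun n : N => (χ : G → ℂ) n) φ = 1 := by
    intro l
    have hind := isCharacter_indFun I (IsIrrCharacter.isCharacter (hξ l))
    obtain ⟨χ, hχ, hne⟩ := IsCharacter.exists_irr_constituent hind (fun h0 => by
      have h1 := congrFun h0 1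
      rw [indFun_one_apply] at h1
      exact mul_ne_zero (Nat.cast_ne_zero.2 Subgroup.index_ne_zero_of_finite)
        (IsIrrCharacter.apply_one_ne_zero (hξ l)) h1)
    have hne' : classInner (fun t : I => χ t) (fun h : I => (l h : ℂ) * ψ h) ≠ 0 := by
      rw [← classInner_conj_symm]
      rw [classInner_indFun I _ (IsCharacter.isClassFunction (IsIrrCharacter.isCharacter hχ))] at hne
      exact (map_ne_zero _).2 hne
    have hc := clifford_core N hφ hI hNI hχ (hξ l) hne' (by
      show classInner (fun n : N => (l n : ℂ) * ψ ⟨(n : G), hNI n.2⟩) φ ≠ 0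
      rw [hξinner]; exact one_ne_zero)
    exact ⟨⟨χ, hχ⟩, hc.1.symm, hne', hc.2.symm.trans (hξinner l)⟩
  choose F hF hFne hF1 using hcore
  have hdeg : ∀ l, charDegree (F l : G → ℂ) = charDegree φ * I.index := fun l => by
    have h := charDegree_cast (IsIrrCharacter.isCharacter (F l).2)
    have hψ1 : ψ 1 = φ 1 := by rw [← hψN 1, map_one]
    rw [hF, indFun_one_apply, OneMemClass.coe_one, map_one, Units.val_one, one_mul, hψ1, ← charDegree_cast (IsIrrCharacter.isCharacter hφ)] at h
    rw [hF, mul_comm]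
    exact_mod_cast h
  -- equal images differ by a character trivial on `I`
  have hfib : ∀ l l' : G →* ℂˣ, F l = F l' → ∀ h : I, l h = l' h := by
    intro l l' he
    have hχc := IsCharacter.restrict (IsIrrCharacter.isCharacter (F l).2) I
    have heq : (fun h : I => (l h : ℂ) * ψ h) = fun h : I => (l' h : ℂ) * ψ h := by
      by_contra hne
      obtain ⟨r, hr, hsplit⟩ := exists_add_of_classInner_ne_zero hχc (hξ l) (hFne l)
      have h2 := hFne l'
      rw [← he, hsplit, classInner_add_left, IsIrrCharacter.classInner_eq_zero (hξ l) (hξ l') hne, zero_add] at h2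
      obtain ⟨r', hr', hsplit'⟩ := exists_add_of_classInner_ne_zero hr (hξ l') h2
      obtain ⟨m, hm⟩ := exists_classInner_nat (isCharacter_comp hr' (Subgroup.inclusion hNI)) hφ
      have h3 := hF1 l
      rw [show (fun n : N => (F l : G → ℂ) n) = (fun n : N => (l n : ℂ) * ψ ⟨(n : G), hNI n.2⟩) +
          ((fun n : N => (l' n : ℂ) * ψ ⟨(n : G), hNI n.2⟩) + r' ∘ Subgroup.inclusion hNI) from funext fun n => by
        have a := congrFun hsplit ⟨(n : G), hNI n.2⟩
        have b := congrFun hsplit' ⟨(n : G), hNI n.2⟩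
        simp only [Pi.add_apply, Function.comp_apply] at a b ⊢
        rw [a, b]
        rfl, classInner_add_left, classInner_add_left, hξinner, hξinner, hm] at h3
      norm_cast at h3
      omega
    let N' := N.subgroupOf I
    haveI : N'.Normal := Subgroup.Normal.subgroupOf inferInstance I
    haveI := Fintype.ofFinite N'
    let θ : N' → ℂ := fun n => φ ⟨((n : I) : G), n.2⟩
    have hθ : IsIrrCharacter N' θ := isIrrCharacter_comp_mulEquiv (Subgroup.subgroupOfEquivOfLe hNI) hφ
    have hθinv : ∀ g, conjChar N' g θ = θ := fun g => funext fun n =>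
      congrFun ((mem_inertia N).1 (hI ▸ g.2)) ⟨((n : I) : G), n.2⟩
    have hone : ((1 : N' → ℂ) * θ) = θ := one_mul _
    have hbij := gallagher N' isIrrCharacter_one (fun g => rfl) hθinv (hone.symm ▸ hθ) hψ
      (fun n => hψN ⟨((n : I) : G), n.2⟩)
    have hmem : ∀ k : G →* ℂˣ, (fun h : I => (k h : ℂ)) ∈
        {β : I → ℂ | IsIrrCharacter I β ∧ classInner (indFun N' (1 : N' → ℂ)) β ≠ 0} := fun k =>
      ⟨isIrrCharacter_monoidHom (k.comp I.subtype),
        mem_over_one_of_trivial N' (isIrrCharacter_monoidHom (k.comp I.subtype)) fun n => by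
          rw [show k (((n : N') : I) : G) = 1 from hlN k ⟨_, n.2⟩]; simp⟩
    exact fun h => Units.ext (congrFun (hbij.2.1 (hmem l) (hmem l') heq) h)
  haveI := Fintype.ofFinite {χ : IrrCharacter G // charDegree (χ : G → ℂ) = 1 ∧ P χ}
  haveI := Fintype.ofFinite {χ : IrrCharacter G // charDegree (χ : G → ℂ) = charDegree φ * I.index ∧ Q χ}
  have hhom : ∀ χ : {χ : IrrCharacter G // charDegree (χ : G → ℂ) = 1 ∧ P χ}, ∃ l : G →* ℂˣ,
      (χ.1 : G → ℂ) = fun g => (l g : ℂ) := fun χ => by
    refine IsCharacter.exists_monoidHom (IsIrrCharacter.isCharacter χ.1.2) ?_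
    rw [← charDegree_cast (IsIrrCharacter.isCharacter χ.1.2), χ.2.1, Nat.cast_one]
  choose L hL using hhom
  let T : {χ : IrrCharacter G // charDegree (χ : G → ℂ) = 1 ∧ P χ} →
      {χ : IrrCharacter G // charDegree (χ : G → ℂ) = charDegree φ * I.index ∧ Q χ} := fun χ =>
    ⟨F (L χ), hdeg _, by rw [hF]; exact hPQ _ (hL χ ▸ χ.2.2)⟩
  rw [Nat.card_eq_fintype_card, Nat.card_eq_fintype_card, ← Finset.card_univ, ← Finset.card_univ]
  refine Finset.card_le_mul_card_image_of_maps_to (f := T) (fun _ _ => Finset.mem_univ _) _ fun b _ => ?_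
  rcases (Finset.univ.filter fun a => T a = b).eq_empty_or_nonempty with he | ⟨a₀, ha₀⟩
  · rw [he]; simp
  let J : Subgroup G := I ⊔ commutator G
  haveI : J.Normal := ⟨fun x hx g => by
    rw [show g * x * g⁻¹ = (g * x * g⁻¹ * x⁻¹) * x by group]
    exact J.mul_mem (Subgroup.mem_sup_right (Subgroup.commutator_mem_commutator (Subgroup.mem_top g) (Subgroup.mem_top x))) hx⟩
  have hJ : ∀ a ∈ Finset.univ.filter (fun a => T a = b), ∀ x ∈ J, (L a * (L a₀)⁻¹ : G →* ℂˣ) x = 1 := by
    intro a ha x hx
    have he : F (L a) = F (L a₀) := congrArg Subtype.val ((Finset.mem_filter.1 ha).2.trans (Finset.mem_filter.1 ha₀).2.symm)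
    have hle : J ≤ (L a * (L a₀)⁻¹ : G →* ℂˣ).ker := sup_le (fun h hh => by
      rw [MonoidHom.mem_ker, MonoidHom.mul_apply, MonoidHom.inv_apply, hfib _ _ he ⟨h, hh⟩, mul_inv_cancel])
      (Abelianization.commutator_subset_ker _)
    exact hle hx
  let Φ : {a // a ∈ Finset.univ.filter (fun a => T a = b)} → ((G ⧸ J) →* ℂˣ) := fun a =>
    QuotientGroup.lift J (L a.1 * (L a₀)⁻¹) fun x hx => hJ a.1 a.2 x hx
  have hΦ : Function.Injective Φ := by
    intro a a' h
    refine Subtype.ext (Subtype.ext (Subtype.ext ?_))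
    have hl : L a.1 = L a'.1 := MonoidHom.ext fun g => by
      have h2 : L a.1 g * (L a₀ g)⁻¹ = L a'.1 g * (L a₀ g)⁻¹ := DFunLike.congr_fun h (g : G ⧸ J)
      exact mul_right_cancel h2
    rw [hL, hL, hl]
  haveI : Finite ((G ⧸ J) →* ℂˣ) := Nat.finite_of_card_ne_zero (by
    rw [card_monoidHom_units]; exact Subgroup.index_ne_zero_of_finite)
  calc (Finset.univ.filter fun a => T a = b).card = Nat.card {a // a ∈ Finset.univ.filter (fun a => T a = b)} := by
        rw [Nat.card_eq_fintype_card, Fintype.card_coe]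
    _ ≤ Nat.card ((G ⧸ J) →* ℂˣ) := Nat.card_le_card_of_injective Φ hΦ
    _ ≤ J.index := by
        rw [card_monoidHom_units, Subgroup.index_eq_card J]
        exact Nat.le_of_dvd Nat.card_pos (Subgroup.index_dvd_card _)
    _ ≤ I.index := Nat.le_of_dvd (Nat.pos_of_ne_zero Subgroup.index_ne_zero_of_finite) (Subgroup.index_dvd_of_le le_sup_left)

end Cfsg.Agent.Char.LinearOver
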