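import Cfsg.Agent.Lib.Char.Galois
import Cfsg.Agent.Lib.Char.Congr
import Cfsg.Agent.Lib.Char.Integral
import Cfsg.Agent.Lib.Block.RegInner
import Mathlib.NumberTheory.Padics.PadicVal.Basic
import Mathlib.GroupTheory.Sylow
import Mathlib.Data.Int.NatAbs
import Mathlib.Algebra.BigOperators.Intervals

/-!
# The bound of Schur and Minkowski on the Sylow subgroup of a group with a faithful `p`-rational character
-/

set_option autoImplicit false
set_option linter.style.haveILetI false

namespace Cfsg.Agent.Char.Minkowski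

open Cfsg Cfsg.Agent.Char Polynomial
open Cfsg.Agent.Block (charDegree_cast intCast_mem_iff exists_isPModular)
open scoped Classical ComplexConjugate

universe u

variable {G : Type u} [Group G] [Finite G]

/-- A value lying in the field of `r`-th roots of unity at an element of order prime to `r` is rational. -/
theorem apply_pow_eq_of_adjoin {θ : G → ℂ} (hθ : IsGeneralizedCharacter G θ) (g : G) {r : ℕ} (hr : 0 < r)
    (hcop : r.Coprime (orderOf g))
    (h : θ g ∈ IntermediateField.adjoin ℚ ({Complex.exp (2 * Real.pi * Complex.I / r)} : Set ℂ))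
    {m : ℕ} (hm : m.Coprime (orderOf g)) : θ (g ^ m) = θ g := by
  set n := orderOf g with hn_def
  have hn : n ≠ 0 := (orderOf_pos g).ne'
  set N := r * n with hN
  have hN0 : N ≠ 0 := mul_ne_zero hr.ne' hn
  set η := Complex.exp (2 * Real.pi * Complex.I / N) with hη
  have hηp : IsPrimitiveRoot η N := Complex.isPrimitiveRoot_exp N hN0
  have hω : Complex.exp (2 * Real.pi * Complex.I / r) = η ^ n := by
    rw [hη, ← Complex.exp_nat_mul, hN, Nat.cast_mul]
    congr 1
    have : (r : ℂ) ≠ 0 := Nat.cast_ne_zero.2 hr.ne'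
    have : (n : ℂ) ≠ 0 := Nat.cast_ne_zero.2 hn
    field_simp
  have hζ : IsPrimitiveRoot (η ^ r) n := hηp.pow (Nat.pos_of_ne_zero hN0) rfl
  obtain ⟨P, hP⟩ := exists_value_poly hθ g hn hζ (by rw [hn_def, pow_orderOf_eq_one])
  rw [hω] at h
  have halg : IsAlgebraic ℚ (η ^ n) :=
    ⟨X ^ r - 1, X_pow_sub_C_ne_zero hr (1 : ℚ), by simp [← pow_mul, mul_comm n r, ← hN, hηp.pow_eq_one]⟩
  rw [← IntermediateField.mem_toSubalgebra, IntermediateField.adjoin_simple_toSubalgebra_of_isAlgebraic halg,
    Algebra.adjoin_singleton_eq_range_aeval] at h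
  obtain ⟨A, hA⟩ := h
  obtain ⟨k, hk1, hk2⟩ := Nat.chineseRemainder hcop 1 m
  have hkN : k.Coprime N := by
    refine Nat.Coprime.mul_right ?_ ?_
    · exact (Nat.coprime_iff_gcd_eq_one.2 (by rw [Nat.ModEq.gcd_eq hk1]; simp))
    · exact (Nat.coprime_iff_gcd_eq_one.2 (by rw [Nat.ModEq.gcd_eq hk2]; exact hm))
  have h0 := aeval_pow_eq_zero hN0 hηp hkN (P := A.comp (X ^ n) - (P.map (algebraMap ℤ ℚ)).comp (X ^ r)) (by
    simp only [map_sub, aeval_comp, map_pow, aeval_X, aeval_map_algebraMap]
    have := hP 1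
    rw [pow_one, pow_one] at this
    rw [← this, sub_eq_zero]
    exact hA)
  simp only [map_sub, aeval_comp, map_pow, aeval_X, aeval_map_algebraMap, sub_eq_zero, ← pow_mul] at h0
  have e1 : η ^ (k * n) = η ^ n := by
    refine pow_eq_pow_of_modEq ?_ hηp.pow_eq_one
    simpa [hN] using Nat.ModEq.mul_right' n hk1
  have e2 : η ^ (k * r) = (η ^ r) ^ m := by
    rw [← pow_mul]
    refine pow_eq_pow_of_modEq ?_ hηp.pow_eq_one
    rw [hN, mul_comm r n, mul_comm r m]
    exact Nat.ModEq.mul_right' r hk2
  rw [e1, e2] at h0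
  rw [hP m, ← h0]
  exact hA

theorem natAbs_bound (p : ℕ) [hp : Fact p.Prime] {P : Type u} [Group P] [Finite P] (hP : IsPGroup p P)
    {χ : P → ℂ} (hχ : IsCharacter P χ) (hfaith : ∀ g, χ g = χ 1 → g = 1)
    (hrat : ∀ g : P, ∀ m : ℕ, m.Coprime (orderOf g) → χ (g ^ m) = χ g) :
    (Nat.card P).factorization p ≤ ∑ i ∈ Finset.range (charDegree χ + 1), charDegree χ / ((p - 1) * p ^ i) := by
  haveI := Fintype.ofFinite P
  set n := charDegree χ with hn
  have h1 : χ 1 = ((n : ℤ) : ℂ) := by rw [← charDegree_cast hχ]; simp [hn]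
  have hint : ∀ g, ∃ z : ℤ, χ g = (z : ℂ) := fun g =>
    exists_int_of_apply_pow_eq (IsCharacter.isGeneralized hχ) g (hrat g)
  choose f hf using hint
  have hp1 := hp.out.one_lt
  set K := n / (p - 1) with hK
  -- the values
  have hval : ∀ g : P, g ≠ 1 → ∃ k ∈ Finset.Icc 1 K, (n : ℤ) - f g = ((p * k : ℕ) : ℤ) := by
    intro g hg
    obtain ⟨j, hj⟩ := IsPGroup.iff_orderOf.1 hP g
    obtain ⟨i, rfl⟩ : ∃ i, j = i + 1 := Nat.exists_eq_succ_of_ne_zero fun e => hg
      (orderOf_eq_one_iff.1 (by rw [hj, e, pow_zero]))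
    have hle : ∀ x, f x ≤ n := fun x => by
      have := IsCharacter.norm_le hχ x
      rw [hf, h1] at this
      simp only [Complex.norm_intCast] at this
      have : |f x| ≤ |(n : ℤ)| := by exact_mod_cast this
      exact le_trans (le_abs_self _) (this.trans (le_of_eq (abs_of_nonneg (Int.natCast_nonneg n))))
    have hlt : f g < n := lt_of_le_of_ne (hle g) fun e => hg (hfaith g (by rw [hf, h1, e]))
    have hdvd : (p : ℤ) ∣ n - f g := by
      obtain ⟨M, hM⟩ := exists_isPModular hp.out
      haveI := hM.2.1.isPrime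
      obtain ⟨u, v, hu, hv, huv⟩ := exists_apply_congr_degree hp.out hM.2.1 hM.2.2 hχ
        (show g ^ p ^ (i + 1) = 1 by rw [← hj, pow_orderOf_eq_one])
      have e : ((n - f g : ℤ) : AlgInt) = -(u - v) := Subtype.ext (by
        simp [hu, hv, h1, hf g])
      refine (intCast_mem_iff hp.out hM.2.2 _).1 ?_
      rw [e]; exact M.neg_mem huv
    -- the sum over the cyclic subgroup is non-negative
    set C := Subgroup.zpowers g
    haveI := Fintype.ofFinite C
    obtain ⟨m₀, hm₀⟩ := exists_classInner_nat (IsCharacter.restrict hχ C) (isIrrCharacter_monoidHom (1 : C →* ℂˣ))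
    have hsum : 0 ≤ ∑ x : C, f x := by
      have : ((∑ x : C, f x : ℤ) : ℂ) = ((Fintype.card C * m₀ : ℕ) : ℂ) := by
        push_cast
        rw [← hm₀, classInner, ← Nat.card_eq_fintype_card, ← mul_assoc,
          mul_inv_cancel₀ (Nat.cast_ne_zero.2 Nat.card_pos.ne'), one_mul]
        simp [← hf]
      have e : (∑ x : C, f x : ℤ) = ((Fintype.card C * m₀ : ℕ) : ℤ) := by exact_mod_cast this
      rw [e]; exact Int.natCast_nonneg _
    have hcC : Fintype.card C = p ^ (i + 1) := by rw [← Nat.card_eq_fintype_card, Nat.card_zpowers, hj]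
    set S := Finset.univ.filter (fun x : C => orderOf x = p ^ (i + 1)) with hS
    have hScard : S.card = p ^ i * (p - 1) := by
      rw [hS, IsCyclic.card_orderOf_eq_totient (by rw [hcC]), Nat.totient_prime_pow_succ hp.out]
    have hSval : ∀ x ∈ S, f x = f g := fun x hx => by
      obtain ⟨k, hk⟩ := (isOfFinOrder_of_finite g).mem_powers_iff_mem_zpowers.2 x.2
      have hk' : g ^ k = (x : P) := hk
      have hkc : k.Coprime (orderOf g) := by
        have ho : orderOf (g ^ k) = orderOf g := by
          rw [hk', Subgroup.orderOf_coe, (Finset.mem_filter.1 hx).2, hj]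
        rw [orderOf_pow, Nat.div_eq_self] at ho
        exact Nat.coprime_iff_gcd_eq_one.2 (by
          rw [Nat.gcd_comm]; exact ho.resolve_left (orderOf_pos g).ne')
      have := hrat g k hkc
      rw [hk', hf, hf] at this
      exact_mod_cast this
    rw [← Finset.sum_filter_add_sum_filter_not Finset.univ (fun x : C => orderOf x = p ^ (i + 1)), ← hS,
      Finset.sum_congr rfl hSval, Finset.sum_const, hScard] at hsum
    have hrest := Finset.sum_le_sum (s := Finset.univ.filter fun x : C => ¬ orderOf x = p ^ (i + 1))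
      fun x _ => hle (x : P)
    have hcr : (Finset.univ.filter fun x : C => ¬ orderOf x = p ^ (i + 1)).card = p ^ i := by
      rw [Finset.filter_not, Finset.card_sdiff_of_subset (Finset.filter_subset _ _), Finset.card_univ, hcC,
        ← hS, hScard, pow_succ]
      have e : p ^ i * (p - 1) + p ^ i = p ^ i * p := by
        rw [← Nat.mul_succ]; congr 1; omega
      omega
    rw [Finset.sum_const, hcr] at hrest
    simp only [nsmul_eq_mul, Nat.cast_mul, Nat.cast_pow, Nat.cast_sub hp1.le, Nat.cast_one] at hsum hrest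
    have hlow : 0 ≤ ((p : ℤ) - 1) * f g + n := by
      have hpos : (0 : ℤ) < (p : ℤ) ^ i := pow_pos (by exact_mod_cast hp.out.pos) i
      nlinarith
    obtain ⟨k, hk⟩ := hdvd
    have hkpos : 0 < k := by
      by_contra hk0
      push Not at hk0
      have : (p : ℤ) * k ≤ 0 := mul_nonpos_of_nonneg_of_nonpos (Int.natCast_nonneg _) hk0
      linarith
    have hkK : k * ((p : ℤ) - 1) ≤ n := by
      have hp0 : (0 : ℤ) < p := by exact_mod_cast hp.out.pos
      refine le_of_mul_le_mul_left ?_ hp0
      nlinarith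
    refine ⟨k.toNat, Finset.mem_Icc.2 ⟨by omega, ?_⟩, by rw [hk]; push_cast; rw [Int.toNat_of_nonneg hkpos.le]⟩
    refine (Nat.le_div_iff_mul_le (by omega)).2 (Int.ofNat_le.1 ?_)
    push_cast [Nat.cast_sub hp1.le]
    rw [Int.toNat_of_nonneg hkpos.le]
    exact hkK
  set S := (Finset.univ.image f).erase (n : ℤ) with hS
  have hgen : ∀ T : Finset ℤ, IsGeneralizedCharacter P fun g => ∏ v ∈ T, (χ g - (v : ℂ)) := by
    intro T
    induction T using Finset.induction_on with
    | empty => exact isGeneralizedCharacter_one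
    | insert a T ha ih =>
      simp only [Finset.prod_insert ha]
      refine isGeneralizedCharacter_mul (isGeneralizedCharacter_sub (IsCharacter.isGeneralized hχ) ?_) ih
      convert isGeneralizedCharacter_intCast_smul (isGeneralizedCharacter_one (G := P)) a using 1
      funext g; simp
  obtain ⟨z, hz⟩ := classInner_int_of_isGeneralized (hgen S) (isGeneralizedCharacter_one (G := P))
  have hprod : ∏ v ∈ S, ((n : ℤ) - v) = z * (Nat.card P : ℤ) := by
    have : ((∏ v ∈ S, ((n : ℤ) - v) : ℤ) : ℂ) = ((z * (Nat.card P : ℤ) : ℤ) : ℂ) := by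
      push_cast
      rw [← hz, classInner, mul_comm, ← mul_assoc, mul_inv_cancel₀ (Nat.cast_ne_zero.2 Nat.card_pos.ne'),
        one_mul, Finset.sum_eq_single (1 : P)]
      · simp [h1]
      · intro g _ hg
        have hgS : f g ∈ S := Finset.mem_erase.2 ⟨fun e => hg (hfaith g (by rw [hf, h1, e])),
          Finset.mem_image_of_mem _ (Finset.mem_univ _)⟩
        rw [Finset.prod_eq_zero hgS (by rw [hf, sub_self]), zero_mul]
      · simp
    exact_mod_cast this
  have hdiv : Nat.card P ∣ ∏ k ∈ Finset.Icc 1 K, p * k := by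
    have hsub : S.image (fun v => ((n : ℤ) - v).natAbs) ⊆ (Finset.Icc 1 K).image (fun k => p * k) := by
      intro w hw
      obtain ⟨v, hv, rfl⟩ := Finset.mem_image.1 hw
      obtain ⟨hvn, hv⟩ := Finset.mem_erase.1 hv
      obtain ⟨g, -, rfl⟩ := Finset.mem_image.1 hv
      obtain ⟨k, hk, hk'⟩ := hval g fun e => hvn (by
        have := hf g
        rw [e, h1] at this
        rw [e]
        exact_mod_cast this.symm)
      exact Finset.mem_image.2 ⟨k, hk, by rw [hk', Int.natAbs_natCast]⟩
    have h2 := Finset.prod_dvd_prod_of_subset _ _ (fun w => w) hsub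
    rw [Finset.prod_image, Finset.prod_image fun a _ b _ e => Nat.eq_of_mul_eq_mul_left hp.out.pos e] at h2
    · refine (Dvd.intro_left z.natAbs ?_).trans h2
      rw [← Int.natAbs_natCast (Nat.card P), ← Int.natAbs_mul, ← hprod]
      exact map_prod Int.natAbsHom _ _
    · intro a ha b hb e
      have hb' : ∀ v ∈ S, v ≤ n := fun v hv => by
        obtain ⟨hvn, hv⟩ := Finset.mem_erase.1 hv
        obtain ⟨g, -, rfl⟩ := Finset.mem_image.1 hv
        obtain ⟨k, -, hk⟩ := hval g fun e => hvn (by
          have := hf g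
          rw [e, h1] at this
          rw [e]
          exact_mod_cast this.symm)
        omega
      have := hb' a ha
      have := hb' b hb
      simp only at e
      omega
  rw [Finset.prod_mul_distrib, Finset.prod_const, Nat.card_Icc, Nat.add_sub_cancel,
    ← Finset.Ico_add_one_right_eq_Icc,
    Finset.prod_Ico_id_eq_factorial] at hdiv
  have h3 := (Nat.factorization_le_iff_dvd Nat.card_pos.ne'
    (mul_ne_zero (pow_ne_zero _ hp.out.ne_zero) (Nat.factorial_ne_zero K))).2 hdiv p
  rw [Nat.factorization_mul (pow_ne_zero _ hp.out.ne_zero) (Nat.factorial_ne_zero K), Finsupp.add_apply,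
    hp.out.factorization_pow, Finsupp.single_eq_same, Nat.factorization_def K.factorial hp.out,
    padicValNat_factorial (p := p) (b := n + 1) ((Nat.log_le_self p K).trans_lt
      (Nat.lt_succ_of_le (Nat.div_le_self n (p - 1))))] at h3
  refine h3.trans (le_of_eq ?_)
  rw [Finset.sum_range_eq_add_Ico _ (Nat.succ_pos n), pow_zero, mul_one]
  simp only [hK, Nat.div_div_eq_div_mul]

/-- The bound of Schur and Minkowski. -/
theorem factorization_le (p : ℕ) [hp : Fact p.Prime] {χ : G → ℂ} (hχ : IsCharacter G χ)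
    (hfaith : ∀ g : G, χ g = χ 1 → g = 1) {r : ℕ} (hr : 0 < r) (hpr : ¬ p ∣ r)
    (hrat : ∀ g : G, χ g ∈ IntermediateField.adjoin ℚ ({Complex.exp (2 * Real.pi * Complex.I / r)} : Set ℂ)) :
    (Nat.card G).factorization p ≤ ∑ i ∈ Finset.range (charDegree χ + 1), charDegree χ / ((p - 1) * p ^ i) := by
  obtain ⟨P⟩ : Nonempty (Sylow p G) := inferInstance
  have hd : charDegree (fun x : (P : Subgroup G) => χ x) = charDegree χ := by
    apply Nat.cast_injective (R := ℂ)
    rw [charDegree_cast (IsCharacter.restrict hχ _), charDegree_cast hχ]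
    simp
  have h := natAbs_bound p P.isPGroup' (IsCharacter.restrict hχ (P : Subgroup G))
    (fun g hg => Subtype.ext (hfaith g hg)) fun g m hm => by
      obtain ⟨j, hj⟩ := IsPGroup.iff_orderOf.1 P.isPGroup' g
      have hcop : r.Coprime (orderOf (g : G)) := by
        rw [Subgroup.orderOf_coe, hj]
        exact ((hp.out.coprime_iff_not_dvd.2 hpr).symm).pow_right j
      simpa using apply_pow_eq_of_adjoin (IsCharacter.isGeneralized hχ) (g : G) hr hcop (hrat _)
        (m := m) (by rwa [Subgroup.orderOf_coe])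
  rw [hd, P.card_eq_multiplicity, hp.out.factorization_pow, Finsupp.single_eq_same] at h
  exact h

end Cfsg.Agent.Char.Minkowski
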