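import Cfsg.Agent.Lib.Char.PermChar
import Cfsg.Agent.Lib.Char.Generalized
import Mathlib.GroupTheory.GroupAction.MultipleTransitivity
import Mathlib.Data.Fintype.CardEmbedding
import Mathlib.Data.Sym.Sym2
import Mathlib.Algebra.Group.Action.Prod

/-!
# Three irreducible characters of a four-fold transitive group
-/

set_option autoImplicit false
set_option linter.style.haveILetI false
set_option linter.unusedSectionVars false

namespace Cfsg.Agent.Char.MultTrans

open Cfsg Cfsg.Agent.Char
open scoped Classical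

universe u v

variable {G : Type u} [Group G] [Fintype G] {X : Type v} [Fintype X] [MulAction G X]

/-- The fixed points. -/
noncomputable def fix (g : G) : Finset X := Finset.univ.filter fun a => g • a = a

/-- The points moved in a two-cycle. -/
noncomputable def two (g : G) : Finset X := Finset.univ.filter fun a => g • g • a = a ∧ g • a ≠ a

theorem mem_fix {g : G} {a : X} : a ∈ fix g ↔ g • a = a := by simp [fix]

theorem mem_two {g : G} {a : X} : a ∈ two g ↔ g • g • a = a ∧ g • a ≠ a := by simp [two]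

/-- The tuples on which an element acts as a given rearrangement of the indices. -/
noncomputable def ev (k : ℕ) (π : Equiv.Perm (Fin k)) (g : G) : ℕ :=
  Nat.card {e : Fin k ↪ X // ∀ i, g • e i = e (π i)}

theorem sum_ev (k : ℕ) (π : Equiv.Perm (Fin k)) (h : ∀ e e' : Fin k ↪ X, ∃ g : G, g • e = e')
    [Nonempty (Fin k ↪ X)] : ∑ g : G, ev (X := X) k π g = Fintype.card G := by
  have h1 : ∀ g : G, ev (X := X) k π g = ∑ e : Fin k ↪ X, if g • e = π.toEmbedding.trans e then 1 else 0 := by
    intro g
    rw [ev, Nat.card_eq_fintype_card, Fintype.card_subtype, ← Finset.card_filter]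
    congr 1
    refine Finset.filter_congr fun e _ => ?_
    exact ⟨fun h => DFunLike.ext _ _ fun i => h i, fun h i => DFunLike.congr_fun h i⟩
  simp only [h1]
  rw [Finset.sum_comm]
  have h2 : ∀ e : Fin k ↪ X, (∑ g : G, if g • e = π.toEmbedding.trans e then 1 else 0) * Fintype.card (Fin k ↪ X) =
      Fintype.card G := by
    intro e
    obtain ⟨g₀, hg₀⟩ := h e (π.toEmbedding.trans e)
    rw [← Finset.card_filter, ← hg₀]
    have e1 : (Finset.univ.filter fun g : G => g • e = g₀ • e).card = Nat.card (MulAction.stabilizer G e) := by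
      rw [Nat.card_eq_fintype_card]
      change _ = Fintype.card {g // g ∈ MulAction.stabilizer G e}
      rw [Fintype.card_subtype]
      refine Finset.card_equiv (Equiv.mulLeft g₀⁻¹) fun g => ?_
      simp [MulAction.mem_stabilizer_iff, mul_smul, inv_smul_eq_iff]
    have ho : MulAction.orbit G e = Set.univ := Set.eq_univ_of_forall fun e' => by
      obtain ⟨g, hg⟩ := h e e'
      exact ⟨g, hg⟩
    have := MulAction.card_orbit_mul_card_stabilizer_eq_card_group G e
    rw [e1, mul_comm, ← Nat.card_eq_fintype_card, ← Nat.card_eq_fintype_card (α := G)]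
    simp only [← Nat.card_eq_fintype_card] at this
    rw [ho, Nat.card_coe_set_eq, Set.ncard_univ] at this
    exact this
  have hpos : 0 < Fintype.card (Fin k ↪ X) := Fintype.card_pos
  refine Nat.eq_of_mul_eq_mul_right hpos ?_
  rw [Finset.sum_mul, Finset.sum_congr rfl fun e _ => h2 e, Finset.sum_const, Finset.card_univ, smul_eq_mul,
    mul_comm]

theorem ev_one (k : ℕ) (g : G) : ev (X := X) k 1 g = (fix (X := X) g).card.descFactorial k := by
  have e : {e : Fin k ↪ X // ∀ i, g • e i = e ((1 : Equiv.Perm (Fin k)) i)} ≃ (Fin k ↪ {a // a ∈ fix (X := X) g}) :=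
    { toFun := fun e => ⟨fun i => ⟨e.1 i, mem_fix.2 (by simpa using e.2 i)⟩, fun i j h =>
        e.1.injective (congrArg Subtype.val h)⟩
      invFun := fun e => ⟨e.trans (Function.Embedding.subtype _), fun i => by
        simpa using mem_fix.1 (e i).2⟩
      left_inv := fun e => Subtype.ext (DFunLike.ext _ _ fun i => rfl)
      right_inv := fun e => DFunLike.ext _ _ fun i => rfl }
  rw [ev, Nat.card_congr e, Nat.card_eq_fintype_card, Fintype.card_embedding_eq, Fintype.card_coe, Fintype.card_fin]

theorem two_smul_mem {g : G} {a : X} (h : a ∈ two g) : g • a ∈ two g := by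
  rw [mem_two] at h ⊢
  exact ⟨by rw [h.1], by rw [h.1]; exact h.2.symm⟩

theorem ev_swap (g : G) : ev (X := X) 2 (Equiv.swap 0 1) g = (two (X := X) g).card := by
  rw [ev, ← Fintype.card_coe, ← Nat.card_eq_fintype_card]
  refine Nat.card_congr
    { toFun := fun e => ⟨e.1 0, mem_two.2 ?_⟩
      invFun := fun a => ⟨⟨![a.1, g • a.1], ?_⟩, ?_⟩
      left_inv := fun e => Subtype.ext (DFunLike.ext _ _ fun i => ?_)
      right_inv := fun a => rfl }
  · have h0 := e.2 0
    have h1 := e.2 1
    simp at h0 h1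
    exact ⟨by rw [h0, h1], fun h => by simpa using e.1.injective (h0.symm.trans h)⟩
  · obtain ⟨-, h2⟩ := mem_two.1 a.2
    intro i j
    fin_cases i <;> fin_cases j <;> simp [h2, h2.symm]
  · intro i
    fin_cases i <;> simp [(mem_two.1 a.2).1]
  · have h0 := e.2 0
    fin_cases i <;> simp_all

theorem ev_swap_three (g : G) :
    ev (X := X) 3 (Equiv.swap 0 1) g = (two (X := X) g).card * (fix (X := X) g).card := by
  rw [ev, ← Finset.card_product, ← Fintype.card_coe, ← Nat.card_eq_fintype_card]
  refine Nat.card_congr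
    { toFun := fun e => ⟨(e.1 0, e.1 2), Finset.mem_product.2 ⟨mem_two.2 ?_, mem_fix.2 ?_⟩⟩
      invFun := fun a => ⟨⟨![a.1.1, g • a.1.1, a.1.2], ?_⟩, ?_⟩
      left_inv := fun e => Subtype.ext (DFunLike.ext _ _ fun i => ?_)
      right_inv := fun a => rfl }
  · have h0 := e.2 0
    have h1 := e.2 1
    simp at h0 h1
    exact ⟨by rw [h0, h1], fun h => by simpa using e.1.injective (h0.symm.trans h)⟩
  · simpa [Equiv.swap_apply_def] using e.2 2
  · obtain ⟨ha, hb⟩ := Finset.mem_product.1 a.2
    rw [mem_two] at ha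
    rw [mem_fix] at hb
    have h3 : a.1.1 ≠ a.1.2 := fun h => ha.2 (by rw [h, hb])
    have h4 : g • a.1.1 ≠ a.1.2 := fun h => h3 (smul_left_cancel g (h.trans hb.symm))
    intro i j
    fin_cases i <;> fin_cases j <;> simp [ha.2, ha.2.symm, h3, h3.symm, h4, h4.symm]
  · obtain ⟨ha, hb⟩ := Finset.mem_product.1 a.2
    intro i
    fin_cases i <;> simp [(mem_two.1 ha).1, mem_fix.1 hb, Equiv.swap_apply_def]
  · have h0 := e.2 0
    fin_cases i <;> simp_all

theorem ev_swap_four (g : G) :
    ev (X := X) 4 (Equiv.swap 0 1) g = (two (X := X) g).card * (fix (X := X) g).offDiag.card := by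
  rw [ev, ← Finset.card_product, ← Fintype.card_coe, ← Nat.card_eq_fintype_card]
  refine Nat.card_congr
    { toFun := fun e => ⟨(e.1 0, e.1 2, e.1 3), Finset.mem_product.2 ⟨mem_two.2 ?_, Finset.mem_offDiag.2
        ⟨mem_fix.2 ?_, mem_fix.2 ?_, fun h => by simpa using e.1.injective h⟩⟩⟩
      invFun := fun a => ⟨⟨![a.1.1, g • a.1.1, a.1.2.1, a.1.2.2], ?_⟩, ?_⟩
      left_inv := fun e => Subtype.ext (DFunLike.ext _ _ fun i => ?_)
      right_inv := fun a => rfl }
  · have h0 := e.2 0
    have h1 := e.2 1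
    simp at h0 h1
    exact ⟨by rw [h0, h1], fun h => by simpa using e.1.injective (h0.symm.trans h)⟩
  · simpa [Equiv.swap_apply_def] using e.2 2
  · simpa [Equiv.swap_apply_def] using e.2 3
  · obtain ⟨ha, hb⟩ := Finset.mem_product.1 a.2
    rw [mem_two] at ha
    obtain ⟨hx, hy, hxy⟩ := Finset.mem_offDiag.1 hb
    rw [mem_fix] at hx hy
    have h3 : a.1.1 ≠ a.1.2.1 := fun h => ha.2 (by rw [h, hx])
    have h4 : g • a.1.1 ≠ a.1.2.1 := fun h => h3 (smul_left_cancel g (h.trans hx.symm))
    have h5 : a.1.1 ≠ a.1.2.2 := fun h => ha.2 (by rw [h, hy])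
    have h6 : g • a.1.1 ≠ a.1.2.2 := fun h => h5 (smul_left_cancel g (h.trans hy.symm))
    intro i j
    fin_cases i <;> fin_cases j <;>
      simp [ha.2, ha.2.symm, h3, h3.symm, h4, h4.symm, h5, h5.symm, h6, h6.symm, hxy, hxy.symm]
  · obtain ⟨ha, hb⟩ := Finset.mem_product.1 a.2
    obtain ⟨hx, hy, -⟩ := Finset.mem_offDiag.1 hb
    intro i
    fin_cases i <;> simp [(mem_two.1 ha).1, mem_fix.1 hx, mem_fix.1 hy, Equiv.swap_apply_def]
  · have h0 := e.2 0
    fin_cases i <;> simp_all

theorem ev_double (g : G) :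
    ev (X := X) 4 (Equiv.swap 0 1 * Equiv.swap 2 3) g + 2 * (two (X := X) g).card = (two (X := X) g).card ^ 2 := by
  have h : ev (X := X) 4 (Equiv.swap 0 1 * Equiv.swap 2 3) g =
      ∑ a ∈ two (X := X) g, ((two (X := X) g) \ {a, g • a}).card := by
    rw [← Finset.card_sigma, ev, ← Fintype.card_coe, ← Nat.card_eq_fintype_card]
    refine Nat.card_congr
      { toFun := fun e => ⟨⟨e.1 0, e.1 2⟩, Finset.mem_sigma.2 ⟨mem_two.2 ?_, Finset.mem_sdiff.2 ⟨mem_two.2 ?_, ?_⟩⟩⟩
        invFun := fun a => ⟨⟨![a.1.1, g • a.1.1, a.1.2, g • a.1.2], ?_⟩, ?_⟩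
        left_inv := fun e => Subtype.ext (DFunLike.ext _ _ fun i => ?_)
        right_inv := fun a => rfl }
    · have h0 := e.2 0
      have h1 := e.2 1
      simp [Equiv.swap_apply_def] at h0 h1
      exact ⟨by rw [h0, h1], fun h => by simpa using e.1.injective (h0.symm.trans h)⟩
    · have h0 := e.2 2
      have h1 := e.2 3
      simp [Equiv.swap_apply_def] at h0 h1
      exact ⟨by rw [h0, h1], fun h => by simpa using e.1.injective (h0.symm.trans h)⟩
    · have h0 := e.2 0
      simp [Equiv.swap_apply_def] at h0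
      simp only [h0, Finset.mem_insert, Finset.mem_singleton]
      rintro (h | h) <;> simpa using e.1.injective h
    · obtain ⟨ha, hb⟩ := Finset.mem_sigma.1 a.2
      obtain ⟨hb, hne⟩ := Finset.mem_sdiff.1 hb
      rw [mem_two] at ha hb
      simp only [Finset.mem_insert, Finset.mem_singleton, not_or] at hne
      have h4 : g • a.1.1 ≠ g • a.1.2 := fun h => hne.1 (smul_left_cancel g h).symm
      have h5 : a.1.1 ≠ g • a.1.2 := fun h => hne.2 (by rw [h, hb.1])
      intro i j
      fin_cases i <;> fin_cases j <;>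
        simp [ha.2, ha.2.symm, hb.2, hb.2.symm, hne.1, Ne.symm hne.1, hne.2, Ne.symm hne.2, h4, h4.symm, h5, h5.symm]
    · obtain ⟨ha, hb⟩ := Finset.mem_sigma.1 a.2
      intro i
      fin_cases i <;> simp [(mem_two.1 ha).1, (mem_two.1 (Finset.mem_sdiff.1 hb).1).1, Equiv.swap_apply_def]
    · have h0 := e.2 0
      have h2 := e.2 2
      fin_cases i <;> simp_all [Equiv.swap_apply_def]
  rw [h, sq, ← smul_eq_mul (two (X := X) g).card, ← Finset.sum_const, mul_comm 2, ← smul_eq_mul, ← Finset.sum_const,
    ← Finset.sum_add_distrib]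
  refine Finset.sum_congr rfl fun a ha => ?_
  have hne : a ≠ g • a := (mem_two.1 ha).2.symm
  rw [← Finset.card_pair hne, Finset.card_sdiff_add_card_eq_card]
  intro x hx
  rcases Finset.mem_insert.1 hx with rfl | hx
  · exact ha
  · rw [Finset.mem_singleton.1 hx]; exact two_smul_mem ha

theorem cast_descFactorial_succ (f k : ℕ) :
    ((f.descFactorial (k + 1) : ℕ) : ℂ) = ((f : ℂ) - k) * (f.descFactorial k : ℂ) := by
  rw [Nat.descFactorial_succ, Nat.cast_mul]
  rcases le_or_gt k f with h | h
  · rw [Nat.cast_sub h]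
  · rw [Nat.descFactorial_eq_zero_iff_lt.2 h]; simp

/-- The number of fixed points. -/
noncomputable def fc (g : G) : ℂ := ((fix (X := X) g).card : ℂ)

/-- The number of points in two-cycles. -/
noncomputable def tc (g : G) : ℂ := ((two (X := X) g).card : ℂ)

/-- The standard character. -/
noncomputable def chiOne (g : G) : ℂ := fc (X := X) g - 1

/-- The character on two-subsets. -/
noncomputable def chiTwo (g : G) : ℂ := (fc (X := X) g ^ 2 - 3 * fc (X := X) g + tc (X := X) g) / 2

/-- The character on alternating pairs. -/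
noncomputable def chiAlt (g : G) : ℂ := (fc (X := X) g ^ 2 - 3 * fc (X := X) g + 2 - tc (X := X) g) / 2

theorem sums (h4 : 4 ≤ Fintype.card X)
    (htr : ∀ k ≤ 4, ∀ e e' : Fin k ↪ X, ∃ g : G, g • e = e') :
    let f := fun g : G => fc (X := X) g
    let t := fun g : G => tc (X := X) g
    let N := (Fintype.card G : ℂ)
    (∑ g, f g = N) ∧ (∑ g, f g * (f g - 1) = N) ∧ (∑ g, f g * (f g - 1) * (f g - 2) = N) ∧
    (∑ g, f g * (f g - 1) * (f g - 2) * (f g - 3) = N) ∧ (∑ g, t g = N) ∧ (∑ g, t g * f g = N) ∧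
    (∑ g, t g * (f g * f g - f g) = N) ∧ (∑ g, (t g * t g - 2 * t g) = N) := by
  intro f t N
  have hne : ∀ k ≤ 4, Nonempty (Fin k ↪ X) := fun k hk =>
    Function.Embedding.nonempty_of_card_le (by rw [Fintype.card_fin]; omega)
  have key : ∀ k (_ : k ≤ 4) (π : Equiv.Perm (Fin k)), ∑ g : G, (ev (X := X) k π g : ℂ) = N := fun k hk π => by
    haveI := hne k hk
    rw [← Nat.cast_sum, sum_ev k π (htr k hk)]
  have hd : ∀ g : G, ∀ k, ((ev (X := X) k 1 g : ℕ) : ℂ) = ((fix (X := X) g).card.descFactorial k : ℂ) := fun g k => by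
    rw [ev_one]
  refine ⟨?_, ?_, ?_, ?_, ?_, ?_, ?_, ?_⟩
  · rw [← key 1 (by omega) 1]
    exact Finset.sum_congr rfl fun g _ => by simp [hd, f, fc]
  · rw [← key 2 (by omega) 1]
    exact Finset.sum_congr rfl fun g _ => by
      simp only [hd, cast_descFactorial_succ, Nat.descFactorial_zero]; push_cast; simp only [f, fc]; ring
  · rw [← key 3 (by omega) 1]
    exact Finset.sum_congr rfl fun g _ => by
      simp only [hd, cast_descFactorial_succ, Nat.descFactorial_zero]; push_cast; simp only [f, fc]; ring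
  · rw [← key 4 le_rfl 1]
    exact Finset.sum_congr rfl fun g _ => by
      simp only [hd, cast_descFactorial_succ, Nat.descFactorial_zero]; push_cast; simp only [f, fc]; ring
  · rw [← key 2 (by omega) (Equiv.swap 0 1)]
    exact Finset.sum_congr rfl fun g _ => by rw [ev_swap]; rfl
  · rw [← key 3 (by omega) (Equiv.swap 0 1)]
    exact Finset.sum_congr rfl fun g _ => by rw [ev_swap_three, Nat.cast_mul]; rfl
  · rw [← key 4 le_rfl (Equiv.swap 0 1)]
    exact Finset.sum_congr rfl fun g _ => by
      rw [ev_swap_four, Finset.offDiag_card, Nat.cast_mul, Nat.cast_sub (Nat.le_mul_self _), Nat.cast_mul]; rfl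
  · rw [← key 4 le_rfl (Equiv.swap 0 1 * Equiv.swap 2 3)]
    refine Finset.sum_congr rfl fun g _ => ?_
    have := congrArg (fun n : ℕ => (n : ℂ)) (ev_double (X := X) g)
    push_cast at this
    simp only [t, tc]
    linear_combination -this

/-- Pairs inherit the action. -/
@[reducible] def sym2Action : MulAction G (Sym2 X) where
  smul g s := Sym2.map (g • ·) s
  one_smul s := by
    show Sym2.map _ s = s
    simp
  mul_smul g h s := by
    show Sym2.map _ s = Sym2.map _ (Sym2.map _ s)
    rw [Sym2.map_map]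
    congr 1
    funext a
    exact mul_smul g h a

theorem card_fix_sym2 (g : G) :
    2 * ((Finset.univ.filter fun s : Sym2 X => Sym2.map (g • ·) s = s).card : ℂ) =
      fc (X := X) g ^ 2 + fc (X := X) g + tc (X := X) g := by
  set F := Finset.univ.filter fun s : Sym2 X => Sym2.map (g • ·) s = s with hF
  set W := (fix (X := X) g ×ˢ fix (X := X) g) ∪ (two (X := X) g).image (fun a => (a, g • a)) with hW
  have hWc : W.card = (fix (X := X) g).card ^ 2 + (two (X := X) g).card := by
    rw [hW, Finset.card_union_of_disjoint, Finset.card_product, Finset.card_image_of_injective, sq]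
    · exact fun a b h => congrArg Prod.fst h
    · rw [Finset.disjoint_left]
      rintro ⟨a, b⟩ hab hab'
      obtain ⟨c, hc, he⟩ := Finset.mem_image.1 hab'
      obtain ⟨rfl, -⟩ := Prod.mk.inj he
      exact (mem_two.1 hc).2 (mem_fix.1 (Finset.mem_product.1 hab).1)
  have hmemW : ∀ a b : X, (a, b) ∈ W ↔ s(a, b) ∈ F := by
    intro a b
    simp only [hW, hF, Finset.mem_union, Finset.mem_product, mem_fix, Finset.mem_image, Finset.mem_filter,
      Finset.mem_univ, true_and, Sym2.map_mk, Sym2.eq_iff, mem_two, Prod.mk.injEq]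
    constructor
    · rintro (⟨h1, h2⟩ | ⟨c, ⟨h1, -⟩, rfl, rfl⟩)
      · exact Or.inl ⟨h1, h2⟩
      · exact Or.inr ⟨rfl, h1⟩
    · rintro (⟨h1, h2⟩ | ⟨h1, h2⟩)
      · exact Or.inl ⟨h1, h2⟩
      · rcases eq_or_ne a b with rfl | hne
        · exact Or.inl ⟨h1, h2⟩
        · exact Or.inr ⟨a, ⟨by rw [h1, h2], by rw [h1]; exact hne.symm⟩, rfl, h1⟩
  have hfib : W.card = ∑ s ∈ F, (W.filter fun x => s(x.1, x.2) = s).card :=
    Finset.card_eq_sum_card_fiberwise fun x hx => (hmemW x.1 x.2).1 hx
  have hdiag : (F.filter fun s => s.IsDiag).card = (fix (X := X) g).card := by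
    rw [← Finset.card_image_of_injective (fix (X := X) g) (f := fun a => s(a, a)) fun a b h => by
      simpa using h]
    congr 1
    ext s
    induction s using Sym2.ind with
    | h a b =>
      simp only [hF, Finset.mem_filter, Finset.mem_univ, true_and, Sym2.mk_isDiag_iff, Finset.mem_image,
        mem_fix, Sym2.map_mk, Sym2.eq_iff]
      constructor
      · rintro ⟨h, rfl⟩
        exact ⟨a, by tauto, by tauto⟩
      · rintro ⟨c, hc, (⟨rfl, rfl⟩ | ⟨rfl, rfl⟩)⟩ <;> tauto
  have hsum : W.card + (F.filter fun s => s.IsDiag).card = 2 * F.card := by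
    rw [hfib, Finset.card_filter (fun s : Sym2 X => s.IsDiag), ← Finset.sum_add_distrib,
      mul_comm, ← smul_eq_mul, ← Finset.sum_const]
    refine Finset.sum_congr rfl fun s hs => ?_
    induction s using Sym2.ind with
    | h a b =>
      have e : (W.filter fun x => s(x.1, x.2) = s(a, b)) = {(a, b), (b, a)} := by
        ext ⟨x, y⟩
        simp only [Finset.mem_filter, Finset.mem_insert, Finset.mem_singleton, Prod.mk.injEq, Sym2.eq_iff]
        refine ⟨fun h => h.2, fun h => ⟨(hmemW x y).2 ?_, h⟩⟩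
        rwa [show s(x, y) = s(a, b) from Sym2.eq_iff.2 h]
      rw [e]
      rcases eq_or_ne a b with rfl | hne
      · simp
      · rw [Finset.card_pair (fun h => hne (Prod.mk.inj h).1), if_neg (fun h => hne (Sym2.mk_isDiag_iff.1 h))]
  rw [hdiag, hWc] at hsum
  have := congrArg (fun n : ℕ => (n : ℂ)) hsum
  push_cast at this
  simp only [fc, tc]
  linear_combination -this

theorem isCharacter_fixed {Y : Type v} [MulAction G Y] [Finite Y] :
    IsCharacter G fun g => (Nat.card (MulAction.fixedBy Y g) : ℂ) := by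
  haveI := Fintype.ofFinite (Quotient (MulAction.orbitRel G Y))
  have h : ∀ s : Finset (Quotient (MulAction.orbitRel G Y)), IsGeneralizedCharacter G
      (fun g => ∑ q ∈ s, indFun (MulAction.stabilizer G q.out) (fun _ => (1 : ℂ)) g) ∧
      IsCharacter G (fun g => ∑ q ∈ s, indFun (MulAction.stabilizer G q.out) (fun _ => (1 : ℂ)) g) := by
    intro s
    have hc : IsCharacter G (fun g => ∑ q ∈ s, indFun (MulAction.stabilizer G q.out) (fun _ => (1 : ℂ)) g) := by
      refine isCharacter_of_classInner_nat ?_ fun χ hχ => ?_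
      · intro x y
        exact Finset.sum_congr rfl fun q _ => isClassFunction_indFun _ _ x y
      · have hn : ∀ q : Quotient (MulAction.orbitRel G Y), ∃ n : ℕ,
            classInner (indFun (MulAction.stabilizer G (Quotient.out q)) (fun _ => (1 : ℂ))) χ = n := fun q =>
          exists_classInner_nat (isCharacter_indFun _ (IsIrrCharacter.isCharacter isIrrCharacter_one)) hχ
        choose n hn using hn
        refine ⟨∑ q ∈ s, n q, ?_⟩
        rw [Nat.cast_sum, ← Finset.sum_congr rfl fun q _ => hn q, ← classInner_sum_left]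
        congr 1
        funext g
        simp
    exact ⟨IsCharacter.isGeneralized hc, hc⟩
  have e : (fun g => (Nat.card (MulAction.fixedBy Y g) : ℂ)) =
      fun g => ∑ q : Quotient (MulAction.orbitRel G Y), indFun (MulAction.stabilizer G q.out) (fun _ => (1 : ℂ)) g :=
    funext fun g => card_fixed_eq_sum_orbits (X := Y) g
  rw [e]
  exact (h Finset.univ).2

theorem irreducible (h5 : 5 ≤ Fintype.card X) (htr : ∀ k ≤ 4, ∀ e e' : Fin k ↪ X, ∃ g : G, g • e = e') :
    IsIrrCharacter G (chiOne (G := G) (X := X)) ∧ IsIrrCharacter G (chiTwo (G := G) (X := X)) ∧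
      IsIrrCharacter G (chiAlt (G := G) (X := X)) := by
  have hf : IsGeneralizedCharacter G (fc (G := G) (X := X)) := by
    convert IsCharacter.isGeneralized (isCharacter_fixed (G := G) (Y := X)) using 1
    funext g
    rw [fc, Nat.card_eq_fintype_card]
    congr 1
    change _ = Fintype.card {a : X // a ∈ MulAction.fixedBy X g}
    rw [Fintype.card_subtype]
    simp [fix, MulAction.mem_fixedBy]
  letI := sym2Action (G := G) (X := X)
  have hs : IsGeneralizedCharacter G fun g => ((fc (X := X) g ^ 2 + fc (X := X) g + tc (X := X) g) / 2) := by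
    convert IsCharacter.isGeneralized (isCharacter_fixed (G := G) (Y := Sym2 X)) using 1
    funext g
    rw [← card_fix_sym2, mul_div_cancel_left₀ _ two_ne_zero, Nat.card_eq_fintype_card]
    congr 1
    change _ = Fintype.card {s : Sym2 X // s ∈ MulAction.fixedBy (Sym2 X) g}
    rw [Fintype.card_subtype]
    congr 1
  have h1 : IsGeneralizedCharacter G (1 : G → ℂ) := isGeneralizedCharacter_one
  have hg1 : IsGeneralizedCharacter G (chiOne (G := G) (X := X)) := by
    convert isGeneralizedCharacter_sub hf h1 using 1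
    funext g; simp [chiOne]
  have hg2 : IsGeneralizedCharacter G (chiTwo (G := G) (X := X)) := by
    convert isGeneralizedCharacter_sub (isGeneralizedCharacter_sub hs hf) hf using 1
    funext g
    simp only [chiTwo, Pi.sub_apply]
    ring
  have hg3 : IsGeneralizedCharacter G (chiAlt (G := G) (X := X)) := by
    convert isGeneralizedCharacter_add (isGeneralizedCharacter_sub
      (isGeneralizedCharacter_sub (isGeneralizedCharacter_mul hf hf) hs) hf) h1 using 1
    funext g
    simp only [chiAlt, Pi.sub_apply, Pi.add_apply, Pi.mul_apply, Pi.one_apply]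
    ring
  obtain ⟨s1, s2, s3, s4, s5, s6, s7, s8⟩ := sums (G := G) (X := X) (by omega) htr
  have hN : (Fintype.card G : ℂ) ≠ 0 := Nat.cast_ne_zero.2 Fintype.card_ne_zero
  have hnorm : ∀ θ : G → ℂ, (∀ g, starRingEnd ℂ (θ g) = θ g) → ∑ g, θ g * θ g = (Fintype.card G : ℂ) →
      classInner θ θ = 1 := fun θ hr hs' => by
    simp only [classInner, hr, hs', Nat.card_eq_fintype_card, inv_mul_cancel₀ hN]
  have hcard1 : ∑ _g : G, (1 : ℂ) = (Fintype.card G : ℂ) := by simp
  have hone : (fix (X := X) (1 : G)) = Finset.univ := by ext; simp [mem_fix]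
  have htwo : (two (X := X) (1 : G)) = ∅ := by ext; simp [mem_two]
  have hn5 : (5 : ℝ) ≤ (Fintype.card X : ℝ) := by exact_mod_cast h5
  have hfinish : ∀ θ : G → ℂ, IsGeneralizedCharacter G θ → classInner θ θ = 1 → 0 < (θ 1).re →
      IsIrrCharacter G θ := fun θ hθ hn hp => by
    rcases IsGeneralizedCharacter.irr_or_neg hθ hn with h | h
    · exact h
    · exfalso
      obtain ⟨d, hd⟩ := IsCharacter.exists_degree (IsIrrCharacter.isCharacter h)
      have : (-θ 1) = (d : ℂ) := by simpa using hd
      have h2 := congrArg Complex.re this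
      simp at h2
      linarith [(Nat.cast_nonneg d : (0 : ℝ) ≤ d)]
  refine ⟨hfinish _ hg1 (hnorm _ (fun g => by simp [chiOne, fc]) ?_) ?_,
    hfinish _ hg2 (hnorm _ (fun g => by simp [chiTwo, fc, tc, Complex.conj_ofNat]) ?_) ?_,
    hfinish _ hg3 (hnorm _ (fun g => by simp [chiAlt, fc, tc, Complex.conj_ofNat]) ?_) ?_⟩
  · calc ∑ g, chiOne (X := X) g * chiOne (X := X) g
        = ∑ g, (fc (X := X) g * (fc (X := X) g - 1) - fc (X := X) g + 1) :=
          Finset.sum_congr rfl fun g _ => by simp only [chiOne]; ring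
      _ = _ := by
          rw [Finset.sum_add_distrib, Finset.sum_sub_distrib, s2, s1, hcard1]; ring
  · simp [chiOne, fc, hone]
    linarith
  · calc ∑ g, chiTwo (X := X) g * chiTwo (X := X) g
        = ∑ g, ((1 / 4 : ℂ) * ((fc (X := X) g * (fc (X := X) g - 1) * (fc (X := X) g - 2) * (fc (X := X) g - 3))
            - 2 * (fc (X := X) g * (fc (X := X) g - 1)) + 4 * fc (X := X) g
            + (tc (X := X) g * tc (X := X) g - 2 * tc (X := X) g) + 2 * tc (X := X) g
            + 2 * (tc (X := X) g * (fc (X := X) g * fc (X := X) g - fc (X := X) g))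
            - 4 * (tc (X := X) g * fc (X := X) g))) :=
          Finset.sum_congr rfl fun g _ => by simp only [chiTwo]; ring
      _ = _ := by
          rw [← Finset.mul_sum]
          simp only [Finset.sum_add_distrib, Finset.sum_sub_distrib, ← Finset.mul_sum] at s8 ⊢
          linear_combination (1 / 4 : ℂ) * (s4 - 2 * s2 + 4 * s1 + s8 + 2 * s5 + 2 * s7 - 4 * s6)
  · simp [chiTwo, fc, tc, hone, htwo, ← Complex.ofReal_natCast, ← Complex.ofReal_pow]
    nlinarith
  · calc ∑ g, chiAlt (X := X) g * chiAlt (X := X) g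
        = ∑ g, ((1 / 4 : ℂ) * ((fc (X := X) g * (fc (X := X) g - 1) * (fc (X := X) g - 2) * (fc (X := X) g - 3))
            + 2 * (fc (X := X) g * (fc (X := X) g - 1)) - 4 * fc (X := X) g + 4 * 1
            + (tc (X := X) g * tc (X := X) g - 2 * tc (X := X) g) - 2 * tc (X := X) g
            - 2 * (tc (X := X) g * (fc (X := X) g * fc (X := X) g - fc (X := X) g))
            + 4 * (tc (X := X) g * fc (X := X) g))) :=
          Finset.sum_congr rfl fun g _ => by simp only [chiAlt]; ring
      _ = _ := by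
          rw [← Finset.mul_sum]
          simp only [Finset.sum_add_distrib, Finset.sum_sub_distrib, ← Finset.mul_sum] at s8 ⊢
          linear_combination (1 / 4 : ℂ) * (s4 + 2 * s2 - 4 * s1 + 4 * hcard1 + s8 - 2 * s5 - 2 * s7 + 4 * s6)
  · simp [chiAlt, fc, tc, hone, htwo, ← Complex.ofReal_natCast, ← Complex.ofReal_pow]
    nlinarith

end Cfsg.Agent.Char.MultTrans
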