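import Cfsg.Agent.Lib.Char.CycAut
import Cfsg.Agent.Lib.Char.Galois
import Cfsg.Agent.Lib.Block.Regular
import Cfsg.Agent.Lib.Block.SubsectionMajor
import Cfsg.Agent.Lib.Char.Integral
import Mathlib.GroupTheory.PGroup

/-!
# The number of `p`-conjugates times the degree
-/

set_option autoImplicit false
set_option linter.style.haveILetI false
set_option linter.unusedSectionVars false

namespace Cfsg.Agent.Char.PConj

open Cfsg Cfsg.Agent.Char Polynomial
open Cfsg.Agent.Block (charDegree_cast)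
open scoped Classical ComplexConjugate

universe u v

theorem sum_eq_mul_of_fixed_zero {p : ℕ} [hp : Fact p.Prime] {A : Type u} [Group A] [Finite A]
    (hA : IsPGroup p A) {Y : Type v} [Fintype Y] [MulAction A Y] (f : Y → ℂ)
    (hinv : ∀ (a : A) y, f (a • y) = f y) (hint : ∀ y, IsIntegral ℤ (f y))
    (hfix : ∀ y ∈ MulAction.fixedPoints A Y, f y = 0) :
    ∃ z : ℂ, IsIntegral ℤ z ∧ ∑ y, f y = (p : ℂ) * z := by
  haveI : Fintype (Quotient (MulAction.orbitRel A Y)) := Fintype.ofFinite _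
  rw [← Finset.sum_fiberwise Finset.univ (fun y => Quotient.mk (MulAction.orbitRel A Y) y) f]
  have hq : ∀ q : Quotient (MulAction.orbitRel A Y), ∃ z : ℂ, IsIntegral ℤ z ∧
      ∑ y ∈ Finset.univ.filter (fun y => Quotient.mk (MulAction.orbitRel A Y) y = q), f y = (p : ℂ) * z := by
    intro q
    induction q using Quotient.inductionOn with
    | h y₀ =>
      have e : ∀ y, (Quotient.mk (MulAction.orbitRel A Y) y = Quotient.mk (MulAction.orbitRel A Y) y₀) ↔
          y ∈ MulAction.orbit A y₀ := fun y => by rw [Quotient.eq, MulAction.orbitRel_apply]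
      rw [Finset.sum_congr rfl (g := fun _ => f y₀) fun y hy => by
        obtain ⟨a, rfl⟩ := (e y).1 (Finset.mem_filter.1 hy).2
        exact hinv a y₀, Finset.sum_const]
      obtain ⟨i, hi⟩ := hA.card_orbit y₀
      have hc : (Finset.univ.filter fun y => Quotient.mk (MulAction.orbitRel A Y) y =
          Quotient.mk (MulAction.orbitRel A Y) y₀).card = p ^ i := by
        rw [← hi, Nat.card_eq_fintype_card]
        change _ = Fintype.card {y // y ∈ MulAction.orbit A y₀}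
        rw [Fintype.card_subtype]
        exact congrArg Finset.card (Finset.filter_congr fun y _ => e y)
      rw [hc]
      rcases i with _ | i
      · refine ⟨0, isIntegral_zero, ?_⟩
        have hmem : y₀ ∈ MulAction.fixedPoints A Y := fun a => by
          rw [pow_zero, Nat.card_eq_one_iff_unique] at hi
          haveI := hi.1
          exact congrArg Subtype.val (Subsingleton.elim
            (⟨a • y₀, MulAction.mem_orbit y₀ a⟩ : MulAction.orbit A y₀) ⟨y₀, MulAction.mem_orbit_self y₀⟩)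
        simp [hfix y₀ hmem]
      · refine ⟨(p ^ i : ℕ) * f y₀, (isIntegral_natCast _).mul (hint y₀), ?_⟩
        rw [nsmul_eq_mul, pow_succ']; push_cast; ring
  choose z hz hzs using hq
  exact ⟨∑ q, z q, IsIntegral.sum _ fun q _ => hz q, by
    rw [Finset.mul_sum]; exact Finset.sum_congr rfl fun q _ => hzs q⟩

theorem modEq_of_pow_eq {n : ℕ} [NeZero n] {ζ : ℂ} (hζ : IsPrimitiveRoot ζ n) {i j : ℕ} (h : ζ ^ i = ζ ^ j) :
    i ≡ j [MOD n] := by
  have h0 := hζ.ne_zero (NeZero.ne n)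
  have hu : IsPrimitiveRoot (Units.mk0 ζ h0) n := IsPrimitiveRoot.coe_units_iff.1 hζ
  have e : Units.mk0 ζ h0 ^ i = Units.mk0 ζ h0 ^ j := Units.ext (by simpa using h)
  rwa [pow_eq_pow_iff_modEq, ← hu.eq_orderOf] at e

variable {G : Type u} [Group G] [Finite G] {p : ℕ} [hp : Fact p.Prime]

/-- The units modulo the `p`-part which are one modulo a power of `p`. -/
def U (p a j : ℕ) : Subgroup (ZMod (p ^ a))ˣ :=
  (ZMod.unitsMap (pow_dvd_pow p (min_le_right j a))).ker

theorem mem_U {a j : ℕ} (hj : j ≤ a) {u : (ZMod (p ^ a))ˣ} :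
    u ∈ U p a j ↔ (u : ZMod (p ^ a)).val ≡ 1 [MOD p ^ j] := by
  haveI : NeZero (p ^ a) := ⟨pow_ne_zero _ hp.out.ne_zero⟩
  rw [U, MonoidHom.mem_ker, ← ZMod.natCast_eq_natCast_iff, Units.ext_iff, ZMod.unitsMap_val, Units.val_one,
    Nat.cast_one, ZMod.natCast_val]
  generalize hm : min j a = m
  have : m = j := hm ▸ min_eq_left hj
  subst this
  rfl

theorem index_U {a j : ℕ} (hj : j ≤ a) : (U p a j).index = (p ^ j).totient := by
  haveI : NeZero (p ^ a) := ⟨pow_ne_zero _ hp.out.ne_zero⟩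
  haveI : NeZero (p ^ j) := ⟨pow_ne_zero _ hp.out.ne_zero⟩
  haveI : NeZero (p ^ min j a) := ⟨pow_ne_zero _ hp.out.ne_zero⟩
  rw [U, Subgroup.index_ker, MonoidHom.range_eq_top.2 (ZMod.unitsMap_surjective _),
    Nat.card_congr Subgroup.topEquiv.toEquiv, Nat.card_eq_fintype_card, ZMod.card_units_eq_totient, min_eq_left hj]

theorem card_U {a j : ℕ} (hj : j ≤ a) (hj0 : 1 ≤ j) : Nat.card (U p a j) = p ^ (a - j) := by
  haveI : NeZero (p ^ a) := ⟨pow_ne_zero _ hp.out.ne_zero⟩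
  have h := (U p a j).card_mul_index
  rw [index_U hj, Nat.card_eq_fintype_card (α := (ZMod (p ^ a))ˣ), ZMod.card_units_eq_totient,
    Nat.totient_prime_pow hp.out (by omega), Nat.totient_prime_pow hp.out (by omega),
    show a - 1 = (a - j) + (j - 1) by omega, pow_add, mul_assoc] at h
  exact Nat.eq_of_mul_eq_mul_right (Nat.mul_pos (pow_pos hp.out.pos _) (Nat.sub_pos_of_lt hp.out.one_lt)) h

theorem U_antitone {a i j : ℕ} (h : i ≤ j) (hj : j ≤ a) : U p a j ≤ U p a i := fun u hu => by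
  rw [mem_U (h.trans hj)]
  exact ((mem_U hj).1 hu).of_dvd (pow_dvd_pow p h)

theorem sum_U_one {a : ℕ} (ha : 1 ≤ a) {x : ℂ} (hx : x ^ p ^ a = 1) [Fintype (U p a 1)] :
    ∑ u : U p a 1, x ^ ((u : (ZMod (p ^ a))ˣ) : ZMod (p ^ a)).val =
      ((p ^ (a - 1) : ℕ) : ℂ) * if x ^ p = 1 then x else 0 := by
  haveI : NeZero (p ^ a) := ⟨pow_ne_zero _ hp.out.ne_zero⟩
  have hpa : p * p ^ (a - 1) = p ^ a := by rw [← pow_succ', Nat.sub_add_cancel ha]
  have hlt : ∀ j : Fin (p ^ (a - 1)), 1 + p * (j : ℕ) < p ^ a := fun j => by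
    have h1 : p * ((j : ℕ) + 1) ≤ p * p ^ (a - 1) := Nat.mul_le_mul_left p (Nat.succ_le_of_lt j.2)
    have := hp.out.two_le
    rw [hpa, mul_add, mul_one] at h1
    omega
  have hcop : ∀ j : ℕ, (1 + p * j).Coprime (p ^ a) := fun j => by
    refine Nat.Coprime.pow_right a (Nat.Coprime.symm (hp.out.coprime_iff_not_dvd.2 fun h => ?_))
    exact hp.out.not_dvd_one ((Nat.dvd_add_left (dvd_mul_right p j)).1 h)
  have hval : ∀ j : Fin (p ^ (a - 1)),
      ((ZMod.unitOfCoprime _ (hcop j) : (ZMod (p ^ a))ˣ) : ZMod (p ^ a)).val = 1 + p * j := fun j => by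
    rw [ZMod.coe_unitOfCoprime, ZMod.val_natCast, Nat.mod_eq_of_lt (hlt j)]
  let F : Fin (p ^ (a - 1)) → U p a 1 := fun j => ⟨ZMod.unitOfCoprime _ (hcop j), (mem_U ha).2 (by
    rw [hval, pow_one]; simp [Nat.ModEq, Nat.add_mul_mod_self_left])⟩
  have hF : Function.Bijective F := by
    refine (Fintype.bijective_iff_injective_and_card F).2 ⟨fun i j h => ?_, ?_⟩
    · have h1 := congrArg (fun u : U p a 1 => ((u : (ZMod (p ^ a))ˣ) : ZMod (p ^ a)).val) h
      simp only [F, hval] at h1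
      exact Fin.ext (Nat.eq_of_mul_eq_mul_left hp.out.pos (Nat.add_left_cancel h1))
    · rw [Fintype.card_fin, ← Nat.card_eq_fintype_card, card_U ha le_rfl]
  rw [← hF.sum_comp, Finset.sum_congr rfl fun j _ => by rw [show ((F j : (ZMod (p ^ a))ˣ) : ZMod (p ^ a)).val =
    1 + p * j from hval j, pow_add, pow_one, pow_mul], ← Finset.mul_sum,
    Fin.sum_univ_eq_sum_range (fun j => (x ^ p) ^ j)]
  split_ifs with h
  · simp [h, mul_comm]
  · rw [geom_sum_eq h, ← pow_mul, hpa, hx, sub_self, zero_div, mul_zero, mul_zero]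

/-- Central character values at the powers of an element come from one integral polynomial. -/
theorem exists_central_poly {χ : G → ℂ} (hχ : IsIrrCharacter G χ) {n : ℕ} [NeZero n] (hGn : Nat.card G ∣ n) {η : ℂ}
    (hη : IsPrimitiveRoot η n) (g : G) :
    ∃ Q : ℤ[X], ∀ k : ℕ, k.Coprime n →
      aeval (η ^ k) Q = ((Subgroup.centralizer ({g} : Set G)).index : ℂ) * χ (g ^ k) / χ 1 := by
  obtain ⟨P, hP⟩ := exists_value_poly (IsIrrCharacter.isGeneralized hχ) g (NeZero.ne n) hη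
    (orderOf_dvd_iff_pow_eq_one.1 ((orderOf_dvd_natCard g).trans hGn))
  obtain ⟨d, hd⟩ := IsCharacter.exists_degree (IsIrrCharacter.isCharacter hχ)
  set c : ℚ := ((Subgroup.centralizer ({g} : Set G)).index : ℚ) / d with hc
  have hR : ∀ k : ℕ, aeval (η ^ k) (C c * P.map (algebraMap ℤ ℚ)) =
      ((Subgroup.centralizer ({g} : Set G)).index : ℂ) * χ (g ^ k) / χ 1 := fun k => by
    rw [map_mul, aeval_C, aeval_map_algebraMap, hP k, hd, hc]
    simp only [map_div₀, map_natCast]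
    ring
  obtain ⟨Q, hQ⟩ := CycAut.exists_int_poly hη (v := aeval η (C c * P.map (algebraMap ℤ ℚ))) (by
    rw [← IntermediateField.mem_toSubalgebra, IntermediateField.adjoin_simple_toSubalgebra_of_isAlgebraic
      (hη.isIntegral (NeZero.pos n)).tower_top.isAlgebraic, Algebra.adjoin_singleton_eq_range_aeval]
    exact ⟨_, rfl⟩) (by
      have := hR 1
      rw [pow_one, pow_one] at this
      rw [this]
      exact isIntegral_centralChar hχ g)
  refine ⟨Q, fun k hk => ?_⟩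
  have h0 := aeval_pow_eq_zero (NeZero.ne n) hη hk (P := Q.map (algebraMap ℤ ℚ) - C c * P.map (algebraMap ℤ ℚ)) (by
    rw [map_sub, aeval_map_algebraMap, hQ, sub_self])
  rw [map_sub, aeval_map_algebraMap, sub_eq_zero] at h0
  rw [h0, hR]

theorem main (χ : IrrCharacter G) {r : ℕ}
    (hr : Nat.card {ψ : IrrCharacter G // ∃ σ : ℂ ≃+* ℂ,
      σ (Complex.exp (2 * Real.pi * Complex.I / ((Nat.card G / p ^ (Nat.card G).factorization p) : ℕ))) =
        Complex.exp (2 * Real.pi * Complex.I / ((Nat.card G / p ^ (Nat.card G).factorization p) : ℕ)) ∧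
      (ψ : G → ℂ) = fun g => σ ((χ : G → ℂ) g)} = r) :
    r ≠ 0 ∧ (p ∣ r → r.factorization p + (charDegree (χ : G → ℂ)).factorization p < (Nat.card G).factorization p) := by
  haveI := Fintype.ofFinite G
  set n := Nat.card G with hn
  set a := n.factorization p
  set q := n / p ^ a
  have hn0 : n ≠ 0 := Nat.card_pos.ne'
  haveI : NeZero n := ⟨hn0⟩
  haveI : NeZero (p ^ a) := ⟨pow_ne_zero _ hp.out.ne_zero⟩
  have hnq : p ^ a * q = n := Nat.ordProj_mul_ordCompl_eq_self n p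
  have hcq : (p ^ a).Coprime q := (hp.out.coprime_iff_not_dvd.2 (Nat.not_dvd_ordCompl hp.out hn0)).pow_left a
  have hq0 : q ≠ 0 := fun h => hn0 (by rw [← hnq, h, mul_zero])
  set η := Complex.exp (2 * Real.pi * Complex.I / (n : ℂ))
  have hη : IsPrimitiveRoot η n := Complex.isPrimitiveRoot_exp n hn0
  have hω : Complex.exp (2 * Real.pi * Complex.I / (q : ℂ)) = η ^ p ^ a := by
    rw [← Complex.exp_nat_mul, ← hnq, Nat.cast_mul]
    congr 1
    have : ((p ^ a : ℕ) : ℂ) ≠ 0 := Nat.cast_ne_zero.2 (pow_ne_zero _ hp.out.ne_zero)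
    have : (q : ℂ) ≠ 0 := Nat.cast_ne_zero.2 hq0
    field_simp
  -- the lift of the units
  let ℓ : (ZMod (p ^ a))ˣ → ℕ := fun u => (Nat.chineseRemainder hcq (u : ZMod (p ^ a)).val 1).1
  have hℓp : ∀ u, ℓ u ≡ (u : ZMod (p ^ a)).val [MOD p ^ a] := fun u => (Nat.chineseRemainder hcq _ 1).2.1
  have hℓq : ∀ u, ℓ u ≡ 1 [MOD q] := fun u => (Nat.chineseRemainder hcq _ 1).2.2
  have hℓc : ∀ u, (ℓ u).Coprime n := fun u => by
    rw [← hnq]
    refine Nat.Coprime.mul_right ?_ ?_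
    · exact Nat.coprime_iff_gcd_eq_one.2 (by rw [Nat.ModEq.gcd_eq (hℓp u)]; exact ZMod.val_coe_unit_coprime u)
    · exact Nat.coprime_iff_gcd_eq_one.2 (by rw [Nat.ModEq.gcd_eq (hℓq u)]; simp)
  have hℓeq : ∀ (u : (ZMod (p ^ a))ˣ) (k : ℕ), k ≡ (u : ZMod (p ^ a)).val [MOD p ^ a] → k ≡ 1 [MOD q] → k ≡ ℓ u [MOD n] := fun u k h1 h2 => by
    rw [← hnq]
    exact (Nat.modEq_and_modEq_iff_modEq_mul hcq).1 ⟨h1.trans (hℓp u).symm, h2.trans (hℓq u).symm⟩
  have hpow : ∀ (g : G) {i j : ℕ}, i ≡ j [MOD n] → g ^ i = g ^ j := fun g i j h =>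
    pow_eq_pow_iff_modEq.2 (h.of_dvd (orderOf_dvd_natCard g))
  have hval1 : ((1 : (ZMod (p ^ a))ˣ) : ZMod (p ^ a)).val ≡ 1 [MOD p ^ a] :=
    (ZMod.natCast_eq_natCast_iff _ _ _).1 (by simp)
  have hone : ∀ g : G, g ^ ℓ 1 = g := fun g => by
    conv_rhs => rw [← pow_one g]
    exact hpow g (hℓeq 1 1 hval1.symm rfl).symm
  have hmulval : ∀ u v : (ZMod (p ^ a))ˣ, ((u * v : (ZMod (p ^ a))ˣ) : ZMod (p ^ a)).val ≡
      (u : ZMod (p ^ a)).val * (v : ZMod (p ^ a)).val [MOD p ^ a] := fun u v =>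
    (ZMod.natCast_eq_natCast_iff _ _ _).1 (by simp)
  have hmul : ∀ (g : G) u v, g ^ ℓ (u * v) = (g ^ ℓ u) ^ ℓ v := fun g u v => by
    rw [← pow_mul]
    exact hpow g (hℓeq (u * v) (ℓ u * ℓ v) (((hℓp u).mul (hℓp v)).trans (hmulval u v).symm)
      (by simpa using (hℓq u).mul (hℓq v))).symm
  let H : Subgroup (ZMod (p ^ a))ˣ :=
    { carrier := {u | ∀ g, (χ : G → ℂ) (g ^ ℓ u) = (χ : G → ℂ) g}
      one_mem' := fun g => by rw [hone]
      mul_mem' := fun {u v} hu hv g => by rw [hmul, hv, hu]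
      inv_mem' := fun {u} hu g => by
        have := hu (g ^ ℓ u⁻¹)
        rw [← hmul, inv_mul_cancel, hone] at this
        exact this.symm }
  have hψ : ∀ u, IsIrrCharacter G fun g => (χ : G → ℂ) (g ^ ℓ u) := fun u => isIrrCharacter_comp_pow χ.2 (hℓc u)
  have heq : ∀ u v, ((fun g => (χ : G → ℂ) (g ^ ℓ u)) = fun g => (χ : G → ℂ) (g ^ ℓ v)) ↔ v⁻¹ * u ∈ H := by
    intro u v
    constructor
    · intro h g
      have := congrFun h (g ^ ℓ v⁻¹)
      simp only [← hmul, inv_mul_cancel, hone] at this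
      exact this
    · intro h
      funext g
      have := h (g ^ ℓ v)
      rwa [← hmul, mul_inv_cancel_left] at this
  -- the orbit
  have hP : ∀ g : G, ∃ P : ℤ[X], ∀ m : ℕ, (χ : G → ℂ) (g ^ m) = aeval (η ^ m) P := fun g =>
    exists_value_poly (IsIrrCharacter.isGeneralized χ.2) g hn0 hη pow_card_eq_one'
  choose P hP using hP
  have hrH : r = H.index := by
    rw [← hr, Subgroup.index_eq_card]
    symm
    refine Nat.card_eq_of_bijective (fun x => Quotient.liftOn' x (fun u => ⟨⟨_, hψ u⟩, ?_⟩) ?_) ⟨?_, ?_⟩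
    · obtain ⟨σ, hσ⟩ := CycAut.exists_aut hη (hℓc u)
      refine ⟨σ, ?_, ?_⟩
      · rw [hω, map_pow, hσ, ← pow_mul]
        refine pow_eq_pow_of_modEq ?_ hη.pow_eq_one
        rw [← hnq, mul_comm (p ^ a) q]
        simpa using Nat.ModEq.mul_right' (p ^ a) (hℓq u)
      · funext g
        rw [hP g]
        conv_rhs => rw [← pow_one g, hP g 1, CycAut.aut_aeval, map_pow, hσ, pow_one]
    · intro u v h
      rw [QuotientGroup.leftRel_apply] at h
      refine Subtype.ext (Subtype.ext ((heq u v).2 ?_))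
      simpa using H.inv_mem h
    · intro x y
      induction x using Quotient.inductionOn' with
      | h u =>
        induction y using Quotient.inductionOn' with
        | h v =>
          intro h
          refine Quotient.sound' (QuotientGroup.leftRel_apply.2 ?_)
          have := H.inv_mem ((heq u v).1 (congrArg (fun z : {ψ : IrrCharacter G // _} => ((z.1 : IrrCharacter G) : G → ℂ)) h))
          simpa using this
    · rintro ⟨ψ, σ, hσω, hσ⟩
      obtain ⟨k, -, hk⟩ := hη.eq_pow_of_pow_eq_one (show (σ η) ^ n = 1 by rw [← map_pow, hη.pow_eq_one, map_one])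
      have hkc : k.Coprime n := (hη.pow_iff_coprime (Nat.pos_of_ne_zero hn0) k).1
        (hk ▸ hη.map_of_injective σ.injective)
      have hk1 : k ≡ 1 [MOD q] := by
        rw [hω, map_pow, ← hk, ← pow_mul] at hσω
        have h1 := (IsPrimitiveRoot.pow (Nat.pos_of_ne_zero hn0) hη (show n = p ^ a * q from hnq.symm))
        have h2 : (η ^ p ^ a) ^ k = (η ^ p ^ a) ^ 1 := by rw [← pow_mul, mul_comm, hσω, pow_one]
        haveI : NeZero q := ⟨hq0⟩
        exact modEq_of_pow_eq h1 h2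
      refine ⟨Quotient.mk'' (ZMod.unitOfCoprime k (hkc.coprime_dvd_right (Dvd.intro q hnq))),
        Subtype.ext (Subtype.ext (funext fun g => ?_))⟩
      set v := ZMod.unitOfCoprime k (hkc.coprime_dvd_right (Dvd.intro q hnq)) with hv
      show (χ : G → ℂ) (g ^ ℓ v) = (ψ : G → ℂ) g
      rw [hσ, ← hpow g (hℓeq v k (by rw [hv, ZMod.coe_unitOfCoprime, ZMod.val_natCast]; exact (Nat.mod_modEq _ _).symm) hk1),
        hP g]
      show aeval (η ^ k) (P g) = σ ((χ : G → ℂ) g)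
      conv_rhs => rw [← pow_one g, hP g 1, CycAut.aut_aeval, pow_one, ← hk]
  refine ⟨hrH ▸ Subgroup.index_ne_zero_of_finite, fun hpr => ?_⟩
  -- the conductor
  have hex : ∃ j, j ≤ a ∧ U p a j ≤ H := ⟨a, le_rfl, fun u hu g => by
    have e := hpow g (hℓeq u 1 ((mem_U le_rfl).1 hu).symm rfl)
    rw [pow_one] at e
    show (χ : G → ℂ) (g ^ ℓ u) = (χ : G → ℂ) g
    rw [← e]⟩
  set c := Nat.find hex
  obtain ⟨hca, hcH⟩ := Nat.find_spec hex
  have hrc : r ∣ (p ^ c).totient := by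
    rw [hrH, ← index_U hca]; exact Subgroup.index_dvd_of_le hcH
  have hc2 : 2 ≤ c := by
    by_contra hlt
    rcases (show c = 0 ∨ c = 1 by omega) with h | h <;> rw [h] at hrc
    · rw [pow_zero, Nat.totient_one, Nat.dvd_one] at hrc
      exact hp.out.not_dvd_one (hrc ▸ hpr)
    · rw [pow_one, Nat.totient_prime hp.out] at hrc
      have := Nat.le_of_dvd (Nat.sub_pos_of_lt hp.out.one_lt) (hpr.trans hrc)
      have := hp.out.one_lt
      omega
  have ha1 : 1 ≤ a := by omega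
  obtain ⟨y, -, hy⟩ := Nat.exists_mul_mod_eq_one_of_coprime hcq.symm (Nat.one_lt_pow (by omega) hp.out.one_lt)
  have hy' : q * y ≡ 1 [MOD p ^ a] := by
    rw [Nat.ModEq, hy, Nat.one_mod_eq_one.2 (Nat.one_lt_pow (by omega) hp.out.one_lt).ne']
  set μ := η ^ (q * y)
  have hμ : IsPrimitiveRoot μ (p ^ a) := by
    rw [show μ = (η ^ q) ^ y from pow_mul η q y]
    refine (hη.pow (Nat.pos_of_ne_zero hn0) (by rw [mul_comm, hnq])).pow_of_coprime y ?_
    refine Nat.coprime_iff_gcd_eq_one.2 ?_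
    have h1 : (q * y).gcd (p ^ a) = 1 := by rw [hy'.gcd_eq]; simp
    exact Nat.Coprime.coprime_dvd_left (dvd_mul_left y q) h1
  have hμ0 : μ ≠ 0 := hμ.ne_zero (pow_ne_zero _ hp.out.ne_zero)
  set ζ := μ ^ p ^ (a - c)
  have hζ : IsPrimitiveRoot ζ (p ^ c) :=
    hμ.pow (pow_pos hp.out.pos _) (by rw [← pow_add, Nat.sub_add_cancel hca])
  have hζa : ζ ^ p ^ a = 1 := by
    obtain ⟨e, he⟩ := pow_dvd_pow p hca
    rw [he, pow_mul, hζ.pow_eq_one, one_pow]
  set α := η * μ⁻¹
  haveI : NeZero (p ^ c) := ⟨pow_ne_zero _ hp.out.ne_zero⟩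
  have hαℓ : ∀ u, η ^ ℓ u = α * μ ^ (u : ZMod (p ^ a)).val := fun u => by
    have hαq : α ^ q = 1 := by
      rw [mul_pow, inv_pow, mul_inv_eq_one₀ (pow_ne_zero _ hμ0)]
      rw [show μ ^ q = η ^ (q * y * q) from (pow_mul η _ q).symm]
      refine pow_eq_pow_of_modEq ?_ hη.pow_eq_one
      rw [← hnq]
      simpa using Nat.ModEq.mul_right' q hy'.symm
    have h1 : η ^ ℓ u = α ^ ℓ u * μ ^ ℓ u := by rw [← mul_pow, inv_mul_cancel_right₀ hμ0]
    rw [h1, pow_eq_pow_of_modEq (hℓq u) hαq, pow_one, pow_eq_pow_of_modEq (hℓp u) hμ.pow_eq_one]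
  haveI : Fintype (U p a 1) := Fintype.ofFinite _
  let Av : ℤ[X] → ℂ := fun P => ∑ m ∈ P.support,
    (P.coeff m : ℂ) * α ^ m * (if (μ ^ m * ζ⁻¹) ^ p = 1 then μ ^ m * ζ⁻¹ else 0)
  have hAint : ∀ P, IsIntegral ℤ (Av P) := fun P => IsIntegral.sum _ fun m _ => by
    have hμi : IsIntegral ℤ μ := hμ.isIntegral (pow_pos hp.out.pos _)
    have hζi : IsIntegral ℤ ζ⁻¹ := hζ.inv.isIntegral (pow_pos hp.out.pos _)
    have hηi : IsIntegral ℤ η := hη.isIntegral (Nat.pos_of_ne_zero hn0)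
    have hαi : IsIntegral ℤ α := hηi.mul (hμ.inv.isIntegral (pow_pos hp.out.pos _))
    refine ((isIntegral_intCast _).mul (hαi.pow m)).mul ?_
    split_ifs
    · exact (hμi.pow m).mul hζi
    · exact isIntegral_zero
  let u1 : U p a 1 → (ZMod (p ^ a))ˣ := Subtype.val
  have hS : ∀ P : ℤ[X], ∑ u : U p a 1, (ζ ^ (u1 u : ZMod (p ^ a)).val)⁻¹ * aeval (η ^ ℓ (u1 u)) P =
      ((p ^ (a - 1) : ℕ) : ℂ) * Av P := by
    intro P
    simp only [aeval_def, eval₂_eq_sum, Polynomial.sum_def, eq_intCast, Finset.mul_sum, Av]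
    rw [Finset.sum_comm]
    refine Finset.sum_congr rfl fun m _ => ?_
    have hx : (μ ^ m * ζ⁻¹) ^ p ^ a = 1 := by
      rw [mul_pow, ← pow_mul, mul_comm m, pow_mul, hμ.pow_eq_one, one_pow, inv_pow, hζa, inv_one, one_mul]
    calc ∑ u : U p a 1, (ζ ^ (u1 u : ZMod (p ^ a)).val)⁻¹ * ((P.coeff m : ℂ) * (η ^ ℓ (u1 u)) ^ m)
        = ((P.coeff m : ℂ) * α ^ m) * ∑ u : U p a 1, (μ ^ m * ζ⁻¹) ^ (u1 u : ZMod (p ^ a)).val := by
          rw [Finset.mul_sum]
          refine Finset.sum_congr rfl fun u _ => ?_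
          rw [hαℓ, mul_pow α, mul_pow (μ ^ m), inv_pow, ← pow_mul μ m, mul_comm m, pow_mul]
          ring
      _ = _ := by rw [sum_U_one ha1 hx]; ring
  -- the sums
  let T : G → ℂ := fun g => ∑ u : U p a 1, (ζ ^ (u1 u : ZMod (p ^ a)).val)⁻¹ * (χ : G → ℂ) (g ^ ℓ (u1 u))
  have hT : ∀ g, T g = ((p ^ (a - 1) : ℕ) : ℂ) * Av (P g) := fun g => by
    rw [← hS]; exact Finset.sum_congr rfl fun u _ => by rw [hP g]
  have hTclass : ∀ g g', IsConj g g' → T g = T g' := fun g g' h =>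
    Finset.sum_congr rfl fun u _ => by rw [IsIrrCharacter.apply_isConj χ.2 (h.pow _)]
  obtain ⟨d, hd⟩ := IsCharacter.exists_degree (IsIrrCharacter.isCharacter χ.2)
  have hd0 : (d : ℂ) ≠ 0 := hd ▸ IsIrrCharacter.apply_one_ne_zero χ.2
  choose Q hQ using fun g : G => exists_central_poly χ.2 (dvd_refl n) hη g
  have hTQ : ∀ g, ((Subgroup.centralizer ({g} : Set G)).index : ℂ) / d * T g =
      ((p ^ (a - 1) : ℕ) : ℂ) * Av (Q g) := fun g => by
    rw [← hS, Finset.mul_sum]
    exact Finset.sum_congr rfl fun u _ => by rw [hQ g _ (hℓc _), hd]; ring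
  let N2 : ℂ := ((p ^ (a - 1) : ℕ) : ℂ)
  have hN2 : N2 ≠ 0 := Nat.cast_ne_zero.2 (pow_ne_zero _ hp.out.ne_zero)
  let F : ConjClasses G → ℂ := fun C =>
    ((Subgroup.centralizer ({C.out} : Set G)).index : ℂ) / d * (T C.out * conj (T C.out)) / N2 ^ 2
  have hFint : ∀ C, IsIntegral ℤ (F C) := fun C => by
    have e : F C = Av (Q C.out) * conj (Av (P C.out)) := by
      show _ / N2 ^ 2 = _
      rw [← mul_assoc, hTQ, hT, map_mul, Complex.conj_natCast]
      field_simp [hN2]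
      simp only [N2]
      ring
    rw [e]
    exact (hAint _).mul ((hAint _).map (starRingEnd ℂ).toIntAlgHom)
  -- the acting group
  set A := U p a (c - 1) with hA
  have hA1 : A ≤ U p a 1 := U_antitone (by omega) (by omega)
  have hApg : IsPGroup p A := IsPGroup.of_card (n := a - (c - 1)) (card_U (by omega) (by omega))
  have hscale : ∀ w ∈ A, ∃ ξ : ℂ, conj ξ * ξ = 1 ∧ (w ∉ U p a c → ξ ≠ 1) ∧ ∀ g, T (g ^ ℓ w) = ξ * T g := by
    intro w hw
    have hwi := (mem_U (show c - 1 ≤ a by omega)).1 (A.inv_mem hw)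
    set e := ((w⁻¹ : (ZMod (p ^ a))ˣ) : ZMod (p ^ a)).val
    set ξ' := ζ ^ e * ζ⁻¹
    have hζ0 : ζ ≠ 0 := hζ.ne_zero (pow_ne_zero _ hp.out.ne_zero)
    have hξp : ξ' ^ p = 1 := by
      rw [mul_pow, inv_pow, mul_inv_eq_one₀ (pow_ne_zero _ hζ0), ← pow_mul]
      refine pow_eq_pow_of_modEq ?_ hζ.pow_eq_one
      have := Nat.ModEq.mul_right' p hwi
      rwa [← pow_succ, Nat.sub_add_cancel (show 1 ≤ c by omega), one_mul] at this
    have hξu : ∀ u : U p a 1, (ζ ^ e) ^ (u1 u : ZMod (p ^ a)).val = ζ ^ (u1 u : ZMod (p ^ a)).val * ξ' := fun u => by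
      have h1 : ξ' ^ (u1 u : ZMod (p ^ a)).val = ξ' := by
        conv_rhs => rw [← pow_one ξ']
        refine pow_eq_pow_of_modEq ?_ hξp
        simpa using (mem_U ha1).1 u.2
      rw [← h1, ← mul_pow, show ζ * ξ' = ζ ^ e by rw [mul_comm, inv_mul_cancel_right₀ hζ0]]
    refine ⟨ξ'⁻¹, ?_, ?_, fun g => ?_⟩
    · rw [Complex.conj_mul', norm_inv, Complex.norm_eq_one_of_pow_eq_one hξp hp.out.ne_zero]; simp
    · intro hwc h1
      rw [inv_eq_one, mul_inv_eq_one₀ hζ0] at h1
      have h2 : ζ ^ e = ζ ^ 1 := by rw [h1, pow_one]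
      replace h2 := modEq_of_pow_eq hζ h2
      exact hwc (inv_mem_iff.1 ((mem_U hca).2 h2))
    · show ∑ u : U p a 1, _ = _
      rw [Finset.mul_sum]
      refine Fintype.sum_equiv (Equiv.mulLeft (⟨w, hA1 hw⟩ : U p a 1)) _ _ fun u => ?_
      show _ = ξ'⁻¹ * ((ζ ^ ((w * u1 u : (ZMod (p ^ a))ˣ) : ZMod (p ^ a)).val)⁻¹ * (χ : G → ℂ) (g ^ ℓ (w * u1 u)))
      rw [← hmul, ← mul_assoc, ← mul_inv]
      congr 2
      have h3 := hξu (⟨w, hA1 hw⟩ * u)
      have h4 : (ζ ^ e) ^ ((w * u1 u : (ZMod (p ^ a))ˣ) : ZMod (p ^ a)).val = ζ ^ (u1 u : ZMod (p ^ a)).val := by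
        rw [← pow_mul]
        refine pow_eq_pow_of_modEq ?_ hζa
        have := (hmulval w⁻¹ (w * u1 u)).symm
        rwa [inv_mul_cancel_left] at this
      rw [← h4, mul_comm ξ']
      exact h3
  letI act : MulAction A (ConjClasses G) :=
    { smul := fun w C => Quotient.map' (fun g => g ^ ℓ (w : (ZMod (p ^ a))ˣ)) (fun _ _ h => IsConj.pow _ h) C
      one_smul := fun C => by
        induction C using Quotient.inductionOn with
        | h g => exact congrArg ConjClasses.mk (hone g)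
      mul_smul := fun w v C => by
        induction C using Quotient.inductionOn with
        | h g =>
          refine congrArg ConjClasses.mk ?_
          show g ^ ℓ ((w : (ZMod (p ^ a))ˣ) * v) = (g ^ ℓ (v : (ZMod (p ^ a))ˣ)) ^ ℓ (w : (ZMod (p ^ a))ˣ)
          rw [mul_comm, hmul] }
  haveI : Fintype (ConjClasses G) := Fintype.ofFinite _
  have hout : ∀ (C : ConjClasses G) (g : G), ConjClasses.mk g = C → IsConj C.out g := fun C g h => by
    rw [← ConjClasses.mk_eq_mk_iff_isConj, h]; exact Quotient.out_eq C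
  have hidx : ∀ g g' : G, IsConj g g' →
      (Subgroup.centralizer ({g} : Set G)).index = (Subgroup.centralizer ({g'} : Set G)).index := fun g g' h => by
    rw [← Cfsg.Agent.Block.card_filter_isConj, ← Cfsg.Agent.Block.card_filter_isConj]
    congr 1
    exact Finset.filter_congr fun x _ => ⟨fun h1 => h.symm.trans h1, fun h1 => h.trans h1⟩
  have hsm : ∀ (w : A) (C : ConjClasses G), IsConj (w • C).out (C.out ^ ℓ (w : (ZMod (p ^ a))ˣ)) := fun w C =>
    hout _ _ (by conv_rhs => rw [← Quotient.out_eq C]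
                 rfl)
  have hinv : ∀ (w : A) C, F (w • C) = F C := fun w C => by
    obtain ⟨ξ, hξ, -, hTξ⟩ := hscale w w.2
    show _ / _ = _ / _
    have hcent : Subgroup.centralizer ({C.out ^ ℓ (w : (ZMod (p ^ a))ˣ)} : Set G) =
        Subgroup.centralizer ({C.out} : Set G) := by
      ext x
      simp only [Subgroup.mem_centralizer_iff, Set.mem_singleton_iff, forall_eq]
      refine ⟨fun h => ?_, fun h => ((show Commute C.out x from h).pow_left _).eq⟩
      obtain ⟨i, hi⟩ := exists_pow_eq_self_of_coprime (x := C.out) (n := ℓ (w : (ZMod (p ^ a))ˣ))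
        ((hℓc _).coprime_dvd_right (orderOf_dvd_natCard _))
      have := ((show Commute (C.out ^ ℓ (w : (ZMod (p ^ a))ˣ)) x from h).pow_left i).eq
      rwa [hi] at this
    rw [hidx _ _ (hsm w C), hcent, hTclass _ _ (hsm w C), hTξ, map_mul,
      mul_mul_mul_comm ξ, mul_comm ξ, hξ, one_mul]
  obtain ⟨τ, hτA, hτc⟩ : ∃ τ ∈ A, τ ∉ U p a c := by
    by_contra hh
    push Not at hh
    exact Nat.find_min hex (show c - 1 < c by omega) ⟨by omega, fun w hw => hcH (hh w hw)⟩
  have hfix : ∀ C ∈ MulAction.fixedPoints A (ConjClasses G), F C = 0 := fun C hC => by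
    obtain ⟨ξ, -, hξ, hTξ⟩ := hscale τ hτA
    have h1 := hTclass _ _ (hsm ⟨τ, hτA⟩ C)
    rw [hC ⟨τ, hτA⟩, hTξ] at h1
    have h2 : (ξ - 1) * T C.out = 0 := by linear_combination -h1
    have h3 := (mul_eq_zero.1 h2).resolve_left (sub_ne_zero.2 (hξ hτc))
    simp [F, h3]
  obtain ⟨z, hz, hzs⟩ := sum_eq_mul_of_fixed_zero hApg F hinv hFint hfix
  -- the orthogonality side
  have hL : ∑ g : G, T g * conj (T g) = (n : ℂ) * (N2 * ((p ^ (a - c) : ℕ) : ℂ)) := by
    have horth : ∀ u v : U p a 1, ∑ g : G, (χ : G → ℂ) (g ^ ℓ (u1 u)) * conj ((χ : G → ℂ) (g ^ ℓ (u1 v))) =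
        if (u1 v)⁻¹ * u1 u ∈ H then (n : ℂ) else 0 := by
      intro u v
      have hnn : (n : ℂ) ≠ 0 := Nat.cast_ne_zero.2 hn0
      split_ifs with h
      · have e := IsIrrCharacter.classInner_self (hψ (u1 u))
        simp only [classInner] at e
        rw [Finset.sum_congr rfl fun g _ => by rw [← congrFun ((heq (u1 u) (u1 v)).2 h) g]]
        rwa [inv_mul_eq_iff_eq_mul₀ hnn, mul_one] at e
      · have e := IsIrrCharacter.classInner_eq_zero (hψ (u1 u)) (hψ (u1 v)) fun e => h ((heq _ _).1 e)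
        simp only [classInner] at e
        exact (mul_eq_zero.1 e).resolve_left (inv_ne_zero hnn)
    have e1 : ∑ g : G, T g * conj (T g) = ∑ v : U p a 1, ∑ u : U p a 1,
        (ζ ^ (u1 u : ZMod (p ^ a)).val)⁻¹ * ζ ^ (u1 v : ZMod (p ^ a)).val *
          (if (u1 v)⁻¹ * u1 u ∈ H then (n : ℂ) else 0) := by
      simp only [T, map_sum, map_mul, map_inv₀, map_pow, Finset.sum_mul, Finset.mul_sum]
      rw [Finset.sum_comm]
      rw [Finset.sum_congr rfl fun u _ => Finset.sum_comm]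
      refine Finset.sum_congr rfl fun v _ => Finset.sum_congr rfl fun u _ => ?_
      rw [← horth u v, Finset.mul_sum]
      refine Finset.sum_congr rfl fun g _ => ?_
      rw [← Complex.inv_eq_conj (Complex.norm_eq_one_of_pow_eq_one hζ.pow_eq_one (pow_ne_zero _ hp.out.ne_zero)),
        inv_pow, inv_inv]
      ring
    rw [e1]
    have e2 : ∀ v : U p a 1, ∑ u : U p a 1, (ζ ^ (u1 u : ZMod (p ^ a)).val)⁻¹ * ζ ^ (u1 v : ZMod (p ^ a)).val *
          (if (u1 v)⁻¹ * u1 u ∈ H then (n : ℂ) else 0) = ∑ w ∈ Finset.univ.filter (fun w : U p a 1 => u1 w ∈ H),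
          (n : ℂ) * (ζ * (ζ ^ (u1 w : ZMod (p ^ a)).val)⁻¹) ^ (u1 v : ZMod (p ^ a)).val := by
      intro v
      rw [Finset.sum_filter]
      refine (Fintype.sum_equiv (Equiv.mulLeft v) _ _ fun w => ?_).symm
      show _ = (ζ ^ ((u1 v * u1 w : (ZMod (p ^ a))ˣ) : ZMod (p ^ a)).val)⁻¹ * _ * (if (u1 v)⁻¹ * (u1 v * u1 w) ∈ H then _ else _)
      rw [inv_mul_cancel_left]
      split_ifs
      · rw [mul_pow, inv_pow, ← pow_mul, pow_eq_pow_of_modEq
          ((hmulval (u1 v) (u1 w)).trans (by rw [mul_comm])) hζa]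
        ring
      · simp
    rw [Finset.sum_congr rfl fun v _ => e2 v, Finset.sum_comm]
    have e3 : ∀ w : U p a 1, u1 w ∈ H →
        ∑ v : U p a 1, (n : ℂ) * (ζ * (ζ ^ (u1 w : ZMod (p ^ a)).val)⁻¹) ^ (u1 v : ZMod (p ^ a)).val =
          if u1 w ∈ U p a c then (n : ℂ) * N2 else 0 := by
      intro w hwH
      have hζ0 : ζ ≠ 0 := hζ.ne_zero (pow_ne_zero _ hp.out.ne_zero)
      rw [← Finset.mul_sum, sum_U_one ha1 (by
        rw [mul_pow, inv_pow, ← pow_mul ζ, mul_comm (ZMod.val _), pow_mul ζ, hζa, one_pow]; simp)]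
      by_cases hw : u1 w ∈ U p a c
      · have : ζ ^ (u1 w : ZMod (p ^ a)).val = ζ :=
          (pow_eq_pow_of_modEq ((mem_U hca).1 hw) hζ.pow_eq_one).trans (pow_one ζ)
        rw [if_pos hw, this, mul_inv_cancel₀ hζ0, if_pos (one_pow p)]
        simp [N2]
      · rw [if_neg hw, if_neg, mul_zero, mul_zero]
        intro h
        rw [mul_pow, inv_pow, mul_inv_eq_one₀ (pow_ne_zero _ (pow_ne_zero _ hζ0)), ← pow_mul ζ] at h
        haveI : NeZero (p ^ c) := ⟨pow_ne_zero _ hp.out.ne_zero⟩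
        replace h := modEq_of_pow_eq hζ h
        rw [show p ^ c = p * p ^ (c - 1) by
            rw [← pow_succ', Nat.sub_add_cancel (show 1 ≤ c by omega)]] at h
        have hwA : u1 w ∈ A := by
          refine (mem_U (show c - 1 ≤ a by omega)).2 ?_
          have h' : p * 1 ≡ p * (u1 w : ZMod (p ^ a)).val [MOD p * p ^ (c - 1)] := by
            rw [mul_one, mul_comm p (ZMod.val _)]; exact h
          exact (Nat.ModEq.mul_left_cancel' hp.out.ne_zero h').symm
        -- the meet of the stabiliser with the acting group is the conductor subgroup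
        have hle : U p a c ≤ H ⊓ A := le_inf hcH (U_antitone (by omega) hca)
        have hcardA : Nat.card A = p * Nat.card (U p a c) := by
          rw [hA, card_U (by omega) (by omega), card_U hca (by omega), ← pow_succ']
          congr 1; omega
        have hdvd : Nat.card (U p a c) ∣ Nat.card (H ⊓ A : Subgroup _) := Subgroup.card_dvd_of_le hle
        obtain ⟨k, hk⟩ := hdvd
        have hk2 : k ∣ p := Nat.dvd_of_mul_dvd_mul_left Nat.card_pos (by
          rw [← hk, mul_comm (Nat.card (U p a c)) p, ← hcardA]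
          exact Subgroup.card_dvd_of_le inf_le_right)
        rcases (Nat.dvd_prime hp.out).1 hk2 with rfl | rfl
        · exact hw ((Subgroup.eq_of_le_of_card_ge hle (by rw [hk, mul_one])).ge ⟨hwH, hwA⟩)
        · have := Subgroup.eq_of_le_of_card_ge (inf_le_right : H ⊓ A ≤ A) (by rw [hk, hcardA, mul_comm])
          exact hτc (absurd (fun x hx => ((this.ge hx).1 : x ∈ H))
            (fun hle' => Nat.find_min hex (show c - 1 < c by omega) ⟨by omega, hle'⟩))
    rw [Finset.sum_congr rfl fun w hw => e3 w (Finset.mem_filter.1 hw).2, ← Finset.sum_filter,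
      Finset.sum_const, nsmul_eq_mul]
    have hcard : ((Finset.univ.filter fun w : U p a 1 => u1 w ∈ H).filter fun w => u1 w ∈ U p a c).card = p ^ (a - c) := by
      rw [Finset.filter_filter, ← card_U hca (by omega), Nat.card_eq_fintype_card]
      change _ = Fintype.card {x // x ∈ U p a c}
      rw [← Finset.card_univ]
      refine Finset.card_bij (fun w hw => ⟨u1 w, (Finset.mem_filter.1 hw).2.2⟩) (fun w hw => Finset.mem_univ _)
        (fun w _ w' _ h => Subtype.ext (congrArg Subtype.val h :)) fun x _ => ?_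
      exact ⟨⟨x.1, U_antitone (by omega) hca x.2⟩, Finset.mem_filter.2 ⟨Finset.mem_univ _, hcH x.2, x.2⟩, rfl⟩
    rw [hcard]
    ring
  have hR : ∑ g : G, T g * conj (T g) = (d : ℂ) * N2 ^ 2 * ∑ C, F C := by
    rw [Cfsg.Agent.Block.sum_eq_sum_classes' (fun g g' h => by rw [hTclass g g' h]), Finset.mul_sum]
    refine Finset.sum_congr rfl fun C _ => ?_
    simp only [F]
    field_simp
  rw [hL, hzs] at hR
  obtain ⟨M, hM⟩ : d ∣ n := degree_dvd_card χ.2 d hd
  have hfin : (M : ℂ) = ((p ^ c : ℕ) : ℂ) * z := by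
    have e1 : N2 * (p : ℂ) = ((p ^ (a - c) : ℕ) : ℂ) * ((p ^ c : ℕ) : ℂ) := by
      simp only [N2]
      rw [← Nat.cast_mul, ← Nat.cast_mul, ← pow_succ, ← pow_add]
      congr 2; omega
    have hac : ((p ^ (a - c) : ℕ) : ℂ) ≠ 0 := Nat.cast_ne_zero.2 (pow_ne_zero _ hp.out.ne_zero)
    rw [hM, Nat.cast_mul] at hR
    refine mul_left_cancel₀ (mul_ne_zero (mul_ne_zero hd0 hN2) hac) ?_
    linear_combination hR + (d : ℂ) * N2 * z * e1
  have hpc : p ^ c ∣ M := nat_dvd_of_isIntegral_div (pow_ne_zero _ hp.out.ne_zero) (by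
    rw [hfin, mul_div_cancel_left₀ _ (Nat.cast_ne_zero.2 (pow_ne_zero _ hp.out.ne_zero))]
    exact hz)
  have hdeg : charDegree (χ : G → ℂ) = d := Nat.cast_injective (R := ℂ) (by
    rw [charDegree_cast (IsIrrCharacter.isCharacter χ.2), hd])
  have hM0 : M ≠ 0 := fun h => hn0 (by rw [hM, h, mul_zero])
  have hd0' : d ≠ 0 := fun h => hd0 (by rw [h, Nat.cast_zero])
  have h1 : c ≤ M.factorization p := (hp.out.pow_dvd_iff_le_factorization hM0).1 hpc
  have h2 : r.factorization p ≤ c - 1 := by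
    have h := (Nat.factorization_le_iff_dvd (hrH ▸ Subgroup.index_ne_zero_of_finite)
      (Nat.totient_pos.2 (pow_pos hp.out.pos _)).ne').2 hrc p
    rw [Nat.totient_prime_pow hp.out (by omega), Nat.factorization_mul (pow_ne_zero _ hp.out.ne_zero)
      (Nat.sub_pos_of_lt hp.out.one_lt).ne', Finsupp.add_apply, hp.out.factorization_pow, Finsupp.single_eq_same,
      Nat.factorization_eq_zero_of_not_dvd (n := p - 1) (fun h => by
        have := Nat.le_of_dvd (Nat.sub_pos_of_lt hp.out.one_lt) h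
        have := hp.out.one_lt
        omega), add_zero] at h
    exact h
  have h3 : a = d.factorization p + M.factorization p := by
    show n.factorization p = _
    rw [hM, Nat.factorization_mul hd0' hM0, Finsupp.add_apply]
  rw [hdeg]
  omega

end Cfsg.Agent.Char.PConj
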