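import Cfsg.Prelude
import Cfsg.Agent.Lib.Char.Extension2
import Cfsg.Agent.Lib.Char.Integral
import Cfsg.Agent.Lib.Solv.TransferApps
import Cfsg.Agent.Lib.Solv.NormalPComplement
import Cfsg.Agent.Lib.Solv.StructMisc

/-!
# Kernels of the characters of degree prime to `p`
-/

set_option autoImplicit false
set_option linter.style.haveILetI false

namespace Cfsg.Agent.Char.PPrime

open Cfsg
open scoped ComplexConjugate

universe u v

/-- A sum over a `p`-group action of an invariant integral function vanishing on fixed points. -/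
theorem exists_sum_eq_mul {P : Type u} [Group P] [Finite P] {X : Type v} [MulAction P X] [Fintype X]
    {p : ℕ} [Fact p.Prime] (hP : IsPGroup p P) (f : X → ℂ) (hinv : ∀ (y : P) (x : X), f (y • x) = f x)
    (hint : ∀ x, IsIntegral ℤ (f x)) (hfix : ∀ x : X, (∀ y : P, y • x = x) → f x = 0) :
    ∃ α : ℂ, IsIntegral ℤ α ∧ ∑ x, f x = (p : ℂ) * α := by
  classical
  haveI : Fintype (MulAction.orbitRel.Quotient P X) := Fintype.ofFinite _
  have hq : ∀ q : MulAction.orbitRel.Quotient P X,
      ∃ a : ℂ, IsIntegral ℤ a ∧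
        ∑ x ∈ Finset.univ.filter (fun x => Quotient.mk (MulAction.orbitRel P X) x = q), f x =
          (p : ℂ) * a := by
    intro q
    obtain ⟨x, rfl⟩ := Quotient.exists_rep q
    have hfil : ∀ z, z ∈ Finset.univ.filter
        (fun z => Quotient.mk (MulAction.orbitRel P X) z = Quotient.mk _ x) ↔
        z ∈ MulAction.orbit P x := fun z => by
      rw [Finset.mem_filter, Quotient.eq]
      simp [MulAction.orbitRel_apply]
    by_cases hx : ∀ y : P, y • x = x
    · refine ⟨0, isIntegral_zero, ?_⟩
      rw [mul_zero]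
      refine Finset.sum_eq_zero fun z hz => ?_
      obtain ⟨y, rfl⟩ := MulAction.mem_orbit_iff.mp ((hfil z).mp hz)
      rw [hx y, hfix x hx]
    · obtain ⟨k, hk⟩ := hP.card_orbit x
      have hk0 : k ≠ 0 := by
        rintro rfl
        rw [pow_zero, Nat.card_eq_one_iff_unique] at hk
        exact hx fun y => congrArg Subtype.val
          (@Subsingleton.elim _ hk.1 ⟨y • x, MulAction.mem_orbit x y⟩ ⟨x, MulAction.mem_orbit_self x⟩)
      refine ⟨((p ^ (k - 1) : ℕ) : ℂ) * f x,
        (IsIntegral.mul (isIntegral_algebraMap (R := ℤ) (A := ℂ) (x := ((p ^ (k - 1) : ℕ) : ℤ)))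
          (hint x)), ?_⟩
      have hcard : (Finset.univ.filter
          (fun z => Quotient.mk (MulAction.orbitRel P X) z = Quotient.mk _ x)).card = p ^ k := by
        rw [← hk, Nat.card_eq_fintype_card, ← Set.toFinset_card]
        congr 1
        ext z
        rw [Set.mem_toFinset]
        exact hfil z
      rw [Finset.sum_congr rfl fun z hz => show f z = f x by
          obtain ⟨y, rfl⟩ := MulAction.mem_orbit_iff.mp ((hfil z).mp hz)
          exact hinv y x,
        Finset.sum_const, hcard, nsmul_eq_mul, ← mul_assoc, ← Nat.cast_mul,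
        ← pow_succ', Nat.sub_add_cancel (Nat.pos_of_ne_zero hk0)]
  choose a ha1 ha2 using hq
  refine ⟨∑ q, a q, IsIntegral.sum _ fun q _ => ha1 q, ?_⟩
  rw [Finset.mul_sum,
    ← Finset.sum_fiberwise Finset.univ (fun x => Quotient.mk (MulAction.orbitRel P X) x) f]
  exact Finset.sum_congr rfl fun q _ => ha2 q

theorem dvd_of_eq_mul {p n : ℕ} (hp : p ≠ 0) {α : ℂ} (hα : IsIntegral ℤ α)
    (h : (n : ℂ) = (p : ℂ) * α) : p ∣ n := by
  refine nat_dvd_of_isIntegral_div hp ?_
  rw [h, mul_div_cancel_left₀ _ (by exact_mod_cast hp)]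
  exact hα

variable {G : Type u} [Group G] [Finite G] {p : ℕ} [hp : Fact p.Prime]

theorem coe_charDegree {χ : G → ℂ} (hχ : IsIrrCharacter G χ) : χ 1 = (charDegree χ : ℂ) := by
  obtain ⟨d, -, hd⟩ := IsIrrCharacter.degree_pos hχ
  simp [charDegree, hd]

theorem exists_irr_not_dvd {Φ : G → ℂ} (hΦ : IsCharacter G Φ) [Fintype G] {n : ℕ} (hn : Φ 1 = n)
    (hpn : ¬ p ∣ n) :
    ∃ χ : G → ℂ, IsIrrCharacter G χ ∧ classInner Φ χ ≠ 0 ∧ ¬ p ∣ charDegree χ := by
  classical
  by_contra hh
  push Not at hh
  haveI := Fintype.ofFinite (IrrCharacter G)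
  have key : ∀ χ : IrrCharacter G, ∃ a : ℕ,
      classInner Φ (χ : G → ℂ) * (χ : G → ℂ) 1 = (p : ℂ) * a := by
    intro χ
    obtain ⟨m, hm⟩ := exists_classInner_nat hΦ χ.2
    rcases eq_or_ne (classInner Φ (χ : G → ℂ)) 0 with e | e
    · exact ⟨0, by simp [e]⟩
    · obtain ⟨b, hb⟩ := hh χ χ.2 e
      refine ⟨m * b, ?_⟩
      rw [hm, coe_charDegree χ.2, hb]
      push_cast
      ring
  choose a ha using key
  refine hpn ⟨∑ χ, a χ, Nat.cast_injective (R := ℂ) ?_⟩
  have h1 := congrFun (IsClassFunction.eq_sum (IsCharacter.isClassFunction hΦ)) 1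
  rw [hn, Finset.sum_apply] at h1
  rw [h1, Nat.cast_mul, Nat.cast_sum, Finset.mul_sum]
  exact Finset.sum_congr rfl fun χ _ => ha χ

theorem classInner_one_ne_zero_of_restrict {χ : G → ℂ} (hχ : IsCharacter G χ) {P : Subgroup G}
    (hP : IsPGroup p P) {d : ℕ} (hd : χ 1 = d) (hpd : ¬ p ∣ d) [Fintype P] :
    ∃ l : P →* ℂˣ, classInner (fun y : P => χ y) (fun y => (l y : ℂ)) ≠ 0 := by
  obtain ⟨ψ, hψ, hne, hnd⟩ := exists_irr_not_dvd (p := p) (IsCharacter.restrict hχ P)
    (n := d) (by simpa using hd) hpd
  have h1 : charDegree ψ = 1 := by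
    have hdvd := degree_dvd_card hψ _ (coe_charDegree hψ)
    obtain ⟨k, hk⟩ := IsPGroup.iff_card.mp hP
    rw [hk] at hdvd
    obtain ⟨i, -, hi⟩ := (Nat.dvd_prime_pow hp.out).mp hdvd
    rcases Nat.eq_zero_or_pos i with h0 | h0
    · rw [hi, h0, pow_zero]
    · exact absurd (hi ▸ dvd_pow_self p h0.ne') hnd
  obtain ⟨l, rfl⟩ := IsCharacter.exists_monoidHom (IsIrrCharacter.isCharacter hψ)
    (by rw [coe_charDegree hψ, h1, Nat.cast_one])
  exact ⟨l, hne⟩

/-- Invariant irreducible characters of a normal `p'`-subgroup without `P`-fixed points. -/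
theorem eq_one_of_invariant {M : Subgroup G} [M.Normal] {P : Subgroup G} (hP : IsPGroup p P)
    (hM : ¬ p ∣ Nat.card M) (hC : M ⊓ Subgroup.centralizer (P : Set G) = ⊥)
    {θ : M → ℂ} (hθ : IsIrrCharacter M θ) (hinv : ∀ y ∈ P, conjChar M y θ = θ) : θ = 1 := by
  classical
  haveI := Fintype.ofFinite M
  by_contra hne
  let act : MulAction P M :=
    { smul := fun y m => MulAut.conjNormal (y : G) m
      one_smul := fun m => by
        show MulAut.conjNormal ((1 : P) : G) m = m
        simp
      mul_smul := fun a b m => by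
        show MulAut.conjNormal ((a * b : P) : G) m =
          MulAut.conjNormal (a : G) (MulAut.conjNormal (b : G) m)
        simp }
  letI := act
  have hsm : ∀ (y : P) (m : M), y • m = MulAut.conjNormal (y : G) m := fun _ _ => rfl
  obtain ⟨α, hα, hsum⟩ := exists_sum_eq_mul (X := M) hP
    (fun m => if m = 1 then 0 else θ m)
    (fun y m => by
      rw [hsm]
      by_cases hm : m = 1
      · simp [hm]
      · have : MulAut.conjNormal (y : G) m ≠ 1 := fun e => hm (by simpa using e)
        rw [if_neg hm, if_neg this]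
        exact (conjChar_apply M (y : G) θ m).symm.trans (congrFun (hinv _ y.2) m))
    (fun m => by
      split_ifs
      · exact isIntegral_zero
      · exact IsCharacter.isIntegral (IsIrrCharacter.isCharacter hθ) m)
    (fun m hm => by
      rw [if_pos]
      have : (m : G) ∈ M ⊓ Subgroup.centralizer (P : Set G) := by
        refine ⟨m.2, Subgroup.mem_centralizer_iff.mpr fun y hy => ?_⟩
        have e := congrArg Subtype.val (hm ⟨y, hy⟩)
        rw [hsm, MulAut.conjNormal_apply] at e
        exact mul_inv_eq_iff_eq_mul.mp e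
      rw [hC, Subgroup.mem_bot] at this
      exact Subtype.ext this)
  have h0 : ∑ m : M, θ m = 0 := by
    have h := IsIrrCharacter.classInner_eq_zero hθ isIrrCharacter_one hne
    simp only [classInner, Pi.one_apply, map_one, mul_one] at h
    rcases mul_eq_zero.mp h with e | e
    · simp at e
    · exact e
  have h1 : (∑ m : M, if m = 1 then 0 else θ m) = -θ 1 := by
    rw [Finset.sum_ite, Finset.sum_const_zero, zero_add]
    have e := Finset.sum_filter_add_sum_filter_not Finset.univ (fun m : M => m = 1) θ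
    rw [h0, Finset.filter_eq' Finset.univ (1 : M), if_pos (Finset.mem_univ _),
      Finset.sum_singleton] at e
    exact eq_neg_of_add_eq_zero_right e
  rw [h1] at hsum
  have hdd := coe_charDegree hθ
  have hdvd : p ∣ charDegree θ := dvd_of_eq_mul hp.out.ne_zero hα.neg (by rw [← hdd]; linear_combination -hsum)
  exact hM (hdvd.trans (degree_dvd_card hθ _ hdd))

/-- If every invariant irreducible character is principal, there are no fixed points. -/
theorem inf_centralizer_eq_bot {M : Subgroup G} [M.Normal] {P : Subgroup G} (hP : IsPGroup p P)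
    (hinv : ∀ θ : M → ℂ, IsIrrCharacter M θ → (∀ y ∈ P, conjChar M y θ = θ) → θ = 1) :
    M ⊓ Subgroup.centralizer (P : Set G) = ⊥ := by
  classical
  haveI := Fintype.ofFinite M
  haveI := Fintype.ofFinite (IrrCharacter M)
  rw [eq_bot_iff]
  rintro c ⟨hc1, hc2⟩
  rw [Subgroup.mem_bot]
  by_contra hne
  let one' : IrrCharacter M := ⟨1, isIrrCharacter_one⟩
  let act : MulAction P (IrrCharacter M) :=
    { smul := fun y θ => ⟨conjChar M ((y : G)⁻¹) (θ : M → ℂ), isIrrCharacter_conjChar M θ.2 _⟩
      one_smul := fun θ => Subtype.ext (by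
        show conjChar M ((((1 : P) : G))⁻¹) (θ : M → ℂ) = θ
        simp [conjChar_one])
      mul_smul := fun a b θ => Subtype.ext (by
        show conjChar M ((((a * b : P) : G))⁻¹) (θ : M → ℂ) =
          conjChar M ((a : G)⁻¹) (conjChar M ((b : G)⁻¹) (θ : M → ℂ))
        rw [conjChar_mul]
        simp) }
  letI := act
  have hsm : ∀ (y : P) (θ : IrrCharacter M),
      ((y • θ : IrrCharacter M) : M → ℂ) = conjChar M ((y : G)⁻¹) (θ : M → ℂ) := fun _ _ => rfl
  set c' : M := ⟨c, hc1⟩ with hc'
  have hfixc : ∀ (y : P) (θ : IrrCharacter M), conjChar M ((y : G)⁻¹) (θ : M → ℂ) c' =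
      (θ : M → ℂ) c' := fun y θ => by
    simp only [conjChar, inv_inv]
    refine congrArg _ (Subtype.ext ?_)
    show (y : G)⁻¹ * c * y = c
    rw [mul_assoc, ← Subgroup.mem_centralizer_iff.mp hc2 y y.2, inv_mul_cancel_left]
  obtain ⟨α, hα, hsum⟩ := exists_sum_eq_mul (X := IrrCharacter M) hP
    (fun θ => if θ = one' then 0 else (θ : M → ℂ) 1 * (θ : M → ℂ) c')
    (fun y θ => by
      by_cases he : θ = one'
      · subst he
        have : y • one' = one' := Subtype.ext (by rw [hsm]; funext n; simp [one', conjChar])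
        simp [this]
      · have : y • θ ≠ one' := fun e => he (by
          have e' := congrArg (fun z => y⁻¹ • z) e
          rw [inv_smul_smul] at e'
          rw [e']
          exact Subtype.ext (by rw [hsm]; funext n; simp [one', conjChar]))
        rw [if_neg he, if_neg this, hsm, hfixc]
        congr 1
        simp only [conjChar]
        exact congrArg _ (Subtype.ext (by simp)))
    (fun θ => by
      split_ifs
      · exact isIntegral_zero
      · exact (IsCharacter.isIntegral (IsIrrCharacter.isCharacter θ.2) _).mul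
          (IsCharacter.isIntegral (IsIrrCharacter.isCharacter θ.2) _))
    (fun θ hθ => by
      rw [if_pos]
      refine Subtype.ext (hinv θ θ.2 fun y hy => ?_)
      have := congrArg Subtype.val (hθ ⟨y⁻¹, P.inv_mem hy⟩)
      rw [hsm] at this
      simpa using this)
  have hne' : ¬ IsConj (1 : M) c' := fun h => hne (congrArg Subtype.val (isConj_one_right.mp h))
  have h0 := second_orthogonality c' (1 : M)
  rw [if_neg fun h => hne' h.symm] at h0
  simp only [conj_irr_one] at h0
  rw [← Finset.sum_erase_add _ _ (Finset.mem_univ one')] at h0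
  rw [← Finset.sum_erase_add _ _ (Finset.mem_univ one'), if_pos rfl, add_zero] at hsum
  have hcongr : (∑ θ ∈ Finset.univ.erase one',
      if θ = one' then (0 : ℂ) else (θ : M → ℂ) 1 * (θ : M → ℂ) c') =
      ∑ θ ∈ Finset.univ.erase one', (θ : M → ℂ) c' * (θ : M → ℂ) 1 :=
    Finset.sum_congr rfl fun θ hθ => by rw [if_neg (Finset.ne_of_mem_erase hθ), mul_comm]
  rw [hcongr] at hsum
  rw [hsum] at h0
  have : p ∣ 1 := dvd_of_eq_mul hp.out.ne_zero hα.neg (by
    simp [one'] at h0
    push_cast
    linear_combination h0)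
  exact hp.out.one_lt.ne' (Nat.dvd_one.mp this)

/-- A normal subgroup with a trivial constituent lies in the kernel. -/
theorem eq_degree_of_classInner_one {M : Subgroup G} [M.Normal] [Fintype M] [Fintype G] {χ : G → ℂ}
    (hχ : IsIrrCharacter G χ) (h : classInner (fun m : M => χ m) 1 ≠ 0) (m : M) : χ m = χ 1 := by
  have hinv : ∀ g, conjChar M g (1 : M → ℂ) = 1 := fun g => by funext n; simp [conjChar]
  have e := restrict_eq_smul_of_inertia_top M hχ isIrrCharacter_one h hinv
  have e1 := congrFun e m
  have e2 := congrFun e 1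
  simp only [Pi.smul_apply, Pi.one_apply, smul_eq_mul, mul_one, OneMemClass.coe_one] at e1 e2
  rw [e1, e2]

/-- A character constant on a subgroup is a multiple of the principal one there. -/
theorem linear_eq_one_of_constituent {Q : Type v} [Group Q] [Fintype Q] {f : Q → ℂ} {d : ℂ}
    (hf : ∀ q, f q = d) {θ : Q → ℂ} (hθ : IsIrrCharacter Q θ) (h : classInner f θ ≠ 0) : θ = 1 := by
  by_contra hne
  refine h ?_
  have : f = d • (1 : Q → ℂ) := funext fun q => by simp [hf q]
  rw [this, classInner_smul_left,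
    IsIrrCharacter.classInner_eq_zero isIrrCharacter_one hθ (Ne.symm hne), mul_zero]

theorem apply_mul_of_ker {χ : G → ℂ} (hχ : IsCharacter G χ) {a : G} (h : χ a = χ 1) (b : G) :
    χ (a * b) = χ b := by
  obtain ⟨d, ρ, rfl⟩ := hχ
  have e : ρ a = 1 := by
    have := (character_eq_finrank_iff ρ a).mp (by rw [h, ρ.char_one])
    simpa [Module.End.one_eq_id] using this
  simp [Representation.character, map_mul, e]

/-- The intersection of the kernels of the irreducible characters of degree prime to `p`. -/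
def kerSubgroup (G : Type u) [Group G] [Finite G] (p : ℕ) : Subgroup G where
  carrier := {g | ∀ χ : IrrCharacter G, ¬ p ∣ charDegree (χ : G → ℂ) → (χ : G → ℂ) g = (χ : G → ℂ) 1}
  one_mem' := fun _ _ => rfl
  mul_mem' {a b} ha hb := fun χ h => by
    rw [apply_mul_of_ker (IsIrrCharacter.isCharacter χ.2) (ha χ h), hb χ h]
  inv_mem' {a} ha := fun χ h => by
    have := apply_mul_of_ker (IsIrrCharacter.isCharacter χ.2) (ha χ h) a⁻¹
    rw [mul_inv_cancel] at this
    exact this.symm

theorem kerSubgroup_normal : (kerSubgroup G p).Normal :=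
  ⟨fun a ha g χ h => by
    rw [IsCharacter.isClassFunction (IsIrrCharacter.isCharacter χ.2) a g]
    exact ha χ h⟩

end Cfsg.Agent.Char.PPrime
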