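import Cfsg.Agent.Lib.Char.Congr
import Cfsg.Agent.Lib.Block.Basic
import Cfsg.Agent.Lib.Block.PPart

/-!
# Values of characters separate the regular parts modulo the prime
-/

set_option autoImplicit false
set_option linter.style.haveILetI false

namespace Cfsg.Agent.Char

open Cfsg
open Cfsg.Agent.Block (memLocalIdeal_algInt_iff memLocalIdeal_sum memLocalIdeal_add
  memLocalIdeal_sub memLocalIdeal_mul_left memLocalIdeal_natCast_iff)

universe u

variable {G : Type u} [Group G]

theorem memLocalIdeal_apply_sub_regular [Finite G] {p : ℕ} {M : Ideal AlgInt}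
    (hM : IsPModular p M) {χ : G → ℂ} (hχ : IsCharacter G χ) {x a : G} (ha : IsPPart p x a) :
    MemLocalIdeal M (χ x - χ (a⁻¹ * x)) := by
  haveI := hM.2.1.isPrime
  obtain ⟨y, rfl, hc, ⟨k, hk⟩, -⟩ := ha
  obtain ⟨u, v, hu, hv, huv⟩ := exists_apply_mul_congr hM.1 hM.2.1 hM.2.2 hχ hc
    (k := k) (by rw [← hk]; exact pow_orderOf_eq_one a)
  rw [inv_mul_cancel_left, ← hu, ← hv, show (u : ℂ) - (v : ℂ) = ((u - v : AlgInt) : ℂ) from rfl,
    memLocalIdeal_algInt_iff]
  exact huv

/-- Regular parts are conjugate exactly when all values are congruent. -/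
theorem isConj_regular_iff_congr [Finite G] {p : ℕ} {M : Ideal AlgInt} (hM : IsPModular p M)
    {x y a b : G} (ha : IsPPart p x a) (hb : IsPPart p y b) :
    IsConj (a⁻¹ * x) (b⁻¹ * y) ↔
      ∀ χ : IrrCharacter G, MemLocalIdeal M ((χ : G → ℂ) x - (χ : G → ℂ) y) := by
  classical
  haveI := hM.2.1.isPrime
  haveI := Fintype.ofFinite G
  haveI := Fintype.ofFinite (IrrCharacter G)
  have key : ∀ (χ : IrrCharacter G), MemLocalIdeal M ((χ : G → ℂ) x - (χ : G → ℂ) y) ↔
      MemLocalIdeal M ((χ : G → ℂ) (a⁻¹ * x) - (χ : G → ℂ) (b⁻¹ * y)) := fun χ => by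
    have h1 := memLocalIdeal_apply_sub_regular hM (IsIrrCharacter.isCharacter χ.2) ha
    have h2 := memLocalIdeal_apply_sub_regular hM (IsIrrCharacter.isCharacter χ.2) hb
    constructor
    · intro h
      have := memLocalIdeal_add (memLocalIdeal_sub h h1) h2
      convert this using 1; ring
    · intro h
      have := memLocalIdeal_sub (memLocalIdeal_add h h1) h2
      convert this using 1; ring
  constructor
  · intro hc χ
    rw [key, IsIrrCharacter.apply_isConj χ.2 hc, sub_self]
    exact Cfsg.Agent.Block.memLocalIdeal_zero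
  · intro hall
    obtain ⟨s, rfl, -, -, hs⟩ := ha
    obtain ⟨t, rfl, -, -, ht⟩ := hb
    rw [inv_mul_cancel_left, inv_mul_cancel_left]
    obtain ⟨ν, n, hn, hcard⟩ := Nat.exists_eq_pow_mul_and_not_dvd
      (Nat.card_pos (α := G)).ne' p hM.1.ne_one
    have hcop : Nat.Coprime (p ^ ν) n := (hM.1.coprime_iff_not_dvd.mpr hn).pow_left ν
    set f : G → ℂ := fun z => if InSection (p ^ ν) n s z then (n : ℂ) else 0 with hf
    have hfcf : IsClassFunction G f := fun z h => by simp only [hf, inSection_conj_iff]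
    have hint : ∀ χ : IrrCharacter G, classInner f (χ : G → ℂ) ∈ AlgInt := fun χ =>
      classInner_sectionFun_isIntegral hcard hcop s χ.2
    have hdiff : MemLocalIdeal M (f s - f t) := by
      have e := IsClassFunction.eq_sum hfcf
      have e1 : f s - f t = ∑ χ : IrrCharacter G, classInner f (χ : G → ℂ) *
          ((χ : G → ℂ) s - (χ : G → ℂ) t) := by
        conv_lhs => rw [congrFun e s, congrFun e t]
        simp only [Finset.sum_apply, Pi.smul_apply, smul_eq_mul, ← Finset.sum_sub_distrib, mul_sub]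
      rw [e1]
      refine memLocalIdeal_sum _ _ fun χ _ => memLocalIdeal_mul_left
        (Cfsg.Agent.Block.algInt_mem_locRing ⟨_, hint χ⟩) ?_
      have := (key χ).mp (hall χ)
      rwa [inv_mul_cancel_left, inv_mul_cancel_left] at this
    have hordp : ∀ z : G, ¬ p ∣ orderOf z → Nat.Coprime (orderOf z) (p ^ ν) := fun z hz =>
      ((hM.1.coprime_iff_not_dvd.mpr hz).pow_left ν).symm
    have hfs : f s = n := if_pos ⟨s, IsConj.refl s, 1, (one_mul s).symm, Commute.one_left s,
      by rw [orderOf_one]; exact Nat.coprime_one_left n, hordp s hs⟩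
    by_contra hnc
    have hft : f t = 0 := by
      refine if_neg fun ⟨v, hv, u, hu, hc, hun, hvm⟩ => hnc ?_
      obtain ⟨⟨a', ha'⟩, -⟩ := exists_pow_eq_part hcard hcop hc hun hvm
      rw [← hu] at ha'
      have h1 : u = 1 := by
        have h2 : orderOf u ∣ orderOf t := ha' ▸ orderOf_pow_dvd a'
        have h3 : Nat.Coprime (orderOf u) (p ^ ν) :=
          Nat.Coprime.coprime_dvd_left h2 (hordp t ht)
        exact orderOf_eq_one_iff.mp
          (Nat.eq_one_of_dvd_coprimes h3 dvd_rfl (dvd_of_coprime_orderOf hcard hun))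
      rw [h1, one_mul] at hu
      exact hu ▸ hv.symm
    rw [hfs, hft, sub_zero, memLocalIdeal_natCast_iff hM.1 hM.2.2] at hdiff
    exact hn hdiff

end Cfsg.Agent.Char
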