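import Cfsg.Agent.Lib.Char.HeckeMat
import Cfsg.Agent.Lib.Char.Generalized
import Cfsg.Agent.Lib.Char.Taketa
import Cfsg.Prelude.Def_ParabolicCharacters
import Mathlib.LinearAlgebra.Matrix.NonsingularInverse
import Mathlib.LinearAlgebra.Trace
import Mathlib.LinearAlgebra.Eigenspace.Matrix

/-!
The centre of the commuting algebra of a permutation representation.
-/

set_option autoImplicit false
set_option linter.style.haveILetI false

namespace Cfsg.Agent.Char

open Cfsg
open scoped ComplexConjugate Matrix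

variable {G : Type*} [Group G] {U : Subgroup G}

open Classical in
/-- The permutation matrix of an element. -/
noncomputable def rho (U : Subgroup G) (h : G) : Matrix (G ⧸ U) (G ⧸ U) ℂ :=
  Matrix.of fun a b => if h • b = a then 1 else 0

variable [Fintype G] [Fintype (G ⧸ U)]

/-- The operator of a function on the group. -/
noncomputable def rhoHat (U : Subgroup G) (f : G → ℂ) : Matrix (G ⧸ U) (G ⧸ U) ℂ := ∑ h, f h • rho U h

/-- The averaged trace form. -/
noncomputable def avgTrace (A : Matrix (G ⧸ U) (G ⧸ U) ℂ) : Matrix (G ⧸ U) (G ⧸ U) ℂ :=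
  rhoHat U fun h => (A * rho U h⁻¹).trace

omit [Fintype G] in
theorem rho_mulVec (h : G) (v : G ⧸ U → ℂ) (a : G ⧸ U) : (rho U h *ᵥ v) a = v (h⁻¹ • a) := by
  classical
  simp only [Matrix.mulVec, dotProduct, rho, Matrix.of_apply, ite_mul, one_mul, zero_mul]
  rw [Finset.sum_eq_single (h⁻¹ • a)]
  · simp
  · intro b _ hb
    rw [if_neg fun e => hb (by rw [← e, inv_smul_smul])]
  · simp

omit [Fintype G] in
theorem rho_mul (h k : G) : rho U h * rho U k = rho U (h * k) := by
  classical
  ext a c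
  simp only [Matrix.mul_apply, rho, Matrix.of_apply, mul_ite, mul_one, mul_zero, Finset.sum_ite_eq, Finset.mem_univ,
    if_true, mul_smul]

omit [Fintype G] in
theorem trace_mul_rho (A : Matrix (G ⧸ U) (G ⧸ U) ℂ) (h : G) : (A * rho U h).trace = ∑ a, A a (h • a) := by
  classical
  simp [Matrix.trace, Matrix.mul_apply, rho, mul_ite]

omit [Fintype G] in
theorem isInv_iff_comm {A : Matrix (G ⧸ U) (G ⧸ U) ℂ} : IsInv U A ↔ ∀ h, rho U h * A = A * rho U h := by
  classical
  have e : ∀ (h : G) a b, (rho U h * A) a b = A (h⁻¹ • a) b := fun h a b => rho_mulVec h (fun c => A c b) a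
  have e' : ∀ (h : G) a b, (A * rho U h) a b = A a (h • b) := fun h a b => by
    simp [Matrix.mul_apply, rho, mul_ite]
  refine ⟨fun hA h => Matrix.ext fun a b => ?_, fun hA g y z => ?_⟩
  · rw [e, e', ← hA h (h⁻¹ • a) b, smul_inv_smul]
  · rw [← e', ← hA, e, inv_smul_smul]

theorem rhoHat_comm {A : Matrix (G ⧸ U) (G ⧸ U) ℂ} (hA : IsInv U A) (f : G → ℂ) :
    rhoHat U f * A = A * rhoHat U f := by
  rw [rhoHat, Finset.sum_mul, Finset.mul_sum]
  refine Finset.sum_congr rfl fun h _ => ?_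
  rw [smul_mul_assoc, mul_smul_comm, isInv_iff_comm.mp hA h]

theorem isInv_rhoHat {f : G → ℂ} (hf : IsClassFunction G f) : IsInv U (rhoHat U f) := by
  refine isInv_iff_comm.mpr fun k => ?_
  rw [rhoHat, Finset.sum_mul, Finset.mul_sum]
  refine Fintype.sum_equiv ((Equiv.mulLeft k).trans (Equiv.mulRight k⁻¹)) _ _ fun h => ?_
  rw [mul_smul_comm, smul_mul_assoc, rho_mul, rho_mul]
  simp only [Equiv.trans_apply, Equiv.coe_mulLeft, Equiv.coe_mulRight, inv_mul_cancel_right]
  congr 1
  exact (hf h k).symm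

omit [Fintype G] in
theorem isClassFunction_trace {A : Matrix (G ⧸ U) (G ⧸ U) ℂ} (hA : IsInv U A) :
    IsClassFunction G fun h => (A * rho U h⁻¹).trace := by
  intro g h
  simp only [mul_inv_rev, inv_inv]
  rw [← rho_mul, ← mul_assoc, ← isInv_iff_comm.mp hA h, mul_assoc, Matrix.trace_mul_comm, mul_assoc, rho_mul]
  congr 2
  simp [mul_assoc]

theorem isInv_avgTrace {A : Matrix (G ⧸ U) (G ⧸ U) ℂ} (hA : IsInv U A) : IsInv U (avgTrace A) :=
  isInv_rhoHat (isClassFunction_trace hA)

set_option maxHeartbeats 800000 in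
theorem avgTrace_mulVec_injective [DecidableEq (G ⧸ U)] : Function.Injective fun v => avgTrace (1 : Matrix (G ⧸ U) (G ⧸ U) ℂ) *ᵥ v := by
  intro v₁ v₂ hv
  rw [← sub_eq_zero]
  have hz : avgTrace (1 : Matrix (G ⧸ U) (G ⧸ U) ℂ) *ᵥ (v₁ - v₂) = 0 := by
    rw [Matrix.mulVec_sub]; exact sub_eq_zero.mpr hv
  generalize v₁ - v₂ = v at hz ⊢
  let S : G ⧸ U → Finset G := fun x => Finset.univ.filter fun h => h • x = x
  let w : G ⧸ U → G ⧸ U → ℂ := fun x a => ∑ h ∈ S x, v (h⁻¹ • a)
  have hw : ∀ a, (avgTrace (1 : Matrix (G ⧸ U) (G ⧸ U) ℂ) *ᵥ v) a = ∑ x, w x a := fun a => by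
    have hrho : ∀ (h : G), (rho U h⁻¹).trace = ∑ x, if h • x = x then (1 : ℂ) else 0 := fun h => by
      simp only [Matrix.trace, Matrix.diag, rho, Matrix.of_apply]
      refine Finset.sum_congr rfl fun x _ => ?_
      refine @if_congr _ _ _ (_) (_) _ _ _ _
        ⟨fun e => by conv_lhs => rw [← e, smul_inv_smul], fun e => by conv_lhs => rw [← e, inv_smul_smul]⟩ rfl rfl
    simp only [avgTrace, rhoHat, Matrix.sum_mulVec, Matrix.smul_mulVec, Finset.sum_apply, Pi.smul_apply,
      rho_mulVec, smul_eq_mul, one_mul, hrho, Finset.sum_mul, ite_mul, zero_mul]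
    rw [Finset.sum_comm]
    exact Finset.sum_congr rfl fun x _ => (Finset.sum_filter _ _).symm
  have hnorm : ∀ x, ∑ a, conj (w x a) * w x a = ((S x).card : ℂ) * ∑ a, conj (v a) * w x a := fun x => by
    have key : ∀ h ∈ S x, ∑ a, conj (v (h⁻¹ • a)) * w x a = ∑ a, conj (v a) * w x a := fun h hh => by
      refine Fintype.sum_equiv (MulAction.toPerm h⁻¹) _ _ fun a => ?_
      simp only [MulAction.toPerm_apply]
      congr 1
      refine Finset.sum_bij (fun k _ => h⁻¹ * k) ?_ ?_ ?_ ?_
      · intro k hk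
        simp only [S, Finset.mem_filter, Finset.mem_univ, true_and] at hh hk ⊢
        rw [mul_smul, hk, inv_smul_eq_iff, hh]
      · intro k₁ _ k₂ _ e; exact mul_left_cancel e
      · intro k hk
        simp only [S, Finset.mem_filter, Finset.mem_univ, true_and] at hh hk ⊢
        exact ⟨h * k, by rw [mul_smul, hk, hh], inv_mul_cancel_left h k⟩
      · intro k _
        rw [mul_inv_rev, inv_inv, mul_smul, smul_inv_smul]
    calc ∑ a, conj (w x a) * w x a = ∑ a, ∑ h ∈ S x, conj (v (h⁻¹ • a)) * w x a :=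
          Finset.sum_congr rfl fun a _ => by rw [← Finset.sum_mul, ← map_sum]
      _ = ∑ h ∈ S x, ∑ a, conj (v (h⁻¹ • a)) * w x a := Finset.sum_comm
      _ = _ := by rw [Finset.sum_congr rfl key, Finset.sum_const, nsmul_eq_mul]
  have htot : ∑ x, ((∑ a, Complex.normSq (w x a)) / ((S x).card : ℝ)) = 0 := by
    have hc : ∀ x, ((S x).card : ℂ) ≠ 0 := fun x =>
      Nat.cast_ne_zero.mpr (Finset.card_ne_zero.mpr ⟨1, Finset.mem_filter.mpr ⟨Finset.mem_univ _, one_smul _ _⟩⟩)
    refine Complex.ofReal_injective ?_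
    push_cast
    simp only [Complex.normSq_eq_conj_mul_self, hnorm, mul_div_cancel_left₀ _ (hc _)]
    rw [Finset.sum_comm]
    simp only [← Finset.mul_sum, ← hw, hz, Pi.zero_apply, mul_zero, Finset.sum_const_zero]
  funext x
  have hx := (Finset.sum_eq_zero_iff_of_nonneg (fun y _ => div_nonneg (Finset.sum_nonneg fun a _ =>
    Complex.normSq_nonneg _) (Nat.cast_nonneg _))).mp htot x (Finset.mem_univ x)
  have hpos : (0 : ℝ) < (S x).card := Nat.cast_pos.mpr
    (Finset.card_pos.mpr ⟨1, Finset.mem_filter.mpr ⟨Finset.mem_univ _, one_smul _ _⟩⟩)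
  rw [div_eq_zero_iff, or_iff_left hpos.ne', Finset.sum_eq_zero_iff_of_nonneg fun a _ => Complex.normSq_nonneg _] at hx
  have h2 : w x x = 0 := Complex.normSq_eq_zero.mp (hx x (Finset.mem_univ x))
  have h3 : w x x = ((S x).card : ℂ) * v x := by
    show ∑ h ∈ S x, v (h⁻¹ • x) = _
    rw [Finset.sum_congr rfl fun h hh => show v (h⁻¹ • x) = v x by
      rw [inv_smul_eq_iff.mpr (Finset.mem_filter.mp hh).2.symm], Finset.sum_const, nsmul_eq_mul]
  rw [h3, mul_eq_zero] at h2
  exact h2.resolve_left (by exact_mod_cast hpos.ne')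

/-- The averaged trace of the identity has a central inverse. -/
theorem exists_avgTrace_inverse [DecidableEq (G ⧸ U)] : ∃ Y : Matrix (G ⧸ U) (G ⧸ U) ℂ, IsInv U Y ∧
    (∀ A, IsInv U A → Y * A = A * Y) ∧ avgTrace (1 : Matrix (G ⧸ U) (G ⧸ U) ℂ) * Y = 1 := by
  obtain ⟨u, hu⟩ := Matrix.mulVec_injective_iff_isUnit.mp (avgTrace_mulVec_injective (U := U))
  have hcomm : ∀ A, IsInv U A → Commute (u : Matrix (G ⧸ U) (G ⧸ U) ℂ) A := fun A hA => by
    rw [hu]; exact rhoHat_comm hA _
  refine ⟨(u⁻¹ : (Matrix (G ⧸ U) (G ⧸ U) ℂ)ˣ), isInv_iff_comm.mpr fun h => ?_,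
    fun A hA => (hcomm A hA).units_inv_left.eq, by rw [← hu]; exact u.mul_inv⟩
  have h1 : Commute (rho U h) (u : Matrix (G ⧸ U) (G ⧸ U) ℂ) := by
    rw [hu]; exact isInv_iff_comm.mp (isInv_avgTrace isInv_one) h
  exact h1.units_inv_right.eq

/-- The span of the central operators. -/
noncomputable def centreSpan (U : Subgroup G) [Fintype (G ⧸ U)] : Submodule ℂ (Matrix (G ⧸ U) (G ⧸ U) ℂ) :=
  Submodule.span ℂ (Set.range fun χ : IrrCharacter G => rhoHat U fun h => (χ : G → ℂ) h⁻¹)

theorem rhoHat_mem_centreSpan {f : G → ℂ} (hf : IsClassFunction G f) : rhoHat U f ∈ centreSpan U := by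
  haveI := Fintype.ofFinite (IrrCharacter G)
  have hf' : IsClassFunction G fun h => f h⁻¹ := fun g h => by
    show f (h * g * h⁻¹)⁻¹ = f g⁻¹
    rw [mul_inv_rev, mul_inv_rev, inv_inv, ← mul_assoc, hf]
  have e := IsClassFunction.eq_sum hf'
  have e' : f = ∑ χ : IrrCharacter G, classInner (fun h => f h⁻¹) (χ : G → ℂ) • fun h => (χ : G → ℂ) h⁻¹ := by
    funext h
    have := congrFun e h⁻¹
    simpa [Finset.sum_apply] using this
  rw [e', show rhoHat U (∑ χ : IrrCharacter G, classInner (fun h => f h⁻¹) (χ : G → ℂ) • fun h => (χ : G → ℂ) h⁻¹) =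
      ∑ χ : IrrCharacter G, classInner (fun h => f h⁻¹) (χ : G → ℂ) • rhoHat U (fun h => (χ : G → ℂ) h⁻¹) by
    simp only [rhoHat, Finset.sum_apply, Pi.smul_apply, Finset.sum_smul, Finset.smul_sum, smul_smul, smul_eq_mul]
    exact Finset.sum_comm]
  exact Submodule.sum_mem _ fun χ _ => Submodule.smul_mem _ _ (Submodule.subset_span ⟨χ, rfl⟩)

theorem isInv_of_mem_centreSpan {A : Matrix (G ⧸ U) (G ⧸ U) ℂ} (h : A ∈ centreSpan U) :
    IsInv U A ∧ ∀ B, IsInv U B → A * B = B * A := by
  induction h using Submodule.span_induction with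
  | mem x hx =>
    obtain ⟨χ, rfl⟩ := hx
    refine ⟨isInv_rhoHat fun g h => ?_, fun B hB => rhoHat_comm hB _⟩
    show (χ : G → ℂ) (h * g * h⁻¹)⁻¹ = (χ : G → ℂ) g⁻¹
    rw [mul_inv_rev, mul_inv_rev, inv_inv, ← mul_assoc,
      IsCharacter.isClassFunction (IsIrrCharacter.isCharacter χ.2)]
  | zero => exact ⟨fun g y z => rfl, fun B _ => by simp⟩
  | add x y _ _ hx hy =>
    exact ⟨fun g a b => by simp [hx.1 g a b, hy.1 g a b], fun B hB => by rw [add_mul, mul_add, hx.2 B hB, hy.2 B hB]⟩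
  | smul c x _ hx =>
    exact ⟨fun g a b => by simp [hx.1 g a b], fun B hB => by rw [smul_mul_assoc, mul_smul_comm, hx.2 B hB]⟩

theorem finrank_centreSpan :
    Module.finrank ℂ (centreSpan U) =
      Nat.card {χ : IrrCharacter G // ∃ φ : G → ℂ, IsCharacter G φ ∧ fixedPointCharacter U = (χ : G → ℂ) + φ} := by
  classical
  haveI := Fintype.ofFinite (IrrCharacter G)
  set E : IrrCharacter G → Matrix (G ⧸ U) (G ⧸ U) ℂ := fun χ => rhoHat U fun h => (χ : G → ℂ) h⁻¹ with hE
  have hπ : IsCharacter G (fixedPointCharacter U) := by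
    have e : fixedPointCharacter U = indFun U (fun _ => (1 : ℂ)) :=
      funext fun g => (indFun_one_eq_card_fixed U g).symm
    rw [e]
    exact isCharacter_indFun U isCharacter_one
  have htr : ∀ χ : IrrCharacter G,
      (E χ).trace = (Nat.card G : ℂ) * classInner (fixedPointCharacter U) (χ : G → ℂ) := fun χ => by
    simp only [hE, rhoHat, Matrix.trace_sum, Matrix.trace_smul, classInner, smul_eq_mul]
    rw [mul_inv_cancel_left₀ (Nat.cast_ne_zero.mpr Nat.card_pos.ne')]
    refine Finset.sum_congr rfl fun h _ => ?_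
    rw [mul_comm, IsCharacter.map_inv (IsIrrCharacter.isCharacter χ.2)]
    congr 1
    simp only [Matrix.trace, Matrix.diag, rho, Matrix.of_apply, Finset.sum_boole, fixedPointCharacter,
      Nat.card_eq_fintype_card, MulAction.fixedBy]
    exact congrArg Nat.cast (Fintype.card_subtype _).symm
  have hmul : ∀ χ ψ : IrrCharacter G, E χ * E ψ =
      if χ = ψ then ((Nat.card G : ℂ) / (χ : G → ℂ) 1) • E χ else 0 := by
    intro χ ψ
    have hcl := IsCharacter.isClassFunction (IsIrrCharacter.isCharacter ψ.2)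
    have e : E χ * E ψ = ∑ g, (∑ h, (χ : G → ℂ) h * (ψ : G → ℂ) (h⁻¹ * g⁻¹)) • rho U g := by
      simp only [hE, rhoHat, Finset.sum_smul]
      rw [Finset.sum_mul_sum, Finset.sum_comm (s := (Finset.univ : Finset G)) (t := (Finset.univ : Finset G))
        (f := fun g h => ((χ : G → ℂ) h * (ψ : G → ℂ) (h⁻¹ * g⁻¹)) • rho U g)]
      refine Fintype.sum_equiv (Equiv.inv G) _ _ fun a => Fintype.sum_equiv (Equiv.mulLeft a) _ _ fun b => ?_
      simp only [Equiv.inv_apply, Equiv.coe_mulLeft, inv_inv, mul_inv_rev, smul_mul_assoc, mul_smul_comm, smul_smul,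
        rho_mul]
      congr 1
      rw [← mul_assoc, hcl b⁻¹ a, mul_comm]
    rw [e]
    split_ifs with hc
    · subst hc
      simp only [hE, rhoHat, Finset.smul_sum, smul_smul]
      refine Finset.sum_congr rfl fun g _ => ?_
      congr 1
      have h1 := sum_conv χ.2 (1 : G) g⁻¹
      simp only [one_mul] at h1
      rw [div_mul_eq_mul_div, eq_div_iff (IsIrrCharacter.apply_one_ne_zero χ.2), ← h1]
      ring
    · refine Finset.sum_eq_zero fun g _ => ?_
      have h1 := sum_conv_ne χ.2 ψ.2 (fun e => hc (Subtype.ext e)) (1 : G) g⁻¹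
      simp only [one_mul] at h1
      rw [h1, zero_smul]
  have hzero : ∀ χ : IrrCharacter G, E χ = 0 ↔ classInner (fixedPointCharacter U) (χ : G → ℂ) = 0 := by
    intro χ
    refine ⟨fun h => ?_, fun h => ?_⟩
    · have := htr χ
      rw [h, Matrix.trace_zero] at this
      exact (mul_eq_zero.mp this.symm).resolve_left (Nat.cast_ne_zero.mpr Nat.card_pos.ne')
    · set c := (Nat.card G : ℂ) / (χ : G → ℂ) 1 with hc
      have hc0 : c ≠ 0 := div_ne_zero (Nat.cast_ne_zero.mpr Nat.card_pos.ne') (IsIrrCharacter.apply_one_ne_zero χ.2)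
      set e := c⁻¹ • E χ with he
      have hee : e * e = e := by
        rw [he, smul_mul_assoc, mul_smul_comm, hmul, if_pos rfl, smul_smul, smul_smul, ← hc]
        congr 1; field_simp
      have htre : e.trace = 0 := by rw [he, Matrix.trace_smul, htr, h, mul_zero, smul_zero]
      have hproj : LinearMap.IsProj (LinearMap.range (Matrix.toLin' e)) (Matrix.toLin' e) :=
        ⟨fun x => LinearMap.mem_range_self _ x, fun x hx => by
          obtain ⟨y, rfl⟩ := hx
          rw [← LinearMap.comp_apply, ← Matrix.toLin'_mul, hee]⟩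
      have h0 := hproj.trace
      rw [Matrix.trace_toLin'_eq, htre] at h0
      have h1 : Module.finrank ℂ (LinearMap.range (Matrix.toLin' e)) = 0 := by exact_mod_cast h0.symm
      rw [Submodule.finrank_eq_zero, LinearMap.range_eq_bot] at h1
      have h2 : e = 0 := Matrix.toLin'.injective (by rw [h1, map_zero])
      rw [he, smul_eq_zero] at h2
      exact h2.resolve_left (inv_ne_zero hc0)
  have hiff : ∀ χ : IrrCharacter G, (∃ φ : G → ℂ, IsCharacter G φ ∧ fixedPointCharacter U = (χ : G → ℂ) + φ) ↔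
      E χ ≠ 0 := by
    intro χ
    rw [Ne, hzero]
    constructor
    · rintro ⟨φ, hφ, e⟩ h0
      obtain ⟨m, hm⟩ := classInner_natCast_of_isCharacter hφ (IsIrrCharacter.isCharacter χ.2)
      rw [e, classInner_add_left, IsIrrCharacter.classInner_self χ.2, hm] at h0
      have : ((1 + m : ℕ) : ℂ) = 0 := by push_cast; exact h0
      exact absurd (Nat.cast_eq_zero.mp this) (by omega)
    · intro h0
      refine ⟨fixedPointCharacter U - (χ : G → ℂ), isCharacter_of_classInner_nat
        (fun g h => by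
          rw [Pi.sub_apply, Pi.sub_apply, IsCharacter.isClassFunction hπ g h,
            IsCharacter.isClassFunction (IsIrrCharacter.isCharacter χ.2) g h])
        fun ψ hψ => ?_, (add_sub_cancel _ _).symm⟩
      obtain ⟨m, hm⟩ := classInner_natCast_of_isCharacter hπ (IsIrrCharacter.isCharacter hψ)
      by_cases hχψ : (χ : G → ℂ) = ψ
      · subst hχψ
        rcases m with _ | m
        · exact absurd (by rw [hm, Nat.cast_zero]) h0
        · exact ⟨m, by rw [classInner_sub_left, hm, IsIrrCharacter.classInner_self χ.2]; simp⟩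
      · exact ⟨m, by rw [classInner_sub_left, hm, IsIrrCharacter.classInner_eq_zero χ.2 hψ hχψ, sub_zero]⟩
  rw [Nat.card_congr (Equiv.subtypeEquivRight hiff)]
  have hspan : centreSpan U = Submodule.span ℂ (Set.range fun χ : {χ // E χ ≠ 0} => E χ.1) := by
    refine le_antisymm (Submodule.span_le.mpr ?_) (Submodule.span_mono ?_)
    · rintro _ ⟨χ, rfl⟩
      by_cases h : E χ = 0
      · show E χ ∈ _; rw [h]; exact Submodule.zero_mem _
      · exact Submodule.subset_span ⟨⟨χ, h⟩, rfl⟩
    · rintro _ ⟨χ, rfl⟩; exact ⟨χ.1, rfl⟩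
  have hli : LinearIndependent ℂ fun χ : {χ // E χ ≠ 0} => E χ.1 := by
    rw [Fintype.linearIndependent_iff]
    intro c hc ψ
    have h := congrArg (fun M => M * E ψ.1) hc
    simp only [Finset.sum_mul, zero_mul, smul_mul_assoc, hmul] at h
    rw [Finset.sum_eq_single ψ (fun χ _ hχ => by rw [if_neg fun e => hχ (Subtype.ext e), smul_zero]) (by simp),
      if_pos rfl, smul_smul, smul_eq_zero] at h
    exact (mul_eq_zero.mp (h.resolve_right ψ.2)).resolve_right
      (div_ne_zero (Nat.cast_ne_zero.mpr Nat.card_pos.ne') (IsIrrCharacter.apply_one_ne_zero ψ.1.2))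
  rw [hspan, finrank_span_eq_card hli, Nat.card_eq_fintype_card]

end Cfsg.Agent.Char
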