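import Cfsg.Agent.Lib.Char.Perm
import Cfsg.Agent.Lib.Char.Orthogonality
import Cfsg.Agent.Lib.Char.Clifford

/-!
# Characters of finite products
-/

set_option autoImplicit false
set_option linter.style.haveILetI false

namespace Cfsg.Agent.Char.PiProd

open Cfsg Cfsg.Agent.Char
open scoped Classical ComplexConjugate

universe u

variable {ι : Type u} [Fintype ι] {H : Type u} [Group H] [Finite H]

theorem isCharacter_pi {θ : ι → H → ℂ} (h : ∀ i, IsCharacter H (θ i)) :
    IsCharacter (ι → H) fun f => ∏ i, θ i (f i) := by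
  have key : ∀ s : Finset ι, IsCharacter (ι → H) fun f => ∏ i ∈ s, θ i (f i) := by
    intro s
    induction s using Finset.induction_on with
    | empty =>
      have := isIrrCharacter_monoidHom (1 : (ι → H) →* ℂˣ)
      simpa using IsIrrCharacter.isCharacter this
    | insert a s ha ih =>
      simp only [Finset.prod_insert ha]
      exact isCharacter_mul (isCharacter_comp (h a) (Pi.evalMonoidHom (fun _ : ι => H) a)) ih
  exact key Finset.univ

theorem isIrrCharacter_pi [Fintype H] {θ : ι → H → ℂ} (h : ∀ i, IsIrrCharacter H (θ i)) :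
    IsIrrCharacter (ι → H) fun f => ∏ i, θ i (f i) := by
  refine isIrrCharacter_iff.2 ⟨isCharacter_pi fun i => IsIrrCharacter.isCharacter (h i), ?_⟩
  have e : classInner (fun f : ι → H => ∏ i, θ i (f i)) (fun f : ι → H => ∏ i, θ i (f i)) =
      ∏ i, classInner (θ i) (θ i) := by
    simp only [classInner, Finset.prod_mul_distrib, Finset.prod_inv_distrib, Finset.prod_const,
      Fintype.prod_sum, map_prod]
    rw [Nat.card_fun, Nat.cast_pow, Nat.card_eq_fintype_card (α := ι)]
    simp [Finset.prod_mul_distrib]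
  rw [e, Finset.prod_eq_one fun i _ => IsIrrCharacter.classInner_self (h i)]

/-- Every irreducible character of a finite product is a product. -/
theorem exists_factors [Fintype H] {θ : (ι → H) → ℂ} (hθ : IsIrrCharacter (ι → H) θ) :
    ∃ ψ : ι → IrrCharacter H, θ = fun f => ∏ i, (ψ i : H → ℂ) (f i) := by
  haveI := Fintype.ofFinite (IrrCharacter H)
  by_contra hne
  push Not at hne
  have h0 : ∀ ψ : ι → IrrCharacter H,
      ∑ f : ι → H, θ f * conj (∏ i, (ψ i : H → ℂ) (f i)) = 0 := fun ψ => by
    have := IsIrrCharacter.classInner_eq_zero hθ (isIrrCharacter_pi fun i => (ψ i).2) (hne ψ)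
    rw [classInner] at this
    exact (mul_eq_zero.mp this).resolve_left (inv_ne_zero (Nat.cast_ne_zero.mpr Nat.card_pos.ne'))
  have key : ∑ f : ι → H, θ f * conj (∏ i, ∑ φ : IrrCharacter H, (φ : H → ℂ) 1 * (φ : H → ℂ) (f i)) = 0 := by
    rw [Finset.sum_congr rfl fun f _ => by
      rw [Fintype.prod_sum, map_sum, Finset.mul_sum], Finset.sum_comm]
    refine Finset.sum_eq_zero fun ψ _ => ?_
    rw [Finset.sum_congr rfl fun f _ => by
      rw [Finset.prod_mul_distrib, map_mul, mul_left_comm], ← Finset.mul_sum, h0, mul_zero]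
  rw [Finset.sum_eq_single (1 : ι → H)] at key
  · have hne1 : (conj (∏ i : ι, ∑ φ : IrrCharacter H, (φ : H → ℂ) 1 * (φ : H → ℂ) ((1 : ι → H) i))) ≠ 0 := by
      rw [map_ne_zero, Finset.prod_ne_zero_iff]
      intro i _
      rw [regular_eq, Pi.one_apply, if_pos rfl]
      exact Nat.cast_ne_zero.2 Nat.card_pos.ne'
    exact IsIrrCharacter.apply_one_ne_zero hθ ((mul_eq_zero.1 key).resolve_right hne1)
  · intro f _ hf
    obtain ⟨i, hi⟩ := Function.ne_iff.1 hf
    rw [Finset.prod_eq_zero (Finset.mem_univ i) (by rw [regular_eq]; exact if_neg (by simpa using hi)), map_zero, mul_zero]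
  · simp

end Cfsg.Agent.Char.PiProd
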