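import Cfsg.Agent.Lib.Char.SmallDegree
import Cfsg.Agent.Lib.Char.Zero
import Cfsg.Agent.Lib.Char.Monomial

set_option autoImplicit false

namespace Cfsg.Agent.Lib.PrimeDegreeCenter

open Cfsg Cfsg.Agent.Char Representation
open Cfsg.Agent.Block (charDegree_cast charDegree_dvd_card charDegree_pos)

universe u

theorem center_ne_bot {G : Type u} [Group G] [Finite G] (p : ℕ) (hp : p.Prime) (χ : IrrCharacter G)
    (hdeg : χ.1 1 = p) (hfaith : ∀ g : G, χ.1 g = χ.1 1 → g = 1) (hdiv : p ^ 2 ∣ Nat.card G) :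
    Subgroup.center G ≠ ⊥ := by
  classical
  haveI := Fact.mk hp
  intro hZ
  obtain ⟨f, hχ⟩ := χ
  simp only at hdeg hfaith
  let P : Sylow p G := default
  have hP2 : p ^ 2 ∣ Nat.card (P : Subgroup G) := by
    rw [P.card_eq_multiplicity]
    exact pow_dvd_pow p ((hp.pow_dvd_iff_le_factorization Nat.card_pos.ne').mp hdiv)
  -- values vanish on elements centralizing a Sylow subgroup
  have van : ∀ z : G, z ≠ 1 → (P : Subgroup G) ≤ Subgroup.centralizer ({z} : Set G) → f z = 0 := by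
    intro z hz hle
    obtain ⟨n, ρ, hρ, he⟩ := hχ
    haveI := hρ
    replace he := he.symm
    have hn : Module.finrank ℂ (Fin n → ℂ) = p := by
      have h1 : f 1 = (Module.finrank ℂ (Fin n → ℂ) : ℂ) := by rw [he, ρ.char_one]
      rw [hdeg] at h1
      exact_mod_cast h1.symm
    have hcop : Nat.Coprime (Module.finrank ℂ (Fin n → ℂ)) (Subgroup.centralizer ({z} : Set G)).index := by
      rw [hn]
      refine hp.coprime_iff_not_dvd.mpr fun h => ?_
      exact P.not_dvd_index (h.trans (Subgroup.index_dvd_of_le hle))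
    rcases eq_zero_or_norm_eq_of_coprime ρ z hcop with h | h
    · rw [he]; exact h
    · exfalso
      obtain ⟨ω, hω⟩ := (norm_character_eq_iff ρ z).mp h
      have hinj : Function.Injective ρ := by
        refine (MonoidHom.ker_eq_bot_iff ρ).mp (eq_bot_iff.mpr fun a ha => ?_)
        rw [Subgroup.mem_bot]
        apply hfaith
        rw [he]
        simp [Representation.character, MonoidHom.mem_ker.mp ha]
      have hzc : z ∈ Subgroup.center G :=
        Subgroup.mem_center_iff.mpr fun a => (comm_of_rep_eq_smul ρ hω hinj a).symm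
      rw [hZ] at hzc
      exact hz (Subgroup.mem_bot.mp hzc)
  by_cases hab : ∀ a ∈ (P : Subgroup G), ∀ b ∈ (P : Subgroup G), a * b = b * a
  · obtain ⟨k, hk⟩ := card_dvd_degree_of_vanish (IsIrrCharacter.isCharacter hχ) (P : Subgroup G)
      fun z hz hz1 => van z hz1 fun a ha => Subgroup.mem_centralizer_singleton_iff.mpr (hab a ha z hz)
    rw [hdeg] at hk
    have hk' : p = Nat.card (P : Subgroup G) * k := by exact_mod_cast hk
    have h1 : p ^ 2 ∣ p := by
      have := dvd_mul_of_dvd_left hP2 k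
      rwa [← hk'] at this
    have h2 : p ^ 2 ≤ p := Nat.le_of_dvd hp.pos h1
    nlinarith [hp.two_le]
  push Not at hab
  obtain ⟨a, ha, b, hb, hne⟩ := hab
  haveI := Fintype.ofFinite (IrrCharacter (P : Subgroup G))
  set g : ↥(P : Subgroup G) → ℂ := fun x => f (x : G) with hg
  have hgc : IsCharacter (P : Subgroup G) g := IsCharacter.restrict (IsIrrCharacter.isCharacter hχ) _
  obtain ⟨m, hdec, hd⟩ := Cfsg.Agent.Char.Blichfeldt.exists_decomp hgc
  have hgd : charDegree g = p := by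
    have := charDegree_cast hgc
    rw [hg] at this ⊢
    simp only [OneMemClass.coe_one, hdeg] at this
    exact_mod_cast this
  by_cases hall : ∀ ψ : IrrCharacter (P : Subgroup G), m ψ ≠ 0 → charDegree ψ.1 = 1
  · apply hne
    have hker : ∀ ψ : IrrCharacter (P : Subgroup G), m ψ ≠ 0 →
        ψ.1 (⟨a, ha⟩ * ⟨b, hb⟩ * ((⟨b, hb⟩ : (P : Subgroup G)) * ⟨a, ha⟩)⁻¹) = ψ.1 1 := by
      intro ψ hψ
      have h1 : ψ.1 1 = 1 := by
        rw [← charDegree_cast (IsIrrCharacter.isCharacter ψ.2), hall ψ hψ, Nat.cast_one]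
      obtain ⟨l, hl⟩ := IsCharacter.exists_monoidHom (IsIrrCharacter.isCharacter ψ.2) h1
      rw [h1, hl]
      show ((l _ : ℂˣ) : ℂ) = 1
      rw [show l (⟨a, ha⟩ * ⟨b, hb⟩ * ((⟨b, hb⟩ : (P : Subgroup G)) * ⟨a, ha⟩)⁻¹) = 1 by
        rw [map_mul, map_inv, map_mul, map_mul, mul_comm (l ⟨a, ha⟩), mul_inv_cancel], Units.val_one]
    have h : f (a * b * (b * a)⁻¹) = f 1 := by
      have e1 := hdec (⟨a, ha⟩ * ⟨b, hb⟩ * ((⟨b, hb⟩ : (P : Subgroup G)) * ⟨a, ha⟩)⁻¹)
      have e2 := hdec 1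
      rw [Finset.sum_congr rfl (fun ψ _ => show ((m ψ : ℂ) * ψ.1
          (⟨a, ha⟩ * ⟨b, hb⟩ * ((⟨b, hb⟩ : (P : Subgroup G)) * ⟨a, ha⟩)⁻¹)) = (m ψ : ℂ) * ψ.1 1 from by
        by_cases hψ : m ψ = 0
        · simp [hψ]
        · rw [hker ψ hψ]), ← e2] at e1
      exact e1
    exact mul_inv_eq_one.mp (hfaith _ h)
  · push Not at hall
    obtain ⟨ψ, hψ, hψ1⟩ := hall
    have hdvd : p ∣ charDegree ψ.1 := by
      obtain ⟨e, he⟩ := IsPGroup.iff_card.mp P.2
      obtain ⟨i, -, hi⟩ := (Nat.dvd_prime_pow hp).mp (he ▸ charDegree_dvd_card ψ.2)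
      rcases Nat.eq_zero_or_pos i with rfl | hpos
      · exact absurd (by simpa using hi) hψ1
      · rw [hi]; exact dvd_pow_self p hpos.ne'
    rw [hgd, ← Finset.add_sum_erase _ _ (Finset.mem_univ ψ)] at hd
    have hpsi_pos : 0 < charDegree ψ.1 := charDegree_pos ψ.2
    have hge : p ≤ charDegree ψ.1 := Nat.le_of_dvd hpsi_pos hdvd
    have hm1 : m ψ = 1 ∧ ∀ φ ∈ Finset.univ.erase ψ, m φ = 0 := by
      have h1 : 1 ≤ m ψ := Nat.one_le_iff_ne_zero.mpr hψ
      refine ⟨?_, fun φ hφ => ?_⟩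
      · by_contra h
        have : 2 * p ≤ m ψ * charDegree ψ.1 := Nat.mul_le_mul (by omega) hge
        have := hp.pos
        omega
      · have h2 : m φ * charDegree φ.1 ≤ ∑ x ∈ Finset.univ.erase ψ, m x * charDegree x.1 :=
          Finset.single_le_sum (f := fun x => m x * charDegree x.1) (fun _ _ => Nat.zero_le _) hφ
        have h3 : p ≤ m ψ * charDegree ψ.1 := le_trans hge (Nat.le_mul_of_pos_left _ h1)
        have h4 : m φ * charDegree φ.1 = 0 := by omega
        exact (Nat.mul_eq_zero.mp h4).resolve_right (charDegree_pos φ.2).ne'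
    have hirr : IsIrrCharacter (P : Subgroup G) g := by
      have : g = ψ.1 := by
        funext x
        rw [hdec x, ← Finset.add_sum_erase _ _ (Finset.mem_univ ψ), hm1.1,
          Finset.sum_eq_zero fun φ hφ => by rw [hm1.2 φ hφ, Nat.cast_zero, zero_mul]]
        simp
      rw [this]
      exact ψ.2
    haveI : Nontrivial (P : Subgroup G) := ⟨⟨a, ha⟩, ⟨b, hb⟩, fun h => hne (by
      obtain rfl : a = b := congrArg Subtype.val h
      rfl)⟩
    haveI : Nontrivial (Subgroup.center (P : Subgroup G)) := P.isPGroup'.center_nontrivial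
    obtain ⟨z, hz⟩ := exists_ne (1 : Subgroup.center (P : Subgroup G))
    have hz1 : ((z : (P : Subgroup G)) : G) ≠ 1 := fun e => hz (Subtype.ext (Subtype.ext e))
    obtain ⟨w, hw, hsc⟩ := SmallDegree.scale_of_commutator hirr (g := (z : (P : Subgroup G)))
      (fun h => by
        rw [commutatorElement_eq_one_iff_mul_comm.mpr (Subgroup.mem_center_iff.mp z.2 h).symm])
    have h0 := van _ hz1 fun x hx =>
      Subgroup.mem_centralizer_singleton_iff.mpr (congrArg Subtype.val (Subgroup.mem_center_iff.mp z.2 ⟨x, hx⟩))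
    have h1 := hsc 1
    simp only [mul_one, hg, OneMemClass.coe_one, hdeg, h0] at h1
    rcases mul_eq_zero.mp h1.symm with h | h
    · rw [h, norm_zero] at hw; norm_num at hw
    · exact hp.ne_zero (by exact_mod_cast h)

end Cfsg.Agent.Lib.PrimeDegreeCenter
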