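import Cfsg.Agent.Lib.Char.PermChar
import Mathlib.GroupTheory.Sylow
import Mathlib.GroupTheory.SpecificGroups.Cyclic
import Mathlib.GroupTheory.GroupAction.CardCommute

/-!
# Quasi-elementary and elementary subgroups
-/

set_option autoImplicit false
set_option linter.style.haveILetI false

namespace Cfsg.Agent.Char

open Cfsg

universe u

variable {G : Type u} [Group G]

/-- A group with a cyclic normal `p`-complement. -/
def IsQuasiElem (p : ℕ) (H : Type*) [Group H] : Prop :=
  ∃ C : Subgroup H, C.Normal ∧ IsCyclic C ∧ Nat.Coprime (Nat.card C) p ∧ ∃ k : ℕ, C.index = p ^ k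

/-- A subgroup with a cyclic normal `p`-complement, in terms of the ambient group. -/
def IsQuasiElemSub (p : ℕ) (H : Subgroup G) : Prop :=
  ∃ C : Subgroup G, C ≤ H ∧ H ≤ Subgroup.normalizer (C : Set G) ∧ IsCyclic C ∧
    Nat.Coprime (Nat.card C) p ∧ ∃ k : ℕ, C.relIndex H = p ^ k

theorem isQuasiElem_of_sub {p : ℕ} {H : Subgroup G} (h : IsQuasiElemSub p H) :
    IsQuasiElem p H := by
  obtain ⟨C, hC, hN, hcyc, hcop, k, hk⟩ := h
  have e := Subgroup.subgroupOfEquivOfLe hC
  exact ⟨C.subgroupOf H, (Subgroup.normal_subgroupOf_iff_le_normalizer hC).mpr hN,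
    e.isCyclic.mpr hcyc, by rwa [Nat.card_congr e.toEquiv], k, hk⟩

theorem IsQuasiElem.of_injective [Finite G] {p : ℕ} (hp : p.Prime) (h : IsQuasiElem p G)
    {H : Type*} [Group H] (f : H →* G) (hf : Function.Injective f) : IsQuasiElem p H := by
  obtain ⟨C, hC, hcyc, hcop, k, hk⟩ := h
  haveI := hC
  haveI := hcyc
  let g : C.comap f →* C :=
    { toFun := fun x => ⟨f x, x.2⟩
      map_one' := Subtype.ext (by simp)
      map_mul' := fun a b => Subtype.ext (by simp) }
  have hg : Function.Injective g := fun a b hab =>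
    Subtype.ext (hf (congrArg Subtype.val hab))
  refine ⟨C.comap f, inferInstance, isCyclic_of_injective g hg,
    Nat.Coprime.coprime_dvd_left (Subgroup.card_dvd_of_injective g hg) hcop, ?_⟩
  have : (C.comap f).index ∣ p ^ k := by
    rw [Subgroup.index_comap, ← hk]
    exact Subgroup.relIndex_dvd_index_of_normal C f.range
  obtain ⟨j, -, hj⟩ := (Nat.dvd_prime_pow hp).mp this
  exact ⟨j, hj⟩

theorem IsQuasiElemSub.of_le [Finite G] {p : ℕ} (hp : p.Prime) {H U : Subgroup G}
    (h : IsQuasiElemSub p H) (hU : U ≤ H) : IsQuasiElemSub p U := by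
  obtain ⟨C', hC', hcyc', hcop', k, hk⟩ :=
    (isQuasiElem_of_sub h).of_injective hp (Subgroup.inclusion hU) (Subgroup.inclusion_injective hU)
  haveI := hC'
  have hle := Subgroup.map_subtype_le C'
  have hcm : (C'.map U.subtype).subgroupOf U = C' :=
    Subgroup.comap_map_eq_self_of_injective U.subtype_injective C'
  refine ⟨C'.map U.subtype, hle, ?_, ?_, ?_, k, ?_⟩
  · refine (Subgroup.normal_subgroupOf_iff_le_normalizer hle).mp ?_
    rw [hcm]; exact hC'
  · exact (mapSubtypeEquiv U C').isCyclic.mp hcyc'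
  · rwa [← Nat.card_congr (mapSubtypeEquiv U C').toEquiv]
  · rw [Subgroup.relIndex, hcm, hk]

theorem isPGroup_quotient_of_index {H : Type*} [Group H] (C : Subgroup H) [C.Normal] {p k : ℕ}
    (hk : C.index = p ^ k) : IsPGroup p (H ⧸ C) := by
  apply IsPGroup.of_card (n := k)
  rw [← Subgroup.index_eq_card, hk]

theorem mem_of_coprime_index {H : Type*} [Group H] {C : Subgroup H} [C.Normal] {p k : ℕ}
    (hk : C.index = p ^ k) {x : H} (hx : Nat.Coprime (orderOf x) p) : x ∈ C := by
  rw [← QuotientGroup.eq_one_iff, ← orderOf_eq_one_iff]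
  refine Nat.eq_one_of_dvd_coprimes (hx.pow_right k) (orderOf_map_dvd (QuotientGroup.mk' C) x) ?_
  rw [← hk, Subgroup.index_eq_card]
  exact orderOf_dvd_natCard _

theorem abelianNormalCond_of_isQuasiElem [Finite G] {p : ℕ} (hp : p.Prime) (h : IsQuasiElem p G) :
    AbelianNormalCond G :=
  abelianNormalCond_of_sections fun H _ f hf K _ hne => by
    haveI : Fact p.Prime := ⟨hp⟩
    haveI : Finite H := Finite.of_injective f hf
    obtain ⟨C, hC, hcyc, -, k, hk⟩ := h.of_injective hp f hf
    haveI := hC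
    let π := QuotientGroup.mk' K
    have hπ : Function.Surjective π := QuotientGroup.mk'_surjective K
    haveI : (C.map π).Normal := Subgroup.Normal.map hC π hπ
    by_cases hcen : C.map π ≤ Subgroup.center (H ⧸ K)
    · have hidx : ∃ j, (C.map π).index = p ^ j := by
        obtain ⟨j, -, hj⟩ := (Nat.dvd_prime_pow hp).mp (hk ▸ C.index_map_dvd hπ)
        exact ⟨j, hj⟩
      obtain ⟨j, hj⟩ := hidx
      haveI : Group.IsNilpotent ((H ⧸ K) ⧸ C.map π) :=
        (isPGroup_quotient_of_index _ hj).isNilpotent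
      haveI : Group.IsNilpotent (H ⧸ K) :=
        Subgroup.isNilpotent_of_ker_le_center (QuotientGroup.mk' (C.map π))
          (by rwa [QuotientGroup.ker_mk'])
      exact exists_abelian_normal_of_nilpotent _ hne
    · refine ⟨C.map π, inferInstance, ?_, ?_⟩
      · haveI := hcyc
        letI := IsCyclic.commGroup (α := C)
        rintro _ ⟨a, ha, rfl⟩ _ ⟨b, hb, rfl⟩
        rw [← map_mul, ← map_mul, show a * b = b * a from congrArg Subtype.val
          (mul_comm (⟨a, ha⟩ : C) ⟨b, hb⟩)]
      · rw [SetLike.le_def] at hcen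
        push Not at hcen
        obtain ⟨a, ha, hac⟩ := hcen
        rw [Subgroup.mem_center_iff] at hac
        push Not at hac
        obtain ⟨b, hb⟩ := hac
        exact ⟨a, ha, b, fun e => hb e.symm⟩

/-! ## The action of a `p`-group on a normal `p'`-subgroup -/

/-- A `P`-invariant linear character of `C` that is trivial on `C_C(P)` is trivial. -/
theorem linear_eq_one_of_centralizer [Finite G] (p : ℕ) [Fact p.Prime] (C P : Subgroup G)
    [hC : C.Normal] (hP : IsPGroup p P) (hcop : Nat.Coprime (Nat.card C) p) (l : C →* ℂˣ)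
    (hinv : ∀ g ∈ P, ∀ c : C, l ⟨g * c * g⁻¹, hC.conj_mem (c : G) c.2 g⟩ = l c)
    (hker : ∀ c : C, (c : G) ∈ Subgroup.centralizer (P : Set G) → l c = 1) : l = 1 := by
  classical
  ext c₀
  letI act : MulAction P {c : C // l c = l c₀} :=
    { smul := fun g c => ⟨⟨(g : G) * c.1 * (g : G)⁻¹, hC.conj_mem _ c.1.2 g⟩,
        (hinv g g.2 c.1).trans c.2⟩
      one_smul := fun c => Subtype.ext (Subtype.ext (by
        show (((1 : P) : G) * (c.1 : G) * ((1 : P) : G)⁻¹) = _
        simp))
      mul_smul := fun g h c => Subtype.ext (Subtype.ext (by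
        show ((g * h : P) : G) * (c.1 : G) * ((g * h : P) : G)⁻¹ =
          (g : G) * ((h : G) * (c.1 : G) * (h : G)⁻¹) * (g : G)⁻¹
        simp [mul_assoc])) }
  have hcard : ¬ p ∣ Nat.card {c : C // l c = l c₀} := by
    have e : Nat.card {c : C // l c = l c₀} = Nat.card l.ker :=
      Nat.card_congr ((Equiv.mulLeft c₀⁻¹).subtypeEquiv fun c => by
        rw [MonoidHom.mem_ker, Equiv.coe_mulLeft, map_mul, map_inv, inv_mul_eq_one, eq_comm])
    rw [e]
    intro hd
    exact (Fact.out : p.Prime).coprime_iff_not_dvd.mp hcop.symm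
      (hd.trans l.ker.card_subgroup_dvd_card)
  obtain ⟨c, hc⟩ := hP.nonempty_fixed_point_of_prime_not_dvd_card {c : C // l c = l c₀} hcard
  have hcc : ((c.1 : C) : G) ∈ Subgroup.centralizer (P : Set G) := by
    rw [Subgroup.mem_centralizer_iff]
    intro g hg
    have := congrArg (fun z : {c : C // l c = l c₀} => ((z.1 : C) : G)) (hc ⟨g, hg⟩)
    change g * (c.1 : G) * g⁻¹ = (c.1 : G) at this
    rwa [mul_inv_eq_iff_eq_mul] at this
  have := hker _ hcc
  rw [c.2] at this
  simp [this]

/-! ## Quasi-elementary subgroups with permutation character prime to `p` at a given element -/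

theorem exists_coprime_parts [Finite G] {p : ℕ} (hp : p.Prime) (x : G) :
    ∃ c y : G, Nat.Coprime (orderOf c) p ∧ (∃ a, orderOf y = p ^ a) ∧ Commute c y ∧ c * y = x ∧
      c ∈ Subgroup.zpowers x ∧ y ∈ Subgroup.zpowers x := by
  have hn : orderOf x ≠ 0 := (orderOf_pos x).ne'
  obtain ⟨a, m, hm, he⟩ := Nat.exists_eq_pow_mul_and_not_dvd hn p hp.ne_one
  have hcop : Nat.Coprime m (p ^ a) :=
    Nat.Coprime.pow_right a ((hp.coprime_iff_not_dvd.mpr hm).symm)
  obtain ⟨i, j, hij⟩ := Nat.isCoprime_iff_coprime.mpr hcop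
  refine ⟨x ^ (j * ((p ^ a : ℕ) : ℤ)), x ^ (i * (m : ℤ)), ?_, ?_,
    (Commute.refl x).zpow_zpow _ _, ?_, Subgroup.zpow_mem_zpowers _ _, Subgroup.zpow_mem_zpowers _ _⟩
  · refine Nat.Coprime.coprime_dvd_left ?_ ((hp.coprime_iff_not_dvd.mpr hm).symm)
    rw [orderOf_dvd_iff_pow_eq_one, ← zpow_natCast, ← zpow_mul, ← orderOf_dvd_iff_zpow_eq_one, he]
    push_cast
    exact ⟨j, by ring⟩
  · have : orderOf (x ^ (i * (m : ℤ))) ∣ p ^ a := by
      rw [orderOf_dvd_iff_pow_eq_one, ← zpow_natCast, ← zpow_mul, ← orderOf_dvd_iff_zpow_eq_one, he]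
      push_cast
      exact ⟨i, by ring⟩
    obtain ⟨b, -, hb⟩ := (Nat.dvd_prime_pow hp).mp this
    exact ⟨b, hb⟩
  · rw [← zpow_add, add_comm, hij, zpow_one]

theorem exists_quasiElem_not_dvd [Fintype G] (x : G) (p : ℕ) (hp : p.Prime) :
    ∃ H : Subgroup G, IsQuasiElemSub p H ∧ ∃ n : ℕ,
      indFun H (fun _ => (1 : ℂ)) x = (n : ℂ) ∧ ¬ p ∣ n := by
  classical
  haveI : Fact p.Prime := ⟨hp⟩
  obtain ⟨c, y, hc, ⟨a, hy⟩, hcy, hx, hcx, hyx⟩ := exists_coprime_parts hp x
  let C := Subgroup.zpowers c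
  let N := Subgroup.normalizer (C : Set G)
  have hCN : C ≤ N := Subgroup.le_normalizer
  have hyN : y ∈ N := Subgroup.centralizer_le_normalizer (C : Set G)
    (Subgroup.mem_centralizer_iff.mpr fun z (hz : z ∈ Subgroup.zpowers c) => by
      obtain ⟨i, rfl⟩ := Subgroup.mem_zpowers_iff.mp hz
      exact (hcy.zpow_left i).eq)
  have hyP : IsPGroup p (Subgroup.zpowers (⟨y, hyN⟩ : N)) :=
    IsPGroup.of_card (n := a) (by rw [Nat.card_zpowers, Subgroup.orderOf_mk, hy])
  obtain ⟨P, hyP'⟩ := hyP.exists_le_sylow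
  let C' := C.subgroupOf N
  haveI : C'.Normal := Subgroup.normal_in_normalizer
  let H' : Subgroup N := C' ⊔ P
  let H : Subgroup G := H'.map N.subtype
  have hCcard : Nat.Coprime (Nat.card C) p := by rwa [Nat.card_zpowers]
  have hC'card : Nat.card C' = Nat.card C := Nat.card_congr (Subgroup.subgroupOfEquivOfLe hCN).toEquiv
  obtain ⟨k, hk⟩ : ∃ k, C'.relIndex H' = p ^ k := by
    have : C'.relIndex H' ∣ Nat.card P := by
      rw [Subgroup.relIndex_sup_left]
      exact Subgroup.index_dvd_card _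
    rw [P.card_eq_multiplicity] at this
    obtain ⟨k, -, hk⟩ := (Nat.dvd_prime_pow hp).mp this
    exact ⟨k, hk⟩
  have hHN : H ≤ N := Subgroup.map_subtype_le H'
  have hCH : C ≤ H := by
    intro z hz
    exact ⟨⟨z, hCN hz⟩, le_sup_left (a := C') (show (⟨z, hCN hz⟩ : N) ∈ C' from hz), rfl⟩
  refine ⟨H, ⟨C, hCH, hHN, inferInstance, hCcard, k, ?_⟩, _, indFun_one_eq_card_fixed H x, ?_⟩
  · rw [← hk]
    have hC'map : C'.map N.subtype = C := by
      rw [Subgroup.subgroupOf_map_subtype, inf_eq_left.mpr hCN]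
    rw [← hC'map, Subgroup.relIndex_map_map_of_injective _ _ N.subtype_injective]
  have hxN : x ∈ N := hx ▸ N.mul_mem (hCN (Subgroup.mem_zpowers c)) hyN
  -- fixed points lie over the normalizer
  have hfix : ∀ g : G, x • (g : G ⧸ H) = g → g ∈ N := by
    intro g hg
    rw [MulAction.Quotient.smul_coe, QuotientGroup.eq] at hg
    have hg' : g⁻¹ * x * g ∈ H := by
      have := H.inv_mem hg
      simpa [mul_assoc] using this
    have hcg : g⁻¹ * c * g ∈ C := by
      obtain ⟨i, hi⟩ := Subgroup.mem_zpowers_iff.mp hcx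
      have h1 : g⁻¹ * c * g ∈ H := by
        have := H.zpow_mem hg' i
        rw [show g⁻¹ * x * g = g⁻¹ * x * (g⁻¹)⁻¹ by rw [inv_inv], conj_zpow, inv_inv, hi] at this
        exact this
      obtain ⟨z, hz, hze⟩ := Subgroup.mem_map.mp h1
      have hord : Nat.Coprime (orderOf (⟨z, hz⟩ : H')) p := by
        rw [← orderOf_injective (N.subtype.comp H'.subtype)
          (N.subtype_injective.comp H'.subtype_injective)]
        show Nat.Coprime (orderOf (N.subtype z)) p
        rw [hze, show g⁻¹ * c * g = MulAut.conj g⁻¹ c by simp, MulEquiv.orderOf_eq]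
        exact hc
      have hmem := mem_of_coprime_index (C := C'.subgroupOf H') (p := p) (k := k) hk hord
      rw [Subgroup.mem_subgroupOf] at hmem
      have hzC : N.subtype z ∈ C := hmem
      rwa [hze] at hzC
    have hsub : C.map (MulAut.conj g⁻¹).toMonoidHom = C := by
      refine Subgroup.eq_of_le_of_card_ge ?_ ?_
      · rw [MonoidHom.map_zpowers, Subgroup.zpowers_le]
        simpa using hcg
      · exact (Nat.card_congr (C.equivMapOfInjective _ (MulAut.conj g⁻¹).injective).toEquiv).le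
    rw [Subgroup.mem_normalizer_iff]
    intro h
    constructor
    · intro hh
      rw [← hsub] at hh
      obtain ⟨w, hw, rfl⟩ := Subgroup.mem_map.mp hh
      simpa [mul_assoc] using hw
    · intro hh
      rw [← hsub]
      exact Subgroup.mem_map.mpr ⟨_, hh, by simp [mul_assoc]⟩
  let φ : N ⧸ H' → G ⧸ H := fun q => (((Quotient.out q : N) : G) : G ⧸ H)
  have hφ : ∀ n : N, φ (n : N ⧸ H') = ((n : G) : G ⧸ H) := by
    intro n
    obtain ⟨h, hh⟩ := QuotientGroup.mk_out_eq_mul H' n
    simp only [φ, hh]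
    rw [QuotientGroup.eq]
    simp only [Subgroup.coe_mul, mul_inv_rev, mul_assoc, inv_mul_cancel, mul_one]
    exact H.inv_mem (Subgroup.mem_map_of_mem N.subtype h.2)
  have hφinj : Function.Injective φ := by
    intro q r e
    induction q using QuotientGroup.induction_on with
    | H n =>
      induction r using QuotientGroup.induction_on with
      | H m =>
        rw [hφ, hφ, QuotientGroup.eq] at e
        rw [QuotientGroup.eq]
        obtain ⟨w, hw, he⟩ := Subgroup.mem_map.mp e
        have : n⁻¹ * m = w := N.subtype_injective (by simp [← he])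
        rw [this]; exact hw
  let x' : N := ⟨x, hxN⟩
  let y' : N := ⟨y, hyN⟩
  have hequiv : ∀ q, φ (x' • q) = x • φ q := by
    intro q
    induction q using QuotientGroup.induction_on with
    | H n =>
      rw [MulAction.Quotient.smul_coe, hφ, hφ, MulAction.Quotient.smul_coe]
      rfl
  have hcard : Nat.card (MulAction.fixedBy (G ⧸ H) x) =
      Nat.card (MulAction.fixedBy (N ⧸ H') x') := by
    refine (Nat.card_congr (Equiv.ofBijective
      (fun q : MulAction.fixedBy (N ⧸ H') x' => (⟨φ q.1, by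
        rw [MulAction.mem_fixedBy, ← hequiv]
        exact congrArg φ q.2⟩ : MulAction.fixedBy (G ⧸ H) x)) ⟨fun q r e => ?_, fun g => ?_⟩)).symm
    · exact Subtype.ext (hφinj (congrArg Subtype.val e))
    · obtain ⟨g, hg⟩ := g
      induction g using QuotientGroup.induction_on with
      | H g =>
        have hgN := hfix g hg
        refine ⟨⟨((⟨g, hgN⟩ : N) : N ⧸ H'), ?_⟩, Subtype.ext (hφ _)⟩
        rw [MulAction.mem_fixedBy]
        apply hφinj
        rw [hequiv, hφ]
        exact hg
  rw [hcard]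
  have htriv : ∀ q : N ⧸ H', x' • q = y' • q := by
    intro q
    have hxe : x' = (⟨c, hCN (Subgroup.mem_zpowers c)⟩ : N) * y' := Subtype.ext hx.symm
    rw [hxe, mul_smul]
    induction (y' • q) using QuotientGroup.induction_on with
    | H n =>
      rw [MulAction.Quotient.smul_coe, QuotientGroup.eq, smul_eq_mul]
      refine le_sup_left (a := C') ?_
      have h2 : (⟨c, hCN (Subgroup.mem_zpowers c)⟩ : N)⁻¹ ∈ C' :=
        C'.inv_mem (show c ∈ C from Subgroup.mem_zpowers c)
      simpa [mul_assoc] using (inferInstance : C'.Normal).conj_mem _ h2 n⁻¹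
  intro hdvd
  apply P.not_dvd_index
  have hsame : MulAction.fixedBy (N ⧸ H') x' = MulAction.fixedPoints (Subgroup.zpowers y') (N ⧸ H') := by
    ext q
    rw [MulAction.mem_fixedBy, MulAction.mem_fixedPoints, htriv]
    constructor
    · rintro hq ⟨z, hz⟩
      exact MulAction.mem_stabilizer_iff.mp
        (Subgroup.zpowers_le.mpr (show y' ∈ MulAction.stabilizer N q from hq) hz)
    · intro h
      exact h ⟨y', Subgroup.mem_zpowers y'⟩
  have hmod := IsPGroup.card_modEq_card_fixedPoints (hG := hyP) (N ⧸ H')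
  rw [← hsame] at hmod
  have : p ∣ Nat.card (N ⧸ H') := Nat.modEq_zero_iff_dvd.mp (hmod.trans (Nat.modEq_zero_iff_dvd.mpr hdvd))
  rw [← Subgroup.index_eq_card] at this
  exact this.trans (Subgroup.index_dvd_of_le le_sup_right)

end Cfsg.Agent.Char
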