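import Cfsg.Agent.S0857
import Cfsg.Agent.Lib.Char.Monomial
import Mathlib.GroupTheory.Solvable

/-!
# One step in the reduction of relative monomial groups
-/

set_option autoImplicit false
set_option linter.style.haveILetI false

namespace Cfsg.Agent.Char.RelM

open Cfsg Cfsg.Agent.Char
open scoped ComplexConjugate

universe u

variable {H : Type u} [Group H] [Fintype H]

/-- The three possibilities below a chief factor on which a character restricts irreducibly. -/
theorem step (K L : Subgroup H) [hK : K.Normal] [L.Normal] (hLK : L < K)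
    (hchief : ∀ M : Subgroup H, M.Normal → L ≤ M → M ≤ K → M = L ∨ M = K) (hab : ⁅K, K⁆ ≤ L)
    {χ : H → ℂ} (hχ : IsIrrCharacter H χ) (hK' : IsIrrCharacter K (fun k : K => χ k)) :
    IsIrrCharacter L (fun x : L => χ x) ∨
      (∃ (φ : L → ℂ) (e : ℕ), IsIrrCharacter L φ ∧ (fun x : L => χ x) = (e : ℂ) • φ ∧
        e ^ 2 = L.relIndex K ∧ 1 < e) ∨
      ∃ (T : Subgroup H) (hLT : L ≤ T) (ψ : T → ℂ), T ≠ ⊤ ∧ IsIrrCharacter T ψ ∧
        indFun T ψ = χ ∧ IsIrrCharacter L (fun x : L => ψ ⟨x.1, hLT x.2⟩) := by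
  classical
  have hinv : ∀ (g : H) (n : K), (fun k : K => χ k) ⟨g * n * g⁻¹, hK.conj_mem (n : H) n.2 g⟩ =
      (fun k : K => χ k) n := fun g n =>
    IsCharacter.isClassFunction (IsIrrCharacter.isCharacter hχ) (n : H) g
  have hr1 : 1 < L.relIndex K := by
    rcases Nat.lt_trichotomy (L.relIndex K) 1 with h | h | h
    · exact absurd (Nat.lt_one_iff.mp h) Subgroup.index_ne_zero_of_finite
    · exact absurd (Subgroup.relIndex_eq_one.mp h) (not_le_of_gt hLK)
    · exact h
  rcases Cfsg.Agent.S0857.result K L hLK hchief hab _ hK' hinv with h | ⟨φ, e, hφ, he, her⟩ |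
    ⟨F, hF, hcard, hsum⟩
  · exact Or.inl h
  · refine Or.inr (Or.inl ⟨φ, e, hφ, he, her, ?_⟩)
    by_contra hle
    have : e ^ 2 ≤ 1 := by nlinarith
    omega
  · right; right
    haveI := Fintype.ofFinite L
    change (fun x : L => χ x) = ∑ φ ∈ F, φ at hsum
    have hinner : ∀ φ ∈ F, classInner (fun x : L => χ x) φ = 1 := by
      intro φ hφ
      rw [hsum, classInner_sum_left, Finset.sum_eq_single φ
        (fun b hb hne => IsIrrCharacter.classInner_eq_zero (hF b hb) (hF φ hφ) hne)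
        (fun h => absurd hφ h)]
      exact IsIrrCharacter.classInner_self (hF φ hφ)
    obtain ⟨φ, hφ, φ', hφ', hne⟩ := Finset.one_lt_card.mp (hcard ▸ hr1)
    let T := inertia L φ
    haveI := Fintype.ofFinite T
    have hφc := IsCharacter.isClassFunction (IsIrrCharacter.isCharacter (hF φ hφ))
    have hLT : L ≤ T := le_inertia L hφc
    have h0 : classInner (fun x : L => χ x) φ ≠ 0 := by rw [hinner φ hφ]; exact one_ne_zero
    have hT : T ≠ ⊤ := by
      intro htop
      obtain ⟨g, hg⟩ := (mem_conjOrbit L).mp (mem_conjOrbit_of_constituent L hχ (hF φ hφ)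
        (hF φ' hφ') h0 (by rw [hinner φ' hφ']; exact one_ne_zero))
      exact hne (((mem_inertia L).mp (htop ▸ Subgroup.mem_top g : g ∈ T)).symm.trans hg)
    obtain ⟨ψ, hψ, h1, h2⟩ := exists_irr_above_inertia L (hF φ hφ) hLT hχ h0
    obtain ⟨hind, hmult⟩ := clifford_core L (hF φ hφ) rfl hLT hχ hψ h1 h2
    rw [hinner φ hφ] at hmult
    refine ⟨T, hLT, ψ, hT, hψ, hind, ?_⟩
    let ι : L.subgroupOf T ≃* L := Subgroup.subgroupOfEquivOfLe hLT
    haveI := Fintype.ofFinite (L.subgroupOf T)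
    have hφι := isIrrCharacter_comp_mulEquiv ι (hF φ hφ)
    have hk : classInner (fun n : L.subgroupOf T => ψ n) (fun n => φ (ι n)) = 1 := by
      rw [← hmult, ← classInner_comp_mulEquiv ι (fun n : L => ψ ⟨(n : H), hLT n.2⟩) φ]
      rfl
    have hres := restrict_eq_smul_of_inertia_top (L.subgroupOf T) hψ hφι
      (by rw [hk]; exact one_ne_zero) (fun t => funext fun n =>
        congrFun ((mem_inertia L).mp t.2) (ι n))
    rw [hk, one_smul] at hres
    have : (fun x : L => ψ ⟨x.1, hLT x.2⟩) = φ := funext fun x => by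
      have h3 := congrFun hres ⟨⟨x.1, hLT x.2⟩, x.2⟩
      exact h3
    rw [this]
    exact hF φ hφ

theorem eq_bot_of_le_commutator {A : Type u} [Group A] [Group.IsSolvable A] (B : Subgroup A)
    (h : B ≤ ⁅B, B⁆) : B = ⊥ := by
  obtain ⟨n, hn⟩ := (Group.isSolvable_def A).mp ‹_›
  have : ∀ k, B ≤ derivedSeries A k := by
    intro k
    induction k with
    | zero => exact le_top
    | succ k ih => exact h.trans (Subgroup.commutator_mono ih ih)
  exact eq_bot_iff.mpr (hn ▸ this n)

/-- A maximal normal subgroup between two given ones. -/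
theorem exists_maximal_below (K B : Subgroup H) [B.Normal] (hBK : B < K) :
    ∃ L : Subgroup H, L.Normal ∧ B ≤ L ∧ L < K ∧
      ∀ M : Subgroup H, M.Normal → L ≤ M → M ≤ K → M = L ∨ M = K := by
  obtain ⟨L, hL, hmax⟩ := (Set.toFinite {L : Subgroup H | L.Normal ∧ B ≤ L ∧ L < K}).exists_maximal
    ⟨B, ‹B.Normal›, le_rfl, hBK⟩
  refine ⟨L, hL.1, hL.2.1, hL.2.2, fun M hM hLM hMK => ?_⟩
  rcases eq_or_lt_of_le hMK with h | h
  · exact Or.inr h
  · exact Or.inl (le_antisymm (hmax ⟨hM, hL.2.1.trans hLM, h⟩ hLM) hLM)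

end Cfsg.Agent.Char.RelM
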