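import Cfsg.Agent.Lib.Char.RelativeM
import Cfsg.Agent.S0897
import Mathlib.GroupTheory.Perm.Cycle.Type

/-!
# No full ramification over a prime-power index with abelian Sylow subgroups
-/

set_option autoImplicit false
set_option linter.style.haveILetI false

namespace Cfsg.Agent.Char.RelM

open Cfsg Cfsg.Agent.Char
open scoped ComplexConjugate

universe u

variable {K : Type u} [Group K] [Fintype K]

/-- A chief factor inside a solvable layer has prime-power order. -/
theorem exists_prime_pow_index {H : Type u} [Group H] [Fintype H] (K L : Subgroup H) [K.Normal]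
    [L.Normal] (hLK : L < K) (hchief : ∀ M : Subgroup H, M.Normal → L ≤ M → M ≤ K → M = L ∨ M = K)
    (hab : ⁅K, K⁆ ≤ L) : ∃ (p k : ℕ), p.Prime ∧ (L.subgroupOf K).index = p ^ k := by
  classical
  set r := (L.subgroupOf K).index with hr
  have hr1 : r ≠ 1 := fun h => not_le_of_gt hLK (Subgroup.relIndex_eq_one.mp h)
  have hr0 : r ≠ 0 := Subgroup.index_ne_zero_of_finite
  obtain ⟨p, hp, hpr⟩ := Nat.exists_prime_and_dvd hr1
  haveI := Fact.mk hp
  let q : K →* K ⧸ L.subgroupOf K := QuotientGroup.mk' _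
  have hcomm : ∀ a b : K ⧸ L.subgroupOf K, a * b = b * a := by
    intro a b
    induction a using QuotientGroup.induction_on with
    | H x =>
      induction b using QuotientGroup.induction_on with
      | H y =>
        show ((x * y : K) : K ⧸ L.subgroupOf K) = ((y * x : K) : K ⧸ L.subgroupOf K)
        rw [QuotientGroup.eq, Subgroup.mem_subgroupOf]
        have := hab (Subgroup.commutator_mem_commutator (y⁻¹).2 (x⁻¹).2)
        simpa [commutatorElement_def, mul_assoc] using this
  set a := r.factorization p with ha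
  let M : Subgroup H :=
    { carrier := {x | ∃ hx : x ∈ K, q ⟨x, hx⟩ ^ (p ^ a) = 1}
      one_mem' := ⟨K.one_mem, by rw [show (⟨1, _⟩ : K) = 1 from rfl, map_one, one_pow]⟩
      mul_mem' := fun {x y} ⟨hx, hx'⟩ ⟨hy, hy'⟩ => ⟨K.mul_mem hx hy, by
        rw [show (⟨x * y, _⟩ : K) = ⟨x, hx⟩ * ⟨y, hy⟩ from rfl, map_mul,
          (show Commute (q ⟨x, hx⟩) (q ⟨y, hy⟩) from hcomm _ _).mul_pow, hx', hy', one_mul]⟩
      inv_mem' := fun {x} ⟨hx, hx'⟩ => ⟨K.inv_mem hx, by
        rw [show (⟨x⁻¹, _⟩ : K) = (⟨x, hx⟩ : K)⁻¹ from rfl, map_inv, inv_pow, hx', inv_one]⟩ }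
  have hMn : M.Normal := ⟨fun x ⟨hx, hx'⟩ g => ⟨(inferInstance : K.Normal).conj_mem x hx g, by
    rw [← map_pow] at hx' ⊢
    rw [QuotientGroup.mk'_apply, QuotientGroup.eq_one_iff, Subgroup.mem_subgroupOf,
      Subgroup.coe_pow] at hx' ⊢
    show (g * x * g⁻¹) ^ (p ^ a) ∈ L
    rw [conj_pow]
    exact (inferInstance : L.Normal).conj_mem _ hx' g⟩⟩
  have hLM : L ≤ M := fun x hx => ⟨hLK.le hx, by
    rw [show q ⟨x, hLK.le hx⟩ = 1 from (QuotientGroup.eq_one_iff _).mpr (Subgroup.mem_subgroupOf.mpr hx),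
      one_pow]⟩
  rcases hchief M hMn hLM (fun x hx => hx.1) with hM | hM
  · exfalso
    have hpc : p ∣ Nat.card (K ⧸ L.subgroupOf K) := by rw [← Subgroup.index_eq_card, ← hr]; exact hpr
    obtain ⟨z, hz⟩ := exists_prime_orderOf_dvd_card' p hpc
    obtain ⟨x, rfl⟩ := QuotientGroup.mk'_surjective _ z
    have ha1 : p ∣ p ^ a := dvd_pow_self p (hp.factorization_pos_of_dvd hr0 hpr).ne'
    have hx : (x : H) ∈ M := ⟨x.2, by
      show q x ^ (p ^ a) = 1
      rw [← orderOf_dvd_iff_pow_eq_one, hz]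
      exact ha1⟩
    rw [hM] at hx
    rw [show QuotientGroup.mk' (L.subgroupOf K) x = 1 from
      (QuotientGroup.eq_one_iff _).mpr (Subgroup.mem_subgroupOf.mpr hx), orderOf_one] at hz
    exact hp.one_lt.ne hz
  · have hP : IsPGroup p (K ⧸ L.subgroupOf K) := by
      intro z
      obtain ⟨x, rfl⟩ := QuotientGroup.mk'_surjective _ z
      exact ⟨a, (hM.ge x.2).2⟩
    obtain ⟨k, hk⟩ := IsPGroup.iff_card.mp hP
    exact ⟨p, k, hp, by rw [hr, Subgroup.index_eq_card, hk]⟩

/-- If all Sylow subgroups are abelian, restriction to a normal subgroup with abelian quotient of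
prime power order is never a proper multiple of an irreducible character. -/
theorem not_ramified {p k : ℕ} [Fact p.Prime] (L : Subgroup K) [L.Normal] (hind : L.index = p ^ k)
    (hcomm : ∀ a b : K, a * b * a⁻¹ * b⁻¹ ∈ L)
    (hP : ∀ P : Sylow p K, ∀ a ∈ P, ∀ b ∈ P, a * b = b * a) {θ : K → ℂ} (hθ : IsIrrCharacter K θ)
    {φ : L → ℂ} (hφ : IsIrrCharacter L φ) {e : ℕ} (he : (fun n : L => θ n) = (e : ℂ) • φ) :
    e = 1 := by
  classical
  haveI := Fintype.ofFinite L
  have he0 : e ≠ 0 := by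
    rintro rfl
    exact IsIrrCharacter.apply_one_ne_zero hθ (by simpa using congrFun he 1)
  have heC : (e : ℂ) ≠ 0 := Nat.cast_ne_zero.mpr he0
  let P : Sylow p K := default
  have hinv : ∀ (g : K) (n : L),
      φ ⟨g * n * g⁻¹, (inferInstance : L.Normal).conj_mem (n : K) n.2 g⟩ = φ n := by
    intro g n
    refine mul_left_cancel₀ heC ?_
    have h1 := congrFun he ⟨g * n * g⁻¹, (inferInstance : L.Normal).conj_mem (n : K) n.2 g⟩
    have h2 := congrFun he n
    simp only [Pi.smul_apply, smul_eq_mul] at h1 h2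
    rw [← h1, ← h2]
    exact IsCharacter.isClassFunction (IsIrrCharacter.isCharacter hθ) (n : K) g
  obtain ⟨χ, hχ, hext⟩ := Cfsg.Agent.S0897.result p L ⟨k, hind⟩ P
    (fun x hx y hy => hP P x hx.1 y hy) (fun lam hlam h1 => by
      obtain ⟨l, rfl⟩ := IsCharacter.exists_monoidHom hlam h1
      letI : CommGroup ↥(P : Subgroup K) :=
        { (inferInstance : Group ↥(P : Subgroup K)) with
          mul_comm := fun a b => Subtype.ext (hP P _ a.2 _ b.2) }
      letI : CommGroup ↥((P : Subgroup K) ⊓ L) :=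
        { (inferInstance : Group ↥((P : Subgroup K) ⊓ L)) with
          mul_comm := fun a b => Subtype.ext (hP P _ a.2.1 _ b.2.1) }
      obtain ⟨g, hg⟩ := Cfsg.Agent.Struct.Schur.exists_extend
        Cfsg.Agent.Struct.Schur.complexUnits_divisible (Subgroup.inclusion inf_le_left)
        (Subgroup.inclusion_injective _) l
      exact ⟨_, IsIrrCharacter.isCharacter (isIrrCharacter_monoidHom g), by simp,
        fun x => congrArg Units.val (DFunLike.congr_fun hg x)⟩) φ hφ hinv
  letI : CommGroup (K ⧸ L) :=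
    { (inferInstance : Group (K ⧸ L)) with
      mul_comm := fun x y => by
        induction x using QuotientGroup.induction_on with
        | H a =>
          induction y using QuotientGroup.induction_on with
          | H b =>
            show ((a * b : K) : K ⧸ L) = ((b * a : K) : K ⧸ L)
            rw [QuotientGroup.eq]
            have := hcomm b⁻¹ a⁻¹
            simpa [mul_assoc] using this }
  haveI : Finite ((K ⧸ L) →* ℂˣ) := by
    refine Nat.finite_of_card_ne_zero ?_
    rw [CommGroup.card_monoidHom_of_hasEnoughRootsOfUnity (K ⧸ L) ℂ]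
    exact Nat.card_pos.ne'
  haveI := Fintype.ofFinite ((K ⧸ L) →* ℂˣ)
  let Sl : ((K ⧸ L) →* ℂˣ) → ℂ := fun l =>
    ∑ x : K, (l (x : K ⧸ L) : ℂ) * (χ x * conj (θ x))
  have hsum : ∑ l, Sl l ≠ 0 := by
    simp only [Sl]
    rw [Finset.sum_comm]
    simp only [← Finset.sum_mul, sum_dual_eq, QuotientGroup.eq_one_iff, ite_mul, zero_mul]
    rw [← sum_subgroup_eq_sum_ite L fun x => (Nat.card (K ⧸ L) : ℂ) * (χ x * conj (θ x))]
    have h1 : ∀ n : L, χ n * conj (θ n) = (e : ℂ) * (φ n * conj (φ n)) := fun n => by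
      have h2 := congrFun he n
      simp only [Pi.smul_apply, smul_eq_mul] at h2
      rw [hext n, h2, map_mul, map_natCast]
      ring
    simp only [h1, ← Finset.mul_sum]
    rw [sum_self_eq_card hφ]
    simp [heC, Nat.card_pos.ne']
  obtain ⟨l, -, hl⟩ := Finset.exists_ne_zero_of_sum_ne_zero hsum
  let l' : K →* ℂˣ := l.comp (QuotientGroup.mk' L)
  obtain ⟨d, hd⟩ := IsCharacter.exists_degree (IsIrrCharacter.isCharacter hχ)
  have hirr := (exists_twist_character l' hχ hd).1
  have heq : (fun x => (l' x : ℂ) * χ x) = θ := by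
    by_contra hne
    apply hl
    have h1 := IsIrrCharacter.classInner_eq_zero hirr hθ hne
    rw [classInner] at h1
    have h2 := (mul_eq_zero.mp h1).resolve_left
      (inv_ne_zero (Nat.cast_ne_zero.mpr Nat.card_pos.ne'))
    rw [← h2]
    exact Finset.sum_congr rfl fun x _ => (mul_assoc _ _ _).symm
  have h1 := congrFun he 1
  simp only [Pi.smul_apply, smul_eq_mul, OneMemClass.coe_one] at h1
  rw [← congrFun heq 1, map_one, Units.val_one, one_mul] at h1
  have h2 := hext 1
  rw [OneMemClass.coe_one] at h2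
  rw [h2] at h1
  have h3 : (1 : ℂ) * φ 1 = (e : ℂ) * φ 1 := by rw [one_mul]; exact h1
  exact_mod_cast (mul_right_cancel₀ (IsIrrCharacter.apply_one_ne_zero hφ) h3).symm

end Cfsg.Agent.Char.RelM
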