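import Cfsg.Agent.S4496
import Cfsg.Agent.Lib.Solv.Basic
import Mathlib.GroupTheory.Transfer
import Mathlib.GroupTheory.Solvable

/-!
# A self-centralizing element of prime order
-/

set_option autoImplicit false
set_option linter.style.haveILetI false
set_option linter.unusedSectionVars false

namespace Cfsg.Agent.Char.SelfCentPrime

open Subgroup
open scoped commutatorElement

variable {G : Type*} [Group G] [Finite G] {p : ℕ} [hp : Fact p.Prime] {x : G}

theorem ne_one (hx : orderOf x = p) : x ≠ 1 := fun h => hp.out.ne_one (by rw [← hx, h, orderOf_one])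

theorem card_zp (hx : orderOf x = p) : Nat.card (zpowers x) = p := by rw [Nat.card_zpowers, hx]

theorem mem_of_commute (hC : centralizer ({x} : Set G) = zpowers x) {y : G} (h : y * x = x * y) :
    y ∈ zpowers x := by
  rw [← hC]
  exact mem_centralizer_singleton_iff.2 h

theorem zpowers_eq_of_mem (hx : orderOf x = p) {y : G} (hy : y ∈ zpowers x) (hy1 : y ≠ 1) :
    zpowers y = zpowers x := by
  refine eq_of_le_of_card_ge (zpowers_le.mpr hy) ?_
  rcases (Nat.dvd_prime hp.out).1 (card_zp hx ▸ (zpowers x).orderOf_dvd_natCard hy) with h | h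
  · exact absurd (orderOf_eq_one_iff.mp h) hy1
  · rw [card_zp hx, Nat.card_zpowers, h]

theorem commute_of_commute (hx : orderOf x = p) {y g : G} (hy : y ∈ zpowers x) (hy1 : y ≠ 1)
    (h : g * y = y * g) : g * x = x * g := by
  have hm : x ∈ zpowers y := by rw [zpowers_eq_of_mem hx hy hy1]; exact mem_zpowers x
  obtain ⟨k, hk⟩ := mem_zpowers_iff.mp hm
  rw [← hk]
  exact ((show Commute g y from h).zpow_right k).eq

theorem exists_sylow (hx : orderOf x = p) (hC : centralizer ({x} : Set G) = zpowers x) :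
    ∃ P : Sylow p G, (P : Subgroup G) = zpowers x := by
  obtain ⟨P, hPle⟩ := (IsPGroup.of_card (n := 1) (by rw [pow_one, card_zp hx]) :
    IsPGroup p (zpowers x)).exists_le_sylow
  refine ⟨P, le_antisymm (fun y hy => mem_of_commute hC ?_) hPle⟩
  have hxP : x ∈ (P : Subgroup G) := hPle (mem_zpowers x)
  haveI : Nontrivial (P : Subgroup G) :=
    ⟨⟨x, hxP⟩, 1, fun h => ne_one hx (congrArg Subtype.val h)⟩
  haveI : Nontrivial (center (P : Subgroup G)) := P.isPGroup'.center_nontrivial
  obtain ⟨z, hz⟩ := exists_ne (1 : center (P : Subgroup G))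
  have hzc : ∀ w ∈ (P : Subgroup G), w * ((z : (P : Subgroup G)) : G) = ((z : (P : Subgroup G)) : G) * w :=
    fun w hw => congrArg Subtype.val (mem_center_iff.1 z.2 ⟨w, hw⟩)
  exact commute_of_commute hx (mem_of_commute hC (hzc x hxP).symm)
    (fun h => hz (Subtype.ext (Subtype.ext h))) (hzc y hy)

theorem mem_normalizer_of_conj (hx : orderOf x = p) {g y : G} (hy : y ∈ zpowers x) (hy1 : y ≠ 1)
    (h : g * y * g⁻¹ ∈ zpowers x) : g ∈ normalizer (zpowers x : Set G) := by
  refine mem_normalizer_iff_map_conj_eq.mpr ?_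
  have h1 : g * y * g⁻¹ ≠ 1 := fun e => hy1 (conj_eq_one_iff.mp e)
  conv_lhs => rw [← zpowers_eq_of_mem hx hy hy1]
  rw [← zpowers_eq_of_mem hx h h1, MonoidHom.map_zpowers]
  rfl

theorem inf_normalizer_eq_bot (hx : orderOf x = p) (hC : centralizer ({x} : Set G) = zpowers x)
    (S : Subgroup G) [hS : S.Normal] (hp' : ¬ p ∣ Nat.card S) :
    S ⊓ normalizer (zpowers x : Set G) = ⊥ := by
  have hdisj : ∀ y ∈ S, y ∈ zpowers x → y = 1 := fun y hyS hy => by
    by_contra h
    refine hp' ?_
    rw [← card_zp hx, ← zpowers_eq_of_mem hx hy h, Nat.card_zpowers]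
    exact S.orderOf_dvd_natCard hyS
  refine (eq_bot_iff_forall _).2 fun s hs => ?_
  have h1 : s * x * s⁻¹ * x⁻¹ = 1 := hdisj _ (by
      rw [show s * x * s⁻¹ * x⁻¹ = s * (x * s⁻¹ * x⁻¹) by group]
      exact mul_mem hs.1 (hS.conj_mem _ (inv_mem hs.1) x))
    (mul_mem ((mem_normalizer_iff.1 hs.2 x).1 (mem_zpowers x)) (inv_mem (mem_zpowers x)))
  exact hdisj s hs.1 (mem_of_commute hC (mul_inv_eq_iff_eq_mul.mp (mul_inv_eq_one.mp h1)))

theorem le_commutator (hx : orderOf x = p) (hC : centralizer ({x} : Set G) = zpowers x)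
    (S : Subgroup G) [hS : S.Normal] (hp' : ¬ p ∣ Nat.card S) : S ≤ commutator G := by
  let f : S → S := fun s => ⟨(s : G) * x * (s : G)⁻¹ * x⁻¹, by
    rw [show (s : G) * x * (s : G)⁻¹ * x⁻¹ = (s : G) * (x * (s : G)⁻¹ * x⁻¹) by group]
    exact mul_mem s.2 (hS.conj_mem _ (inv_mem s.2) x)⟩
  have hinj : Function.Injective f := fun s t h => by
    have h' : (s : G) * x * (s : G)⁻¹ * x⁻¹ = (t : G) * x * (t : G)⁻¹ * x⁻¹ := congrArg Subtype.val h
    have hm : ((t : G)⁻¹ * s) ∈ zpowers x := mem_of_commute hC (by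
      calc (t : G)⁻¹ * s * x = (t : G)⁻¹ * ((s : G) * x * (s : G)⁻¹ * x⁻¹) * x * s := by group
        _ = _ := by rw [h']; group)
    have hmem : ((t : G)⁻¹ * s) ∈ S ⊓ normalizer (zpowers x : Set G) :=
      Subgroup.mem_inf.mpr ⟨mul_mem (inv_mem t.2) s.2, (le_normalizer : zpowers x ≤ normalizer (zpowers x : Set G)) hm⟩
    rw [inf_normalizer_eq_bot hx hC S hp', mem_bot] at hmem
    exact Subtype.ext (inv_mul_eq_one.1 hmem).symm
  intro s hs
  obtain ⟨r, hr⟩ := Finite.surjective_of_injective hinj ⟨s, hs⟩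
  have hr' : (r : G) * x * (r : G)⁻¹ * x⁻¹ = s := congrArg Subtype.val hr
  rw [← hr', _root_.commutator_def]
  exact commutator_mem_commutator (mem_top _) (mem_top _)

theorem commutator_le (hx : orderOf x = p) (hC : centralizer ({x} : Set G) = zpowers x)
    (S : Subgroup G) [S.Normal] (hp' : p ∣ Nat.card S) : commutator G ≤ S :=
  (Cfsg.Agent.S4496.result p hp.out x hx hC S).1 hp'

/-- The members of the subgroup in one conjugacy class. -/
theorem card_fibre (hx : orderOf x = p) (hC : centralizer ({x} : Set G) = zpowers x) [Fintype G]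
    [DecidableEq G] [DecidablePred (· ∈ zpowers x)] [DecidableEq (ConjClasses G)] {y : G}
    (hy : y ∈ zpowers x) (hy1 : y ≠ 1) :
    ((Finset.univ.filter fun z => z ∈ zpowers x ∧ z ≠ 1).filter
      fun z => ConjClasses.mk z = ConjClasses.mk y).card =
      (zpowers x).relIndex (normalizer (zpowers x : Set G)) := by
  let N := normalizer (zpowers x : Set G)
  letI act : MulAction N G := MulAction.compHom G (MulAut.conj.comp N.subtype)
  have hsm : ∀ (n : N) (z : G), n • z = (n : G) * z * (n : G)⁻¹ := fun _ _ => rfl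
  have horb : ((((Finset.univ.filter fun z => z ∈ zpowers x ∧ z ≠ 1).filter fun z => ConjClasses.mk z = ConjClasses.mk y) : Finset G) : Set G) = MulAction.orbit N y := by
    ext z
    rw [Finset.mem_coe, Finset.mem_filter, ConjClasses.mk_eq_mk_iff_isConj]
    constructor
    · rintro ⟨hz, hconj⟩
      obtain ⟨b, hb⟩ := isConj_iff.mp hconj.symm
      refine ⟨⟨b, mem_normalizer_of_conj hx hy hy1 (hb ▸ ((Finset.mem_filter.mp hz).2).1)⟩, ?_⟩
      exact hb
    · rintro ⟨n, rfl⟩
      refine ⟨Finset.mem_filter.mpr ⟨Finset.mem_univ _, ?_, ?_⟩, (show IsConj y ((n : G) * y * (n : G)⁻¹) from isConj_iff.mpr ⟨(n : G), rfl⟩).symm⟩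
      · exact (mem_normalizer_iff.mp n.2 y).mp hy
      · exact fun e => hy1 (conj_eq_one_iff.mp (show (n : G) * y * (n : G)⁻¹ = 1 from e))
  have hstab : MulAction.stabilizer N y = (zpowers x).subgroupOf N := by
    ext n
    rw [MulAction.mem_stabilizer_iff, hsm, mem_subgroupOf, mul_inv_eq_iff_eq_mul]
    refine ⟨fun h => mem_of_commute hC (commute_of_commute hx hy hy1 h), fun h => ?_⟩
    obtain ⟨i, hi⟩ := mem_zpowers_iff.mp h
    obtain ⟨j, hj⟩ := mem_zpowers_iff.mp hy
    rw [← hi, ← hj, ← zpow_add, ← zpow_add, add_comm]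
  rw [← Set.ncard_coe_finset, horb, ← Nat.card_coe_set_eq, Subgroup.relIndex, ← hstab,
    MulAction.index_stabilizer, Nat.card_coe_set_eq]

/-- Classes of elements of order `p` and the normalizer. -/
theorem count (hx : orderOf x = p) (hC : centralizer ({x} : Set G) = zpowers x) {t : ℕ}
    (ht : Nat.card {C : ConjClasses G // ∃ g ∈ C.carrier, orderOf g = p} = t) :
    t * (zpowers x).relIndex (normalizer (zpowers x : Set G)) = p - 1 := by
  classical
  haveI := Fintype.ofFinite G
  obtain ⟨P, hP⟩ := exists_sylow hx hC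
  let S : Finset G := Finset.univ.filter fun y => y ∈ zpowers x ∧ y ≠ 1
  let T : Finset (ConjClasses G) := Finset.univ.filter fun C => ∃ g ∈ C.carrier, orderOf g = p
  have hordS : ∀ y ∈ S, orderOf y = p := fun y hy => by
    obtain ⟨h1, h2⟩ := (Finset.mem_filter.mp hy).2
    rw [← Nat.card_zpowers, zpowers_eq_of_mem hx h1 h2, card_zp hx]
  have hST : ∀ y ∈ S, ConjClasses.mk y ∈ T := fun y hy =>
    Finset.mem_filter.mpr ⟨Finset.mem_univ _, y, ConjClasses.mem_carrier_mk, hordS y hy⟩
  have hScard : S.card = p - 1 := by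
    have e : S = (Finset.univ.filter fun y => y ∈ zpowers x).erase 1 := by
      ext y; simp [S, and_comm]
    rw [e, Finset.card_erase_of_mem (by simp), ← Fintype.card_subtype, ← Nat.card_eq_fintype_card, card_zp hx]
  have hfib : ∀ C ∈ T, (S.filter fun y => ConjClasses.mk y = C).card =
      (zpowers x).relIndex (normalizer (zpowers x : Set G)) := by
    intro C hC'
    obtain ⟨g, hgC, hg⟩ := (Finset.mem_filter.mp hC').2
    obtain ⟨Q, hQ⟩ := (IsPGroup.of_card (n := 1) (by rw [pow_one, Nat.card_zpowers, hg]) :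
      IsPGroup p (zpowers g)).exists_le_sylow
    obtain ⟨a, ha⟩ := MulAction.exists_smul_eq G Q P
    have hy : a * g * a⁻¹ ∈ zpowers x := by
      rw [← hP, ← ha]
      exact ⟨g, hQ (mem_zpowers g), rfl⟩
    set y := a * g * a⁻¹ with hydef
    have hy1 : y ≠ 1 := fun e => hp.out.ne_one (by
      rw [← hg, conj_eq_one_iff.mp e, orderOf_one])
    have hCy : C = ConjClasses.mk y := by
      rw [ConjClasses.mem_carrier_iff_mk_eq] at hgC
      rw [← hgC, ConjClasses.mk_eq_mk_iff_isConj, isConj_iff]
      exact ⟨a, rfl⟩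
    rw [hCy]
    exact card_fibre hx hC hy hy1
  rw [← hScard, Finset.card_eq_sum_card_fiberwise hST, Finset.sum_congr rfl hfib, Finset.sum_const,
    smul_eq_mul, ← ht, Nat.card_eq_fintype_card, Fintype.card_subtype]

theorem card_normalizer (hx : orderOf x = p) :
    Nat.card (normalizer (zpowers x : Set G)) =
      p * (zpowers x).relIndex (normalizer (zpowers x : Set G)) := by
  conv_lhs => rw [← card_mul_index ((zpowers x).subgroupOf (normalizer (zpowers x : Set G))),
    Nat.card_congr (subgroupOfEquivOfLe le_normalizer).toEquiv, card_zp hx]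
  rfl

/-- The case of a central normalizer. -/
theorem complement (hx : orderOf x = p) (hC : centralizer ({x} : Set G) = zpowers x)
    (he : (zpowers x).relIndex (normalizer (zpowers x : Set G)) = 1) :
    (commutator G).index = p ∧ ¬ p ∣ Nat.card (commutator G) := by
  obtain ⟨P, hP⟩ := exists_sylow hx hC
  have hNC : normalizer ((P : Subgroup G) : Set G) ≤ centralizer ((P : Subgroup G) : Set G) := by
    intro n hn
    rw [hP] at hn ⊢
    have hn' : n ∈ zpowers x := relIndex_eq_one.mp he hn
    rw [mem_centralizer_iff]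
    intro y hy
    obtain ⟨i, rfl⟩ := mem_zpowers_iff.mp hn'
    obtain ⟨j, rfl⟩ := mem_zpowers_iff.mp hy
    rw [← zpow_add, ← zpow_add, add_comm]
  have hK := MonoidHom.ker_transferSylow_isComplement' P hNC
  set K := (MonoidHom.transferSylow P hNC).ker
  have hKi : K.index = p := by rw [hK.symm.index_eq_card, hP, card_zp hx]
  have hKp : ¬ p ∣ Nat.card K := by
    rw [← hK.index_eq_card]
    exact P.not_dvd_index
  have heq : commutator G = K := by
    refine le_antisymm ?_ (le_commutator hx hC K hKp)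
    haveI : IsMulCommutative (P : Subgroup G) := by
      rw [hP]; infer_instance
    rw [_root_.commutator_def, Subgroup.commutator_le]
    intro a _ b _
    show ⁅a, b⁆ ∈ (MonoidHom.transferSylow P hNC).ker
    rw [MonoidHom.mem_ker, map_commutatorElement, commutatorElement_eq_one_iff_mul_comm]
    exact mul_comm' _ _
  rw [heq]
  exact ⟨hKi, hKp⟩

theorem mem_commutator (hx : orderOf x = p) (hC : centralizer ({x} : Set G) = zpowers x)
    (he : (zpowers x).relIndex (normalizer (zpowers x : Set G)) ≠ 1) : zpowers x ≤ commutator G := by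
  obtain ⟨n, hn, hnP⟩ : ∃ n ∈ normalizer (zpowers x : Set G), n ∉ zpowers x := by
    by_contra h
    push Not at h
    exact he (relIndex_eq_one.mpr h)
  have h1 : n * x * n⁻¹ * x⁻¹ ∈ zpowers x :=
    mul_mem ((mem_normalizer_iff.1 hn x).1 (mem_zpowers x)) (inv_mem (mem_zpowers x))
  have h2 : n * x * n⁻¹ * x⁻¹ ≠ 1 := fun e =>
    hnP (mem_of_commute hC (mul_inv_eq_iff_eq_mul.mp (mul_inv_eq_one.mp e)))
  rw [← zpowers_eq_of_mem hx h1 h2, zpowers_le, _root_.commutator_def]
  exact commutator_mem_commutator (mem_top _) (mem_top _)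

theorem sup_normalizer (hx : orderOf x = p) (hC : centralizer ({x} : Set G) = zpowers x)
    (S : Subgroup G) [S.Normal] (hle : zpowers x ≤ S) : normalizer (zpowers x : Set G) ⊔ S = ⊤ := by
  obtain ⟨P, hP⟩ := exists_sylow hx hC
  have h := Sylow.normalizer_sup_eq_top (P.subtype (hP ▸ hle))
  rwa [Sylow.coe_subtype, map_subgroupOf_eq_of_le (hP ▸ hle), hP] at h

theorem index_commutator_dvd (hx : orderOf x = p) (hC : centralizer ({x} : Set G) = zpowers x)
    (he : (zpowers x).relIndex (normalizer (zpowers x : Set G)) ≠ 1) :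
    (commutator G).index ∣ (zpowers x).relIndex (normalizer (zpowers x : Set G)) := by
  have hle := mem_commutator hx hC he
  rw [← relIndex_top_right, ← sup_normalizer hx hC _ hle, relIndex_sup_right]
  exact relIndex_dvd_of_le_left _ hle

theorem card_prime_subgroups (hx : orderOf x = p) (hC : centralizer ({x} : Set G) = zpowers x) :
    Nat.card {H : Subgroup G // Nat.card H = p} = (normalizer (zpowers x : Set G)).index := by
  obtain ⟨P, hP⟩ := exists_sylow hx hC
  rw [← hP]
  refine Eq.trans ?_ (Sylow.card_eq_index_normalizer P)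
  have hsyl : ∀ Q : Sylow p G, Nat.card (Q : Subgroup G) = p := fun Q => by
    rw [Q.card_eq_multiplicity, ← P.card_eq_multiplicity, hP, card_zp hx]
  refine (Nat.card_eq_of_bijective (fun Q : Sylow p G => (⟨Q.toSubgroup, hsyl Q⟩ : {H : Subgroup G // Nat.card H = p}))
    ⟨fun Q R h => Sylow.ext (congrArg Subtype.val h), fun H => ?_⟩).symm
  obtain ⟨Q, hQ⟩ := (IsPGroup.of_card (n := 1) (by rw [pow_one, H.2]) : IsPGroup p H.1).exists_le_sylow
  exact ⟨Q, Subtype.ext (Subgroup.eq_of_le_of_card_ge hQ (by rw [hsyl Q, H.2])).symm⟩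

theorem centralizer_subgroupOf (hC : centralizer ({x} : Set G) = zpowers x) (D : Subgroup G)
    (hxD : x ∈ D) : centralizer ({(⟨x, hxD⟩ : D)} : Set D) = zpowers (⟨x, hxD⟩ : D) := by
  ext y
  rw [mem_centralizer_singleton_iff]
  constructor
  · intro h
    obtain ⟨i, hi⟩ := mem_zpowers_iff.mp (mem_of_commute hC (congrArg Subtype.val h))
    exact mem_zpowers_iff.mpr ⟨i, Subtype.ext (by rw [SubgroupClass.coe_zpow]; exact hi)⟩
  · intro h
    obtain ⟨i, hi⟩ := mem_zpowers_iff.mp h
    rw [← hi]
    exact (Commute.refl (⟨x, hxD⟩ : D)).zpow_left i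

/-- The second derived subgroup when it is proper in the first. -/
theorem derived (hx : orderOf x = p) (hC : centralizer ({x} : Set G) = zpowers x)
    (he : (zpowers x).relIndex (normalizer (zpowers x : Set G)) ≠ 1)
    (hne : ⁅commutator G, commutator G⁆ ≠ commutator G) :
    ¬ p ∣ Nat.card ↥⁅commutator G, commutator G⁆ ∧
      Nat.card (commutator G) = p * Nat.card ↥⁅commutator G, commutator G⁆ ∧
      Nat.card ↥⁅commutator G, commutator G⁆ = (normalizer (zpowers x : Set G)).index := by
  have hle := mem_commutator hx hC he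
  have hnd : ¬ p ∣ Nat.card ↥⁅commutator G, commutator G⁆ := fun h =>
    hne (le_antisymm (commutator_le_left (commutator G) (commutator G)) (commutator_le hx hC _ h))
  have hxD : x ∈ commutator G := hle (mem_zpowers x)
  let D : Subgroup G := commutator G
  have hmap : (commutator D).map D.subtype = ⁅D, D⁆ := D.map_subtype_commutator
  have hcD : Nat.card (commutator D) = Nat.card ↥⁅D, D⁆ := by
    rw [← hmap, card_map_of_injective D.subtype_injective]
  have hxD' : orderOf (⟨x, hxD⟩ : D) = p := by rw [← orderOf_coe]; exact hx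
  obtain ⟨-, -, hord, hcent⟩ := (Cfsg.Agent.S4496.result p hp.out (⟨x, hxD⟩ : D) hxD'
    (centralizer_subgroupOf hC D hxD) (commutator D)).2 (hcD ▸ hnd)
  have htop : (⊤ : Subgroup (D ⧸ commutator D)) = zpowers (QuotientGroup.mk (⟨x, hxD⟩ : D)) := by
    rw [← hcent, eq_comm, eq_top_iff]
    intro q _
    rw [mem_centralizer_singleton_iff]
    exact mul_comm (G := Abelianization D) q _
  have hidx : (commutator D).index = p := by
    rw [index_eq_card, ← card_top (G := D ⧸ commutator D), htop, Nat.card_zpowers, hord]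
  have hcard : Nat.card D = p * Nat.card ↥⁅D, D⁆ := by
    rw [← card_mul_index (commutator D), hidx, hcD, mul_comm]
  refine ⟨hnd, hcard, ?_⟩
  have hinf : D ⊓ normalizer (zpowers x : Set G) = zpowers x := by
    refine le_antisymm (fun n hn => mem_of_commute hC ?_) (le_inf hle le_normalizer)
    have h1 : n * x * n⁻¹ * x⁻¹ ∈ ⁅D, D⁆ ⊓ normalizer (zpowers x : Set G) :=
      ⟨commutator_mem_commutator hn.1 hxD, le_normalizer (mul_mem ((mem_normalizer_iff.1 hn.2 x).1
        (mem_zpowers x)) (inv_mem (mem_zpowers x)))⟩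
    rw [inf_normalizer_eq_bot hx hC _ hnd, mem_bot] at h1
    exact mul_inv_eq_iff_eq_mul.mp (mul_inv_eq_one.mp h1)
  have h1 : D.index = (zpowers x).relIndex (normalizer (zpowers x : Set G)) := by
    rw [← relIndex_top_right, ← sup_normalizer hx hC D hle, relIndex_sup_right,
      ← inf_relIndex_right D (normalizer (zpowers x : Set G)), hinf]
  refine (Nat.eq_of_mul_eq_mul_right (Nat.card_pos (α := normalizer (zpowers x : Set G))) ?_).symm
  rw [index_mul_card, ← index_mul_card D, h1, hcard, card_normalizer hx]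
  ring

end Cfsg.Agent.Char.SelfCentPrime
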