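import Mathlib.FieldTheory.Finite.Basic
import Mathlib.RepresentationTheory.Basic
import Mathlib.LinearAlgebra.BilinearForm.Properties
import Mathlib.RingTheory.IntegralDomain
import Mathlib.GroupTheory.Exponent
import Mathlib.RingTheory.Adjoin.Basic
import Mathlib.GroupTheory.SpecificGroups.Cyclic

/-!
Self-dual irreducible modules of abelian groups over finite fields.
-/

set_option autoImplicit false

namespace Cfsg.Agent.Char.SelfDual

open Module

variable {F : Type*} [Field F] [Fintype F] {H : Type*} [CommGroup H] [Finite H]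
  {V : Type*} [AddCommGroup V] [Module F V] [FiniteDimensional F V] (ρ : Representation F H V)

theorem small (h1 : finrank F V = 1) (hfaith : Function.Injective ρ)
    (hB : ∃ B : LinearMap.BilinForm F V, B.Nondegenerate ∧ ∀ h : H, ∀ x y : V, B (ρ h x) (ρ h y) = B x y) :
    Nat.card H ≤ 2 := by
  obtain ⟨B, hB, hinv⟩ := hB
  obtain ⟨v, hv, hspan⟩ := finrank_eq_one_iff'.1 h1
  have hBv : B v v ≠ 0 := fun e => hv (hB.1 v fun y => by
    obtain ⟨c, rfl⟩ := hspan y
    rw [map_smul, e, smul_zero])
  have hc : ∀ h : H, ρ h v = v ∨ ρ h v = -v := by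
    intro h
    obtain ⟨c, hc⟩ := hspan (ρ h v)
    have h2 := hinv h v v
    rw [← hc] at h2 ⊢
    simp only [map_smul, LinearMap.smul_apply, smul_eq_mul] at h2
    have : c * c = 1 := mul_right_cancel₀ hBv (by linear_combination h2)
    rcases mul_self_eq_one_iff.1 this with rfl | rfl
    · exact Or.inl (one_smul _ _)
    · exact Or.inr (neg_one_smul _ _)
  classical
  have hinj : Function.Injective fun h : H => (decide (ρ h v = v)) := by
    intro a b hab
    apply hfaith
    have hv' : ρ a v = ρ b v := by
      rcases hc a with ha | ha <;> rcases hc b with hb | hb <;> simp_all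
    refine LinearMap.ext fun y => ?_
    obtain ⟨c, rfl⟩ := hspan y
    rw [map_smul, map_smul, hv']
  exact (Nat.card_le_card_of_injective _ hinj).trans (by simp)

theorem big (hfaith : Function.Injective ρ)
    (hirr : ∀ U : Submodule F V, (∀ h : H, ∀ u ∈ U, ρ h u ∈ U) → U = ⊥ ∨ U = ⊤)
    (h2 : 2 ≤ finrank F V) :
    (∃ B : LinearMap.BilinForm F V, B.Nondegenerate ∧ ∀ h : H, ∀ x y : V, B (ρ h x) (ρ h y) = B x y) ↔
      (Even (finrank F V) ∧ Nat.card H ∣ Fintype.card F ^ (finrank F V / 2) + 1) := by
  classical
  set R := Algebra.adjoin F (Set.range ρ) with hR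
  haveI : IsMulCommutative R := Algebra.isMulCommutative_adjoin F (by
    rintro _ ⟨a, rfl⟩ _ ⟨b, rfl⟩
    rw [← map_mul, mul_comm, map_mul])
  have hcommR : ∀ a b : R, a * b = b * a := fun a b => mul_comm' a b
  letI : CommRing R := { (inferInstance : Ring R) with mul_comm := hcommR }
  let u : H →* R :=
    { toFun := fun h => ⟨ρ h, Algebra.subset_adjoin ⟨h, rfl⟩⟩
      map_one' := Subtype.ext (map_one ρ)
      map_mul' := fun a b => Subtype.ext (map_mul ρ a b) }
  have hu : Function.Injective u := fun a b e => hfaith (congrArg Subtype.val e)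
  have hinjR : ∀ a : R, a ≠ 0 → ∀ v, (a : Module.End F V) v = 0 → v = 0 := by
    intro a ha v hv
    have hU := hirr (LinearMap.ker (a : Module.End F V)) (fun h w hw => by
      rw [LinearMap.mem_ker] at hw ⊢
      have e := congrArg (fun f : R => (f : Module.End F V) w) (hcommR a (u h))
      exact e.trans (by show ρ h ((a : Module.End F V) w) = 0; rw [hw, map_zero]))
    rcases hU with e | e
    · exact (Submodule.eq_bot_iff _).1 e v (LinearMap.mem_ker.2 hv)
    · exact absurd (Subtype.ext (LinearMap.ker_eq_top.1 e)) ha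
  obtain ⟨v₀, hv₀⟩ : ∃ v : V, v ≠ 0 := by
    haveI : Nontrivial V := Module.nontrivial_of_finrank_pos (R := F) (by omega)
    exact exists_ne 0
  haveI : Nontrivial R := ⟨⟨0, 1, fun e => hv₀ (by
    have := congrArg (fun f : R => (f : Module.End F V) v₀) e
    simpa using this.symm)⟩⟩
  haveI : NoZeroDivisors R := ⟨fun {a b} hab => or_iff_not_imp_left.2 fun ha => by
    refine Subtype.ext (LinearMap.ext fun v => ?_)
    refine hinjR a ha _ ?_
    exact congrArg (fun f : R => (f : Module.End F V) v) hab⟩
  haveI : IsDomain R := NoZeroDivisors.to_isDomain R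
  haveI : Finite V := Module.finite_of_finite F
  haveI : Finite (Module.End F V) := Finite.of_injective _ DFunLike.coe_injective
  haveI : Fintype R := Fintype.ofFinite R
  let e₀ : R →ₗ[F] V :=
    { toFun := fun a => (a : Module.End F V) v₀
      map_add' := fun a b => rfl
      map_smul' := fun c a => rfl }
  have he : Function.Bijective e₀ := by
    refine ⟨(injective_iff_map_eq_zero e₀).2 fun a ha => ?_, LinearMap.range_eq_top.1 ?_⟩
    · by_contra h
      exact hv₀ (hinjR a h v₀ ha)
    · refine (hirr _ ?_).resolve_left fun e => hv₀ ((Submodule.eq_bot_iff _).1 e v₀ ⟨1, rfl⟩)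
      rintro h _ ⟨a, rfl⟩
      exact ⟨u h * a, rfl⟩
  let e := LinearEquiv.ofBijective e₀ he
  have hrank : finrank F R = finrank F V := e.finrank_eq
  have hact : ∀ (h : H) (x : V), e.symm (ρ h x) = u h * e.symm x := fun h x => by
    rw [e.symm_apply_eq]
    show ρ h x = ρ h (e (e.symm x))
    rw [e.apply_symm_apply]
  letI : Field R := Fintype.fieldOfDomain R
  constructor
  · rintro ⟨B, hB, hinv⟩
    have hadj : ∀ a : R, ∃ b : R, ∀ x y, B ((a : Module.End F V) x) y = B x ((b : Module.End F V) y) := by
      rintro ⟨a, ha⟩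
      induction ha using Algebra.adjoin_induction with
      | mem a ha =>
        obtain ⟨h, rfl⟩ := ha
        refine ⟨u h⁻¹, fun x y => ?_⟩
        have := hinv h x (ρ h⁻¹ y)
        rw [Representation.self_inv_apply] at this
        exact this
      | algebraMap c => exact ⟨⟨_, Subalgebra.algebraMap_mem R c⟩, fun x y => by simp⟩
      | add a b _ _ ha hb =>
        obtain ⟨a', ha'⟩ := ha
        obtain ⟨b', hb'⟩ := hb
        exact ⟨a' + b', fun x y => by simp [ha' x y, hb' x y]⟩
      | mul a b _ _ ha hb =>
        obtain ⟨a', ha'⟩ := ha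
        obtain ⟨b', hb'⟩ := hb
        exact ⟨b' * a', fun x y => (ha' (b x) y).trans (hb' x _)⟩
    choose τ hτ using hadj
    have huniq : ∀ (a b : R), (∀ x y, B ((a : Module.End F V) x) y = B x ((b : Module.End F V) y)) →
        τ a = b := by
      intro a b hb
      refine Subtype.ext (LinearMap.ext fun y => sub_eq_zero.1 (hB.2 _ fun x => ?_))
      rw [map_sub, ← hτ a x y, ← hb x y, sub_self]
    let τ' : R →ₐ[F] R :=
      { toFun := τ
        map_one' := huniq _ _ fun x y => rfl
        map_zero' := huniq _ _ fun x y => by simp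
        map_add' := fun a b => huniq _ _ fun x y => by
          show B ((a : Module.End F V) x + (b : Module.End F V) x) y = B x ((τ a : Module.End F V) y + (τ b : Module.End F V) y)
          rw [map_add, LinearMap.add_apply, map_add, hτ a, hτ b]
        map_mul' := fun a b => huniq _ _ fun x y => by
          rw [hcommR (τ a) (τ b)]
          show B ((a : Module.End F V) ((b : Module.End F V) x)) y = B x ((τ b : Module.End F V) ((τ a : Module.End F V) y))
          rw [hτ a, hτ b]
        commutes' := fun c => huniq _ _ fun x y => by simp }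
    have hτu : ∀ h, τ' (u h) = u h⁻¹ := fun h => huniq _ _ fun x y => by
      have := hinv h x (ρ h⁻¹ y)
      rw [Representation.self_inv_apply] at this
      exact this
    have hext : ∀ f g : R →ₐ[F] R, (∀ h, f (u h) = g (u h)) → f = g := by
      intro f g hfg
      refine AlgHom.ext fun a => ?_
      obtain ⟨a, ha⟩ := a
      induction ha using Algebra.adjoin_induction with
      | mem a ha => obtain ⟨h, rfl⟩ := ha; exact hfg h
      | algebraMap c => exact (f.commutes c).trans (g.commutes c).symm
      | add a b ha hb e1 e2 =>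
        show f (⟨a, ha⟩ + ⟨b, hb⟩) = g (⟨a, ha⟩ + ⟨b, hb⟩)
        rw [map_add, map_add, e1, e2]
      | mul a b ha hb e1 e2 =>
        show f (⟨a, ha⟩ * ⟨b, hb⟩) = g (⟨a, ha⟩ * ⟨b, hb⟩)
        rw [map_mul, map_mul, e1, e2]
    obtain ⟨⟨j, hj⟩, hjτ⟩ := (FiniteField.bijective_frobeniusAlgHom_pow F R).2 τ'
    have hjτ' : FiniteField.frobeniusAlgHom F R ^ j = τ' := hjτ
    have hsq : τ' * τ' = 1 := hext _ _ fun h => by
      show τ' (τ' (u h)) = u h
      rw [hτu, hτu, inv_inv]
    have hdvd : finrank F R ∣ j + j := by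
      rw [← FiniteField.orderOf_frobeniusAlgHom F R]
      exact orderOf_dvd_of_pow_eq_one (by rw [pow_add, hjτ', hsq])
    have hj0 : j ≠ 0 := by
      rintro rfl
      rw [pow_zero] at hjτ'
      have hpm : ∀ h, u h = 1 ∨ u h = -1 := fun h => by
        refine mul_self_eq_one_iff.1 ?_
        have e1 : u h⁻¹ = u h := by rw [← hτu, ← hjτ']; rfl
        calc u h * u h = u h⁻¹ * u h := by rw [e1]
          _ = 1 := by rw [← map_mul, inv_mul_cancel, map_one]
      have hbot : R = ⊥ := by
        rw [eq_bot_iff, hR, Algebra.adjoin_le_iff]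
        rintro _ ⟨h, rfl⟩
        rcases hpm h with e | e
        · rw [show ρ h = 1 from congrArg Subtype.val e]; exact one_mem _
        · rw [show ρ h = -1 from congrArg Subtype.val e]; exact neg_mem (one_mem _)
      haveI : Nontrivial (Module.End F V) := ⟨⟨1, 0, fun e => hv₀ (LinearMap.congr_fun e v₀)⟩⟩
      have h1 : finrank F R = 1 := by rw [hbot]; exact Subalgebra.finrank_bot
      omega
    have hn : finrank F R = j + j := by
      obtain ⟨c, hc⟩ := hdvd
      rcases c with _ | _ | c
      · omega
      · omega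
      · rw [Nat.mul_add, Nat.mul_add] at hc; omega
    refine ⟨⟨j, by omega⟩, ?_⟩
    rw [show finrank F V / 2 = j by omega]
    haveI : IsCyclic H := isCyclic_of_subgroup_isDomain u hu
    rw [← IsCyclic.exponent_eq_card]
    refine Monoid.exponent_dvd_of_forall_pow_eq_one fun h => hu ?_
    rw [map_pow, map_one, pow_succ, show u h ^ Fintype.card F ^ j = τ' (u h) from ?_, hτu, ← map_mul,
      inv_mul_cancel, map_one]
    rw [← hjτ', AlgHom.coe_pow, FiniteField.coe_frobeniusAlgHom, pow_iterate]
  · rintro ⟨-, hdvd⟩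
    set q := Fintype.card F ^ (finrank F V / 2) with hq
    let σ : R →ₐ[F] R := FiniteField.frobeniusAlgHom F R ^ (finrank F V / 2)
    have hσ : ∀ x, σ x = x ^ q := fun x => by
      show (FiniteField.frobeniusAlgHom F R ^ (finrank F V / 2)) x = _
      rw [AlgHom.coe_pow, FiniteField.coe_frobeniusAlgHom, pow_iterate]
    have hσu : ∀ h, u h * σ (u h) = 1 := fun h => by
      rw [hσ, ← pow_succ', ← map_pow]
      obtain ⟨c, hc⟩ := hdvd
      rw [hc, pow_mul, pow_card_eq_one', one_pow, map_one]
    obtain ⟨T, hT⟩ : ∃ T : Module.Dual F R, T 1 ≠ 0 := by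
      by_contra h
      simp only [not_exists, not_not] at h
      exact one_ne_zero ((Module.forall_dual_apply_eq_zero_iff F (1 : R)).1 h)
    let B : LinearMap.BilinForm F V :=
      ((LinearMap.mul F R).compl₂ σ.toLinearMap).compr₂ T |>.compl₁₂ e.symm.toLinearMap e.symm.toLinearMap
    have hB : ∀ x y, B x y = T (e.symm x * σ (e.symm y)) := fun x y => rfl
    refine ⟨B, ⟨fun x hx => ?_, fun y hy => ?_⟩, fun h x y => ?_⟩
    · by_contra hx0
      have hx' : e.symm x ≠ 0 := fun e0 => hx0 (by simpa using congrArg e e0)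
      have hbij : Function.Surjective σ := Finite.surjective_of_injective σ.toRingHom.injective
      obtain ⟨b, hb⟩ := hbij (e.symm x)⁻¹
      have := hx (e b)
      rw [hB, e.symm_apply_apply, hb, mul_inv_cancel₀ hx'] at this
      exact hT this
    · by_contra hy0
      have hy' : σ (e.symm y) ≠ 0 := fun e0 => hy0 (by
        have := congrArg e (σ.toRingHom.injective (e0.trans (map_zero σ).symm))
        simpa using this)
      have := hy (e (σ (e.symm y))⁻¹)
      rw [hB, e.symm_apply_apply, inv_mul_cancel₀ hy'] at this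
      exact hT this
    · rw [hB, hB, hact, hact, map_mul σ, mul_mul_mul_comm, hσu, one_mul]

end Cfsg.Agent.Char.SelfDual
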