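import Cfsg.Agent.Lib.Char.Induction
import Cfsg.Agent.Lib.Char.Generalized
import Cfsg.Agent.Lib.Char.Central
import Cfsg.Agent.Lib.Char.Clifford
import Cfsg.Agent.Lib.Char.Linear
import Cfsg.Agent.Lib.Char.Orthogonality

/-!
# Small characters when the Sylow `p`-elements share one centralizer

Let `P ≤ C ≤ N` where `P` is central in `C`, `C` splits over `P`, the elements of `C` with nontrivial
`P`-part form a trivial intersection set with normalizer `N`, and `N/C` acts semiregularly on `P`.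
An irreducible character `ψ ≠ 1` of `G` whose restriction to `C` contains the principal character
and omits enough linear characters of `P` has `P` in its kernel.
-/

set_option autoImplicit false
set_option linter.style.haveILetI false

namespace Cfsg.Agent.Char.SharedCent

open Cfsg Cfsg.Agent.Char
open scoped ComplexConjugate

universe u

/-- The hypotheses. -/
structure Split (G : Type u) [Group G] where
  P : Subgroup G
  C : Subgroup G
  N : Subgroup G
  hPC : P ≤ C
  hCN : C ≤ N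
  π : C →* P
  π_fix : ∀ (c : C) (h : (c : G) ∈ P), π c = ⟨c, h⟩
  cmem : ∀ n ∈ N, ∀ c ∈ C, n * c * n⁻¹ ∈ C
  π_conj : ∀ (n : G) (_ : n ∈ N) (c d : C), (d : G) = n * c * n⁻¹ → (π d : G) = n * π c * n⁻¹
  central : ∀ c ∈ C, ∀ y ∈ P, c * y = y * c
  fpf : ∀ n ∈ N, ∀ y ∈ P, y ≠ 1 → n * y = y * n → n ∈ C
  ti : ∀ (g : G) (c d : C), (d : G) = g * c * g⁻¹ → π c ≠ 1 → π d ≠ 1 → g ∈ N

variable {G : Type u} [Group G] (D : Split G)

namespace Split

/-- Conjugation on `C` by an element of `N`. -/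
def cm (g : D.N) (c : D.C) : D.C := ⟨g * c * (g : G)⁻¹, D.cmem g g.2 c c.2⟩

@[simp] theorem cm_coe (g : D.N) (c : D.C) : (D.cm g c : G) = g * c * (g : G)⁻¹ := rfl

/-- Conjugation on `C` as an automorphism. -/
def ce (g : D.N) : D.C ≃* D.C where
  toFun := D.cm g
  invFun := D.cm g⁻¹
  left_inv c := Subtype.ext (by simp [mul_assoc])
  right_inv c := Subtype.ext (by simp [mul_assoc])
  map_mul' a b := Subtype.ext (by simp [mul_assoc])

theorem ce_apply (g : D.N) (c : D.C) : D.ce g c = D.cm g c := rfl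

theorem cm_mul (g h : D.N) (c : D.C) : D.cm (g * h) c = D.cm g (D.cm h c) :=
  Subtype.ext (by simp [mul_assoc])

theorem cm_one (c : D.C) : D.cm 1 c = c := Subtype.ext (by simp)

/-- Restriction to `C`. -/
def res (f : G → ℂ) : D.C → ℂ := fun c => f c

section Finite

variable [Finite G]

/-- The action of `N` on the irreducible characters of `C`. -/
noncomputable def cg (g : D.N) (a : IrrCharacter D.C) : IrrCharacter D.C :=
  ⟨fun c => (a : D.C → ℂ) (D.cm g c), isIrrCharacter_comp_mulEquiv (D.ce g) a.2⟩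

@[simp] theorem cg_apply (g : D.N) (a : IrrCharacter D.C) (c : D.C) :
    (D.cg g a : D.C → ℂ) c = (a : D.C → ℂ) (D.cm g c) := rfl

theorem cg_cg (g h : D.N) (a : IrrCharacter D.C) : D.cg h (D.cg g a) = D.cg (g * h) a :=
  Subtype.ext (funext fun c => by simp only [cg_apply, cm_mul])

theorem cg_one (a : IrrCharacter D.C) : D.cg 1 a = a :=
  Subtype.ext (funext fun c => by simp only [cg_apply, cm_one])

/-- Conjugacy under `N`. -/
def rel (a b : IrrCharacter D.C) : Prop := ∃ g : D.N, D.cg g a = b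

theorem rel_refl (a : IrrCharacter D.C) : D.rel a a := ⟨1, D.cg_one a⟩

theorem rel_symm {a b : IrrCharacter D.C} (h : D.rel a b) : D.rel b a := by
  obtain ⟨g, rfl⟩ := h
  exact ⟨g⁻¹, by rw [cg_cg, mul_inv_cancel, cg_one]⟩

theorem rel_trans {a b c : IrrCharacter D.C} (h : D.rel a b) (h' : D.rel b c) : D.rel a c := by
  obtain ⟨g, rfl⟩ := h
  obtain ⟨g', rfl⟩ := h'
  exact ⟨g * g', by rw [cg_cg]⟩

/-- Number of elements of `N` taking `a` to `b`. -/
noncomputable def S (a b : IrrCharacter D.C) : ℕ := Nat.card {g : D.N // D.cg g a = b}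

theorem S_symm (a b : IrrCharacter D.C) : D.S a b = D.S b a := by
  refine Nat.card_congr
    { toFun := fun g => ⟨g.1⁻¹, (congrArg (D.cg g.1⁻¹) g.2.symm).trans
        (by rw [cg_cg, mul_inv_cancel, cg_one])⟩
      invFun := fun g => ⟨g.1⁻¹, (congrArg (D.cg g.1⁻¹) g.2.symm).trans
        (by rw [cg_cg, mul_inv_cancel, cg_one])⟩
      left_inv := fun g => Subtype.ext (inv_inv _)
      right_inv := fun g => Subtype.ext (inv_inv _) }

theorem S_of_not_rel {a b : IrrCharacter D.C} (h : ¬ D.rel a b) : D.S a b = 0 := by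
  haveI : IsEmpty {g : D.N // D.cg g a = b} := ⟨fun g => h ⟨g.1, g.2⟩⟩
  exact Nat.card_of_isEmpty

/-- A function is trivial on `P` if translations by `P` do not change it. -/
def PTriv (f : D.C → ℂ) : Prop := ∀ y c : D.C, (y : G) ∈ D.P → f (y * c) = f c

theorem ptriv_one : D.PTriv (1 : D.C → ℂ) := fun _ _ _ => rfl

theorem PTriv.apply_P {f : D.C → ℂ} (h : D.PTriv f) (y : D.C) (hy : (y : G) ∈ D.P) :
    f y = f 1 := by simpa using h y 1 hy

/-- The extension of a linear character of `P` to `C`. -/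
def til (l : D.P →* ℂˣ) : D.C →* ℂˣ := l.comp D.π

theorem til_P (l : D.P →* ℂˣ) (y : D.C) (hy : (y : G) ∈ D.P) : D.til l y = l ⟨y, hy⟩ := by
  rw [til, MonoidHom.comp_apply, D.π_fix y hy]

theorem norm_units (l : D.C →* ℂˣ) (c : D.C) : (l c : ℂ) * conj (l c : ℂ) = 1 := by
  rw [← IsCharacter.map_inv (IsIrrCharacter.isCharacter (isIrrCharacter_monoidHom l)) c,
    ← Units.val_mul, ← map_mul, mul_inv_cancel, map_one, Units.val_one]

theorem isIrr_mul_linear (l : D.C →* ℂˣ) {z : D.C → ℂ} (hz : IsIrrCharacter D.C z) :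
    IsIrrCharacter D.C (fun c => (l c : ℂ) * z c) := by
  haveI := Fintype.ofFinite D.C
  rw [isIrrCharacter_iff] at hz ⊢
  refine ⟨isCharacter_mul (IsIrrCharacter.isCharacter (isIrrCharacter_monoidHom l)) hz.1, ?_⟩
  rw [← hz.2]
  simp only [classInner]
  congr 1
  refine Finset.sum_congr rfl fun c _ => ?_
  rw [map_mul, show (l c : ℂ) * z c * (conj (l c : ℂ) * conj (z c)) =
    (l c : ℂ) * conj (l c : ℂ) * (z c * conj (z c)) by ring, norm_units, one_mul]

/-- Irreducible characters of `C` trivial on `P`. -/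
abbrev Base := {z : IrrCharacter D.C // D.PTriv (z : D.C → ℂ)}

/-- The character with given `P`-part and given `P`-trivial part. -/
noncomputable def tw (l : D.P →* ℂˣ) (z : D.Base) : IrrCharacter D.C :=
  ⟨fun c => (D.til l c : ℂ) * (z.1 : D.C → ℂ) c, D.isIrr_mul_linear (D.til l) z.1.2⟩

@[simp] theorem tw_apply (l : D.P →* ℂˣ) (z : D.Base) (c : D.C) :
    (D.tw l z : D.C → ℂ) c = (D.til l c : ℂ) * (z.1 : D.C → ℂ) c := rfl

/-- The principal base character. -/
noncomputable def one : D.Base := ⟨⟨1, isIrrCharacter_one⟩, D.ptriv_one⟩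

theorem tw_inj {l l' : D.P →* ℂˣ} {z z' : D.Base} (h : D.tw l z = D.tw l' z') :
    l = l' ∧ z = z' := by
  have hv := fun c => congrFun (congrArg Subtype.val h) c
  have h1 : (z.1 : D.C → ℂ) 1 = (z'.1 : D.C → ℂ) 1 := by simpa [tw_apply] using hv 1
  have hl : l = l' := by
    refine MonoidHom.ext fun y => Units.ext ?_
    have := hv ⟨y, D.hPC y.2⟩
    rw [tw_apply, tw_apply, D.til_P _ _ y.2, D.til_P _ _ y.2,
      PTriv.apply_P D z.2 _ y.2, PTriv.apply_P D z'.2 _ y.2, ← h1] at this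
    exact mul_right_cancel₀ (IsIrrCharacter.apply_one_ne_zero z.1.2) this
  subst hl
  refine ⟨rfl, Subtype.ext (Subtype.ext (funext fun c => ?_))⟩
  exact mul_left_cancel₀ (D.til l c).ne_zero (hv c)

/-- The action on linear characters of `P`. -/
def lg (g : D.N) (l : D.P →* ℂˣ) : D.P →* ℂˣ :=
  MonoidHom.mk' (fun y => D.til l (D.cm g ⟨y, D.hPC y.2⟩)) fun a b => by
    rw [← map_mul]; congr 1; exact Subtype.ext (by simp [mul_assoc])

theorem π_cm (g : D.N) (c : D.C) :
    D.π (D.cm g c) = D.π (D.cm g ⟨D.π c, D.hPC (D.π c).2⟩) := by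
  refine Subtype.ext ?_
  rw [D.π_conj g g.2 c (D.cm g c) rfl,
    D.π_conj g g.2 ⟨D.π c, D.hPC (D.π c).2⟩ (D.cm g ⟨D.π c, D.hPC (D.π c).2⟩) rfl,
    D.π_fix ⟨D.π c, D.hPC (D.π c).2⟩ (D.π c).2]

theorem til_lg (g : D.N) (l : D.P →* ℂˣ) (c : D.C) : D.til (D.lg g l) c = D.til l (D.cm g c) := by
  simp only [til, lg, MonoidHom.comp_apply, MonoidHom.mk'_apply]
  rw [← D.π_cm]

theorem ptriv_cg (g : D.N) (z : D.Base) : D.PTriv (D.cg g z.1 : D.C → ℂ) := fun y c hy => by
  rw [cg_apply, cg_apply, show D.cm g (y * c) = D.cm g y * D.cm g c from map_mul (D.ce g) y c]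
  refine z.2 _ _ ?_
  have := D.π_conj g g.2 y (D.cm g y) rfl
  rw [D.π_fix y hy] at this
  have hm : ((g : G) * y * (g : G)⁻¹) ∈ D.P := by rw [← this]; exact (D.π (D.cm g y)).2
  exact hm

/-- The action on base characters. -/
noncomputable def zg (g : D.N) (z : D.Base) : D.Base := ⟨D.cg g z.1, D.ptriv_cg g z⟩

theorem cg_tw (g : D.N) (l : D.P →* ℂˣ) (z : D.Base) :
    D.cg g (D.tw l z) = D.tw (D.lg g l) (D.zg g z) :=
  Subtype.ext (funext fun c => by
    show (D.til l (D.cm g c) : ℂ) * _ = (D.til (D.lg g l) c : ℂ) * _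
    rw [til_lg]; rfl)

theorem lg_one (g : D.N) : D.lg g 1 = 1 := MonoidHom.ext fun y => rfl

theorem lg_eq_one {g : D.N} {l : D.P →* ℂˣ} (h : D.lg g l = 1) : l = 1 := by
  refine MonoidHom.ext fun y => ?_
  have e := DFunLike.congr_fun h (D.π (D.cm g⁻¹ ⟨y, D.hPC y.2⟩))
  rw [MonoidHom.one_apply] at e
  have e2 : D.til (D.lg g l) (D.cm g⁻¹ ⟨y, D.hPC y.2⟩) = 1 := e
  rw [til_lg, ← cm_mul, mul_inv_cancel, cm_one, D.til_P l _ y.2] at e2
  simpa using e2

theorem zg_one (g : D.N) : D.zg g D.one = D.one := Subtype.ext (Subtype.ext (funext fun _ => rfl))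

/-- An element fixing a character with nontrivial `P`-part centralizes. -/
theorem mem_of_fixed {g : D.N} {l : D.P →* ℂˣ} (hl : l ≠ 1) (hP : ∀ a ∈ D.P, ∀ b ∈ D.P, a * b = b * a)
    (h : D.lg g l = l) : (g : G) ∈ D.C := by
  by_contra hg
  refine hl (MonoidHom.ext fun y => ?_)
  let cP : D.P → D.P := fun w => D.π (D.cm g ⟨w, D.hPC w.2⟩)
  have hcP : ∀ w : D.P, (cP w : G) = g * w * (g : G)⁻¹ := fun w => by
    show (D.π (D.cm g ⟨w, D.hPC w.2⟩) : G) = _
    rw [D.π_conj g g.2 ⟨w, D.hPC w.2⟩ _ rfl, D.π_fix ⟨w, D.hPC w.2⟩ w.2]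
  let T : D.P →* D.P := MonoidHom.mk' (fun w => w⁻¹ * cP w) fun a b => Subtype.ext (by
    simp only [Subgroup.coe_mul, InvMemClass.coe_inv, hcP, mul_inv_rev]
    have e : (g : G) * (a * b : G) * (g : G)⁻¹ =
        ((g : G) * a * (g : G)⁻¹) * ((g : G) * b * (g : G)⁻¹) := by group
    rw [e]
    have h1 : (g : G) * a * (g : G)⁻¹ ∈ D.P := hcP a ▸ (cP a).2
    have h3 : (a : G)⁻¹ * ((g : G) * a * (g : G)⁻¹) ∈ D.P := mul_mem (inv_mem a.2) h1
    calc (b : G)⁻¹ * (a : G)⁻¹ * ((g : G) * a * (g : G)⁻¹ * ((g : G) * b * (g : G)⁻¹))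
        = (b : G)⁻¹ * ((a : G)⁻¹ * ((g : G) * a * (g : G)⁻¹)) * ((g : G) * b * (g : G)⁻¹) := by group
      _ = ((a : G)⁻¹ * ((g : G) * a * (g : G)⁻¹)) * (b : G)⁻¹ * ((g : G) * b * (g : G)⁻¹) := by
          rw [hP _ (inv_mem b.2) _ h3]
      _ = _ := by group)
  have hinj : Function.Injective T := by
    rw [injective_iff_map_eq_one]
    intro w hw
    by_contra hne
    refine hg (D.fpf g g.2 w w.2 (fun e => hne (Subtype.ext e)) ?_)
    have := congrArg Subtype.val hw
    simp only [T, MonoidHom.mk'_apply, Subgroup.coe_mul, InvMemClass.coe_inv, hcP,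
      OneMemClass.coe_one, inv_mul_eq_one] at this
    exact (eq_mul_inv_iff_mul_eq.mp this).symm
  obtain ⟨w, rfl⟩ := (Finite.injective_iff_surjective.mp hinj) y
  have e := DFunLike.congr_fun h w
  have e' : l (cP w) = l w := e
  simp [T, e']

end Finite

section Fintype

variable [Fintype G] [Fintype D.C]

omit [Fintype G] in
theorem tw_one (z : D.Base) [Finite G] : D.tw 1 z = z.1 :=
  Subtype.ext (funext fun c => by simp [til])

/-- Multiplicity of `a` in the restriction of `ψ`. -/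
noncomputable def mult (ψ : IrrCharacter G) (a : IrrCharacter D.C) : ℕ :=
  Classical.choose (exists_classInner_nat
    (IsCharacter.restrict (IsIrrCharacter.isCharacter ψ.2) D.C) a.2)

theorem mult_spec (ψ : IrrCharacter G) (a : IrrCharacter D.C) :
    classInner (D.res (ψ : G → ℂ)) (a : D.C → ℂ) = (D.mult ψ a : ℂ) :=
  Classical.choose_spec (exists_classInner_nat
    (IsCharacter.restrict (IsIrrCharacter.isCharacter ψ.2) D.C) a.2)

theorem mult_cg (ψ : IrrCharacter G) (g : D.N) (a : IrrCharacter D.C) :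
    D.mult ψ (D.cg g a) = D.mult ψ a := by
  have h : classInner (D.res (ψ : G → ℂ)) (D.cg g a : D.C → ℂ) =
      classInner (D.res (ψ : G → ℂ)) (a : D.C → ℂ) := by
    rw [← classInner_comp_mulEquiv (D.ce g) (D.res (ψ : G → ℂ)) (a : D.C → ℂ)]
    have e : (fun c => D.res (ψ : G → ℂ) (D.ce g c)) = D.res (ψ : G → ℂ) := funext fun c =>
      IsCharacter.isClassFunction (IsIrrCharacter.isCharacter ψ.2) (c : G) g
    rw [e]
    rfl
  rw [mult_spec, mult_spec] at h
  exact_mod_cast h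

theorem mult_rel (ψ : IrrCharacter G) {a b : IrrCharacter D.C} (h : D.rel a b) :
    D.mult ψ a = D.mult ψ b := by
  obtain ⟨g, rfl⟩ := h
  exact (D.mult_cg ψ g a).symm

/-- The principal character of `G`. -/
noncomputable def gone (G : Type u) [Group G] [Finite G] : IrrCharacter G :=
  ⟨1, isIrrCharacter_one⟩

theorem mult_gone_of_ne {a : IrrCharacter D.C} (h : a ≠ D.one.1) : D.mult (gone G) a = 0 := by
  have e := D.mult_spec (gone G) a
  have h1 : D.res (gone G : G → ℂ) = (D.one.1 : D.C → ℂ) := rfl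
  rw [h1, IsIrrCharacter.classInner_eq_zero D.one.1.2 a.2 fun e => h (Subtype.ext e.symm)] at e
  exact_mod_cast e.symm

theorem mult_gone_one : D.mult (gone G) D.one.1 = 1 := by
  have e := D.mult_spec (gone G) D.one.1
  have h1 : D.res (gone G : G → ℂ) = (D.one.1 : D.C → ℂ) := rfl
  rw [h1, IsIrrCharacter.classInner_self D.one.1.2] at e
  exact_mod_cast e.symm

/-- The degree as a natural number. -/
noncomputable def deg {H : Type u} [Group H] (ψ : IrrCharacter H) : ℕ :=
  Classical.choose (IsIrrCharacter.degree_pos ψ.2)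

theorem deg_pos {H : Type u} [Group H] (ψ : IrrCharacter H) : 0 < deg ψ :=
  (Classical.choose_spec (IsIrrCharacter.degree_pos ψ.2)).1

theorem deg_spec {H : Type u} [Group H] (ψ : IrrCharacter H) :
    (ψ : H → ℂ) 1 = (deg ψ : ℂ) :=
  (Classical.choose_spec (IsIrrCharacter.degree_pos ψ.2)).2

/-- Vanishing off the elements with nontrivial `P`-part. -/
def Supp (f : D.C → ℂ) : Prop := ∀ c : D.C, D.π c = 1 → f c = 0

theorem supp_tw_sub (l l' : D.P →* ℂˣ) (z : D.Base) :
    D.Supp ((D.tw l z : D.C → ℂ) - (D.tw l' z : D.C → ℂ)) := fun c hc => by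
  simp [til, hc]

/-- Coefficient vector of an induced difference. -/
noncomputable def d (a b : IrrCharacter D.C) (ψ : IrrCharacter G) : ℤ :=
  (D.mult ψ a : ℤ) - D.mult ψ b

theorem classInner_ind_sub (a b : IrrCharacter D.C) (ψ : IrrCharacter G) :
    classInner (indFun D.C ((a : D.C → ℂ) - (b : D.C → ℂ))) (ψ : G → ℂ) = (D.d a b ψ : ℂ) := by
  rw [classInner_indFun _ _ (IsCharacter.isClassFunction (IsIrrCharacter.isCharacter ψ.2)),
    ← classInner_conj_symm]
  show conj (classInner (D.res (ψ : G → ℂ)) _) = _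
  rw [classInner_sub_right, mult_spec, mult_spec]
  simp [d]

theorem sum_d_deg [Fintype (IrrCharacter G)] {l l' : D.P →* ℂˣ} {z : D.Base} :
    ∑ ψ, D.d (D.tw l z) (D.tw l' z) ψ * (deg ψ : ℤ) = 0 := by
  have h := congrFun (IsClassFunction.eq_sum (isClassFunction_indFun D.C
    ((D.tw l z : D.C → ℂ) - (D.tw l' z : D.C → ℂ)))) 1
  rw [indFun_one_apply] at h
  simp only [Finset.sum_apply, Pi.smul_apply, classInner_ind_sub, deg_spec, smul_eq_mul,
    Pi.sub_apply, D.supp_tw_sub l l' z 1 (map_one _), mul_zero] at h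
  exact_mod_cast h.symm

theorem ind_apply_supp {f : D.C → ℂ} (hf : D.Supp f) [Fintype D.N] {c : D.C} (hc : D.π c ≠ 1) :
    indFun D.C f (c : G) = (Nat.card D.C : ℂ)⁻¹ * ∑ g : D.N, f (D.cm g c) := by
  classical
  rw [indFun_apply]
  congr 1
  have hz : ∀ x : G, x ∉ D.N → extendByZero D.C f (x⁻¹ * c * x) = 0 := by
    intro x hx
    by_cases hm : x⁻¹ * c * x ∈ D.C
    · rw [extendByZero_of_mem _ _ hm]
      by_contra h0
      exact hx (inv_mem_iff.mp (D.ti x⁻¹ c ⟨_, hm⟩ (by show x⁻¹ * (c : G) * x = _; rw [inv_inv]) hc fun e => h0 (hf _ e)))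
    · exact extendByZero_of_notMem _ _ hm
  rw [← Finset.sum_subset (Finset.subset_univ ((Finset.univ : Finset G).filter (· ∈ D.N)))
    (fun x _ hx => hz x (by simpa using hx))]
  refine Finset.sum_bij (fun x hx => (⟨x, (Finset.mem_filter.mp hx).2⟩ : D.N)⁻¹)
    (fun _ _ => Finset.mem_univ _) (fun a ha b hb e => congrArg Subtype.val (inv_injective e))
    (fun g _ => ⟨(g : G)⁻¹, Finset.mem_filter.mpr ⟨Finset.mem_univ _, inv_mem g.2⟩,
      Subtype.ext (inv_inv (g : G))⟩) fun x hx => ?_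
  have hxN := (Finset.mem_filter.mp hx).2
  have : x⁻¹ * (c : G) * x = (D.cm (⟨x, hxN⟩ : D.N)⁻¹ c : G) := by simp
  rw [this, extendByZero_coe]

theorem sum_d_mul [Fintype (IrrCharacter G)] {a b a' b' : IrrCharacter D.C}
    (h : D.Supp ((a : D.C → ℂ) - (b : D.C → ℂ))) (h' : D.Supp ((a' : D.C → ℂ) - (b' : D.C → ℂ))) :
    (Nat.card D.C : ℤ) * ∑ ψ, D.d a b ψ * D.d a' b' ψ =
      (D.S a a' : ℤ) - D.S a b' - D.S b a' + D.S b b' := by
  classical
  haveI := Fintype.ofFinite D.N
  have e := classInner_eq_sum_mul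
    (isClassFunction_indFun D.C ((a : D.C → ℂ) - (b : D.C → ℂ)))
    (isClassFunction_indFun D.C ((a' : D.C → ℂ) - (b' : D.C → ℂ)))
  rw [classInner_indFun _ _ (isClassFunction_indFun _ _)] at e
  simp only [classInner_ind_sub, map_intCast] at e
  have e2 : classInner ((a : D.C → ℂ) - (b : D.C → ℂ))
      (fun c : D.C => indFun D.C ((a' : D.C → ℂ) - (b' : D.C → ℂ)) c) =
      (Nat.card D.C : ℂ)⁻¹ * ∑ g : D.N, classInner ((a : D.C → ℂ) - (b : D.C → ℂ))
        ((D.cg g a' : D.C → ℂ) - (D.cg g b' : D.C → ℂ)) := by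
    simp only [classInner, Finset.mul_sum]
    rw [Finset.sum_comm]
    refine Finset.sum_congr rfl fun c _ => ?_
    by_cases hc : D.π c = 1
    · rw [h c hc]; simp
    · rw [D.ind_apply_supp h' hc]
      simp only [Pi.sub_apply, cg_apply, map_mul, map_sum, map_inv₀, Complex.conj_natCast,
        Finset.mul_sum]
      refine Finset.sum_congr rfl fun g _ => ?_
      ring
  rw [e2] at e
  simp only [classInner_sub_left, classInner_sub_right, classInner_irr, Finset.sum_sub_distrib] at e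
  have hS : ∀ x y : IrrCharacter D.C, (∑ g : D.N, if x = D.cg g y then (1 : ℂ) else 0) =
      (D.S x y : ℂ) := by
    intro x y
    rw [Finset.sum_boole, ← Fintype.card_subtype, ← Nat.card_eq_fintype_card, S_symm]
    norm_cast
    exact Nat.card_congr (Equiv.subtypeEquivRight fun g => eq_comm)
  simp only [hS] at e
  rw [inv_mul_eq_iff_eq_mul₀ (Nat.cast_ne_zero.mpr Nat.card_pos.ne')] at e
  have e' : (((Nat.card D.C : ℤ) * ∑ ψ, D.d a b ψ * D.d a' b' ψ : ℤ) : ℂ) =
      (((D.S a a' : ℤ) - D.S a b' - D.S b a' + D.S b b' : ℤ) : ℂ) := by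
    push_cast
    rw [← e]; ring
  exact_mod_cast e'

end Fintype

end Split

end Cfsg.Agent.Char.SharedCent
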