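import Cfsg.Agent.Lib.Char.SharedCentralizer

/-!
# The kernel lemma for a shared centralizer
-/

set_option autoImplicit false
set_option linter.style.haveILetI false

namespace Cfsg.Agent.Char.SharedCent

open Cfsg Cfsg.Agent.Char

universe u

/-- An integral vector of norm two and weight zero with an entry `-1`. -/
theorem norm_two_vec {ι : Type*} [Fintype ι] [DecidableEq ι] {v : ι → ℤ} {w : ι → ℕ}
    (hw : ∀ i, 0 < w i) (h2 : ∑ i, v i * v i = 2) (h0 : ∑ i, v i * (w i : ℤ) = 0) {i₀ : ι}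
    (hi : v i₀ = -1) :
    ∃ j, j ≠ i₀ ∧ ∀ k, v k = (if k = j then 1 else 0) - (if k = i₀ then 1 else 0) := by
  have hsum : ∑ k, (if k = i₀ then 0 else v k) ^ 2 = 1 := by
    rw [← Finset.add_sum_erase _ _ (Finset.mem_univ i₀)] at h2 ⊢
    rw [Finset.sum_congr rfl fun k hk => by rw [if_neg (Finset.ne_of_mem_erase hk), sq]]
    rw [if_pos rfl]
    rw [hi] at h2
    linarith
  obtain ⟨j, hj, hrest⟩ := int_sum_sq_one hsum
  have hne : j ≠ i₀ := by rintro rfl; simp at hj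
  rw [if_neg hne] at hj
  have hv : ∀ k, v k = (if k = j then v j else 0) - (if k = i₀ then 1 else 0) := fun k => by
    by_cases h1 : k = i₀
    · subst h1; rw [if_neg (Ne.symm hne), if_pos rfl, hi]; norm_num
    · by_cases h2 : k = j
      · subst h2; simp [h1]
      · have := hrest k h2
        rw [if_neg h1] at this
        simp [h1, h2, this]
  rw [Finset.sum_congr rfl fun k _ => by rw [hv k]] at h0
  simp [sub_mul, Finset.sum_sub_distrib, ite_mul] at h0
  refine ⟨j, hne, fun k => ?_⟩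
  rcases hj with hj | hj
  · rw [hv k, hj]
  · rw [hj] at h0
    have := hw j
    have := hw i₀
    omega

namespace Split

variable {G : Type u} [Group G] (D : Split G)

section Finite

variable [Finite G]

theorem lg_of_rel {l l' : D.P →* ℂˣ} {z z' : D.Base} (h : D.rel (D.tw l z) (D.tw l' z')) :
    ∃ g : D.N, D.lg g l = l' ∧ D.zg g z = z' := by
  obtain ⟨g, hg⟩ := h
  rw [cg_tw] at hg
  exact ⟨g, D.tw_inj hg⟩

theorem not_rel_tw {l l' : D.P →* ℂˣ} {z z' : D.Base} (h : ¬ ∃ g : D.N, D.lg g l = l') :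
    ¬ D.rel (D.tw l z) (D.tw l' z') := fun hr =>
  h ((D.lg_of_rel hr).imp fun _ e => e.1)

theorem not_rel_base_one {l l' : D.P →* ℂˣ} {z : D.Base} (hz : z ≠ D.one) :
    ¬ D.rel (D.tw l D.one) (D.tw l' z) := fun hr => by
  obtain ⟨g, -, h2⟩ := D.lg_of_rel hr
  exact hz (h2.symm.trans (D.zg_one g))

theorem not_rel_one {l : D.P →* ℂˣ} (hl : l ≠ 1) {z z' : D.Base} :
    ¬ D.rel (D.tw l z) (D.tw 1 z') := fun hr => by
  obtain ⟨g, h1, -⟩ := D.lg_of_rel hr
  exact hl (D.lg_eq_one h1)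

variable (hPab : ∀ a ∈ D.P, ∀ b ∈ D.P, a * b = b * a)
include hPab

theorem cg_eq_iff {l : D.P →* ℂˣ} (hl : l ≠ 1) (z : D.Base) (g g' : D.N) :
    D.cg g (D.tw l z) = D.cg g' (D.tw l z) ↔ (g : G) * (g' : G)⁻¹ ∈ D.C := by
  constructor
  · intro h
    have h' := congrArg (D.cg g'⁻¹) h
    rw [cg_cg, cg_cg, mul_inv_cancel, cg_one, cg_tw] at h'
    have h1 := (D.tw_inj h').1
    simpa using D.mem_of_fixed hl hPab h1
  · intro h
    have key : D.cg (g * g'⁻¹) (D.tw l z) = D.tw l z := by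
      refine Subtype.ext (funext fun c => ?_)
      rw [cg_apply]
      have : D.cm (g * g'⁻¹) c = (⟨_, h⟩ : D.C) * c * (⟨_, h⟩ : D.C)⁻¹ := Subtype.ext (by simp)
      rw [this]
      exact IsCharacter.isClassFunction (IsIrrCharacter.isCharacter (D.tw l z).2) c _
    conv_rhs => rw [← key, cg_cg]
    congr 1
    group

theorem S_tw {l : D.P →* ℂˣ} (hl : l ≠ 1) (z : D.Base) {b : IrrCharacter D.C}
    (h : D.rel (D.tw l z) b) : D.S (D.tw l z) b = Nat.card D.C := by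
  obtain ⟨g₀, rfl⟩ := h
  refine Nat.card_congr
    { toFun := fun g => ⟨(g.1 : G) * (g₀ : G)⁻¹, (D.cg_eq_iff hPab hl z g.1 g₀).mp g.2⟩
      invFun := fun c => ⟨⟨(c : G) * g₀, mul_mem (D.hCN c.2) g₀.2⟩,
        (D.cg_eq_iff hPab hl z _ g₀).mpr (by simp)⟩
      left_inv := fun g => Subtype.ext (Subtype.ext (by simp))
      right_inv := fun c => Subtype.ext (by simp) }

/-- An orbit of characters with nontrivial `P`-part has exactly `[N : C]` elements. -/
theorem card_orbit_mul [Fintype D.N] [DecidableEq (IrrCharacter D.C)] {l : D.P →* ℂˣ} (hl : l ≠ 1)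
    (z : D.Base) :
    ((Finset.univ : Finset D.N).image fun g => D.cg g (D.tw l z)).card * Nat.card D.C =
      Nat.card D.N := by
  rw [Nat.card_eq_fintype_card (α := D.N), ← Finset.card_univ,
    Finset.card_eq_sum_card_image (fun g : D.N => D.cg g (D.tw l z)) Finset.univ]
  rw [Finset.sum_congr rfl fun b hb => ?_, Finset.sum_const, smul_eq_mul]
  obtain ⟨g, -, rfl⟩ := Finset.mem_image.mp hb
  rw [← D.S_tw hPab hl z ⟨g, rfl⟩, S, Nat.card_eq_fintype_card, Fintype.card_subtype]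

end Finite

section Core

variable [Fintype G] [Fintype D.C] (hPab : ∀ a ∈ D.P, ∀ b ∈ D.P, a * b = b * a)
include hPab

/-- The kernel lemma. -/
theorem apply_eq_of_missing (e : ℕ) (he : Nat.card D.N = e * Nat.card D.C)
    (hq : e * e + 2 ≤ Nat.card D.P) (ψ : IrrCharacter G) (hψ : ψ ≠ gone G)
    (hm : D.mult ψ D.one.1 ≠ 0) (M : Finset (D.P →* ℂˣ)) (hM1 : (1 : D.P →* ℂˣ) ∉ M)
    (hM : e < M.card) (hMz : ∀ l ∈ M, ∀ z : D.Base, D.mult ψ (D.tw l z) = 0)
    (l : D.P →* ℂˣ) (hl : l ≠ 1) (z : D.Base) : D.mult ψ (D.tw l z) = 0 := by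
  classical
  by_contra hk
  haveI := Fintype.ofFinite (IrrCharacter G)
  haveI := Fintype.ofFinite (IrrCharacter D.C)
  haveI := Fintype.ofFinite D.N
  haveI := Fintype.ofFinite (D.P →* ℂˣ)
  haveI : IsMulCommutative D.P := ⟨⟨fun a b => Subtype.ext (hPab a a.2 b b.2)⟩⟩
  have hC0 : (0 : ℤ) < (Nat.card D.C : ℤ) := by exact_mod_cast Nat.card_pos
  -- two missing characters in different orbits
  obtain ⟨μ₁, hμ₁⟩ := Finset.card_pos.mp (lt_of_le_of_lt (Nat.zero_le e) hM)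
  have hμ₁1 : μ₁ ≠ 1 := fun h => hM1 (h ▸ hμ₁)
  have horb : ∀ (μ : D.P →* ℂˣ), μ ≠ 1 →
      ((Finset.univ : Finset D.N).image fun g => D.lg g μ).card ≤ e := by
    intro μ hμ
    have h1 := D.card_orbit_mul hPab hμ D.one
    rw [he] at h1
    rw [← Nat.eq_of_mul_eq_mul_right Nat.card_pos h1]
    refine Finset.card_le_card_of_surjOn
      (fun b => if h : ∃ g : D.N, D.cg g (D.tw μ D.one) = b then D.lg h.choose μ else 1) ?_
    intro x hx
    rw [Finset.mem_coe, Finset.mem_image] at hx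
    obtain ⟨g, -, rfl⟩ := hx
    refine ⟨D.cg g (D.tw μ D.one), Finset.mem_coe.mpr (Finset.mem_image_of_mem _ (Finset.mem_univ g)),
      ?_⟩
    have hex : ∃ g' : D.N, D.cg g' (D.tw μ D.one) = D.cg g (D.tw μ D.one) := ⟨g, rfl⟩
    show dite _ _ _ = _
    rw [dif_pos hex]
    exact (D.tw_inj (((D.cg_tw _ μ D.one).symm.trans hex.choose_spec).trans
      (D.cg_tw g μ D.one))).1
  obtain ⟨μ₂, hμ₂, hμ₂o⟩ := Finset.exists_mem_notMem_of_card_lt_card
    (lt_of_le_of_lt (horb μ₁ hμ₁1) hM)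
  have hμ₂1 : μ₂ ≠ 1 := fun h => hM1 (h ▸ hμ₂)
  have h12 : ¬ ∃ g : D.N, D.lg g μ₁ = μ₂ := fun ⟨g, hg⟩ =>
    hμ₂o (Finset.mem_image.mpr ⟨g, Finset.mem_univ _, hg⟩)
  set a := D.tw l z with ha
  -- inner products
  have hS : ∀ (ν : D.P →* ℂˣ) (y : D.Base), ν ≠ 1 → ∀ b : IrrCharacter D.C,
      (D.S (D.tw ν y) b : ℤ) = (Nat.card D.C : ℤ) * if D.rel (D.tw ν y) b then 1 else 0 := by
    intro ν y hν b
    split_ifs with h
    · rw [D.S_tw hPab hν y h, mul_one]
    · rw [D.S_of_not_rel h]; simp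
  have hdot : ∀ (ν ν' κ κ' : D.P →* ℂˣ) (y y' : D.Base), ν ≠ 1 → ν' ≠ 1 →
      ∑ χ, D.d (D.tw ν y) (D.tw ν' y) χ * D.d (D.tw κ y') (D.tw κ' y') χ =
        ((if D.rel (D.tw ν y) (D.tw κ y') then 1 else 0) -
          (if D.rel (D.tw ν y) (D.tw κ' y') then 1 else 0) -
          (if D.rel (D.tw ν' y) (D.tw κ y') then 1 else 0) +
          (if D.rel (D.tw ν' y) (D.tw κ' y') then 1 else 0) : ℤ) := by
    intro ν ν' κ κ' y y' hν hν'
    refine mul_left_cancel₀ hC0.ne' ?_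
    rw [D.sum_d_mul (D.supp_tw_sub ν ν' y) (D.supp_tw_sub κ κ' y'), hS _ _ hν, hS _ _ hν,
      hS _ _ hν', hS _ _ hν']
    ring
  -- the vectors `u`
  set u : (D.P →* ℂˣ) → IrrCharacter G → ℤ := fun ν => D.d (D.tw ν z) a with hu
  have hu2 : ∀ ν, ν ≠ 1 → ¬ D.rel (D.tw ν z) a → ∑ χ, u ν χ * u ν χ = 2 := by
    intro ν hν hr
    simp only [hu, ha]
    rw [hdot ν l ν l z z hν hl, if_pos (D.rel_refl _), if_neg hr,
      if_neg (fun h => hr (D.rel_symm h)), if_pos (D.rel_refl _)]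
    norm_num
  have hudeg : ∀ ν, ∑ χ, u ν χ * (deg χ : ℤ) = 0 := fun ν => D.sum_d_deg
  have hnr : ∀ μ, μ ∈ M → ¬ D.rel (D.tw μ z) a := fun μ hμ hr =>
    hk ((D.mult_rel ψ hr).symm.trans (hMz μ hμ z))
  have huM : ∀ μ, μ ∈ M → u μ ψ = -1 := fun μ hμ => by
    have hμ1 : μ ≠ 1 := fun h => hM1 (h ▸ hμ)
    have h2 := hu2 μ hμ1 (hnr μ hμ)
    have h3 : u μ ψ = -(D.mult ψ a : ℤ) := by simp [hu, d, hMz μ hμ z]
    have h4 : u μ ψ * u μ ψ ≤ 2 := h2 ▸
      Finset.single_le_sum (fun χ _ => mul_self_nonneg (u μ χ)) (Finset.mem_univ ψ)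
    have h5 : 0 < D.mult ψ a := Nat.pos_of_ne_zero hk
    rcases Nat.lt_or_ge (D.mult ψ a) 2 with h6 | h6
    · rw [h3, show D.mult ψ a = 1 by omega]; norm_num
    · rw [h3] at h4
      have : (2 : ℤ) ≤ (D.mult ψ a : ℤ) := by exact_mod_cast h6
      nlinarith
  obtain ⟨X₁, hX₁ψ, hX₁⟩ := norm_two_vec deg_pos (hu2 μ₁ hμ₁1 (hnr μ₁ hμ₁)) (hudeg μ₁)
    (huM μ₁ hμ₁)
  obtain ⟨X₂, hX₂ψ, hX₂⟩ := norm_two_vec deg_pos (hu2 μ₂ hμ₂1 (hnr μ₂ hμ₂)) (hudeg μ₂)
    (huM μ₂ hμ₂)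
  have hdotX : ∀ (v w : IrrCharacter G → ℤ) (X : IrrCharacter G),
      (∀ χ, v χ = (if χ = X then 1 else 0) - (if χ = ψ then 1 else 0)) →
      ∑ χ, w χ * v χ = w X - w ψ := by
    intro v w X hv
    rw [Finset.sum_congr rfl fun χ _ => by rw [hv χ]]
    simp [mul_sub, Finset.sum_sub_distrib]
  have huu : ∀ ν ν', ν ≠ 1 → ¬ D.rel (D.tw ν z) a → ¬ D.rel (D.tw ν' z) a →
      ¬ D.rel (D.tw ν z) (D.tw ν' z) → ∑ χ, u ν χ * u ν' χ = 1 := by
    intro ν ν' hν h1 h2 h3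
    simp only [hu, ha]
    rw [hdot ν l ν' l z z hν hl, if_neg h3, if_neg h1, if_neg (fun h => h2 (D.rel_symm h)),
      if_pos (D.rel_refl _)]
    norm_num
  have hb12 : ¬ D.rel (D.tw μ₁ z) (D.tw μ₂ z) := D.not_rel_tw h12
  have hX12 : X₁ ≠ X₂ := fun h => by
    have e1 := huu μ₁ μ₂ hμ₁1 (hnr μ₁ hμ₁) (hnr μ₂ hμ₂) hb12
    rw [hdotX _ _ X₂ hX₂, hX₁, hX₁, if_pos h.symm, if_neg hX₂ψ, if_neg (Ne.symm hX₁ψ),
      if_pos rfl] at e1
    norm_num at e1
  have huψ : ∀ ν, ν ≠ 1 → ¬ D.rel (D.tw ν z) a → u ν ψ = -1 := by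
    intro ν hν hr
    have hsame : ∀ μ, μ ∈ M → D.rel (D.tw ν z) (D.tw μ z) → u ν ψ = -1 := fun μ hμ hμr => by
      have := huM μ hμ
      simp only [hu, d] at this ⊢
      rw [D.mult_rel ψ hμr]
      exact this
    by_cases h1 : D.rel (D.tw ν z) (D.tw μ₁ z)
    · exact hsame μ₁ hμ₁ h1
    by_cases h2 : D.rel (D.tw ν z) (D.tw μ₂ z)
    · exact hsame μ₂ hμ₂ h2
    have e1 := huu ν μ₁ hν hr (hnr μ₁ hμ₁) h1
    have e2 := huu ν μ₂ hν hr (hnr μ₂ hμ₂) h2
    rw [hdotX _ _ X₁ hX₁] at e1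
    rw [hdotX _ _ X₂ hX₂] at e2
    have hnorm := hu2 ν hν hr
    have h3 : ∑ χ ∈ ({ψ, X₁, X₂} : Finset (IrrCharacter G)), u ν χ * u ν χ ≤ 2 := hnorm ▸
      Finset.sum_le_sum_of_subset_of_nonneg (Finset.subset_univ _) fun χ _ _ => mul_self_nonneg _
    rw [Finset.sum_insert (by simp [Ne.symm hX₁ψ, Ne.symm hX₂ψ]),
      Finset.sum_pair hX12] at h3
    rw [show u ν X₁ = u ν ψ + 1 by linarith, show u ν X₂ = u ν ψ + 1 by linarith] at h3
    have hb : u ν ψ = -1 ∨ u ν ψ = 0 := by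
      have : -2 < u ν ψ ∧ u ν ψ < 1 := ⟨by nlinarith, by nlinarith⟩
      omega
    rcases hb with hb | hb
    · exact hb
    exfalso
    have hX1v : u ν X₁ = 1 := by linarith
    have hX2v : u ν X₂ = 1 := by linarith
    have hrest : ∀ χ, χ ∉ ({X₁, X₂} : Finset (IrrCharacter G)) → u ν χ = 0 := by
      intro χ hχ
      by_contra h0
      have h4 : ∑ y ∈ insert χ ({X₁, X₂} : Finset (IrrCharacter G)), u ν y * u ν y ≤ 2 := hnorm ▸
        Finset.sum_le_sum_of_subset_of_nonneg (Finset.subset_univ _) fun y _ _ => mul_self_nonneg _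
      rw [Finset.sum_insert hχ, Finset.sum_pair hX12, hX1v, hX2v] at h4
      have := mul_self_pos.mpr h0
      linarith
    have h5 := hudeg ν
    rw [← Finset.sum_subset (Finset.subset_univ ({X₁, X₂} : Finset (IrrCharacter G)))
      (fun χ _ hχ => by rw [hrest χ hχ, zero_mul]), Finset.sum_pair hX12, hX1v, hX2v] at h5
    have := deg_pos X₁
    omega
  -- the companions `X ν`
  have hX : ∀ ν, ν ≠ 1 → ¬ D.rel (D.tw ν z) a → ∃ X, X ≠ ψ ∧
      ∀ χ, u ν χ = (if χ = X then 1 else 0) - (if χ = ψ then 1 else 0) :=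
    fun ν hν hr => norm_two_vec deg_pos (hu2 ν hν hr) (hudeg ν) (huψ ν hν hr)
  let Xf : (D.P →* ℂˣ) → IrrCharacter G := fun ν =>
    if h : ν ≠ 1 ∧ ¬ D.rel (D.tw ν z) a then (hX ν h.1 h.2).choose else ψ
  set R := (Finset.univ : Finset (D.P →* ℂˣ)).filter
    (fun ν => ν ≠ 1 ∧ ¬ D.rel (D.tw ν z) a) with hR
  have hXf : ∀ ν ∈ R, Xf ν ≠ ψ ∧
      ∀ χ, u ν χ = (if χ = Xf ν then 1 else 0) - (if χ = ψ then 1 else 0) := by
    intro ν hν
    have h := (Finset.mem_filter.mp hν).2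
    simp only [Xf, dif_pos h]
    exact (hX ν h.1 h.2).choose_spec
  have hXrel : ∀ ν ∈ R, ∀ ν' ∈ R, Xf ν = Xf ν' → D.rel (D.tw ν z) (D.tw ν' z) := by
    intro ν hν ν' hν' e
    by_contra h3
    have h := (Finset.mem_filter.mp hν).2
    have h' := (Finset.mem_filter.mp hν').2
    have e1 := huu ν ν' h.1 h.2 h'.2 h3
    rw [hdotX _ _ _ (hXf ν' hν').2, (hXf ν hν).2, (hXf ν hν).2, if_pos e.symm,
      if_neg (hXf ν' hν').1, if_neg (Ne.symm (hXf ν hν).1), if_pos rfl] at e1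
    norm_num at e1
  -- lower bound for the number of companions
  have hfib : ∀ X ∈ R.image Xf, (R.filter fun ν => Xf ν = X).card ≤ e := by
    intro X hX'
    obtain ⟨ν₀, hν₀, rfl⟩ := Finset.mem_image.mp hX'
    refine le_trans (Finset.card_le_card ?_) (horb ν₀ (Finset.mem_filter.mp hν₀).2.1)
    intro ν hν
    rw [Finset.mem_filter] at hν
    obtain ⟨g, hg, -⟩ := D.lg_of_rel (hXrel ν₀ hν₀ ν hν.1 hν.2.symm)
    exact Finset.mem_image.mpr ⟨g, Finset.mem_univ _, hg⟩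
  have hRc : Nat.card D.P ≤ R.card + 1 + e := by
    have hcl : Nat.card D.P = Fintype.card (D.P →* ℂˣ) := by
      rw [← Nat.card_eq_fintype_card, card_monoidHom_units]
      rw [show commutator D.P = ⊥ from ?_, Subgroup.index_bot]
      rw [commutator_def, Subgroup.commutator_eq_bot_iff_le_centralizer]
      exact fun x _ y _ => Subtype.ext (hPab y y.2 x x.2)
    rw [hcl, ← Finset.card_univ]
    refine le_trans (Finset.card_le_card (t := R ∪ {1} ∪
      (Finset.univ : Finset D.N).image fun g => D.lg g l) ?_)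
      (le_trans (Finset.card_union_le _ _) (Nat.add_le_add (le_trans (Finset.card_union_le _ _)
        (by simp)) (horb l hl)))
    intro ν _
    by_cases h1 : ν = 1
    · simp [h1]
    by_cases h2 : D.rel (D.tw ν z) a
    · obtain ⟨g, hg, -⟩ := D.lg_of_rel (D.rel_symm h2)
      exact Finset.mem_union_right _ (Finset.mem_image.mpr ⟨g, Finset.mem_univ _, hg⟩)
    · exact Finset.mem_union_left _ (Finset.mem_union_left _
        (Finset.mem_filter.mpr ⟨Finset.mem_univ _, h1, h2⟩))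
  have hr : e ≤ (R.image Xf).card := by
    by_contra hlt
    have h1 : R.card ≤ e * (R.image Xf).card :=
      Finset.card_le_mul_card_image R e hfib
    have h2 : e * (R.image Xf).card + e ≤ e * e := by
      rw [← Nat.mul_succ]; exact Nat.mul_le_mul_left e (by omega)
    omega
  -- the principal difference
  obtain ⟨μ, c, hμ1, hc0, hcψ, hcX⟩ : ∃ (μ : D.P →* ℂˣ) (c : ℤ), μ ≠ 1 ∧ (c = 0 ∨ c = 1) ∧
      D.d (D.tw μ D.one) (D.tw 1 D.one) ψ = c - (D.mult ψ D.one.1 : ℤ) ∧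
      ∀ ν ∈ R, D.d (D.tw μ D.one) (D.tw 1 D.one) (Xf ν) = -(D.mult ψ D.one.1 : ℤ) := by
    by_cases hz1 : z = D.one
    · refine ⟨l, 1, hl, Or.inr rfl, ?_, fun ν hν => ?_⟩
      · have h1 := huM μ₁ hμ₁
        simp only [hu, d, hMz μ₁ hμ₁ z, ha] at h1
        simp only [d, tw_one, ← hz1]
        push_cast at h1
        linarith
      · have hr' := (Finset.mem_filter.mp hν).2
        have e1 := hdot ν l l 1 z D.one hr'.1 hl
        rw [hz1, if_neg (by rw [← hz1]; exact hr'.2), if_neg (D.not_rel_one hr'.1),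
          if_pos (D.rel_refl _), if_neg (D.not_rel_one hl), ← hz1] at e1
        have e2 := hdotX (u ν) (D.d (D.tw l D.one) (D.tw 1 D.one)) (Xf ν) (hXf ν hν).2
        rw [Finset.sum_congr rfl fun χ _ => mul_comm _ _] at e2
        simp only [hu, ha] at e2
        rw [hz1] at e1 e2
        rw [e2] at e1
        have h1 : D.d (D.tw l D.one) (D.tw 1 D.one) ψ = 1 - (D.mult ψ D.one.1 : ℤ) := by
          have h1 := huM μ₁ hμ₁
          simp only [hu, d, hMz μ₁ hμ₁ D.one, ha, hz1] at h1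
          simp only [d, tw_one]
          push_cast at h1
          linarith
        linarith
    · refine ⟨μ₁, 0, hμ₁1, Or.inl rfl, ?_, fun ν hν => ?_⟩
      · simp [d, hMz μ₁ hμ₁ D.one, tw_one]
      · have hr' := (Finset.mem_filter.mp hν).2
        have e1 := hdot ν l μ₁ 1 z D.one hr'.1 hl
        rw [if_neg (fun h => D.not_rel_base_one hz1 (D.rel_symm h)), if_neg (D.not_rel_one hr'.1),
          if_neg (fun h => D.not_rel_base_one hz1 (D.rel_symm h)), if_neg (D.not_rel_one hl)] at e1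
        have e2 := hdotX (u ν) (D.d (D.tw μ₁ D.one) (D.tw 1 D.one)) (Xf ν) (hXf ν hν).2
        rw [Finset.sum_congr rfl fun χ _ => mul_comm _ _] at e2
        simp only [hu, ha] at e2
        rw [e2] at e1
        have h1 : D.d (D.tw μ₁ D.one) (D.tw 1 D.one) ψ = -(D.mult ψ D.one.1 : ℤ) := by
          simp [d, hMz μ₁ hμ₁ D.one, tw_one]
        linarith
  set α := D.d (D.tw μ D.one) (D.tw 1 D.one) with hα
  set m := (D.mult ψ D.one.1 : ℤ) with hmdef
  have hm1 : 1 ≤ m := by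
    have : 0 < D.mult ψ D.one.1 := Nat.pos_of_ne_zero hm
    rw [hmdef]; exact_mod_cast this
  have hα1 : α (gone G) = -1 := by
    rw [hα, d, D.mult_gone_of_ne (fun h => hμ1 ?_), tw_one, D.mult_gone_one]
    · norm_num
    · rw [← D.tw_one D.one] at h
      exact (D.tw_inj h).1
  have hXg : ∀ ν ∈ R, Xf ν ≠ gone G := by
    intro ν hν h
    have h' := (hXf ν hν).2 (gone G)
    rw [h, if_pos rfl, if_neg (Ne.symm hψ)] at h'
    have hr' := (Finset.mem_filter.mp hν).2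
    simp only [hu, d, ha] at h'
    rw [D.mult_gone_of_ne (fun e => hr'.1 ?_), D.mult_gone_of_ne (fun e => hl ?_)] at h'
    · norm_num at h'
    · rw [← D.tw_one D.one] at e
      exact (D.tw_inj e).1
    · rw [← D.tw_one D.one] at e
      exact (D.tw_inj e).1
  have hnormα : ∑ χ, α χ * α χ = (e : ℤ) + 1 := by
    refine mul_left_cancel₀ hC0.ne' ?_
    rw [hα, D.sum_d_mul (D.supp_tw_sub μ 1 D.one) (D.supp_tw_sub μ 1 D.one),
      hS _ _ hμ1, if_pos (D.rel_refl _), D.S_of_not_rel (D.not_rel_one hμ1),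
      D.S_of_not_rel (fun h => D.not_rel_one hμ1 (D.rel_symm h))]
    have : D.S (D.tw 1 D.one) (D.tw 1 D.one) = Nat.card D.N :=
      Nat.card_congr (Equiv.subtypeUnivEquiv fun g => by rw [cg_tw, lg_one, zg_one])
    rw [this, he]
    push_cast
    ring
  set T := insert (gone G) (insert ψ (R.image Xf)) with hT
  have hψI : ψ ∉ R.image Xf := fun h => by
    obtain ⟨ν, hν, e'⟩ := Finset.mem_image.mp h
    exact (hXf ν hν).1 e'
  have hgI : gone G ∉ insert ψ (R.image Xf) := fun h => by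
    rcases Finset.mem_insert.mp h with h | h
    · exact hψ h.symm
    · obtain ⟨ν, hν, e'⟩ := Finset.mem_image.mp h
      exact hXg ν hν e'
  have hsumT : ∑ χ ∈ T, α χ * α χ = 1 + ((c - m) * (c - m) + (R.image Xf).card * (m * m)) := by
    rw [hT, Finset.sum_insert hgI, Finset.sum_insert hψI, hα1, hcψ,
      Finset.sum_congr rfl (g := fun _ => m * m) fun X hX' => ?_, Finset.sum_const, nsmul_eq_mul]
    · ring
    · obtain ⟨ν, hν, rfl⟩ := Finset.mem_image.mp hX'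
      rw [hcX ν hν]; ring
  have hle : ∑ χ ∈ T, α χ * α χ ≤ (e : ℤ) + 1 := hnormα ▸
    Finset.sum_le_sum_of_subset_of_nonneg (Finset.subset_univ _) fun χ _ _ => mul_self_nonneg _
  rw [hsumT] at hle
  have hre : (e : ℤ) ≤ ((R.image Xf).card : ℤ) := by exact_mod_cast hr
  have hmm : 1 ≤ m * m := by nlinarith
  have hcm : (R.image Xf).card * (m * m) ≥ ((R.image Xf).card : ℤ) := by nlinarith
  have hsq := mul_self_nonneg (c - m)
  have hm_eq : m = 1 ∨ e = 0 := by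
    rcases hc0 with rfl | rfl
    · nlinarith
    · rcases lt_or_eq_of_le hm1 with h2 | h2
      · exfalso; nlinarith
      · exact Or.inl h2.symm
  rcases hc0 with rfl | rfl
  · nlinarith
  have hm' : m = 1 := by
    rcases lt_or_eq_of_le hm1 with h2 | h2
    · exfalso; nlinarith
    · exact h2.symm
  rw [hm'] at hle hsumT hcψ
  have hrest : ∀ χ, χ ∉ T → α χ = 0 := by
    intro χ hχ
    by_contra h0
    have h4 : ∑ y ∈ insert χ T, α y * α y ≤ (e : ℤ) + 1 := hnormα ▸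
      Finset.sum_le_sum_of_subset_of_nonneg (Finset.subset_univ _) fun y _ _ => mul_self_nonneg _
    rw [Finset.sum_insert hχ, hsumT] at h4
    have := mul_self_pos.mpr h0
    linarith
  have h5 : ∑ χ, α χ * (deg χ : ℤ) = 0 := D.sum_d_deg
  rw [← Finset.sum_subset (Finset.subset_univ T) (fun χ _ hχ => by rw [hrest χ hχ, zero_mul]),
    hT, Finset.sum_insert hgI, Finset.sum_insert hψI, hα1, hcψ] at h5
  rw [Finset.sum_congr rfl (g := fun X => -1 * (deg X : ℤ)) fun X hX' => by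
    obtain ⟨ν, hν, rfl⟩ := Finset.mem_image.mp hX'
    rw [hcX ν hν, hm']] at h5
  have := deg_pos (gone G)
  have h6 : 0 ≤ ∑ X ∈ R.image Xf, (deg X : ℤ) := Finset.sum_nonneg fun X _ => by positivity
  simp only [neg_one_mul, Finset.sum_neg_distrib] at h5
  omega

end Core

end Split

end Cfsg.Agent.Char.SharedCent
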