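import Cfsg.Agent.Lib.Char.SharedCentralizerCore
import Cfsg.Agent.Lib.Char.DegreeIndex
import Mathlib.GroupTheory.Transfer
import Mathlib.GroupTheory.SchurZassenhaus

/-!
# Characters of small degree when Sylow elements share one centralizer
-/

set_option autoImplicit false
set_option linter.style.haveILetI false

namespace Cfsg.Agent.Char.SharedCent

open Cfsg Cfsg.Agent.Char
open scoped ComplexConjugate

universe u

variable {G : Type u} [Group G]

/-- Conjugation mapping a finite subgroup into itself is in the normalizer. -/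
theorem mem_normalizer_of_map_le [Finite G] {H : Subgroup G} {g : G}
    (h : ∀ w ∈ H, g * w * g⁻¹ ∈ H) : g ∈ Subgroup.normalizer (H : Set G) := by
  have hle : H.map (MulAut.conj g).toMonoidHom ≤ H := by
    rintro _ ⟨w, hw, rfl⟩
    exact h w hw
  have heq := Subgroup.eq_of_le_of_card_ge hle
    (by rw [Subgroup.card_map_of_injective (MulAut.conj g).injective])
  refine Subgroup.mem_normalizer_iff.mpr fun w => ⟨h w, fun hw => ?_⟩
  rw [← heq] at hw
  obtain ⟨t, ht, ht'⟩ := hw
  have : t = w := mul_left_cancel (mul_right_cancel (ht' : g * t * g⁻¹ = g * w * g⁻¹))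
  exact this ▸ ht

/-- The split data of a shared centralizer. -/
theorem exists_split [Finite G] (p : ℕ) [Fact p.Prime] (P : Sylow p G)
    (hstar : ∀ x ∈ (P : Subgroup G), x ≠ 1 →
      Subgroup.centralizer ({x} : Set G) = Subgroup.centralizer ((P : Subgroup G) : Set G)) :
    (∀ a ∈ (P : Subgroup G), ∀ b ∈ (P : Subgroup G), a * b = b * a) ∧
    ∃ D : Split G, D.P = (P : Subgroup G) ∧
      D.C = Subgroup.centralizer ((P : Subgroup G) : Set G) ∧
      D.N = Subgroup.normalizer ((P : Subgroup G) : Set G) := by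
  set C := Subgroup.centralizer ((P : Subgroup G) : Set G) with hC
  have hPC : (P : Subgroup G) ≤ C := fun x hx => by
    by_cases h : x = 1
    · rw [h]; exact one_mem _
    · rw [← hstar x hx h]; exact Subgroup.mem_centralizer_singleton_iff.mpr rfl
  have hcen : ∀ c ∈ C, ∀ y ∈ (P : Subgroup G), c * y = y * c := fun c hc y hy =>
    (Subgroup.mem_centralizer_iff.mp hc y hy).symm
  refine ⟨fun a ha b hb => hcen a (hPC ha) b hb, ?_⟩
  let Pc : Sylow p C := P.subtype hPC
  haveI : (Pc : Subgroup C).Normal := ⟨fun n hn c => by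
    have e : c * n = n * c := Subtype.ext (hcen c c.2 n hn)
    rw [e, mul_inv_cancel_right]; exact hn⟩
  have hcop := Pc.card_coprime_index
  obtain ⟨V, hV⟩ := Subgroup.exists_right_complement'_of_coprime hcop
  have hVc : Nat.card V = (Pc : Subgroup C).index := by
    rw [← hV.symm.index_eq_card]
  obtain ⟨E, hE1, hE0⟩ := Nat.chineseRemainder hcop 1 0
  have key : ∀ c : C, ∃ y : C, ∃ v : C, (y : G) ∈ (P : Subgroup G) ∧ v ∈ V ∧ c = y * v ∧ c ^ E = y := by
    intro c
    obtain ⟨⟨⟨y, hy⟩, ⟨v, hv⟩⟩, hyv, -⟩ := (Subgroup.isComplement'_def.mp hV).existsUnique c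
    refine ⟨y, v, hy, hv, hyv.symm, ?_⟩
    have hcomm : Commute y v := (Subtype.ext (hcen v v.2 y hy).symm : y * v = v * y)
    have h1 : y ^ E = y := by
      have h : (⟨y, hy⟩ : (Pc : Subgroup C)) ^ Nat.card (Pc : Subgroup C) = 1 := pow_card_eq_one'
      have h' : y ^ Nat.card (Pc : Subgroup C) = 1 := congrArg Subtype.val h
      conv_rhs => rw [← pow_one y]
      exact pow_eq_pow_iff_modEq.mpr (hE1.of_dvd (orderOf_dvd_of_pow_eq_one h'))
    have h2 : v ^ E = 1 := by
      have h : (⟨v, hv⟩ : V) ^ Nat.card V = 1 := pow_card_eq_one'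
      have h' : v ^ Nat.card V = 1 := congrArg Subtype.val h
      obtain ⟨j, hj⟩ := (Nat.modEq_zero_iff_dvd.mp hE0)
      rw [hj, ← hVc, pow_mul, h', one_pow]
    rw [← hyv, hcomm.mul_pow, h1, h2, mul_one]
  have hmem : ∀ c : C, ((c ^ E : C) : G) ∈ (P : Subgroup G) := fun c => by
    obtain ⟨y, v, hy, -, -, he⟩ := key c
    rw [he]; exact hy
  have hfix : ∀ c : C, (c : G) ∈ (P : Subgroup G) → c ^ E = c := fun c hc => by
    have h : (⟨c, hc⟩ : (Pc : Subgroup C)) ^ Nat.card (Pc : Subgroup C) = 1 := pow_card_eq_one'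
    have h' : c ^ Nat.card (Pc : Subgroup C) = 1 := congrArg Subtype.val h
    conv_rhs => rw [← pow_one c]
    exact pow_eq_pow_iff_modEq.mpr (hE1.of_dvd (orderOf_dvd_of_pow_eq_one h'))
  have hmul : ∀ a b : C, (a * b) ^ E = a ^ E * b ^ E := by
    intro a b
    obtain ⟨y, v, hy, hv, rfl, he⟩ := key a
    obtain ⟨y', v', hy', hv', rfl, he'⟩ := key b
    rw [he, he']
    have hc1 : v * y' = y' * v := Subtype.ext (hcen v v.2 y' hy')
    rw [show y * v * (y' * v') = (y * y') * (v * v') by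
      rw [mul_assoc, ← mul_assoc v, hc1]; group]
    have hcomm : Commute (y * y') (v * v') :=
      (Subtype.ext (hcen ((v * v' : C) : G) (v * v').2 ((y * y' : C) : G) (mul_mem hy hy')).symm :
        (y * y') * (v * v') = (v * v') * (y * y'))
    rw [hcomm.mul_pow, hfix (y * y') (mul_mem hy hy')]
    have h2 : (v * v') ^ E = 1 := by
      have h : (⟨v * v', mul_mem hv hv'⟩ : V) ^ Nat.card V = 1 := pow_card_eq_one'
      have h' : (v * v') ^ Nat.card V = 1 := congrArg Subtype.val h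
      obtain ⟨j, hj⟩ := (Nat.modEq_zero_iff_dvd.mp hE0)
      rw [hj, ← hVc, pow_mul, h', one_pow]
    rw [h2, mul_one]
  refine ⟨{
    P := (P : Subgroup G)
    C := C
    N := Subgroup.normalizer ((P : Subgroup G) : Set G)
    hPC := hPC
    hCN := fun c hc => mem_normalizer_of_map_le fun w hw => by
      rw [hcen c hc w hw, mul_inv_cancel_right]; exact hw
    π := MonoidHom.mk' (fun c => ⟨((c ^ E : C) : G), hmem c⟩) fun a b => by
      refine Subtype.ext ?_
      show (((a * b) ^ E : C) : G) = ((a ^ E : C) : G) * ((b ^ E : C) : G)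
      rw [hmul a b, Subgroup.coe_mul]
    π_fix := fun c h => by
      refine Subtype.ext ?_
      show ((c ^ E : C) : G) = (c : G)
      rw [hfix c h]
    cmem := ?_
    π_conj := ?_
    central := hcen
    fpf := ?_
    ti := ?_ }, rfl, rfl, rfl⟩
  · intro n hn c hc
    refine Subgroup.mem_centralizer_iff.mpr fun w hw => ?_
    have hw' : n⁻¹ * w * n ∈ (P : Subgroup G) :=
      (Subgroup.mem_normalizer_iff''.mp hn w).mp hw
    have := hcen c hc _ hw'
    calc w * (n * c * n⁻¹) = n * (n⁻¹ * w * n * c) * n⁻¹ := by group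
      _ = n * c * n⁻¹ * w := by rw [← this]; group
  · intro n _ c d hd
    show ((d ^ E : C) : G) = n * ((c ^ E : C) : G) * n⁻¹
    rw [SubgroupClass.coe_pow, SubgroupClass.coe_pow, hd, conj_pow]
  · intro n _ y hy hy1 h
    show n ∈ C
    rw [← hstar y hy hy1]
    exact Subgroup.mem_centralizer_singleton_iff.mpr h
  · intro g c d hd hc hd'
    have e : ((d ^ E : C) : G) = g * ((c ^ E : C) : G) * g⁻¹ := by
      rw [SubgroupClass.coe_pow, SubgroupClass.coe_pow, hd, conj_pow]
    have hc1 : ((c ^ E : C) : G) ≠ 1 := fun h => hc (Subtype.ext h)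
    have hd1 : ((d ^ E : C) : G) ≠ 1 := fun h => hd' (Subtype.ext h)
    refine mem_normalizer_of_map_le fun w hw => ?_
    have hwC : g * w * g⁻¹ ∈ C := by
      rw [← hstar _ (hmem d) hd1, Subgroup.mem_centralizer_singleton_iff, e]
      have := hcen w (hPC hw) _ (hmem c)
      calc g * w * g⁻¹ * (g * ((c ^ E : C) : G) * g⁻¹) = g * (w * ((c ^ E : C) : G)) * g⁻¹ := by group
        _ = g * ((c ^ E : C) : G) * g⁻¹ * (g * w * g⁻¹) := by rw [this]; group
    have h2 := hmem ⟨_, hwC⟩
    have e2 : ((⟨_, hwC⟩ : C) ^ E : C) = (⟨g * w * g⁻¹, hwC⟩ : C) := Subtype.ext (by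
      rw [SubgroupClass.coe_pow, conj_pow]
      have := congrArg Subtype.val (hfix ⟨w, hPC hw⟩ hw)
      rw [SubgroupClass.coe_pow] at this
      rw [this])
    rw [e2] at h2
    exact h2

namespace Split

variable (D : Split G)

section

variable [Fintype G] [Fintype D.C]

omit [Fintype D.C] in
/-- Every irreducible character of `C` splits. -/
theorem exists_tw (a : IrrCharacter D.C) : ∃ l z, a = D.tw l z := by
  haveI := Fintype.ofFinite D.C
  classical
  obtain ⟨n, ρ, hρ, hχ⟩ := a.2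
  haveI := hρ
  have hscal : ∀ y : D.C, (y : G) ∈ D.P → ∀ c, (a : D.C → ℂ) (y * c) =
      (a : D.C → ℂ) y / (a : D.C → ℂ) 1 * (a : D.C → ℂ) c := by
    intro y hy c
    have hf : IsClassFunction D.C (fun x => if x = y then (1 : ℂ) else 0) := by
      intro x h
      have hy' : h * y * h⁻¹ = y := by
        have : h * y = y * h := Subtype.ext (D.central h h.2 y hy)
        rw [this, mul_inv_cancel_right]
      have : h * x * h⁻¹ = y ↔ x = y := by
        constructor
        · intro e; rw [← hy'] at e; exact mul_left_cancel (mul_right_cancel e)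
        · intro e; rw [e, hy']
      simp [this]
    have h := sum_smul_rep_eq_smul_id ρ hf
    rw [Finset.sum_eq_single y (fun x _ hx => by simp [hx]) (by simp),
      Finset.sum_eq_single y (fun x _ hx => by simp [hx]) (by simp), if_pos rfl, one_smul,
      one_mul, ← ρ.char_one, hχ] at h
    conv_lhs => rw [← hχ]
    rw [Representation.character, map_mul, h]
    simp only [smul_mul_assoc, map_smul, smul_eq_mul]
    rw [show (LinearMap.id : (Fin n → ℂ) →ₗ[ℂ] (Fin n → ℂ)) * ρ c = ρ c from one_mul _]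
    rw [show LinearMap.trace ℂ (Fin n → ℂ) (ρ c) = (a : D.C → ℂ) c from congrFun hχ c]
  have ha1 := IsIrrCharacter.apply_one_ne_zero a.2
  let lf : D.P →* ℂ :=
    { toFun := fun y => (a : D.C → ℂ) ⟨y, D.hPC y.2⟩ / (a : D.C → ℂ) 1
      map_one' := div_self ha1
      map_mul' := fun x y => by
        have := hscal ⟨x, D.hPC x.2⟩ x.2 ⟨y, D.hPC y.2⟩
        rw [show (⟨x, D.hPC x.2⟩ : D.C) * ⟨y, D.hPC y.2⟩ = ⟨(x * y : D.P), D.hPC (x * y).2⟩ from rfl]
          at this
        rw [this]; field_simp }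
  set l := lf.toHomUnits with hl
  have hlv : ∀ y : D.C, ∀ hy : (y : G) ∈ D.P, (l ⟨y, hy⟩ : ℂ) = (a : D.C → ℂ) y / (a : D.C → ℂ) 1 :=
    fun y hy => rfl
  let z : IrrCharacter D.C := ⟨fun c => ((D.til l)⁻¹ c : ℂ) * (a : D.C → ℂ) c,
    D.isIrr_mul_linear (D.til l)⁻¹ a.2⟩
  have hz : D.PTriv (z : D.C → ℂ) := by
    intro y c hy
    show ((D.til l)⁻¹ (y * c) : ℂ) * (a : D.C → ℂ) (y * c) = ((D.til l)⁻¹ c : ℂ) * (a : D.C → ℂ) c
    rw [map_mul, Units.val_mul, hscal y hy c, ← hlv y hy, MonoidHom.inv_apply (D.til l) y,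
      D.til_P l y hy]
    have : ((l ⟨y, hy⟩)⁻¹ : ℂˣ) * (l ⟨y, hy⟩) = (1 : ℂˣ) := inv_mul_cancel _
    have h' := congrArg Units.val this
    rw [Units.val_mul, Units.val_one] at h'
    linear_combination (((D.til l)⁻¹ c : ℂ) * (a : D.C → ℂ) c) * h'
  refine ⟨l, ⟨z, hz⟩, Subtype.ext (funext fun c => ?_)⟩
  show _ = (D.til l c : ℂ) * (((D.til l)⁻¹ c : ℂ) * (a : D.C → ℂ) c)
  rw [← mul_assoc, ← Units.val_mul, MonoidHom.inv_apply, mul_inv_cancel, Units.val_one, one_mul]

theorem res_eq_sum [Fintype (IrrCharacter D.C)] (ψ : IrrCharacter G) :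
    D.res (ψ : G → ℂ) = ∑ a, (D.mult ψ a : ℂ) • (a : D.C → ℂ) := by
  simp only [← mult_spec]
  exact IsClassFunction.eq_sum (fun c h => IsCharacter.isClassFunction
    (IsIrrCharacter.isCharacter ψ.2) (c : G) h)

/-- If only constituents trivial on `P` occur then `P` is in the kernel. -/
theorem apply_eq_of_mult (ψ : IrrCharacter G)
    (h : ∀ l, l ≠ 1 → ∀ z, D.mult ψ (D.tw l z) = 0) (y : D.C) (hy : (y : G) ∈ D.P) :
    (ψ : G → ℂ) y = (ψ : G → ℂ) 1 := by
  classical
  haveI := Fintype.ofFinite (IrrCharacter D.C)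
  have e1 := congrFun (D.res_eq_sum ψ) y
  have e2 := congrFun (D.res_eq_sum ψ) 1
  simp only [res, OneMemClass.coe_one] at e1 e2
  rw [e1, e2]
  simp only [Finset.sum_apply, Pi.smul_apply, smul_eq_mul]
  refine Finset.sum_congr rfl fun a _ => ?_
  obtain ⟨l, z, rfl⟩ := D.exists_tw a
  by_cases hl : l = 1
  · subst hl
    rw [tw_one, PTriv.apply_P D z.2 y hy]
  · rw [h l hl z]; simp

theorem sum_mult_deg [Fintype (IrrCharacter D.C)] (ψ : IrrCharacter G) :
    ∑ a, D.mult ψ a * deg a = deg ψ := by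
  have e2 := congrFun (D.res_eq_sum ψ) 1
  simp only [res, OneMemClass.coe_one, Finset.sum_apply, Pi.smul_apply, smul_eq_mul,
    deg_spec] at e2
  exact_mod_cast e2.symm

/-- Orthogonality between functions with different `P`-parts. -/
theorem classInner_eq_zero_of_twist {f : D.C → ℂ} {ν μ : D.P →* ℂˣ}
    (hf : ∀ y c : D.C, ∀ hy : (y : G) ∈ D.P, f (y * c) = (ν ⟨y, hy⟩ : ℂ) * f c)
    (hne : ν ≠ μ) (z : D.Base) : classInner f (D.tw μ z : D.C → ℂ) = 0 := by
  obtain ⟨y, hy⟩ : ∃ y : D.P, ν y ≠ μ y := by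
    by_contra h; push Not at h; exact hne (MonoidHom.ext h)
  let y' : D.C := ⟨y, D.hPC y.2⟩
  have hy' : (y' : G) ∈ D.P := y.2
  have e : classInner f (D.tw μ z : D.C → ℂ) =
      ((ν y : ℂ) * conj (μ y : ℂ)) * classInner f (D.tw μ z : D.C → ℂ) := by
    simp only [classInner]
    rw [mul_left_comm ((ν y : ℂ) * conj (μ y : ℂ))]
    congr 1
    rw [Finset.mul_sum]
    refine (Fintype.sum_equiv (Equiv.mulLeft y') _ _ fun c => ?_).symm
    simp only [Equiv.coe_mulLeft, tw_apply]
    rw [hf y' c hy', map_mul (D.til μ), Units.val_mul, D.til_P μ y' hy', z.2 y' c hy']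
    simp only [map_mul]
    ring
  by_contra h0
  have h1 : (ν y : ℂ) * conj (μ y : ℂ) = 1 := by
    have := e.symm
    rwa [mul_eq_right₀ h0] at this
  have h2 : (μ y : ℂ) * conj (μ y : ℂ) = 1 := by
    have := D.norm_units (D.til μ) y'
    rwa [D.til_P μ y' hy'] at this
  refine hy (Units.ext ?_)
  calc (ν y : ℂ) = (ν y : ℂ) * ((μ y : ℂ) * conj (μ y : ℂ)) := by rw [h2, mul_one]
    _ = (μ y : ℂ) * ((ν y : ℂ) * conj (μ y : ℂ)) := by ring
    _ = μ y := by rw [h1, mul_one]

end

end Split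

/-- A character `ψ` with `P` in its kernel gives a proper normal subgroup over `P`. -/
theorem exists_normal_of_ker [Finite G] {P : Subgroup G} (ψ : IrrCharacter G)
    (hψ : (ψ : G → ℂ) ≠ 1) (hP : ∀ y ∈ P, (ψ : G → ℂ) y = (ψ : G → ℂ) 1) :
    ∃ K : Subgroup G, K.Normal ∧ K ≠ ⊤ ∧ P ≤ K := by
  haveI := Fintype.ofFinite G
  obtain ⟨n, ρ, hρ, hχ⟩ := ψ.2
  haveI := hρ
  refine ⟨ρ.toHomUnits.ker, MonoidHom.normal_ker _, fun htop => hψ ?_, fun y hy => ?_⟩
  · have hall : ∀ g : G, ρ g = LinearMap.id := fun g => by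
      have : g ∈ ρ.toHomUnits.ker := htop ▸ Subgroup.mem_top g
      exact congrArg Units.val (MonoidHom.mem_ker.mp this)
    have hn : Module.finrank ℂ (Fin n → ℂ) = 1 :=
      Nat.dvd_one.mp (Subgroup.index_top (G := G) ▸ degree_dvd_index_of_scalar ρ ⊤
        fun a _ => ⟨1, by rw [hall a, one_smul]; rfl⟩)
    funext g
    rw [← hχ, Representation.character, hall g, LinearMap.trace_id, hn, Nat.cast_one]
    rfl
  · refine MonoidHom.mem_ker.mpr (Units.ext ?_)
    have := hP y hy
    rw [← hχ, ρ.char_one, character_eq_finrank_iff] at this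
    exact this

/-- A character scalar on `P` of degree above one gives a proper normal subgroup over `P`. -/
theorem exists_normal_of_scalar [Finite G] {P : Subgroup G} (χ : IrrCharacter G)
    (h1 : (χ : G → ℂ) 1 ≠ 1) (hP : ∀ y ∈ P, ‖(χ : G → ℂ) y‖ = ‖(χ : G → ℂ) 1‖) :
    ∃ K : Subgroup G, K.Normal ∧ K ≠ ⊤ ∧ P ≤ K := by
  haveI := Fintype.ofFinite G
  obtain ⟨n, ρ, hρ, hχ⟩ := χ.2
  haveI := hρ
  let K : Subgroup G :=
    { carrier := {g | ∃ ω : ℂ, ρ g = ω • (LinearMap.id : (Fin n → ℂ) →ₗ[ℂ] (Fin n → ℂ))}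
      mul_mem' := by
        rintro a b ⟨s, hs⟩ ⟨t, ht⟩
        refine ⟨s * t, ?_⟩
        rw [map_mul, hs, ht]
        ext v; simp [smul_smul, mul_comm]
      one_mem' := ⟨1, by rw [map_one, one_smul]; rfl⟩
      inv_mem' := by
        rintro a ⟨s, hs⟩
        refine ⟨s⁻¹, ?_⟩
        have h : ρ a⁻¹ * ρ a = 1 := by rw [← map_mul, inv_mul_cancel, map_one]
        rw [hs] at h
        have hs0 : s ≠ 0 := fun e => by
          haveI := nontrivial_of_irreducible ρ
          rw [e, zero_smul, mul_zero] at h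
          exact zero_ne_one h
        have h' : s • ρ a⁻¹ = 1 := by
          rw [← h]; ext v; simp
        rw [← inv_smul_smul₀ hs0 (ρ a⁻¹), h']
        rfl }
  have hKn : K.Normal := ⟨by
    rintro a ⟨s, hs⟩ g
    refine ⟨s, ?_⟩
    have h : ρ g * ρ g⁻¹ = 1 := by rw [← map_mul, mul_inv_cancel, map_one]
    rw [map_mul, map_mul, hs]
    ext v
    have := LinearMap.congr_fun h v
    simp only [Module.End.mul_apply, Module.End.one_apply] at this
    simp [this]⟩
  refine ⟨K, hKn, fun htop => h1 ?_, fun y hy => ?_⟩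
  · have hn : Module.finrank ℂ (Fin n → ℂ) = 1 :=
      Nat.dvd_one.mp (Subgroup.index_top (G := G) ▸ degree_dvd_index_of_scalar ρ ⊤ fun a _ => by
        have ha : a ∈ K := htop ▸ Subgroup.mem_top a
        exact ha)
    rw [← hχ, ρ.char_one, hn, Nat.cast_one]
  · refine (norm_character_eq_iff ρ y).mp ?_
    have := hP y hy
    rw [← hχ, ρ.char_one, Complex.norm_natCast] at this
    exact this

/-- Brauer's theorem on small characters with a shared centralizer. -/
theorem small_character [Finite G] (p : ℕ) [Fact p.Prime] (P : Sylow p G)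
    (hstar : ∀ x ∈ (P : Subgroup G), x ≠ 1 →
      Subgroup.centralizer ({x} : Set G) = Subgroup.centralizer ((P : Subgroup G) : Set G))
    (χ : IrrCharacter G) (h1 : (χ : G → ℂ) ≠ 1) (x : ℕ) (hx : (χ : G → ℂ) 1 = (x : ℂ))
    (hdeg : x ^ 2 + 1 < Nat.card P) :
    (∃ K : Subgroup G, K.Normal ∧ K ≠ ⊤ ∧ (P : Subgroup G) ≤ K) ∨
      ((∃ N : Subgroup G, N.Normal ∧ N.index = Nat.card P) ∧ x = 1) := by
  classical
  haveI := Fintype.ofFinite G
  obtain ⟨hPab0, D, hDP, hDC, hDN⟩ := exists_split p P hstar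
  have hPab : ∀ a ∈ D.P, ∀ b ∈ D.P, a * b = b * a := by rw [hDP]; exact hPab0
  haveI := Fintype.ofFinite D.C
  haveI := Fintype.ofFinite D.N
  haveI := Fintype.ofFinite (IrrCharacter G)
  haveI := Fintype.ofFinite (IrrCharacter D.C)
  haveI := Fintype.ofFinite (D.P →* ℂˣ)
  have hmemP : ∀ y ∈ (P : Subgroup G), y ∈ D.P := fun y hy => by rw [hDP]; exact hy
  have hxd : Split.deg χ = x := by
    have := Split.deg_spec χ
    rw [hx] at this
    exact_mod_cast this.symm
  by_cases hker : ∀ l, l ≠ 1 → ∀ z, D.mult χ (D.tw l z) = 0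
  · exact Or.inl (exists_normal_of_ker χ h1 fun y hy =>
      D.apply_eq_of_mult χ hker ⟨y, D.hPC (hmemP y hy)⟩ (hmemP y hy))
  push Not at hker
  obtain ⟨l₀, hl₀, z₀, hm₀⟩ := hker
  set orb := (Finset.univ : Finset D.N).image fun g => D.cg g (D.tw l₀ z₀) with horbdef
  have horb := D.card_orbit_mul hPab hl₀ z₀
  have hex : orb.card ≤ x := by
    rw [← hxd, ← D.sum_mult_deg χ, Finset.card_eq_sum_ones]
    refine (Finset.sum_le_sum fun a ha => ?_).trans
      (Finset.sum_le_sum_of_subset (f := fun a => D.mult χ a * Split.deg a) (Finset.subset_univ _))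
    obtain ⟨g, -, rfl⟩ := Finset.mem_image.mp ha
    rw [D.mult_cg]
    exact Nat.mul_pos (Nat.pos_of_ne_zero hm₀) (Split.deg_pos _)
  rcases Nat.lt_or_ge x 2 with hx2 | hx2
  · -- linear: transfer
    have hx1 : x = 1 := by
      have := Split.deg_pos χ
      omega
    have he : orb.card = 1 := by
      have : 0 < orb.card := Finset.card_pos.mpr ⟨_, Finset.mem_image_of_mem _ (Finset.mem_univ (1 : D.N))⟩
      omega
    rw [← horbdef, he, one_mul] at horb
    have hCN : D.C = D.N := Subgroup.eq_of_le_of_card_ge D.hCN horb.symm.le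
    rw [hDC, hDN] at hCN
    refine Or.inr ⟨⟨(MonoidHom.transferSylow P hCN.symm.le).ker, MonoidHom.normal_ker _, ?_⟩, hx1⟩
    exact (MonoidHom.ker_transferSylow_isComplement' P hCN.symm.le).symm.index_eq_card
  -- the product with the conjugate
  set Φ : G → ℂ := fun g => (χ : G → ℂ) g * conj ((χ : G → ℂ) g) with hΦ
  have hΦc : IsCharacter G Φ :=
    isCharacter_mul (IsIrrCharacter.isCharacter χ.2)
      (isCharacter_conj (IsIrrCharacter.isCharacter χ.2))
  choose n hn using fun ψ : IrrCharacter G => exists_classInner_nat hΦc ψ.2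
  have hΦe : Φ = ∑ ψ, (n ψ : ℂ) • (ψ : G → ℂ) := by
    conv_lhs => rw [IsClassFunction.eq_sum (IsCharacter.isClassFunction hΦc)]
    simp only [hn]
  have hΦa : ∀ a : IrrCharacter D.C, classInner (D.res Φ) (a : D.C → ℂ) =
      ((∑ ψ, n ψ * D.mult ψ a : ℕ) : ℂ) := by
    intro a
    have : D.res Φ = ∑ ψ, (n ψ : ℂ) • D.res (ψ : G → ℂ) := by
      funext c
      have := congrFun hΦe (c : G)
      simpa [Split.res, Finset.sum_apply] using this
    rw [this, classInner_sum_left]
    simp [classInner_smul_left, D.mult_spec]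
  set L := (Finset.univ : Finset (D.P →* ℂˣ)).filter fun l => ∃ z, D.mult χ (D.tw l z) ≠ 0 with hL
  have hLc : L.card ≤ x := by
    rw [← hxd, ← D.sum_mult_deg χ]
    have hch : ∀ l ∈ L, ∃ z, D.mult χ (D.tw l z) ≠ 0 := fun l hl => (Finset.mem_filter.mp hl).2
    choose zf hzf using hch
    refine le_trans (Finset.card_le_card_of_injOn
      (t := (Finset.univ : Finset (IrrCharacter D.C)).filter fun a => D.mult χ a ≠ 0)
      (fun l => if h : l ∈ L then D.tw l (zf l h) else D.tw 1 D.one) (fun l hl => ?_) ?_) ?_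
    · simp only [Finset.coe_filter, Set.mem_ofPred_eq, Finset.mem_univ, true_and]
      rw [dif_pos (Finset.mem_coe.mp hl)]
      exact hzf l _
    · intro a ha b hb e
      simp only [dif_pos (Finset.mem_coe.mp ha), dif_pos (Finset.mem_coe.mp hb)] at e
      exact (D.tw_inj e).1
    · rw [Finset.card_eq_sum_ones]
      refine (Finset.sum_le_sum fun a ha => ?_).trans
        (Finset.sum_le_sum_of_subset (f := fun a => D.mult χ a * Split.deg a) (Finset.subset_univ _))
      exact Nat.mul_pos (Nat.pos_of_ne_zero (Finset.mem_filter.mp ha).2) (Split.deg_pos _)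
  set Df := insert 1 (L.offDiag.image fun q => q.1 * q.2⁻¹) with hDf
  have hDfc : Df.card + x ≤ x * x + 1 := by
    have h1 : Df.card ≤ L.offDiag.card + 1 :=
      (Finset.card_insert_le _ _).trans (Nat.add_le_add_right Finset.card_image_le 1)
    rw [Finset.offDiag_card] at h1
    have h2 : L.card * L.card - L.card ≤ x * x - x := by
      rw [← Nat.mul_sub_one, ← Nat.mul_sub_one]
      exact Nat.mul_le_mul hLc (Nat.sub_le_sub_right hLc 1)
    have h3 : x ≤ x * x := Nat.le_mul_self x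
    omega
  set M := (Finset.univ : Finset (D.P →* ℂˣ)) \ Df with hM
  have hM1 : (1 : D.P →* ℂˣ) ∉ M := by simp [hM, hDf]
  have hcardP : Fintype.card (D.P →* ℂˣ) = Nat.card (P : Subgroup G) := by
    rw [← Nat.card_eq_fintype_card, card_monoidHom_units,
      show commutator D.P = ⊥ from ?_, Subgroup.index_bot, hDP]
    rw [commutator_def, Subgroup.commutator_eq_bot_iff_le_centralizer]
    exact fun a _ b _ => Subtype.ext (hPab b b.2 a a.2)
  have hMc : orb.card < M.card := by
    rw [hM, Finset.card_univ_sdiff, hcardP]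
    rw [pow_two] at hdeg
    change x * x + 1 < Nat.card (P : Subgroup G) at hdeg
    omega
  have hMz : ∀ μ ∈ M, ∀ z, classInner (D.res Φ) (D.tw μ z : D.C → ℂ) = 0 := by
    intro μ hμ z
    have hres : D.res Φ = ∑ a, ∑ b, ((D.mult χ a : ℂ) * (D.mult χ b : ℂ)) •
        fun c => (a : D.C → ℂ) c * conj ((b : D.C → ℂ) c) := by
      funext c
      have e := congrFun (D.res_eq_sum χ) c
      simp only [Split.res, hΦ] at e ⊢
      rw [e]
      simp only [Finset.sum_apply, Pi.smul_apply, smul_eq_mul, map_sum, Finset.sum_mul,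
        Finset.mul_sum, map_mul, Complex.conj_natCast]
      rw [Finset.sum_comm]
      refine Finset.sum_congr rfl fun a _ => Finset.sum_congr rfl fun b _ => ?_
      ring
    rw [hres, classInner_sum_left]
    refine Finset.sum_eq_zero fun a _ => ?_
    rw [classInner_sum_left]
    refine Finset.sum_eq_zero fun b _ => ?_
    rw [classInner_smul_left]
    by_cases hma : D.mult χ a = 0
    · simp [hma]
    by_cases hmb : D.mult χ b = 0
    · simp [hmb]
    obtain ⟨la, za, rfl⟩ := D.exists_tw a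
    obtain ⟨lb, zb, rfl⟩ := D.exists_tw b
    rw [D.classInner_eq_zero_of_twist (ν := la * lb⁻¹) ?_ ?_ z, mul_zero]
    · intro y c hy
      simp only [Split.tw_apply, map_mul, Units.val_mul, MonoidHom.mul_apply, MonoidHom.inv_apply,
        D.til_P _ y hy, za.2 y c hy, zb.2 y c hy]
      have h2 : ((lb ⟨y, hy⟩)⁻¹ : ℂˣ) = (conj (lb ⟨y, hy⟩ : ℂ) : ℂ) := by
        have h3 := D.norm_units (D.til lb) y
        rw [D.til_P lb y hy] at h3
        rw [Units.val_inv_eq_inv_val]
        exact inv_eq_of_mul_eq_one_right h3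
      rw [h2]; ring
    · intro e
      refine (Finset.mem_sdiff.mp hμ).2 ?_
      by_cases hab : la = lb
      · have e0 : lb * lb⁻¹ = (1 : D.P →* ℂˣ) := MonoidHom.ext fun w => by simp
        rw [← e, hab, e0]; exact Finset.mem_insert_self _ _
      · exact Finset.mem_insert_of_mem (Finset.mem_image.mpr ⟨(la, lb), Finset.mem_offDiag.mpr
          ⟨Finset.mem_filter.mpr ⟨Finset.mem_univ _, za, hma⟩,
            Finset.mem_filter.mpr ⟨Finset.mem_univ _, zb, hmb⟩, hab⟩, e⟩)
  have hΦ1 : classInner (D.res Φ) (D.one.1 : D.C → ℂ) =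
      classInner (D.res (χ : G → ℂ)) (D.res (χ : G → ℂ)) := by
    simp [classInner, Split.res, Split.one, hΦ]
  by_cases hψ : ∃ ψ, ψ ≠ Split.gone G ∧ n ψ ≠ 0 ∧ D.mult ψ D.one.1 ≠ 0
  · obtain ⟨ψ, hψ1, hψn, hψm⟩ := hψ
    refine Or.inl (exists_normal_of_ker ψ (fun e => hψ1 (Subtype.ext e)) fun y hy => ?_)
    refine D.apply_eq_of_mult ψ (D.apply_eq_of_missing hPab orb.card horb.symm ?_ ψ hψ1 hψm M hM1
      hMc fun μ hμ z => ?_) ⟨y, D.hPC (hmemP y hy)⟩ (hmemP y hy)
    · rw [hDP]
      have := Nat.mul_le_mul hex hex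
      rw [pow_two] at hdeg
      change x * x + 1 < Nat.card (P : Subgroup G) at hdeg
      omega
    · have h0 := hMz μ hμ z
      rw [hΦa] at h0
      have h0' : ∑ χ', n χ' * D.mult χ' (D.tw μ z) = 0 := by exact_mod_cast h0
      exact (Nat.mul_eq_zero.mp (Finset.sum_eq_zero_iff.mp h0' ψ (Finset.mem_univ _))).resolve_left hψn
  · push Not at hψ
    have h1 : classInner (D.res (χ : G → ℂ)) (D.res (χ : G → ℂ)) = 1 := by
      rw [← hΦ1, hΦa]
      rw [Finset.sum_eq_single (Split.gone G) (fun ψ _ hne => by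
        by_cases hn0 : n ψ = 0
        · simp [hn0]
        · simp [hψ ψ hne hn0]) (by simp), D.mult_gone_one, mul_one]
      rw [← hn]
      show classInner Φ (1 : G → ℂ) = 1
      rw [← IsIrrCharacter.classInner_self χ.2]
      simp [classInner, hΦ]
    have hirr : IsIrrCharacter D.C (D.res (χ : G → ℂ)) :=
      isIrrCharacter_iff.mpr ⟨IsCharacter.restrict (IsIrrCharacter.isCharacter χ.2) D.C, h1⟩
    obtain ⟨l, z, hlz⟩ := D.exists_tw ⟨_, hirr⟩
    refine Or.inl (exists_normal_of_scalar χ (by rw [hx]; exact_mod_cast (by omega : x ≠ 1))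
      fun y hy => ?_)
    have hy' : y ∈ D.P := hmemP y hy
    have e1 := congrFun (congrArg Subtype.val hlz) ⟨y, D.hPC hy'⟩
    have e2 := congrFun (congrArg Subtype.val hlz) 1
    simp only [Split.res, Split.tw_apply, map_one, Units.val_one, one_mul, OneMemClass.coe_one,
      Split.PTriv.apply_P D z.2 ⟨y, D.hPC hy'⟩ hy'] at e1 e2
    rw [e1, e2, norm_mul, D.til_P l ⟨y, D.hPC hy'⟩ hy']
    have h3 := D.norm_units (D.til l) ⟨y, D.hPC hy'⟩
    rw [D.til_P l ⟨y, D.hPC hy'⟩ hy', Complex.mul_conj'] at h3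
    have h4 : ‖(l ⟨y, hy'⟩ : ℂ)‖ ^ 2 = 1 := by exact_mod_cast h3
    rw [(sq_eq_one_iff.mp h4).resolve_right (by linarith [norm_nonneg (l ⟨y, hy'⟩ : ℂ)]), one_mul]

end Cfsg.Agent.Char.SharedCent
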