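import Cfsg.Agent.Lib.Char.FeitCoherence
import Cfsg.Agent.Lib.Char.Signed
import Cfsg.Agent.Lib.Char.Integral
import Cfsg.Agent.Lib.Local.PGroup
import Cfsg.Agent.S1523
import Cfsg.Agent.S1531

/-!
# Sibley's coherence theorem for trivial intersection kernels in odd order normalizers
-/

set_option autoImplicit false
set_option linter.style.haveILetI false
set_option linter.unusedSectionVars false

namespace Cfsg.Agent.Char.Sibley

open Cfsg Cfsg.Agent.Char

universe u

section Pair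

variable {L : Type u} [Group L] [Fintype L] {G : Type u} [Group G] [Fintype G]

/-- A coherent extension on two characters of one degree can be turned round. -/
theorem flip_pair {a b : L → ℂ} (ha : IsIrrCharacter L a) (hb : IsIrrCharacter L b) (hab : a ≠ b)
    (h1 : a 1 = b 1) {σ τ : (L → ℂ) → (G → ℂ)} (hσ : IsLinearIsometryOn (zspan {a, b}) σ)
    (hστ : ∀ θ ∈ zspanOn {a, b} {1}ᶜ, σ θ = τ θ) :
    ∃ σ' : (L → ℂ) → (G → ℂ), IsLinearIsometryOn (zspan {a, b}) σ' ∧
      (∀ θ ∈ zspanOn {a, b} {1}ᶜ, σ' θ = τ θ) ∧ σ' a = -σ b ∧ σ' b = -σ a := by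
  classical
  have hma : a ∈ Submodule.span ℤ ({a, b} : Set (L → ℂ)) := Submodule.subset_span (Or.inl rfl)
  have hmb : b ∈ Submodule.span ℤ ({a, b} : Set (L → ℂ)) := Submodule.subset_span (Or.inr rfl)
  have haa := IsIrrCharacter.classInner_self ha
  have hbb := IsIrrCharacter.classInner_self hb
  have hab' := IsIrrCharacter.classInner_eq_zero ha hb hab
  have hba' := IsIrrCharacter.classInner_eq_zero hb ha hab.symm
  obtain ⟨σ', hσ', hT⟩ := exists_isometry_extension (L := L) (G := G) ({a, b} : Set (L → ℂ))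
    (by rintro φ (rfl | rfl) <;> simp [haa, hbb])
    (by rintro φ (rfl | rfl) ψ (rfl | rfl) h
        exacts [absurd rfl h, hab', hba', absurd rfl h])
    (fun φ => if φ = a then -σ b else -σ a)
    (fun φ _ => by
      show IsGeneralizedCharacter G (if φ = a then -σ b else -σ a)
      split_ifs
      exacts [isGeneralizedCharacter_neg (hσ.2.2.2 b hmb), isGeneralizedCharacter_neg (hσ.2.2.2 a hma)])
    (by
      intro φ hφ ψ hψ
      rcases hφ with h | h <;> rcases hψ with h' | h' <;>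
        (rw [h, h']
         simp [hab.symm, classInner_neg_left, classInner_neg_right, hσ.2.2.1 a hma b hmb,
          hσ.2.2.1 b hmb a hma, hσ.2.2.1 a hma a hma, hσ.2.2.1 b hmb b hmb, haa, hbb, hab', hba']))
  have hA : σ' a = -σ b := by rw [hT a (Or.inl rfl), if_pos rfl]
  have hB : σ' b = -σ a := by rw [hT b (Or.inr rfl), if_neg hab.symm]
  refine ⟨σ', hσ', fun θ hθ => ?_, hA, hB⟩
  obtain ⟨hθm, hθ1⟩ := mem_zspanOn_compl_one.mp hθ
  rw [← hστ θ hθ]
  obtain ⟨m, n, rfl⟩ := Submodule.mem_span_pair.mp hθm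
  have ha0 := IsIrrCharacter.apply_one_ne_zero ha
  have hmn : n = -m := by
    have : ((m : ℂ) + n) * a 1 = 0 := by
      simp only [Pi.add_apply, Pi.smul_apply, zsmul_eq_mul, Pi.mul_apply, Pi.intCast_apply, ← h1] at hθ1
      linear_combination hθ1
    have h2 := (mul_eq_zero.mp this).resolve_right ha0
    have h3 : m + n = 0 := by exact_mod_cast h2
    omega
  subst hmn
  rw [hσ'.1 _ (Submodule.smul_mem _ m hma) _ (Submodule.smul_mem _ _ hmb), hσ'.2.1 a hma, hσ'.2.1 b hmb,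
    hσ.1 _ (Submodule.smul_mem _ m hma) _ (Submodule.smul_mem _ _ hmb), hσ.2.1 a hma, hσ.2.1 b hmb,
    hA, hB]
  simp only [smul_neg, neg_smul, neg_neg]
  exact add_comm _ _

/-- The norm of a generalized character is a non-negative integer. -/
theorem norm_int {θ : G → ℂ} (h : IsGeneralizedCharacter G θ) :
    ∃ z : ℤ, 0 ≤ z ∧ classInner θ θ = z := by
  classical
  haveI := Fintype.ofFinite (IrrCharacter G)
  obtain ⟨c, -, hc⟩ := IsGeneralizedCharacter.exists_intCoeff h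
  exact ⟨∑ χ, c χ ^ 2, Finset.sum_nonneg fun _ _ => sq_nonneg _,
    IsGeneralizedCharacter.classInner_self_eq_sum_sq h c hc⟩

end Pair

variable {G : Type u} [Group G] [Fintype G] (L : Subgroup G) [Fintype L] (H : Subgroup L) [hHn : H.Normal]
  (hC : ∀ h ∈ H, h ≠ 1 → Subgroup.centralizer ({h} : Set L) ≤ H)
  (hTI : ∀ g : G, g ∉ L → ∀ h ∈ H, ∀ h' ∈ H, g * (h : G) * g⁻¹ = (h' : G) → h = 1)

include hTI in
/-- The kernel is a trivial intersection set for the subgroup. -/
theorem ti_map : ∀ g : G, g ∉ L → ∀ t ∈ ((H.map L.subtype : Subgroup G) : Set G),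
    g * t * g⁻¹ ∈ ((H.map L.subtype : Subgroup G) : Set G) → t = 1 := by
  rintro g hg t ⟨h, hh, rfl⟩ ⟨h', hh', he⟩
  rw [hTI g hg h hh h' hh' he.symm]
  rfl

variable [Fintype H]

/-- The members of the span are class functions. -/
theorem span_class {α : L → ℂ} (hα : α ∈ zspan (inducedIrrAbove H ⊥)) : IsClassFunction L α := by
  induction hα using Submodule.span_induction with
  | mem φ hφ =>
    obtain ⟨θ, -, -, -, he⟩ := hφ
    rw [he]
    exact isClassFunction_indFun H θ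
  | zero => exact fun _ _ => rfl
  | add x y _ _ hx hy => exact fun g h => by simp [hx g h, hy g h]
  | smul a x _ hx => exact fun g h => by simp [hx g h]

include hC in
/-- The members of the span vanish off the kernel. -/
theorem span_vanish {α : L → ℂ} (hα : α ∈ zspan (inducedIrrAbove H ⊥)) {x : L} (hx : x ∉ H) :
    α x = 0 := by
  induction hα using Submodule.span_induction with
  | mem φ hφ =>
    obtain ⟨h1, h2⟩ := Feit.mem_S_of_mem H hC hφ
    exact FK.vanish H hC h1 h2 hx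
  | zero => rfl
  | add a b _ _ ha hb => simp [ha, hb]
  | smul a b _ hb => simp [hb]

include hC hTI in
/-- Induction is a linear isometry on the span. -/
theorem ind_isometry :
    IsLinearIsometryOn (zspanOn (inducedIrrAbove H ⊥) {1}ᶜ) (fun α : L → ℂ => indFun L α) := by
  classical
  have hgen : ∀ α ∈ zspan (inducedIrrAbove H ⊥), IsGeneralizedCharacter L α := by
    intro α hα
    induction hα using Submodule.span_induction with
    | mem φ hφ => exact IsIrrCharacter.isGeneralized (Feit.mem_S_of_mem H hC hφ).1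
    | zero => exact isGeneralizedCharacter_zero
    | add x y _ _ hx hy => exact isGeneralizedCharacter_add hx hy
    | smul a x _ hx => exact isGeneralizedCharacter_zsmul hx a
  have hoff : ∀ α ∈ zspan (inducedIrrAbove H ⊥), ∀ x : L,
      (x : G) ∉ ((H.map L.subtype : Subgroup G) : Set G) → α x = 0 := fun α hα x hx =>
    span_vanish L H hC hα fun hxH => hx ⟨x, hxH, rfl⟩
  refine ⟨fun α _ β _ => indFun_add L α β, fun α _ n => ?_, fun α hα β hβ => ?_, fun α hα => ?_⟩
  · show indFun L (n • α) = n • indFun L α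
    rw [← Int.cast_smul_eq_zsmul ℂ, indFun_smul, Int.cast_smul_eq_zsmul]
  · exact classInner_indFun_ti _ L (ti_map L H hTI) (span_class L H hβ.1) (hoff α hα.1) (hoff β hβ.1)
      (mem_zspanOn_compl_one.mp hα).2
  · exact isGeneralizedCharacter_indFun L (hgen α hα.1)

omit [Fintype H] in
theorem ind_one {α : L → ℂ} (hα : α ∈ zspanOn (inducedIrrAbove H ⊥) {1}ᶜ) :
    (fun α : L → ℂ => indFun L α) α 1 = 0 := by
  show indFun L α 1 = 0
  rw [indFun_one_apply, (mem_zspanOn_compl_one.mp hα).2, mul_zero]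

/-- An induced character is constant on a normal subgroup in the kernel of the inducing character. -/
theorem ind_apply_kernel (Z : Subgroup L) [Z.Normal] (hZH : Z ≤ H) {φ : L → ℂ}
    (hφ : φ ∈ inducedIrrAbove H Z) {z : L} (hz : z ∈ Z) : φ z = φ 1 := by
  classical
  obtain ⟨θ, -, -, hker, he⟩ := hφ
  rw [congrFun he z, congrFun he 1, indFun_apply, indFun_apply]
  refine congrArg _ (Finset.sum_congr rfl fun x _ => ?_)
  have hm : x⁻¹ * z * x ∈ Z := by
    simpa using Subgroup.Normal.conj_mem inferInstance z hz x⁻¹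
  rw [extendByZero_of_mem _ _ (hZH hm), extendByZero_of_mem _ _ (by simp : x⁻¹ * 1 * x ∈ H),
    hker ⟨_, hZH hm⟩ hm]
  congr 1
  exact Subtype.ext (by simp)

include hC hTI in
/-- Sibley's theorem for a kernel of prime power order. -/
theorem sibley_pgroup (hH : H ≠ ⊤) (hodd : Odd (Nat.card L)) (p : ℕ) [hp : Fact p.Prime] (k₀ : ℕ)
    (hpk : Nat.card H = p ^ k₀) (hnab : ⁅H, H⁆ ≠ ⊥) :
    IsCoherent (inducedIrrAbove H ⊥) {1}ᶜ (fun α : L → ℂ => indFun L α) := by
  classical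
  let τ : (L → ℂ) → (G → ℂ) := fun α => indFun L α
  have hτ : IsLinearIsometryOn (zspanOn (inducedIrrAbove H ⊥) {1}ᶜ) τ := ind_isometry L H hC hTI
  have hτ1 : ∀ α ∈ zspanOn (inducedIrrAbove H ⊥) {1}ᶜ, τ α 1 = 0 := fun α hα => ind_one L H hα
  have hH1 : H ≠ ⊥ := fun h => hnab (le_bot_iff.mp (h ▸ Subgroup.commutator_le_self H))
  haveI := Fintype.ofFinite (IrrCharacter H)
  haveI := Fintype.ofFinite (IrrCharacter L)
  have hpg : IsPGroup p H := IsPGroup.of_card hpk
  haveI : Group.IsNilpotent H := hpg.isNilpotent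
  haveI : Group.IsSolvable H := inferInstance
  set e := H.index with hedef
  have he0 : e ≠ 0 := Subgroup.index_ne_zero_of_finite
  have he2 : 2 ≤ e := by
    have : H.index ≠ 1 := fun h => hH (Subgroup.index_eq_one.mp h)
    omega
  have hoddH : Odd (Nat.card H) := Odd.of_dvd_nat hodd H.card_subgroup_dvd_card
  have hp1 : Nat.card H ≡ 1 [MOD e] := Feit.card_modEq_one H hC H le_rfl
  have hk0 : k₀ ≠ 0 := fun h => hH1 (Subgroup.eq_bot_of_card_eq H (by rw [hpk, h, pow_zero]))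
  have hcop : Nat.Coprime p e := by
    refine hp.out.coprime_iff_not_dvd.mpr fun hd => ?_
    have h1 : Nat.card H ≡ 1 [MOD p] := hp1.of_dvd hd
    have h2 : Nat.card H ≡ 0 [MOD p] := Nat.modEq_zero_iff_dvd.mpr (hpk ▸ dvd_pow_self p hk0)
    have h3 : p ∣ 1 := Nat.modEq_zero_iff_dvd.mp (h1.symm.trans h2)
    exact hp.out.one_lt.ne' (Nat.dvd_one.mp h3)
  have hp2 : Odd p := Odd.of_dvd_nat hoddH (hpk ▸ dvd_pow_self p hk0)
  -- the central subgroup
  let Z : Subgroup L := ⁅H, H⁆ ⊓ Subgroup.centralizer (H : Set L)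
  haveI hZn : Z.Normal := inferInstance
  have hDlt : ⁅H, H⁆ < H := by
    refine lt_of_le_of_ne (Subgroup.commutator_le_self H) fun h => ?_
    haveI : Nontrivial H := (Subgroup.nontrivial_iff_ne_bot H).mpr hH1
    apply (Group.IsSolvable.commutator_lt_top_of_nontrivial H).ne
    apply Subgroup.map_injective H.subtype_injective
    rw [commutator_def, Subgroup.map_commutator, ← MonoidHom.range_eq_map, Subgroup.range_subtype, h]
  have hZD : Z ≤ ⁅H, H⁆ := inf_le_left
  have hZH : Z ≤ H := hZD.trans hDlt.le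
  have hZc : ∀ z ∈ Z, ∀ y ∈ H, z * y = y * z := fun z hz y hy =>
    (Subgroup.mem_centralizer_iff.mp hz.2 y hy).symm
  have hZ1 : Z ≠ ⊥ := by
    have hD0 : (⁅H, H⁆.subgroupOf H) ≠ ⊥ := fun h => hnab (by
      rw [Subgroup.subgroupOf_eq_bot] at h
      exact (inf_eq_left.mpr hDlt.le).symm.trans (disjoint_iff.mp h))
    obtain ⟨x, ⟨hx, hxc⟩, hx1⟩ : ∃ x, x ∈ (⁅H, H⁆.subgroupOf H) ⊓ Subgroup.center H ∧ x ≠ 1 := by
      by_contra hh
      push Not at hh
      exact Local.inf_center_ne_bot hpg (⁅H, H⁆.subgroupOf H) hD0 ((Subgroup.eq_bot_iff_forall _).mpr hh)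
    intro h
    have : (x : L) ∈ Z := ⟨Subgroup.mem_subgroupOf.mp hx, Subgroup.mem_centralizer_iff.mpr fun y hy =>
      congrArg Subtype.val (Subgroup.mem_center_iff.mp hxc ⟨y, hy⟩)⟩
    rw [h, Subgroup.mem_bot] at this
    exact hx1 (Subtype.ext this)
  -- degrees
  have hfin : (inducedIrrAbove H ⊥).Finite :=
    finite_of_orthogonal _
      (fun φ hφ => by rw [IsIrrCharacter.classInner_self (Feit.mem_S_of_mem H hC hφ).1]; exact one_ne_zero)
      (fun φ hφ ψ hψ h => IsIrrCharacter.classInner_eq_zero (Feit.mem_S_of_mem H hC hφ).1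
        (Feit.mem_S_of_mem H hC hψ).1 h)
  have hdeg : ∀ φ ∈ inducedIrrAbove H ⊥, ∃ f : ℕ, φ 1 = ((e * f : ℕ) : ℂ) ∧ (∃ i, f = p ^ i) ∧
      f ^ 2 ≤ Z.relIndex H ∧ (f = 1 → φ ∈ inducedIrrAbove H Z) := by
    rintro φ ⟨θ, hθ, hne, hker, hee⟩
    obtain ⟨f, hf0, hf⟩ := IsIrrCharacter.degree_pos hθ
    refine ⟨f, by rw [congrFun hee 1, indFun_one_apply, hf, Nat.cast_mul], ?_, ?_, fun h1 => ?_⟩
    · obtain ⟨i, -, hi⟩ := (Nat.dvd_prime_pow hp.out).mp (hpk ▸ degree_dvd_card hθ f hf)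
      exact ⟨i, hi⟩
    · have h := degree_sq_le_of_central (K := H) ⊥ ⊤ (Z.subgroupOf H) bot_le le_top
        (fun x hx y _ => by
          rw [Subgroup.mem_bot]
          refine Subtype.ext ?_
          simp only [Subgroup.coe_mul, Subgroup.coe_inv, Subgroup.coe_one]
          rw [hZc x (Subgroup.mem_subgroupOf.mp hx) y y.2]
          group) hθ (fun b hb => by rw [Subgroup.mem_bot.mp hb]) hf
      rw [Subgroup.index_top, one_pow, one_mul, Subgroup.relIndex_top_right] at h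
      exact h
    · refine ⟨θ, hθ, hne, fun a ha => ?_, hee⟩
      rw [h1, Nat.cast_one] at hf
      obtain ⟨l, hl⟩ := IsCharacter.exists_monoidHom (IsIrrCharacter.isCharacter hθ) hf
      have ha' : a ∈ commutator H := by
        have : (a : L) ∈ ⁅H, H⁆ := hZD ha
        have e1 : (commutator H).map H.subtype = ⁅H, H⁆ := by
          rw [commutator_def, Subgroup.map_commutator, ← MonoidHom.range_eq_map, Subgroup.range_subtype]
        rw [← e1] at this
        obtain ⟨b, hb, hba⟩ := this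
        rwa [← H.subtype_injective hba]
      rw [congrFun hl a, congrFun hl 1, map_one, MonoidHom.mem_ker.mp (Abelianization.commutator_subset_ker l ha')]
  choose! f hfdeg hfpow hfsq hflin using hdeg
  have hd : ∀ φ ∈ inducedIrrAbove H ⊥, φ 1 = ((fun φ => e * f φ) φ : ℂ) := hfdeg
  have hfpos : ∀ φ ∈ inducedIrrAbove H ⊥, 0 < f φ := fun φ hφ => by
    obtain ⟨i, hi⟩ := hfpow φ hφ
    rw [hi]
    exact pow_pos hp.out.pos i
  let SA : Subgroup L → Finset (L → ℂ) := fun A =>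
    (hfin.subset (inducedIrrAbove_subset_bot H A)).toFinset
  have hSA : ∀ A φ, φ ∈ SA A ↔ φ ∈ inducedIrrAbove H A := fun A φ => Set.Finite.mem_toFinset _
  have hSAc : ∀ A, (↑(SA A) : Set (L → ℂ)) = inducedIrrAbove H A := fun A => Set.Finite.coe_toFinset _
  have hSAsub : ∀ A, (↑(SA A) : Set (L → ℂ)) ⊆ inducedIrrAbove H ⊥ := fun A =>
    (hSAc A).le.trans (inducedIrrAbove_subset_bot H A)
  have hsum : ∀ A : Subgroup L, A.Normal → e * ∑ ξ ∈ SA A, f ξ ^ 2 + 1 = A.relIndex H := by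
    intro A hA
    haveI := hA
    have h := sum_sq_div_norm H A (SA A) (hSA A) (fun φ => e * f φ) (fun _ => 1)
      (fun φ hφ => hd φ (hSAsub A hφ))
      (fun φ hφ => by rw [IsIrrCharacter.classInner_self (Feit.mem_S_of_mem H hC (hSAsub A hφ)).1, Nat.cast_one])
    simp only [Nat.cast_one, div_one, Nat.cast_mul, mul_pow] at h
    rw [← Finset.mul_sum] at h
    have hne : (e : ℝ) ≠ 0 := Nat.cast_ne_zero.mpr he0
    refine Nat.cast_injective (R := ℝ) (mul_left_cancel₀ hne ?_)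
    push_cast
    linear_combination h
  have hirr : ∀ φ ∈ inducedIrrAbove H ⊥, IsIrrCharacter L φ := fun φ hφ =>
    (Feit.mem_S_of_mem H hC hφ).1
  have hconj : ∀ φ ∈ inducedIrrAbove H ⊥, conjFun φ ∈ inducedIrrAbove H ⊥ ∧ conjFun φ ≠ φ ∧
      f (conjFun φ) = f φ := by
    intro φ hφ
    have hc := inducedIrrAbove_conj H hφ
    refine ⟨hc, fun h => ?_, ?_⟩
    · obtain ⟨k, -, hk⟩ := (Feit.mem_S_of_mem H hC hφ).2
      have := real_irr_eq_one hodd ⟨φ, hirr φ hφ⟩ fun x => Complex.conj_eq_iff_im.mp (congrFun h x)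
      exact hk ((congrFun this k).trans (congrFun this 1).symm)
    · have h1 := hfdeg _ hc
      rw [conjFun, hfdeg φ hφ, Complex.conj_natCast, Nat.cast_inj] at h1
      exact (Nat.eq_of_mul_eq_mul_left (by omega) h1).symm
  have hcard2 : ∀ (T : Finset (L → ℂ)) (φ : L → ℂ), φ ∈ T → φ ∈ inducedIrrAbove H ⊥ →
      conjFun φ ∈ T → 2 ≤ T.card := fun T φ h1 h2 h3 =>
    Finset.one_lt_card.mpr ⟨φ, h1, conjFun φ, h3, (hconj φ h2).2.1.symm⟩
  -- the two extreme parts
  let Y := SA ⁅H, H⁆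
  let Sz := SA Z
  let X := SA ⊥ \ Sz
  have hXsub : (↑X : Set (L → ℂ)) ⊆ inducedIrrAbove H ⊥ := fun φ hφ =>
    hSAsub ⊥ (Finset.mem_sdiff.mp hφ).1
  have hYSz : Y ⊆ Sz := fun φ hφ => by
    obtain ⟨θ, hθ, hne, hker, hee⟩ := (hSA _ φ).mp hφ
    exact (hSA Z φ).mpr ⟨θ, hθ, hne, fun a ha => hker a (hZD ha), hee⟩
  have hSzS : Sz ⊆ SA ⊥ := fun φ hφ => (hSA ⊥ φ).mpr (hSAsub Z hφ)
  have hfY : ∀ φ ∈ Y, f φ = 1 := by
    intro φ hφ
    obtain ⟨θ, hθ, -, hker, hee⟩ := (hSA _ φ).mp hφ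
    have h1 : θ 1 = 1 := IsIrrCharacter.degree_one_of_commutator_ker hθ fun a b =>
      hker _ (by simpa [commutatorElement_def] using Subgroup.commutator_mem_commutator a.2 b.2)
    have h2 := hfdeg φ (hSAsub _ hφ)
    rw [congrFun hee 1, indFun_one_apply, h1, mul_one, Nat.cast_inj] at h2
    exact (Nat.eq_of_mul_eq_mul_left (by omega) (h2.symm.trans (mul_one e).symm))
  obtain ⟨η₀, hη₀⟩ : Y.Nonempty := by
    rw [Finset.nonempty_iff_ne_empty]
    intro h0
    have h := hsum ⁅H, H⁆ inferInstance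
    rw [show SA ⁅H, H⁆ = Y from rfl, h0, Finset.sum_empty, mul_zero, zero_add] at h
    exact hDlt.not_ge (Subgroup.relIndex_eq_one.mp h.symm)
  have hη₀S : η₀ ∈ inducedIrrAbove H ⊥ := hSAsub _ hη₀
  have hY2 : 2 ≤ Y.card := hcard2 Y η₀ hη₀ hη₀S
    ((hSA _ _).mpr (inducedIrrAbove_conj H ((hSA _ _).mp hη₀)))
  have hYcoh : IsCoherent (↑Y : Set (L → ℂ)) {1}ᶜ τ :=
    Feit.coherent_equal_degree H hC hτ hτ1 Y (hSAsub _) (e : ℂ)
      (fun φ hφ => by rw [hfdeg φ (hSAsub _ hφ), hfY φ hφ, mul_one]) hY2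
  have hX : e * ∑ ξ ∈ X, f ξ ^ 2 + Z.relIndex H = Nat.card H := by
    have h1 := hsum ⊥ inferInstance
    rw [Subgroup.relIndex_bot_left, ← Finset.sum_sdiff hSzS] at h1
    have h2 := hsum Z inferInstance
    rw [mul_add] at h1
    change e * ∑ ξ ∈ X, f ξ ^ 2 + e * ∑ ξ ∈ Sz, f ξ ^ 2 + 1 = _ at h1
    change e * ∑ ξ ∈ Sz, f ξ ^ 2 + 1 = _ at h2
    omega
  have hZlt : 3 * Z.relIndex H ≤ Nat.card H := by
    have h1 : 3 ≤ Nat.card Z := by
      have := Feit.succ_le_relIndex H hC hH ⊥ Z (bot_lt_iff_ne_bot.mpr hZ1) hZH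
      rw [Subgroup.relIndex_bot_left] at this
      omega
    have h2 := Subgroup.relIndex_mul_relIndex ⊥ Z H bot_le hZH
    rw [Subgroup.relIndex_bot_left, Subgroup.relIndex_bot_left] at h2
    rw [← h2]
    exact Nat.mul_le_mul_right _ h1
  have hZpow : ∀ φ ∈ inducedIrrAbove H ⊥, f φ ^ 2 ∣ Z.relIndex H ∧ f φ ^ 2 ∣ Nat.card H := by
    intro φ hφ
    obtain ⟨i, hi⟩ := hfpow φ hφ
    have hdvd : Z.relIndex H ∣ p ^ k₀ := hpk ▸ Subgroup.index_dvd_card _
    obtain ⟨j, -, hj⟩ := (Nat.dvd_prime_pow hp.out).mp hdvd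
    have h : f φ ^ 2 ∣ Z.relIndex H := by
      have hle := hfsq φ hφ
      rw [hi, hj, ← pow_mul] at hle ⊢
      exact pow_dvd_pow p ((Nat.pow_le_pow_iff_right hp.out.one_lt).mp hle)
    exact ⟨h, h.trans (Subgroup.index_dvd_card _)⟩
  obtain ⟨χ₀, hχ₀, hmin⟩ := X.exists_min_image f (by
    rw [Finset.nonempty_iff_ne_empty]
    intro h0
    rw [h0, Finset.sum_empty, mul_zero, zero_add] at hX
    have : 0 < Z.relIndex H := Nat.pos_of_ne_zero Subgroup.index_ne_zero_of_finite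
    omega)
  have hχ₀S : χ₀ ∈ inducedIrrAbove H ⊥ := hXsub hχ₀
  have hXconj : ∀ φ ∈ X, conjFun φ ∈ X := by
    intro φ hφ
    obtain ⟨h1, h2⟩ := Finset.mem_sdiff.mp hφ
    refine Finset.mem_sdiff.mpr ⟨(hSA _ _).mpr (hconj φ (hXsub hφ)).1, fun h => h2 ?_⟩
    have := inducedIrrAbove_conj H ((hSA _ _).mp h)
    rw [conjFun_conjFun] at this
    exact (hSA Z φ).mpr this
  have hf0 : 2 ≤ f χ₀ := by
    have := hfpos χ₀ hχ₀S
    rcases Nat.lt_or_ge (f χ₀) 2 with h | h
    · exact absurd ((hSA Z χ₀).mpr (hflin χ₀ hχ₀S (by omega))) (Finset.mem_sdiff.mp hχ₀).2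
    · exact h
  -- coherence of the faithful part
  have hXcoh : IsCoherent (↑X : Set (L → ℂ)) {1}ᶜ τ := by
    let X₀ := X.filter fun φ => f φ = f χ₀
    have hX₀ : IsCoherent (↑X₀ : Set (L → ℂ)) {1}ᶜ τ :=
      Feit.coherent_equal_degree H hC hτ hτ1 X₀ (fun φ hφ => hXsub (Finset.mem_filter.mp hφ).1)
        ((e * f χ₀ : ℕ) : ℂ)
        (fun φ hφ => by rw [hfdeg φ (hXsub (Finset.mem_filter.mp hφ).1), (Finset.mem_filter.mp hφ).2])
        (hcard2 X₀ χ₀ (Finset.mem_filter.mpr ⟨hχ₀, rfl⟩) hχ₀S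
          (Finset.mem_filter.mpr ⟨hXconj χ₀ hχ₀, (hconj χ₀ hχ₀S).2.2⟩))
    obtain ⟨U, hU, hUmax⟩ := (Set.toFinite {U : Finset (L → ℂ) | U ∈ X.powerset ∧ X₀ ⊆ U ∧
      IsCoherent (↑U : Set (L → ℂ)) {1}ᶜ τ}).exists_maximal
      ⟨X₀, Finset.mem_powerset.mpr (Finset.filter_subset _ _), le_rfl, hX₀⟩
    obtain ⟨hUX, hX₀U, hUc⟩ := hU
    rw [Finset.mem_powerset] at hUX
    rcases eq_or_ne U X with h | h
    · rwa [h] at hUc
    exfalso
    obtain ⟨χ, hχ, hχmin⟩ := (X \ U).exists_min_image f (Finset.sdiff_nonempty.mpr fun h' =>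
      h (le_antisymm hUX h'))
    obtain ⟨hχX, hχU⟩ := Finset.mem_sdiff.mp hχ
    have hlt0 : f χ₀ < f χ := lt_of_le_of_ne (hmin χ hχX) fun h' =>
      hχU (hX₀U (Finset.mem_filter.mpr ⟨hχX, h'.symm⟩))
    obtain ⟨i, hi⟩ := hfpow χ (hXsub hχX)
    obtain ⟨j, hj⟩ := hfpow χ₀ hχ₀S
    have hji : j < i := (Nat.pow_lt_pow_iff_right hp.out.one_lt).mp (hi ▸ hj ▸ hlt0)
    have h3 : 3 * f χ₀ ≤ f χ := by
      have hp3 : 3 ≤ p := by
        have := hp.out.two_le
        obtain ⟨t, ht⟩ := hp2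
        omega
      rw [hi, hj]
      calc 3 * p ^ j ≤ p * p ^ j := Nat.mul_le_mul_right _ hp3
        _ = p ^ (j + 1) := (pow_succ' p j).symm
        _ ≤ p ^ i := Nat.pow_le_pow_right hp.out.pos hji
    have hlow : f χ ^ 2 ≤ ∑ ξ ∈ X.filter (fun ξ => f ξ < f χ), f ξ ^ 2 := by
      refine Nat.le_of_dvd (Finset.sum_pos (fun ξ hξ => pow_pos (hfpos ξ (hXsub (Finset.mem_filter.mp hξ).1)) 2)
        ⟨χ₀, Finset.mem_filter.mpr ⟨hχ₀, hlt0⟩⟩) ?_
      have hall : f χ ^ 2 ∣ ∑ ξ ∈ X, f ξ ^ 2 := by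
        refine (Nat.Coprime.dvd_mul_left (k := f χ ^ 2) (m := e) ?_).mp ?_
        · rw [hi, ← pow_mul]
          exact hcop.pow_left _
        · exact (Nat.dvd_add_left (hZpow χ (hXsub hχX)).1).mp (hX ▸ (hZpow χ (hXsub hχX)).2)
      rw [← Finset.sum_filter_add_sum_filter_not X (fun ξ => f ξ < f χ)] at hall
      refine (Nat.dvd_add_left ?_).mp hall
      refine Finset.dvd_sum fun ξ hξ => pow_dvd_pow_of_dvd ?_ 2
      obtain ⟨hξX, hξ'⟩ := Finset.mem_filter.mp hξ
      obtain ⟨l, hl⟩ := hfpow ξ (hXsub hξX)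
      rw [hi, hl] at hξ' ⊢
      exact pow_dvd_pow p ((Nat.pow_le_pow_iff_right hp.out.one_lt).mp (not_lt.mp hξ'))
    have hsubU : X.filter (fun ξ => f ξ < f χ) ⊆ U := fun ξ hξ => by
      obtain ⟨hξX, hξ'⟩ := Finset.mem_filter.mp hξ
      by_contra hh
      exact (not_le_of_gt hξ') (hχmin ξ (Finset.mem_sdiff.mpr ⟨hξX, hh⟩))
    obtain ⟨U', h1, h2, -, h5⟩ := Feit.coherent_union_irr H hC hτ hτ1 (fun φ => e * f φ) hd U
      (fun φ hφ => hXsub (hUX hφ)) hUc (hX₀U (Finset.mem_filter.mpr ⟨hχ₀, rfl⟩)) {χ}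
      (by simpa using hXsub hχX)
      (fun ξ hξ => by
        rw [Finset.mem_singleton] at hξ
        rw [hξ, hi, hj]
        exact mul_dvd_mul_left e (pow_dvd_pow p hji.le))
      (fun ξ hξ => by
        rw [Finset.mem_singleton] at hξ
        rw [hξ]
        simp only [mul_pow, ← Finset.mul_sum]
        refine lt_of_lt_of_le ?_ (Nat.mul_le_mul_left (e ^ 2) (hlow.trans (Finset.sum_le_sum_of_subset hsubU)))
        calc 2 * (e * f χ₀) * (e * f χ) = e ^ 2 * (2 * f χ₀ * f χ) := by ring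
          _ < e ^ 2 * f χ ^ 2 := Nat.mul_lt_mul_of_pos_left (by nlinarith) (pow_pos (by omega) 2))
    have hins : insert χ U ⊆ U' := Finset.insert_subset (h2 (Finset.mem_singleton_self χ)) h1
    have hinsX : insert χ U ⊆ X := Finset.insert_subset hχX hUX
    have hc' : IsCoherent (↑(insert χ U) : Set (L → ℂ)) {1}ᶜ τ := by
      refine isCoherent_mono (Finset.coe_subset.mpr hins) h5 ?_
      obtain ⟨⟨α, hα, hne⟩, -⟩ := hUc
      exact ⟨α, ⟨zspan_mono (Finset.coe_subset.mpr (Finset.subset_insert χ U)) hα.1, hα.2⟩, hne⟩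
    exact hχU (hUmax ⟨Finset.mem_powerset.mpr hinsX, hX₀U.trans (Finset.subset_insert _ _), hc'⟩
      (Finset.subset_insert _ _) (Finset.mem_insert_self χ U))
  have hdisj : Disjoint (↑X : Set (L → ℂ)) ↑Y := Set.disjoint_left.mpr fun φ h1 h2 =>
    (Finset.mem_sdiff.mp h1).2 (hYSz h2)
  have hXY2 : (∃ a ∈ (↑X : Set (L → ℂ)), ∃ b ∈ (↑X : Set (L → ℂ)), a ≠ b) ∧
      ∃ a ∈ (↑Y : Set (L → ℂ)), ∃ b ∈ (↑Y : Set (L → ℂ)), a ≠ b :=
    ⟨⟨χ₀, hχ₀, conjFun χ₀, hXconj χ₀ hχ₀, (hconj χ₀ hχ₀S).2.1.symm⟩,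
      let ⟨a, ha, b, hb, hab⟩ := Finset.one_lt_card.mp hY2; ⟨a, ha, b, hb, hab⟩⟩
  obtain ⟨hXne, σ, hσ, hσα⟩ := hXcoh
  obtain ⟨-, ty, hty, htyα⟩ := hYcoh
  have horth : ∀ (σ ty : (L → ℂ) → (G → ℂ)), IsLinearIsometryOn (zspan ↑X) σ →
      (∀ θ ∈ zspanOn ↑X {1}ᶜ, σ θ = τ θ) → IsLinearIsometryOn (zspan ↑Y) ty →
      (∀ θ ∈ zspanOn ↑Y {1}ᶜ, ty θ = τ θ) →
      ∀ χ ∈ X, ∀ η ∈ Y, classInner (σ χ) (ty η) = 0 := fun σ ty h1 h2 h3 h4 =>
    (S1531.result L (inducedIrrAbove H ⊥) ↑X ↑Y hirr hXsub (hSAsub _) hdisj hXY2.1 hXY2.2 τ hτ hτ1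
      σ ty h1 h2 h3 h4).1
  -- the element to be decomposed
  set β : L → ℂ := (f χ₀ : ℤ) • η₀ - χ₀ with hβ
  have hβm : β ∈ zspanOn (inducedIrrAbove H ⊥) {1}ᶜ := mem_zspanOn_compl_one.mpr
    ⟨Submodule.sub_mem _ (Submodule.smul_mem _ _ (Submodule.subset_span hη₀S))
      (Submodule.subset_span hχ₀S), by
      rw [hβ, Pi.sub_apply, Pi.smul_apply, zsmul_eq_mul, hfdeg η₀ hη₀S, hfdeg χ₀ hχ₀S, hfY η₀ hη₀]
      push_cast; ring⟩
  have hβ' : β = (f χ₀ : ℂ) • η₀ - χ₀ := by
    rw [hβ, ← Int.cast_smul_eq_zsmul ℂ, Int.cast_natCast]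
  set D : G → ℂ := indFun L β with hD
  have hDgen : IsGeneralizedCharacter G D := hτ.2.2.2 β hβm
  have hinn : ∀ φ ∈ inducedIrrAbove H ⊥, ∀ ψ ∈ inducedIrrAbove H ⊥,
      classInner φ ψ = if φ = ψ then 1 else 0 := fun φ hφ ψ hψ => by
    split_ifs with h
    · rw [h]; exact IsIrrCharacter.classInner_self (hirr ψ hψ)
    · exact IsIrrCharacter.classInner_eq_zero (hirr φ hφ) (hirr ψ hψ) h
  have hne0 : η₀ ≠ χ₀ := fun h => (Finset.mem_sdiff.mp hχ₀).2 (h ▸ hYSz hη₀)
  have hDD : classInner D D = ((f χ₀ : ℤ) ^ 2 + 1 : ℤ) := by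
    rw [hD, hτ.2.2.1 β hβm β hβm, hβ', classInner_sub_left, classInner_sub_right, classInner_sub_right,
      classInner_smul_left, classInner_smul_left, classInner_smul_right, classInner_smul_right,
      hinn _ hη₀S _ hη₀S, hinn _ hη₀S _ hχ₀S, hinn _ hχ₀S _ hη₀S, hinn _ hχ₀S _ hχ₀S,
      if_pos rfl, if_neg hne0, if_neg hne0.symm, if_pos rfl, Complex.conj_natCast]
    push_cast
    ring
  -- inner products with a part of the isometry
  have htyY : ∀ (ty : (L → ℂ) → (G → ℂ)), IsLinearIsometryOn (zspan ↑Y) ty →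
      (∀ θ ∈ zspanOn ↑Y {1}ᶜ, ty θ = τ θ) → ∀ η ∈ Y, η ≠ η₀ →
      classInner D (ty η₀) - classInner D (ty η) = (f χ₀ : ℂ) := by
    intro ty h1 h2 η hη hne
    have hm : η₀ - η ∈ zspanOn (↑Y : Set (L → ℂ)) {1}ᶜ := mem_zspanOn_compl_one.mpr
      ⟨Submodule.sub_mem _ (Submodule.subset_span hη₀) (Submodule.subset_span hη), by
        rw [Pi.sub_apply, hfdeg η₀ hη₀S, hfdeg η (hSAsub _ hη), hfY η₀ hη₀, hfY η hη, sub_self]⟩
    have hηS : η ∈ inducedIrrAbove H ⊥ := hSAsub _ hη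
    have hne' : χ₀ ≠ η := fun h => (Finset.mem_sdiff.mp hχ₀).2 (h ▸ hYSz hη)
    rw [← classInner_sub_right, ← IsLinearIsometryOn.map_sub (P := Submodule.span ℤ (↑Y : Set (L → ℂ))) h1
      (Submodule.subset_span hη₀) (Submodule.subset_span hη), h2 _ hm, hD,
      hτ.2.2.1 β hβm _ ⟨zspan_mono (hSAsub _) hm.1, hm.2⟩, hβ', classInner_sub_left, classInner_sub_right,
      classInner_sub_right, classInner_smul_left, classInner_smul_left,
      hinn _ hη₀S _ hη₀S, hinn _ hη₀S _ hηS, hinn _ hχ₀S _ hη₀S, hinn _ hχ₀S _ hηS,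
      if_pos rfl, if_neg (Ne.symm hne), if_neg hne0.symm, if_neg hne']
    ring
  -- the congruence
  have hdvd : ∀ j : ℤ, classInner D (ty η₀) = j → (f χ₀ : ℤ) ∣ j := by
    intro j hj
    set μ : G → ℂ := ty η₀ with hμ
    have hη₀m : η₀ ∈ Submodule.span ℤ (↑Y : Set (L → ℂ)) := Submodule.subset_span hη₀
    have hμgen : IsGeneralizedCharacter G μ := hty.2.2.2 η₀ hη₀m
    have hμ1 : classInner μ μ = 1 := by
      rw [hμ, hty.2.2.1 η₀ hη₀m η₀ hη₀m, IsIrrCharacter.classInner_self (hirr _ hη₀S)]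
    let g : L → ℂ := fun x => μ x
    have hggen : IsGeneralizedCharacter L g := IsGeneralizedCharacter.restrict hμgen L
    have hgcl : IsClassFunction L g := IsGeneralizedCharacter.isClassFunction hggen
    set w : ℂ := classInner g χ₀ / (f χ₀ : ℂ) with hw
    have hf0C : (f χ₀ : ℂ) ≠ 0 := Nat.cast_ne_zero.mpr (by omega)
    have hwX : ∀ χ ∈ X, classInner g χ = w * (f χ : ℂ) := by
      intro χ hχ
      have hm : (f χ₀ : ℤ) • χ - (f χ : ℤ) • χ₀ ∈ zspanOn (↑X : Set (L → ℂ)) {1}ᶜ := mem_zspanOn_compl_one.mpr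
        ⟨Submodule.sub_mem _ (Submodule.smul_mem _ _ (Submodule.subset_span hχ))
          (Submodule.smul_mem _ _ (Submodule.subset_span hχ₀)), by
          rw [Pi.sub_apply, Pi.smul_apply, Pi.smul_apply, zsmul_eq_mul, zsmul_eq_mul,
            hfdeg χ (hXsub hχ), hfdeg χ₀ hχ₀S]
          push_cast; ring⟩
      have h0 : classInner (indFun L ((f χ₀ : ℤ) • χ - (f χ : ℤ) • χ₀)) μ = 0 := by
        rw [show indFun L ((f χ₀ : ℤ) • χ - (f χ : ℤ) • χ₀) = σ ((f χ₀ : ℤ) • χ - (f χ : ℤ) • χ₀) from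
          (hσα _ hm).symm, IsLinearIsometryOn.map_sub (P := Submodule.span ℤ (↑X : Set (L → ℂ))) hσ
          (Submodule.smul_mem _ _ (Submodule.subset_span hχ))
          (Submodule.smul_mem _ _ (Submodule.subset_span hχ₀)),
          hσ.2.1 χ (Submodule.subset_span hχ), hσ.2.1 χ₀ (Submodule.subset_span hχ₀),
          ← Int.cast_smul_eq_zsmul ℂ, ← Int.cast_smul_eq_zsmul ℂ, classInner_sub_left,
          classInner_smul_left, classInner_smul_left, horth σ ty hσ hσα hty htyα χ hχ η₀ hη₀,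
          horth σ ty hσ hσα hty htyα χ₀ hχ₀ η₀ hη₀]
        ring
      rw [classInner_indFun L _ (IsGeneralizedCharacter.isClassFunction hμgen), ← classInner_conj_symm,
        map_eq_zero] at h0
      rw [← Int.cast_smul_eq_zsmul ℂ, ← Int.cast_smul_eq_zsmul ℂ, Int.cast_natCast, Int.cast_natCast,
        classInner_sub_right, classInner_smul_right, classInner_smul_right, Complex.conj_natCast,
        Complex.conj_natCast] at h0
      change (f χ₀ : ℂ) * classInner g χ - (f χ : ℂ) * classInner g χ₀ = 0 at h0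
      rw [hw, div_mul_eq_mul_div, eq_div_iff hf0C]
      linear_combination h0
    have hval : ∀ z ∈ Z, z ≠ 1 → g 1 - g z = w * (Nat.card H : ℂ) := by
      intro z hz hz1
      have hexp := IsClassFunction.eq_sum hgcl
      have hreg1 := sum_sq_degree (G := L)
      have hregz := regular_eq (G := L) z
      rw [if_neg hz1] at hregz
      refine mul_left_cancel₀ (Nat.cast_ne_zero.mpr he0 : (e : ℂ) ≠ 0) ?_
      rw [congrFun hexp 1, congrFun hexp z, Finset.sum_apply, Finset.sum_apply,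
        ← Finset.sum_sub_distrib, Finset.mul_sum]
      calc ∑ ξ : IrrCharacter L, (e : ℂ) * ((classInner g ξ • (ξ : L → ℂ)) 1 - (classInner g ξ • (ξ : L → ℂ)) z)
          = ∑ ξ : IrrCharacter L, w * ((ξ : L → ℂ) 1 ^ 2 - (ξ : L → ℂ) 1 * (ξ : L → ℂ) z) := by
            refine Finset.sum_congr rfl fun ξ _ => ?_
            rw [Pi.smul_apply, Pi.smul_apply, smul_eq_mul, smul_eq_mul]
            by_cases hξ : (ξ : L → ℂ) ∈ X
            · rw [hwX _ hξ, hfdeg _ (hXsub hξ)]
              push_cast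
              ring
            · have hk : (ξ : L → ℂ) z = (ξ : L → ℂ) 1 := by
                by_cases hrel : ∃ k ∈ H, (ξ : L → ℂ) k ≠ (ξ : L → ℂ) 1
                · have hS : (ξ : L → ℂ) ∈ inducedIrrAbove H ⊥ := by
                    rw [← Feit.S_eq H hC]
                    exact ⟨ξ.2, hrel⟩
                  have : (ξ : L → ℂ) ∈ Sz := by
                    by_contra hh
                    exact hξ (Finset.mem_sdiff.mpr ⟨(hSA ⊥ _).mpr hS, hh⟩)
                  exact ind_apply_kernel L H Z hZH ((hSA Z _).mp this) hz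
                · push Not at hrel
                  exact hrel z (hZH hz)
              rw [hk]
              ring
        _ = w * ((Nat.card L : ℂ) - 0) := by
            rw [← Finset.mul_sum, Finset.sum_sub_distrib, hreg1, hregz]
        _ = _ := by
            rw [← Subgroup.index_mul_card H]
            push_cast
            ring
    -- the Sylow subgroup
    have hnorm : ∀ x : G, x ∈ Subgroup.normalizer ((H.map L.subtype : Subgroup G) : Set G) ↔ x ∈ L := by
      intro x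
      refine ⟨fun hx => ?_, fun hx => ?_⟩
      · by_contra hh
        obtain ⟨h, hh1, hne⟩ : ∃ h ∈ H, h ≠ 1 := by
          by_contra hcon
          push Not at hcon
          exact hH1 ((Subgroup.eq_bot_iff_forall _).mpr hcon)
        obtain ⟨h', hh', he'⟩ := (Subgroup.mem_normalizer_iff.mp hx (h : G)).mp ⟨h, hh1, rfl⟩
        exact hne (hTI x hh h hh1 h' hh' he'.symm)
      · refine Subgroup.mem_normalizer_iff.mpr fun y => ⟨?_, ?_⟩
        · rintro ⟨h, hh, rfl⟩
          exact ⟨⟨x, hx⟩ * h * ⟨x, hx⟩⁻¹, hHn.conj_mem h hh _, rfl⟩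
        · rintro ⟨h, hh, he'⟩
          refine ⟨⟨x, hx⟩⁻¹ * h * ⟨x, hx⟩, by simpa using hHn.conj_mem h hh ⟨x, hx⟩⁻¹, ?_⟩
          simp only [map_mul, map_inv, he', Subgroup.coe_subtype]
          group
    let T : Subgroup G := H.map L.subtype
    have hTp : IsPGroup p T := hpg.map L.subtype
    obtain ⟨P, hTP⟩ := hTp.exists_le_sylow
    have hPT : (P : Subgroup G) = T := by
      by_contra hne
      have hlt : T.subgroupOf P < ⊤ := lt_of_le_of_ne le_top fun h =>
        hne (le_antisymm (Subgroup.subgroupOf_eq_top.mp h) hTP)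
      haveI : Group.IsNilpotent (P : Subgroup G) := P.isPGroup'.isNilpotent
      obtain ⟨x, hxN, hxT⟩ := SetLike.exists_of_lt
        (Group.normalizerCondition_of_isNilpotent (T.subgroupOf P) hlt)
      have hxL : (x : G) ∈ L := by
        refine (hnorm x).mp (Subgroup.mem_normalizer_iff.mpr fun y => ⟨fun hy => ?_, fun hy => ?_⟩)
        · exact ((Subgroup.mem_normalizer_iff.mp hxN ⟨y, hTP hy⟩).mp hy :)
        · have hyP : y ∈ (P : Subgroup G) := by
            have h' := Subgroup.mul_mem _ (Subgroup.mul_mem _ (Subgroup.inv_mem _ x.2) (hTP hy)) x.2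
            simpa [mul_assoc] using h'
          exact ((Subgroup.mem_normalizer_iff.mp hxN ⟨y, hyP⟩).mpr hy :)
      refine hxT ⟨⟨x, hxL⟩, ?_, rfl⟩
      obtain ⟨i, hi⟩ := P.isPGroup' x
      rw [SetLike.mem_coe, ← QuotientGroup.eq_one_iff, ← orderOf_eq_one_iff]
      refine Nat.eq_one_of_dvd_coprimes (hcop.pow_left i) (orderOf_dvd_of_pow_eq_one ?_) (orderOf_dvd_natCard _)
      rw [← QuotientGroup.mk_pow, QuotientGroup.eq_one_iff]
      rw [show (⟨x, hxL⟩ : L) ^ p ^ i = 1 from Subtype.ext (by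
        simpa using congrArg Subtype.val hi)]
      exact H.one_mem
    have hL : Subgroup.normalizer ((P : Subgroup G) : Set G) = L := by
      rw [hPT]
      exact Subgroup.ext hnorm
    have hTI' : IsTISubset ((P : Subgroup G) : Set G) := by
      intro x hx
      rw [hL] at hx
      rw [hPT]
      exact ti_map L H hTI x hx
    have hCL : ∀ z ∈ Z.map L.subtype, z ≠ 1 →
        Nat.card ↥(Subgroup.normalizer ((P : Subgroup G) : Set G) ⊓ Subgroup.centralizer ({z} : Set G)) =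
          Nat.card T := by
      rintro _ ⟨z, hz, rfl⟩ hz1
      refine congrArg (fun S : Subgroup G => Nat.card S) ?_
      rw [hL]
      ext x
      constructor
      · rintro ⟨hxL, hxc⟩
        exact ⟨⟨x, hxL⟩, hC z (hZH hz) (fun h => hz1 (by rw [h]; rfl))
          (Subgroup.mem_centralizer_singleton_iff.mpr (Subtype.ext
            (Subgroup.mem_centralizer_singleton_iff.mp hxc))), rfl⟩
      · rintro ⟨y, hy, rfl⟩
        exact ⟨y.2, Subgroup.mem_centralizer_singleton_iff.mpr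
          (congrArg Subtype.val (hZc z hz y hy).symm)⟩
    obtain ⟨z, hz, hz1⟩ : ∃ z ∈ Z, z ≠ 1 := by
      by_contra hcon
      push Not at hcon
      exact hZ1 ((Subgroup.eq_bot_iff_forall _).mpr hcon)
    have hmain : ∀ ψ : G → ℂ, IsIrrCharacter G ψ → (ψ = μ ∨ ψ = -μ) →
        ∃ t : ℤ, μ 1 - μ (z : G) = (Nat.card H : ℂ) * t := by
      intro ψ hψ hψμ
      have hgz : ∀ y ∈ Z, y ≠ 1 → μ (y : G) = μ 1 - w * (Nat.card H : ℂ) := fun y hy hy1 => by
        have h := hval y hy hy1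
        change μ 1 - μ (y : G) = _ at h
        linear_combination -h
      obtain ⟨n, dd, h1, h2, t, ht⟩ := S1523.result p P hTI'
        (by rw [hL]; exact hodd) (Z.map L.subtype)
        (fun h => hZ1 ((Subgroup.map_eq_bot_iff_of_injective _ L.subtype_injective).mp h))
        (hPT.symm ▸ Subgroup.map_mono hZH)
        (fun x hx y hy => by
          rw [hL] at hx
          obtain ⟨y, hy, rfl⟩ := hy
          exact ⟨⟨x, hx⟩ * y * ⟨x, hx⟩⁻¹, hZn.conj_mem y hy _, rfl⟩)
        (fun y hy v hv => by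
          rw [hPT] at hv
          obtain ⟨y, hy, rfl⟩ := hy
          obtain ⟨v, hv, rfl⟩ := hv
          exact congrArg Subtype.val (hZc y hy v hv))
        (fun a ha b hb ha1 hb1 => (hCL a ha ha1).trans (hCL b hb hb1).symm) ψ hψ
        (fun a ha b hb ha1 hb1 => by
          obtain ⟨a, ha, rfl⟩ := ha
          obtain ⟨b, hb, rfl⟩ := hb
          have e1 := hgz a ha (fun h => ha1 (by rw [h]; rfl))
          have e2 := hgz b hb (fun h => hb1 (by rw [h]; rfl))
          rcases hψμ with h | h <;> rw [h] <;> simp [e1, e2])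
        (z : G) ⟨z, hz, rfl⟩ (fun h => hz1 (Subtype.ext h))
      rw [hPT, Subgroup.card_map_of_injective L.subtype_injective] at ht
      have ht' : (dd : ℂ) - n = (Nat.card H : ℂ) * t := by exact_mod_cast ht
      rw [← h1, ← h2] at ht'
      rcases hψμ with h | h
      · exact ⟨t, by rw [← h]; exact ht'⟩
      · refine ⟨-t, ?_⟩
        rw [h, Pi.neg_apply, Pi.neg_apply] at ht'
        push_cast
        linear_combination -ht'
    obtain ⟨t, ht⟩ : ∃ t : ℤ, μ 1 - μ (z : G) = (Nat.card H : ℂ) * t := by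
      rcases IsGeneralizedCharacter.irr_or_neg hμgen hμ1 with h | h
      · exact hmain μ h (Or.inl rfl)
      · exact hmain (-μ) h (Or.inr rfl)
    have hwt : w = t := by
      have h := hval z hz hz1
      change μ 1 - μ (z : G) = _ at h
      rw [ht, mul_comm] at h
      exact (mul_right_cancel₀ (Nat.cast_ne_zero.mpr Nat.card_pos.ne') h).symm
    obtain ⟨c, hc⟩ := classInner_int_of_isGeneralized hggen
      (IsIrrCharacter.isGeneralized (hirr η₀ hη₀S))
    refine ⟨c - t, ?_⟩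
    have h := hj
    rw [hD, classInner_indFun L _ (IsGeneralizedCharacter.isClassFunction hμgen),
      ← classInner_conj_symm, hβ', classInner_sub_right, classInner_smul_right] at h
    change (starRingEnd ℂ) ((starRingEnd ℂ) (f χ₀ : ℂ) * classInner g η₀ - classInner g χ₀) = _ at h
    rw [hc, hwX χ₀ hχ₀, hwt] at h
    simp only [map_mul, map_sub, Complex.conj_natCast, map_intCast] at h
    have : ((j : ℤ) : ℂ) = (((f χ₀ : ℤ) * (c - t) : ℤ) : ℂ) := by
      push_cast
      rw [← h]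
      ring
    exact_mod_cast this
  -- normalise the isometry on the linear part
  obtain ⟨ty, hty, htyα, hty0⟩ : ∃ ty : (L → ℂ) → (G → ℂ), IsLinearIsometryOn (zspan ↑Y) ty ∧
      (∀ θ ∈ zspanOn ↑Y {1}ᶜ, ty θ = τ θ) ∧ classInner D (ty η₀) = (f χ₀ : ℂ) := by
    obtain ⟨j, hj⟩ := classInner_int_of_isGeneralized hDgen
      (hty.2.2.2 η₀ (Submodule.subset_span hη₀))
    obtain ⟨k, hk⟩ := hdvd j hj
    obtain ⟨m, hm, hmk⟩ : ∃ m : ℤ, j = (f χ₀ : ℤ) * (1 + m) ∧
        m * (2 + (Y.card : ℤ) * m) ≤ 0 := by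
      refine ⟨k - 1, by rw [hk]; ring, ?_⟩
      have hm : ∀ η ∈ Y, η ∈ Submodule.span ℤ (↑Y : Set (L → ℂ)) := fun η hη => Submodule.subset_span hη
      let c : (L → ℂ) → ℤ := fun η => if η = η₀ then j else j - f χ₀
      have hc : ∀ η ∈ Y, classInner D (ty η) = c η := by
        intro η hη
        by_cases h : η = η₀
        · simp [c, h, hj]
        · have := htyY ty hty htyα η hη h
          rw [hj] at this
          simp only [c, if_neg h]
          push_cast
          linear_combination -this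
      have hYY : ∀ η ∈ Y, ∀ η' ∈ Y, classInner (ty η) (ty η') = if η = η' then 1 else 0 := fun η hη η' hη' => by
        rw [hty.2.2.1 η (hm η hη) η' (hm η' hη'), hinn _ (hSAsub _ hη) _ (hSAsub _ hη')]
      let E : G → ℂ := ∑ η ∈ Y, (c η : ℂ) • ty η
      have hEgen : IsGeneralizedCharacter G E := isGeneralizedCharacter_sum _ _ fun η hη =>
        isGeneralizedCharacter_intCast_smul (hty.2.2.2 η (hm η hη)) _
      obtain ⟨nn, hnn, hnorm⟩ := norm_int (isGeneralizedCharacter_sub hDgen hEgen)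
      have hDE : classInner D E = ((∑ η ∈ Y, c η ^ 2 : ℤ) : ℂ) := by
        simp only [E, classInner_sum_right]
        push_cast
        refine Finset.sum_congr rfl fun η hη => ?_
        rw [classInner_smul_right, hc η hη, map_intCast, sq]
      have hEE : classInner E E = ((∑ η ∈ Y, c η ^ 2 : ℤ) : ℂ) := by
        simp only [E, classInner_sum_left]
        push_cast
        refine Finset.sum_congr rfl fun η hη => ?_
        rw [classInner_smul_left, classInner_sum_right, Finset.sum_eq_single η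
          (fun η' hη' hne => by rw [classInner_smul_right, hYY η hη η' hη', if_neg hne.symm, mul_zero])
          (fun h => absurd hη h), classInner_smul_right, hYY η hη η hη, if_pos rfl, map_intCast]
        ring
      rw [classInner_sub_left, classInner_sub_right, classInner_sub_right, hDD, hEE, hDE,
        ← classInner_conj_symm D E, hDE, map_intCast] at hnorm
      have hnn' : nn = (f χ₀ : ℤ) ^ 2 + 1 - ∑ η ∈ Y, c η ^ 2 := by
        have : ((nn : ℤ) : ℂ) = (((f χ₀ : ℤ) ^ 2 + 1 - ∑ η ∈ Y, c η ^ 2 : ℤ) : ℂ) := by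
          rw [← hnorm]; push_cast; ring
        exact_mod_cast this
      have hs : ∑ η ∈ Y, c η ^ 2 = (Y.card : ℤ) * (j - f χ₀) ^ 2 + (j ^ 2 - (j - f χ₀) ^ 2) := by
        rw [← Finset.add_sum_erase Y _ hη₀, Finset.sum_congr rfl fun η hη => by
          rw [show c η = j - f χ₀ from if_neg (Finset.mem_erase.mp hη).1],
          Finset.sum_const, Finset.card_erase_of_mem hη₀, show c η₀ = j from if_pos rfl, nsmul_eq_mul]
        push_cast [Nat.one_le_iff_ne_zero.mpr (by omega : Y.card ≠ 0)]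
        ring
      rw [hs, hk] at hnn'
      by_contra hcon
      have h4 : (4 : ℤ) ≤ (f χ₀ : ℤ) ^ 2 := by
        have : (2 : ℤ) ≤ f χ₀ := by exact_mod_cast hf0
        nlinarith
      have hexp : (f χ₀ : ℤ) ^ 2 * ((k - 1) * (2 + (Y.card : ℤ) * (k - 1))) = 1 - nn := by
        rw [hnn']; ring
      nlinarith
    have hn2 : (2 : ℤ) ≤ Y.card := by exact_mod_cast hY2
    have hm' : m = 0 ∨ (m = -1 ∧ (Y.card : ℤ) = 2) := by
      rcases lt_trichotomy m 0 with h | h | h
      · right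
        have h1 : 0 ≤ 2 + (Y.card : ℤ) * m := by
          by_contra hh
          nlinarith
        have h2 : m = -1 := by
          by_contra hh
          nlinarith [show m ≤ -2 by omega]
        subst h2
        omega
      · exact Or.inl h
      · nlinarith [mul_pos h (show (0 : ℤ) < 2 + (Y.card : ℤ) * m by nlinarith)]
    rcases hm' with rfl | ⟨rfl, hc2⟩
    · exact ⟨ty, hty, htyα, by rw [hj, hm]; push_cast; ring⟩
    · obtain ⟨a, b, hab, hYab⟩ := Finset.card_eq_two.mp (by exact_mod_cast hc2 : Y.card = 2)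
      obtain ⟨η₁, hη₁, hY01⟩ : ∃ η₁, η₁ ≠ η₀ ∧ (↑Y : Set (L → ℂ)) = {η₀, η₁} := by
        have hmem := hη₀
        rw [hYab, Finset.mem_insert, Finset.mem_singleton] at hmem
        rcases hmem with h | h
        · exact ⟨b, h ▸ hab.symm, by rw [hYab, h, Finset.coe_pair]⟩
        · exact ⟨a, h ▸ hab, by rw [hYab, h, Finset.coe_pair, Set.pair_comm]⟩
      have hη₁Y : η₁ ∈ Y := by
        rw [← Finset.mem_coe, hY01]
        exact Or.inr rfl
      have h01 := htyY ty hty htyα η₁ hη₁Y hη₁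
      rw [hY01] at hty htyα ⊢
      obtain ⟨ty', h1, h2, h3, -⟩ := flip_pair (hirr η₀ hη₀S) (hirr η₁ (hSAsub _ hη₁Y)) hη₁.symm
        (by rw [hfdeg η₀ hη₀S, hfdeg η₁ (hSAsub _ hη₁Y), hfY η₀ hη₀, hfY η₁ hη₁Y]) hty htyα
      refine ⟨ty', h1, h2, ?_⟩
      rw [h3, classInner_neg_right]
      rw [hj, hm] at h01
      push_cast at h01
      linear_combination h01
  -- the remainder
  have hη₀m : η₀ ∈ Submodule.span ℤ (↑Y : Set (L → ℂ)) := Submodule.subset_span hη₀
  have hη₀1 : classInner (ty η₀) (ty η₀) = 1 := by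
    rw [hty.2.2.1 η₀ hη₀m η₀ hη₀m, IsIrrCharacter.classInner_self (hirr _ hη₀S)]
  set D' : G → ℂ := D - (f χ₀ : ℂ) • ty η₀ with hD'
  have hD'gen : IsGeneralizedCharacter G D' := isGeneralizedCharacter_sub hDgen (by
    simpa using isGeneralizedCharacter_intCast_smul (hty.2.2.2 η₀ hη₀m) (f χ₀ : ℤ))
  have hsignD : IsIrrCharacter G D' ∨ IsIrrCharacter G (-D') := by
    refine IsGeneralizedCharacter.irr_or_neg hD'gen ?_
    rw [hD', classInner_sub_left, classInner_sub_right, classInner_sub_right, classInner_smul_left,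
      classInner_smul_left, classInner_smul_right, classInner_smul_right, hDD,
      ← classInner_conj_symm D (ty η₀), hty0, hη₀1, Complex.conj_natCast]
    push_cast
    ring
  have hrem : ∀ χ ∈ X, χ ≠ χ₀ →
      (f χ₀ : ℂ) * classInner D' (σ χ) - (f χ : ℂ) * classInner D' (σ χ₀) = (f χ : ℂ) := by
    intro χ hχ hne
    have hm : (f χ₀ : ℤ) • χ - (f χ : ℤ) • χ₀ ∈ zspanOn (↑X : Set (L → ℂ)) {1}ᶜ := mem_zspanOn_compl_one.mpr
      ⟨Submodule.sub_mem _ (Submodule.smul_mem _ _ (Submodule.subset_span hχ))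
        (Submodule.smul_mem _ _ (Submodule.subset_span hχ₀)), by
        rw [Pi.sub_apply, Pi.smul_apply, Pi.smul_apply, zsmul_eq_mul, zsmul_eq_mul,
          hfdeg χ (hXsub hχ), hfdeg χ₀ hχ₀S]
        push_cast; ring⟩
    have hz : ∀ ξ ∈ X, classInner D' (σ ξ) = classInner D (σ ξ) := fun ξ hξ => by
      rw [hD', classInner_sub_left, classInner_smul_left, ← classInner_conj_symm (σ ξ) (ty η₀),
        horth σ ty hσ hσα hty htyα ξ hξ η₀ hη₀, map_zero, mul_zero, sub_zero]
    have h := hτ.2.2.1 β hβm _ ⟨zspan_mono hXsub hm.1, hm.2⟩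
    rw [← hσα _ hm, IsLinearIsometryOn.map_sub (P := Submodule.span ℤ (↑X : Set (L → ℂ))) hσ
      (Submodule.smul_mem _ _ (Submodule.subset_span hχ))
      (Submodule.smul_mem _ _ (Submodule.subset_span hχ₀)),
      hσ.2.1 χ (Submodule.subset_span hχ), hσ.2.1 χ₀ (Submodule.subset_span hχ₀)] at h
    simp only [← Int.cast_smul_eq_zsmul ℂ, Int.cast_natCast] at h
    have hne' : η₀ ≠ χ := fun h' => (Finset.mem_sdiff.mp hχ).2 (h' ▸ hYSz hη₀)
    change classInner D _ = _ at h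
    rw [hβ', classInner_sub_right, classInner_smul_right, classInner_smul_right, Complex.conj_natCast,
      Complex.conj_natCast, classInner_sub_left, classInner_sub_right,
      classInner_sub_right, classInner_smul_left, classInner_smul_left, classInner_smul_right,
      classInner_smul_right, classInner_smul_right, classInner_smul_right, Complex.conj_natCast,
      Complex.conj_natCast, hinn _ hη₀S _ (hXsub hχ), hinn _ hη₀S _ hχ₀S, hinn _ hχ₀S _ (hXsub hχ),
      hinn _ hχ₀S _ hχ₀S, if_neg hne', if_neg hne0, if_neg hne.symm, if_pos rfl] at h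
    rw [← hz χ hχ, ← hz χ₀ hχ₀] at h
    linear_combination h
  have hsig : ∀ χ ∈ X, IsIrrCharacter G (σ χ) ∨ IsIrrCharacter G (-σ χ) := fun χ hχ =>
    IsGeneralizedCharacter.irr_or_neg (hσ.2.2.2 χ (Submodule.subset_span hχ))
      (by rw [hσ.2.2.1 χ (Submodule.subset_span hχ) χ (Submodule.subset_span hχ),
        IsIrrCharacter.classInner_self (hirr χ (hXsub hχ))])
  obtain ⟨σ, hσ, hσα, hDσ⟩ : ∃ σ' : (L → ℂ) → (G → ℂ), IsLinearIsometryOn (zspan ↑X) σ' ∧
      (∀ θ ∈ zspanOn ↑X {1}ᶜ, σ' θ = τ θ) ∧ D' = -σ' χ₀ := by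
    rcases classInner_signed hsignD (hsig χ₀ hχ₀) with h0 | ⟨s, hs, hDs, hs'⟩
    swap
    · rcases hs with rfl | rfl
      · exfalso
        have hc := hXconj χ₀ hχ₀
        have hne := (hconj χ₀ hχ₀S).2.1
        have h := hrem _ hc hne
        rw [hs', hDs, one_smul, hσ.2.2.1 χ₀ (Submodule.subset_span hχ₀) _ (Submodule.subset_span hc),
          hinn _ hχ₀S _ (hXsub hc), if_neg hne.symm, (hconj χ₀ hχ₀S).2.2] at h
        have : (f χ₀ : ℂ) = 0 := by linear_combination -h / 2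
        exact absurd (Nat.cast_eq_zero.mp this) (by omega)
      · exact ⟨σ, hσ, hσα, by rw [hDs, neg_smul, one_smul]⟩
    · have hval : ∀ χ ∈ X, χ ≠ χ₀ → ∃ s : ℂ, (s = 1 ∨ s = -1) ∧ D' = s • σ χ ∧
          (f χ₀ : ℂ) * s = (f χ : ℂ) := by
        intro χ hχ hne
        have h := hrem χ hχ hne
        rw [h0, mul_zero, sub_zero] at h
        rcases classInner_signed hsignD (hsig χ hχ) with h1 | ⟨s, hs, hDs, hs'⟩
        · rw [h1, mul_zero] at h
          exact absurd (Nat.cast_eq_zero.mp h.symm) (hfpos χ (hXsub hχ)).ne'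
        · exact ⟨s, hs, hDs, hs' ▸ h⟩
      have hc := hXconj χ₀ hχ₀
      have hne := (hconj χ₀ hχ₀S).2.1
      have hXpair : (↑X : Set (L → ℂ)) = {χ₀, conjFun χ₀} := by
        refine Set.Subset.antisymm (fun χ hχ => ?_) (Set.insert_subset hχ₀ (Set.singleton_subset_iff.mpr hc))
        by_contra hh
        simp only [Set.mem_insert_iff, Set.mem_singleton_iff, not_or] at hh
        obtain ⟨s, hs, hDs, -⟩ := hval χ hχ hh.1
        obtain ⟨t, ht, hDt, -⟩ := hval _ hc hne
        have h1 : classInner D' D' = 0 := by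
          nth_rw 1 [hDs]
          rw [hDt, classInner_smul_left, classInner_smul_right,
            hσ.2.2.1 χ (Submodule.subset_span hχ) _ (Submodule.subset_span hc),
            hinn _ (hXsub hχ) _ (hXsub hc), if_neg hh.2, mul_zero, mul_zero]
        rw [classInner_self_signed hsignD] at h1
        exact one_ne_zero h1
      obtain ⟨s, -, hDs, hs⟩ := hval _ hc hne
      rw [(hconj χ₀ hχ₀S).2.2] at hs
      have hs1 : s = 1 := by
        refine mul_left_cancel₀ (Nat.cast_ne_zero.mpr (by omega) : (f χ₀ : ℂ) ≠ 0) ?_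
        rw [hs, mul_one]
      rw [hXpair] at hσ hσα ⊢
      obtain ⟨σ', h1, h2, h3, -⟩ := flip_pair (hirr χ₀ hχ₀S) (hirr _ (hXsub hc)) hne.symm
        (by rw [hfdeg χ₀ hχ₀S, hfdeg _ (hXsub hc), (hconj χ₀ hχ₀S).2.2]) hσ hσα
      exact ⟨σ', h1, h2, by rw [h3, neg_neg, hDs, hs1, one_smul]⟩
  have hglue := (S1531.result L (inducedIrrAbove H ⊥) ↑X ↑Y hirr hXsub (hSAsub _) hdisj hXY2.1 hXY2.2
    τ hτ hτ1 σ ty hσ hσα hty htyα).2 ⟨χ₀, hχ₀, η₀, hη₀, by
      show indFun L (χ₀ 1 • η₀ - η₀ 1 • χ₀) = _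
      rw [hfdeg χ₀ hχ₀S, hfdeg η₀ hη₀S, hfY η₀ hη₀, mul_one, Nat.cast_mul, ← smul_smul, ← smul_sub,
        ← hβ', indFun_smul, ← hD]
      have hDeq : D = (f χ₀ : ℂ) • ty η₀ - σ χ₀ := by
        rw [sub_eq_add_neg, ← hDσ, hD']
        abel
      rw [hDeq, smul_sub, smul_smul]⟩
  rw [← Finset.coe_union] at hglue
  -- the middle part
  obtain ⟨U, h1, h2, h3, h5⟩ := Feit.coherent_union_irr H hC hτ hτ1 (fun φ => e * f φ) hd (X ∪ Y)
    (by rw [Finset.coe_union]; exact Set.union_subset hXsub (hSAsub _)) hglue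
    (ψ := η₀) (Finset.mem_union_right _ hη₀) Sz (hSAsub _)
    (fun χ _ => by rw [hfY η₀ hη₀, mul_one]; exact dvd_mul_right _ _)
    (fun χ hχ => by
      simp only [mul_pow, ← Finset.mul_sum]
      rw [hfY η₀ hη₀, mul_one]
      refine lt_of_lt_of_le ?_ (Nat.mul_le_mul_left (e ^ 2) (Finset.sum_le_sum_of_subset Finset.subset_union_left))
      have h4 : f χ ≤ Z.relIndex H := le_trans (Nat.le_self_pow two_ne_zero _) (hfsq χ (hSAsub Z hχ))
      have h5 : 2 * Z.relIndex H ≤ e * ∑ ξ ∈ X, f ξ ^ 2 := by omega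
      have hzs : e * f χ ^ 2 + 1 ≤ Z.relIndex H := by
        rw [← hsum Z inferInstance]
        exact Nat.add_le_add_right (Nat.mul_le_mul_left e
          (Finset.single_le_sum (f := fun ξ => f ξ ^ 2) (fun _ _ => Nat.zero_le _) hχ)) 1
      have h6 : e * f χ ≤ e * f χ ^ 2 := Nat.mul_le_mul_left e (Nat.le_self_pow two_ne_zero _)
      have h7 : 2 * e * f χ < e * ∑ ξ ∈ X, f ξ ^ 2 := by
        rw [mul_assoc]
        omega
      calc 2 * e * (e * f χ) = e * (2 * e * f χ) := by ring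
        _ < e * (e * ∑ ξ ∈ X, f ξ ^ 2) := Nat.mul_lt_mul_of_pos_left h7 (by omega)
        _ = e ^ 2 * ∑ ξ ∈ X, f ξ ^ 2 := by ring)
  have hU : (↑U : Set (L → ℂ)) = inducedIrrAbove H ⊥ := by
    refine Set.Subset.antisymm h3 fun φ hφ => ?_
    by_cases h : φ ∈ Sz
    · exact h2 h
    · exact h1 (Finset.mem_union_left _ (Finset.mem_sdiff.mpr ⟨(hSA ⊥ φ).mpr hφ, h⟩))
  rwa [hU] at h5

include hC hTI in
/-- Sibley's theorem. -/
theorem sibley (hH : H ≠ ⊤) (hH1 : H ≠ ⊥) (hodd : Odd (Nat.card L)) :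
    IsCoherent (inducedIrrAbove H ⊥) {1}ᶜ (fun α : L → ℂ => indFun L α) := by
  classical
  have he : Nat.card H ≠ H.index + 1 := by
    intro h
    obtain ⟨a, ha⟩ := Odd.of_dvd_nat hodd H.index_dvd_card
    obtain ⟨b, hb⟩ := Odd.of_dvd_nat hodd H.card_subgroup_dvd_card
    omega
  rcases Feit.feit_coherence H hC (ind_isometry L H hC hTI) (fun α hα => ind_one L H hα) hH hH1 he with
    h | ⟨p, hp, ⟨k, hk⟩, hnc, -⟩
  · exact h
  haveI := Fact.mk hp
  refine sibley_pgroup L H hC hTI hH hodd p k hk fun h => hnc ⟨⟨fun a b => Subtype.ext ?_⟩⟩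
  exact commutatorElement_eq_one_iff_commute.mp
    (Subgroup.mem_bot.mp (h.le (Subgroup.commutator_mem_commutator a.2 b.2)))

end Cfsg.Agent.Char.Sibley
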