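import Cfsg.Agent.Lib.Char.BlichfeldtHall
import Cfsg.Agent.Lib.Char.PPrimeKernel
import Cfsg.Agent.Lib.Char.Clifford
import Cfsg.Agent.Lib.Char.Extension
import Cfsg.Agent.Lib.Solv.PSolvable
import Cfsg.Agent.Lib.Solv.Coprime

/-!
# Faithful characters of small degree and normality of Sylow subgroups
-/

set_option autoImplicit false
set_option linter.style.haveILetI false

namespace Cfsg.Agent.Char.SmallDegree

open Cfsg Cfsg.Agent.Char
open Cfsg.Agent.Block (charDegree_cast charDegree_dvd_card)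
open Cfsg.Agent.Char.PPrime (apply_mul_of_ker)
open scoped ComplexConjugate commutatorElement

universe u

/-- A character is irreducible when a restriction is. -/
theorem irr_of_restrict {G : Type u} [Group G] [Finite G] {χ : G → ℂ} (hχ : IsCharacter G χ)
    (H : Subgroup G) (h : IsIrrCharacter H fun g : H => χ g) : IsIrrCharacter G χ := by
  classical
  haveI := Fintype.ofFinite H
  obtain ⟨m, ρ, rfl⟩ := hχ
  have h1 : Representation.IsIrreducible (ρ.comp H.subtype) :=
    (isIrreducible_iff_classInner (ρ.comp H.subtype)).mpr (IsIrrCharacter.classInner_self h)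
  haveI := isIrreducible_of_comp H.subtype ρ h1
  exact isIrrCharacter_character ρ

/-- An element commuting modulo the kernel scales the character. -/
theorem scale_of_commutator {G : Type u} [Group G] [Finite G] {χ : G → ℂ} (hχ : IsIrrCharacter G χ)
    {g : G} (hg : ∀ h : G, χ ⁅g, h⁆ = χ 1) : ∃ w : ℂ, ‖w‖ = 1 ∧ ∀ h, χ (g * h) = w * χ h := by
  classical
  obtain ⟨n, ρ, hρ, rfl⟩ := hχ
  haveI := hρ
  have hcomm : ∀ h, ρ g * ρ h = ρ h * ρ g := fun h => by
    have e : ρ ⁅g, h⁆ = 1 := by
      have := (character_eq_finrank_iff ρ ⁅g, h⁆).mp (by rw [hg h, ρ.char_one])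
      simpa [Module.End.one_eq_id] using this
    have e2 : g * h = ⁅g, h⁆ * (h * g) := by simp [commutatorElement_def, mul_assoc]
    rw [← map_mul, ← map_mul, e2, map_mul, e, one_mul]
  obtain ⟨w, hw⟩ := isScalar_of_commute ρ (ρ g) fun h => hcomm h
  have hval : ∀ h, ρ.character (g * h) = w * ρ.character h := fun h => by
    simp [Representation.character, map_mul, hw]
  refine ⟨w, ?_, hval⟩
  have hp : ∀ k : ℕ, ρ.character (g ^ k) = w ^ k * ρ.character 1 := by
    intro k
    induction k with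
    | zero => simp
    | succ k ih => rw [pow_succ', hval, ih, pow_succ', mul_assoc]
  have h := hp (orderOf g)
  rw [pow_orderOf_eq_one] at h
  have hne := IsIrrCharacter.apply_one_ne_zero (isIrrCharacter_character ρ)
  exact Complex.norm_eq_one_of_pow_eq_one (mul_right_cancel₀ hne (h.symm.trans (one_mul _).symm))
    (orderOf_pos g).ne'

/-- The configuration reached by the reduction. -/
theorem core {G : Type u} [Group G] [Finite G] (K : Subgroup G) [K.Normal] {q : ℕ} (hq : q.Prime)
    (hK : IsPGroup q K) {p : ℕ} (hp : p.Prime) (hqp : q ≠ p) {a : ℕ} (hKi : K.index = p ^ a)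
    (x : G) (hx : IsPGroup p (Subgroup.zpowers x)) (hne : ¬ ∀ k ∈ K, x * k = k * x)
    (hmin : ∀ L : Subgroup G, L ≤ K → L ≠ K → (∀ l ∈ L, x * l * x⁻¹ ∈ L) → ∀ l ∈ L, x * l = l * x)
    (χ : G → ℂ) (hχ : IsCharacter G χ) (hfaith : ∀ g : G, χ g = χ 1 → g = 1) (n : ℕ)
    (hn : charDegree χ = n) (hnp : n + 1 ≤ p) :
    n + 1 = p ∧ (∃ k : ℕ, n = 2 ^ k) ∧ IsIrrCharacter G χ := by
  classical
  haveI := Fact.mk hp
  haveI := Fact.mk hq
  haveI := Fintype.ofFinite G
  haveI := Fintype.ofFinite K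
  haveI := Fintype.ofFinite (IrrCharacter K)
  let A : Subgroup G := Subgroup.zpowers x
  have hAK : A ≤ Subgroup.normalizer (K : Set G) := by
    rw [Subgroup.normalizer_eq_top]; exact le_top
  have hcentA : ∀ L : Subgroup G, (∀ l ∈ L, x * l = l * x) → L ≤ Subgroup.centralizer (A : Set G) := by
    intro L hL l hl
    rw [Subgroup.mem_centralizer_iff]
    intro y hy
    obtain ⟨i, rfl⟩ := Subgroup.mem_zpowers_iff.mp hy
    exact ((show Commute x l from hL l hl).zpow_left i).eq
  have hcop : (Nat.card A).Coprime (Nat.card K) := by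
    obtain ⟨i, hi⟩ := IsPGroup.iff_card.mp hx
    obtain ⟨j, hj⟩ := IsPGroup.iff_card.mp hK
    rw [hi, hj]
    exact ((Nat.coprime_primes hp hq).mpr hqp.symm).pow _ _
  have hAsol : Group.IsSolvable A := by
    haveI : IsMulCommutative A := inferInstanceAs (IsMulCommutative (Subgroup.zpowers x))
    exact Group.isSolvable_of_comm fun a b => mul_comm' a b
  -- the whole group is the commutator with the acting element
  have hKA : ⁅K, A⁆ = K := by
    by_contra hD
    have hle : ⁅K, A⁆ ≤ K := Cfsg.Agent.Solv.commutator_normalizer_le A K hAK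
    have hinv : ∀ l ∈ ⁅K, A⁆, x * l * x⁻¹ ∈ ⁅K, A⁆ := fun l hl =>
      (Subgroup.mem_normalizer_iff.mp (Subgroup.normalizer_commutator_ge_right K A
        (Subgroup.mem_zpowers x)) l).mp hl
    have h1 : ⁅⁅K, A⁆, A⁆ = ⊥ :=
      Subgroup.commutator_eq_bot_iff_le_centralizer.mpr (hcentA _ (hmin _ hle hD hinv))
    have h2 := Cfsg.Agent.Solv.commutator_eq_bot_of_commutator_commutator_eq_bot A K hAK hcop (Or.inl hAsol) h1
    refine hne fun k hk => ?_
    exact Subgroup.mem_centralizer_iff.mp (Subgroup.commutator_eq_bot_iff_le_centralizer.mp h2 hk) x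
      (Subgroup.mem_zpowers x)
  have hK0 : K ≠ ⊥ := fun e => hne fun k hk => by
    rw [e, Subgroup.mem_bot] at hk
    simp [hk]
  have hK' : ∀ l ∈ ⁅K, K⁆, x * l = l * x := by
    haveI : Group.IsNilpotent K := hK.isNilpotent
    have hlt : ⁅K, K⁆ < K := Cfsg.Agent.Solv.commutator_lt_of_nilpotent inferInstance le_rfl Subgroup.le_normalizer hK0
    exact hmin _ hlt.le hlt.ne fun l hl => (Subgroup.commutator_normal K K).conj_mem l hl x
  -- the centralised elements are central in the normal subgroup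
  have hL0 : ∀ l ∈ K, x * l = l * x → ∀ k ∈ K, l * k = k * l := by
    let L : Subgroup G := K ⊓ Subgroup.centralizer ({x} : Set G)
    have hL : ∀ l ∈ L, x * l = l * x := fun l hl => (Subgroup.mem_centralizer_singleton_iff.mp hl.2).symm
    have h1 : ⁅⁅A, L⁆, K⁆ = ⊥ := by
      rw [Subgroup.commutator_comm A L, Subgroup.commutator_eq_bot_iff_le_centralizer.mpr (hcentA _ hL),
        Subgroup.commutator_bot_left]
    have h2 : ⁅⁅L, K⁆, A⁆ = ⊥ := by
      refine Subgroup.commutator_eq_bot_iff_le_centralizer.mpr (hcentA _ fun l hl => hK' l ?_)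
      exact Subgroup.commutator_mono inf_le_left le_rfl hl
    have h3 := Subgroup.commutator_commutator_eq_bot_of_rotate h1 h2
    rw [hKA] at h3
    intro l hl hxl k hk
    have hlL : l ∈ L := ⟨hl, Subgroup.mem_centralizer_singleton_iff.mpr hxl.symm⟩
    exact Subgroup.mem_centralizer_iff.mp (Subgroup.commutator_eq_bot_iff_le_centralizer.mp h3 hk) l hlL
  have hcz : ∀ i j g : K, ⁅i, j⁆ * g = g * ⁅i, j⁆ := fun i j g => by
    have hmem : ((⁅i, j⁆ : K) : G) ∈ ⁅K, K⁆ := by
      have e : ((⁅i, j⁆ : K) : G) = ⁅(i : G), (j : G)⁆ := map_commutatorElement K.subtype i j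
      rw [e]
      exact Subgroup.commutator_mem_commutator i.2 j.2
    exact Subtype.ext (hL0 _ (⁅i, j⁆ : K).2 (hK' _ hmem) g g.2)
  -- the constituents of the restriction
  have hres : IsCharacter K fun k : K => χ k := IsCharacter.restrict hχ K
  choose m hm using fun ψ : IrrCharacter K => exists_classInner_nat hres ψ.2
  have hdec : ∀ k : K, χ k = ∑ ψ : IrrCharacter K, (m ψ : ℂ) * (ψ : K → ℂ) k := fun k => by
    have := congrFun (IsClassFunction.eq_sum (IsCharacter.isClassFunction hres)) k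
    simp only [Finset.sum_apply, Pi.smul_apply, smul_eq_mul, hm] at this
    exact this
  have hdeg : n = ∑ ψ : IrrCharacter K, m ψ * charDegree (ψ : K → ℂ) := by
    refine Nat.cast_injective (R := ℂ) ?_
    rw [← hn, charDegree_cast hχ, Nat.cast_sum, show χ 1 = χ ((1 : K) : G) from rfl, hdec]
    exact Finset.sum_congr rfl fun ψ _ => by
      rw [Nat.cast_mul, charDegree_cast (IsIrrCharacter.isCharacter ψ.2)]
  have hle : ∀ ψ : IrrCharacter K, m ψ * charDegree (ψ : K → ℂ) ≤ n := fun ψ => by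
    rw [hdeg]
    exact Finset.single_le_sum (f := fun φ : IrrCharacter K => m φ * charDegree (φ : K → ℂ))
      (fun _ _ => Nat.zero_le _) (Finset.mem_univ ψ)
  have hdpos : ∀ ψ : IrrCharacter K, 1 ≤ charDegree (ψ : K → ℂ) := fun ψ =>
    Nat.one_le_iff_ne_zero.mpr fun e => IsIrrCharacter.apply_one_ne_zero ψ.2 (by
      rw [← charDegree_cast (IsIrrCharacter.isCharacter ψ.2), e, Nat.cast_zero])
  have hfix : ∀ ψ : IrrCharacter K, m ψ ≠ 0 → conjChar K x (ψ : K → ℂ) = (ψ : K → ℂ) := by
    intro ψ hψ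
    have hsub : ∀ f ∈ conjOrbit K (ψ : K → ℂ), ∃ φ : IrrCharacter K, (φ : K → ℂ) = f ∧ 0 < m φ := by
      intro f hf
      obtain ⟨g, rfl⟩ := (mem_conjOrbit K).mp hf
      refine ⟨⟨_, isIrrCharacter_conjChar K ψ.2 g⟩, rfl, ?_⟩
      have h := classInner_restrict_conjChar K (IsCharacter.isClassFunction hχ) g (ψ : K → ℂ)
      rw [hm ψ] at h
      rw [show classInner (fun n : K => χ n) (conjChar K g (ψ : K → ℂ)) =
        (m ⟨_, isIrrCharacter_conjChar K ψ.2 g⟩ : ℂ) from hm ⟨_, isIrrCharacter_conjChar K ψ.2 g⟩] at h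
      rw [Nat.cast_injective (R := ℂ) h]
      exact Nat.pos_of_ne_zero hψ
    have hcard : (conjOrbit K (ψ : K → ℂ)).card ≤ n := by
      have h1 : conjOrbit K (ψ : K → ℂ) ⊆
          Finset.image (fun φ : IrrCharacter K => (φ : K → ℂ))
            (Finset.filter (fun φ : IrrCharacter K => 0 < m φ) Finset.univ) := by
        intro f hf
        obtain ⟨φ, e, h⟩ := hsub f hf
        exact Finset.mem_image.mpr ⟨φ, Finset.mem_filter.mpr ⟨Finset.mem_univ _, h⟩, e⟩
      refine (Finset.card_le_card h1).trans (Finset.card_image_le.trans ?_)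
      rw [hdeg, Finset.card_filter]
      refine Finset.sum_le_sum fun φ _ => ?_
      split_ifs with h
      · exact Nat.one_le_iff_ne_zero.mpr (Nat.mul_ne_zero h.ne' (Nat.one_le_iff_ne_zero.mp (hdpos φ)))
      · exact Nat.zero_le _
    rw [card_conjOrbit] at hcard
    have hdvd : (inertia K (ψ : K → ℂ)).index ∣ p ^ a := hKi ▸ Subgroup.index_dvd_of_le
      (le_inertia K (IsCharacter.isClassFunction (IsIrrCharacter.isCharacter ψ.2)))
    obtain ⟨i, -, hi⟩ := (Nat.dvd_prime_pow hp).mp hdvd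
    have hi0 : i = 0 := by
      by_contra h0
      have := Nat.le_self_pow h0 p
      omega
    rw [hi0, pow_zero, Subgroup.index_eq_one] at hi
    exact (mem_inertia K).mp (hi ▸ Subgroup.mem_top x)
  obtain ⟨θ, hθm, hθd⟩ : ∃ θ : IrrCharacter K, m θ ≠ 0 ∧ charDegree (θ : K → ℂ) ≠ 1 := by
    by_contra hcon
    push Not at hcon
    refine hne fun k hk => ?_
    let y : K := MulAut.conjNormal x ⟨k, hk⟩ * (⟨k, hk⟩ : K)⁻¹
    have hy : χ (y : G) = χ 1 := by
      rw [show χ 1 = χ ((1 : K) : G) from rfl, hdec, hdec]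
      refine Finset.sum_congr rfl fun ψ _ => ?_
      rcases Nat.eq_zero_or_pos (m ψ) with h0 | h0
      · simp [h0]
      congr 1
      have h1 : (ψ : K → ℂ) 1 = 1 := by
        rw [← charDegree_cast (IsIrrCharacter.isCharacter ψ.2), hcon ψ h0.ne', Nat.cast_one]
      obtain ⟨l, hl⟩ := IsCharacter.exists_monoidHom (IsIrrCharacter.isCharacter ψ.2) h1
      have hf := congrFun (hfix ψ h0.ne') ⟨k, hk⟩
      rw [conjChar_apply, hl] at hf
      rw [hl]
      simp only [y, map_mul, map_inv, map_one, Units.val_mul, Units.val_one] at hf ⊢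
      rw [hf, ← Units.val_mul, mul_inv_cancel, Units.val_one]
    have hy1 := hfaith _ hy
    have e : x * k * x⁻¹ * k⁻¹ = 1 := by simpa [y, mul_assoc] using hy1
    exact mul_inv_eq_iff_eq_mul.mp (mul_inv_eq_one.mp e)
  obtain ⟨f, hf⟩ : ∃ f : K → ℂ, f = (θ : K → ℂ) := ⟨_, rfl⟩
  have hirr : IsIrrCharacter K f := hf ▸ θ.2
  obtain ⟨d, hd⟩ : ∃ d : ℕ, d = charDegree (θ : K → ℂ) := ⟨_, rfl⟩
  have hf1 : f 1 = d := by rw [hd, hf, charDegree_cast (IsIrrCharacter.isCharacter θ.2)]
  have hd2 : 2 ≤ d := by have := hdpos θ; omega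
  have hdn : d ≤ n := le_trans (le_of_eq_of_le hd (Nat.le_mul_of_pos_left _ (Nat.pos_of_ne_zero hθm))) (hle θ)
  have hfc : IsCharacter K f := IsIrrCharacter.isCharacter hirr
  have hinvf : ∀ k : K, f (MulAut.conjNormal x k) = f k := fun k => by
    have := congrFun (hfix θ hθm) k
    rw [conjChar_apply, ← hf] at this
    exact this
  -- the elements central modulo the kernel
  let W : Subgroup K :=
    { carrier := {k | ∀ j, f ⁅k, j⁆ = f 1}
      one_mem' := fun j => by rw [commutatorElement_one_left]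
      mul_mem' := fun {s t} hs ht j => by
        have e : ⁅s * t, j⁆ = ⁅t, j⁆ * ⁅s, j⁆ := by
          calc ⁅s * t, j⁆ = s * ⁅t, j⁆ * s⁻¹ * ⁅s, j⁆ := by simp [commutatorElement_def, mul_assoc]
            _ = _ := by rw [show s * ⁅t, j⁆ = ⁅t, j⁆ * s from (hcz t j s).symm, mul_inv_cancel_right]
        rw [e, apply_mul_of_ker hfc (ht j)]
        exact hs j
      inv_mem' := fun {s} hs j => by
        have e : ⁅s⁻¹, j⁆ = ⁅s, j⁆⁻¹ := by
          have h := hcz s j s⁻¹
          calc ⁅s⁻¹, j⁆ = s⁻¹ * ⁅s, j⁆⁻¹ * s := by simp [commutatorElement_def, mul_assoc]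
            _ = _ := by
              rw [show s⁻¹ * ⁅s, j⁆⁻¹ = ⁅s, j⁆⁻¹ * s⁻¹ from ((show Commute (⁅s, j⁆ : K) s⁻¹ from h).inv_left.eq).symm,
                inv_mul_cancel_right]
        have h2 := apply_mul_of_ker hfc (hs j) (⁅s, j⁆⁻¹)
        rw [mul_inv_cancel] at h2
        rw [e]
        exact h2.symm }
  have hWmem : ∀ k : K, k ∈ W ↔ ∀ j, f ⁅k, j⁆ = f 1 := fun k => Iff.rfl
  have hnorm : ∀ k : K, f k * conj (f k) = if k ∈ W then (d : ℂ) ^ 2 else 0 := by
    intro k
    split_ifs with hk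
    · obtain ⟨w, hw1, hw⟩ := scale_of_commutator hirr ((hWmem k).mp hk)
      have hwk := hw 1
      rw [mul_one, hf1] at hwk
      rw [hwk, map_mul, Complex.conj_natCast,
        show w * (d : ℂ) * (conj w * d) = w * conj w * (d : ℂ) ^ 2 by ring, Complex.mul_conj', hw1]
      simp
    · rw [hWmem, not_forall] at hk
      obtain ⟨j, hj⟩ := hk
      have hci : ∀ h, f ⁅(⁅k, j⁆ : K)⁻¹, h⁆ = f 1 := fun h => by
        rw [commutatorElement_eq_one_iff_mul_comm.mpr ((show Commute (⁅k, j⁆ : K) h from hcz k j h).inv_left.eq)]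
      obtain ⟨w, -, hw⟩ := scale_of_commutator hirr hci
      have hw1 : w ≠ 1 := fun e => by
        have h := apply_mul_of_ker hfc (a := (⁅k, j⁆ : K)⁻¹) (by simpa [e] using hw 1) ⁅k, j⁆
        rw [inv_mul_cancel] at h
        exact hj h.symm
      have e1 : (⁅k, j⁆ : K)⁻¹ * k = j * k * j⁻¹ := by simp [commutatorElement_def, mul_assoc]
      have h := hw k
      rw [e1, IsCharacter.isClassFunction hfc k j] at h
      have h0 : f k = 0 := by
        have h' : (1 - w) * f k = 0 := by linear_combination h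
        exact (mul_eq_zero.mp h').resolve_left (sub_ne_zero.mpr (Ne.symm hw1))
      rw [h0, zero_mul]
  have hcardK : Nat.card K = Nat.card W * d ^ 2 := by
    have h := IsIrrCharacter.classInner_self hirr
    rw [classInner, inv_mul_eq_one₀ (Nat.cast_ne_zero.mpr Nat.card_pos.ne'),
      Finset.sum_congr rfl fun k _ => hnorm k, Finset.sum_ite, Finset.sum_const_zero, add_zero,
      Finset.sum_const, ← Fintype.card_subtype, ← Nat.card_eq_fintype_card, nsmul_eq_mul] at h
    exact_mod_cast h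
  have hWfix : ∀ k : K, k ∈ W ↔ x * (k : G) = k * x := by
    intro k
    constructor
    · intro hk
      refine hmin (W.map K.subtype) (Subgroup.map_subtype_le W) (fun e => ?_) ?_ k ⟨k, hk, rfl⟩
      · have hc := congrArg (fun S : Subgroup G => Nat.card S) e
        rw [Subgroup.card_map_of_injective K.subtype_injective] at hc
        rw [hc] at hcardK
        have h4 : 4 ≤ d ^ 2 := Nat.pow_le_pow_left hd2 2
        have := Nat.card_pos (α := K)
        nlinarith
      · rintro _ ⟨l, hl, rfl⟩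
        refine ⟨MulAut.conjNormal x l, fun j => ?_, by simp⟩
        obtain ⟨j, rfl⟩ := (MulAut.conjNormal x : MulAut K).surjective j
        rw [← map_commutatorElement, hinvf]
        exact (hWmem l).mp hl j
    · intro hk j
      rw [commutatorElement_eq_one_iff_mul_comm.mpr (Subtype.ext (hL0 k k.2 hk j j.2))]
  -- counting the fixed points
  have hmod : Nat.card K ≡ Nat.card W [MOD p] := by
    letI : MulAction A K := MulAction.compHom K ((MulAut.conjNormal : G →* MulAut K).comp A.subtype)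
    have h := hx.card_modEq_card_fixedPoints K
    have e : Nat.card (MulAction.fixedPoints A K) = Nat.card W := by
      refine Nat.card_congr (Equiv.subtypeEquivRight fun k => ?_)
      change k ∈ MulAction.fixedPoints A K ↔ k ∈ W
      rw [hWfix, MulAction.mem_fixedPoints]
      constructor
      · intro h
        have h' := congrArg Subtype.val (h ⟨x, Subgroup.mem_zpowers x⟩)
        change x * (k : G) * x⁻¹ = k at h'
        exact mul_inv_eq_iff_eq_mul.mp h'
      · rintro h ⟨y, hy⟩
        obtain ⟨i, rfl⟩ := Subgroup.mem_zpowers_iff.mp hy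
        refine Subtype.ext ?_
        change x ^ i * (k : G) * (x ^ i)⁻¹ = k
        rw [((show Commute x k from h).zpow_left i).eq, mul_inv_cancel_right]
    rwa [e] at h
  have hWp : (Nat.card W).Coprime p := by
    obtain ⟨j, hj⟩ := IsPGroup.iff_card.mp hK
    exact Nat.Coprime.coprime_dvd_left (Subgroup.card_subgroup_dvd_card W)
      (hj ▸ ((Nat.coprime_primes hq hp).mpr hqp).pow_left j)
  rw [hcardK] at hmod
  have hd1 : (d ^ 2) ≡ 1 [MOD p] := by
    refine Nat.ModEq.cancel_left_of_coprime (c := Nat.card W) hWp.symm ?_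
    rwa [mul_one]
  have hdvd : p ∣ (d + 1) * (d - 1) := by
    have := (Nat.modEq_iff_dvd' (Nat.one_le_pow 2 d (by omega))).mp hd1.symm
    rwa [show d ^ 2 - 1 = (d + 1) * (d - 1) by rw [← Nat.sq_sub_sq, one_pow]] at this
  have hdp : d + 1 = p := by
    rcases hp.dvd_mul.mp hdvd with h | h
    · have := Nat.le_of_dvd (by omega) h; omega
    · have := Nat.le_of_dvd (by omega) h; omega
  refine ⟨by omega, ?_, ?_⟩
  · obtain ⟨j, hj⟩ := IsPGroup.iff_card.mp hK
    obtain ⟨i, -, hi⟩ := (Nat.dvd_prime_pow hq).mp (hj ▸ charDegree_dvd_card θ.2)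
    refine ⟨i, ?_⟩
    have hnd : n = q ^ i := by omega
    have hodd : Odd p := hp.odd_of_ne_two (by omega)
    have h2 : 2 ∣ q ^ i := by
      rcases hodd with ⟨b, hb⟩
      omega
    rw [hnd, (Nat.prime_dvd_prime_iff_eq Nat.prime_two hq).mp (Nat.prime_two.dvd_of_dvd_pow h2)]
  · refine irr_of_restrict hχ K ?_
    obtain ⟨r, hr, hsum⟩ := exists_add_of_classInner_ne_zero hres hirr (by
      rw [hf, hm θ]
      exact_mod_cast hθm)
    have hr1 : r 1 = 0 := by
      have h := congrFun hsum 1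
      rw [Pi.add_apply, hf1, OneMemClass.coe_one, ← charDegree_cast hχ, hn, show n = d by omega] at h
      exact left_eq_add.mp h
    obtain ⟨k, ρ, rfl⟩ := hr
    rw [ρ.char_one, Module.finrank_fin_fun, Nat.cast_eq_zero] at hr1
    subst hr1
    have h0 : ρ.character = 0 := funext fun g => by
      show LinearMap.trace ℂ _ (ρ g) = 0
      rw [Subsingleton.elim (ρ g) 0, map_zero]
    rw [hsum, h0, add_zero]
    exact hirr

/-- Ito's theorem: a faithful character of degree below `p` on a `p`-solvable group with a Sylow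
subgroup that is not normal. -/
theorem ito : ∀ (N : ℕ) (G : Type u) [Group G] [Finite G], Nat.card G = N →
    ∀ χ : G → ℂ, IsCharacter G χ → (∀ g : G, χ g = χ 1 → g = 1) → ∀ n : ℕ, charDegree χ = n →
    ∀ p : ℕ, p.Prime → IsPSolvable p G → n + 1 ≤ p → ∀ P : Sylow p G, ¬ (P : Subgroup G).Normal →
    n + 1 = p ∧ (∃ k : ℕ, n = 2 ^ k) ∧ IsIrrCharacter G χ := by
  intro N
  induction N using Nat.strong_induction_on with
  | _ N ih =>
  intro G _ _ hN χ hχ hfaith n hn p hp hsolv hnp P hP
  classical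
  haveI := Fact.mk hp
  by_cases hsub : ∀ U : Subgroup G, U ≠ ⊤ → ∀ S : Sylow p U, (S : Subgroup U).Normal
  swap
  · push Not at hsub
    obtain ⟨U, hU, S, hS⟩ := hsub
    have hlt : Nat.card U < N := hN ▸ lt_of_le_of_ne (Subgroup.card_le_card_group U)
      fun e => hU (Subgroup.eq_top_of_card_eq U e)
    obtain ⟨h1, h2, h3⟩ := ih _ hlt U rfl (fun g : U => χ g) (IsCharacter.restrict hχ U)
      (fun g hg => Subtype.ext (hfaith g hg)) n (by simpa [charDegree] using hn) p hp
      (Cfsg.Agent.Solv.isPSolvable_subgroup hsolv U) hnp S hS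
    exact ⟨h1, h2, irr_of_restrict hχ U h3⟩
  -- normal subgroups containing the Sylow subgroup
  have hclos : ∀ U : Subgroup G, U.Normal → (P : Subgroup G) ≤ U → U = ⊤ := by
    intro U hUn hPU
    by_contra hU
    refine hP ?_
    haveI := hUn
    haveI := Sylow.characteristic_of_normal (P.subtype hPU) (hsub U hU _)
    have h : (((P.subtype hPU : Sylow p U) : Subgroup U).map U.subtype).Normal := inferInstance
    rwa [Sylow.coe_subtype, Subgroup.map_subgroupOf_eq_of_le hPU] at h
  have hPcomm : ∀ a ∈ (P : Subgroup G), ∀ b ∈ (P : Subgroup G), a * b = b * a := fun a ha b hb =>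
    congrArg Subtype.val (Blichfeldt.pgroup_comm (IsCharacter.restrict hχ (P : Subgroup G))
      (fun g hg => Subtype.ext (hfaith g hg)) hp (by simp [charDegree] at hn ⊢; omega) P.isPGroup'
      ⟨a, ha⟩ ⟨b, hb⟩)
  -- a proper normal subgroup with index a power of the prime
  obtain ⟨M, hMn, hMne, ⟨e, he⟩⟩ : ∃ M : Subgroup G, M.Normal ∧ M ≠ ⊤ ∧ ∃ e : ℕ, M.index = p ^ e := by
    obtain ⟨r, H, h0, hr, -, hHn, hstep⟩ := hsolv
    have htriv : (⊥ : Subgroup G) ≠ ⊤ := fun e => hP (by
      rw [show (P : Subgroup G) = ⊥ from le_bot_iff.mp (e ▸ le_top)]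
      infer_instance)
    obtain ⟨i, hi1, hi2⟩ : ∃ i : Fin r, H i.castSucc ≠ ⊤ ∧ H i.succ = ⊤ := by
      by_contra hcon
      push Not at hcon
      have hall : ∀ j : Fin (r + 1), H j ≠ ⊤ := fun j => by
        induction j using Fin.induction with
        | zero => rw [h0]; exact htriv
        | succ j hj => exact hcon j hj
      exact hall _ hr
    refine ⟨_, hHn i.castSucc, hi1, ?_⟩
    have h := hstep i
    rw [hi2, Subgroup.relIndex_top_right] at h
    rcases h with h | h
    · exact h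
    · refine absurd (hclos _ (hHn _) ?_) hi1
      haveI := hHn i.castSucc
      intro g hg
      rw [← QuotientGroup.eq_one_iff, ← orderOf_eq_one_iff, ← Nat.dvd_one, ← Nat.coprime_iff_gcd_eq_one.mp h]
      obtain ⟨k, hk⟩ := (P.isPGroup'.map (QuotientGroup.mk' (H i.castSucc))).exists_card_eq
      refine Nat.dvd_gcd (Subgroup.index_eq_card (H i.castSucc) ▸ orderOf_dvd_natCard _) ?_
      have h1 : orderOf (QuotientGroup.mk' (H i.castSucc) g) ∣ p ^ k :=
        hk ▸ Subgroup.orderOf_dvd_natCard _ ⟨g, hg, rfl⟩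
      exact (Nat.Coprime.pow_right k (Nat.Coprime.coprime_dvd_left
        (Subgroup.index_eq_card (H i.castSucc) ▸ orderOf_dvd_natCard _) h)).eq_one_of_dvd h1 ▸ one_dvd _
  haveI := hMn
  obtain ⟨S⟩ := Sylow.nonempty (p := p) (G := M)
  haveI hSn : (S : Subgroup M).Normal := hsub M hMne S
  haveI := Sylow.characteristic_of_normal S hSn
  haveI hAn : ((S : Subgroup M).map M.subtype).Normal := inferInstance
  have hAP : (S : Subgroup M).map M.subtype ≤ P := by
    have h := IsPGroup.to_sup_of_normal_right P.isPGroup' (S.isPGroup'.map M.subtype)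
    exact le_sup_right.trans (P.is_maximal' h le_sup_left).le
  have hAc : ∀ a ∈ (S : Subgroup M).map M.subtype, ∀ g : G, a * g = g * a := by
    have hC : Subgroup.centralizer (((S : Subgroup M).map M.subtype : Subgroup G) : Set G) = ⊤ := by
      refine hclos _ inferInstance fun b hb => Subgroup.mem_centralizer_iff.mpr fun a ha => ?_
      exact hPcomm a (hAP ha) b hb
    exact fun a ha g => Subgroup.mem_centralizer_iff.mp (hC ▸ Subgroup.mem_top g) a ha
  obtain ⟨K₀, hK₀⟩ := Subgroup.exists_right_complement'_of_coprime S.card_coprime_index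
  have hK₀c : Nat.card K₀ = (S : Subgroup M).index := (Subgroup.IsComplement'.index_eq_card (Subgroup.IsComplement'.symm hK₀)).symm
  have hK₀i : K₀.index = Nat.card (S : Subgroup M) := Subgroup.IsComplement'.index_eq_card hK₀
  haveI hK₀n : K₀.Normal := by
    rw [← Subgroup.normalizer_eq_top_iff, eq_top_iff, ← hK₀.sup_eq_top]
    refine sup_le ?_ Subgroup.le_normalizer
    intro a ha
    rw [Subgroup.mem_normalizer_iff]
    intro k
    have e : a * k * a⁻¹ = k := by
      rw [show a * k = k * a from Subtype.ext (hAc (a : G) ⟨a, ha, rfl⟩ k), mul_inv_cancel_right]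
    rw [e]
  let K : Subgroup G := K₀.map M.subtype
  haveI hKn : K.Normal := by
    refine ⟨?_⟩
    rintro _ ⟨k, hk, rfl⟩ g
    refine ⟨MulAut.conjNormal g k, ?_, by simp⟩
    rw [SetLike.mem_coe, ← QuotientGroup.eq_one_iff, ← orderOf_eq_one_iff]
    refine Nat.eq_one_of_dvd_coprimes S.card_coprime_index ?_ ?_
    · rw [← hK₀i, Subgroup.index_eq_card]
      exact orderOf_dvd_natCard _
    · rw [← hK₀c]
      refine orderOf_dvd_of_pow_eq_one ?_
      rw [← QuotientGroup.mk_pow, ← map_pow,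
        orderOf_dvd_iff_pow_eq_one.mp (Subgroup.orderOf_dvd_natCard _ hk), map_one, QuotientGroup.mk_one]
  have hKcop : (Nat.card K).Coprime p := by
    rw [Subgroup.card_map_of_injective M.subtype_injective, hK₀c]
    exact ((hp.coprime_iff_not_dvd).mpr S.not_dvd_index).symm
  obtain ⟨s, hs⟩ := IsPGroup.iff_card.mp S.isPGroup'
  have hKi : K.index = p ^ (s + e) := by
    rw [Subgroup.index_map_subtype, hK₀i, hs, he, pow_add]
  have hKP : K ⊔ (P : Subgroup G) = ⊤ := by
    rw [← Subgroup.index_eq_one]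
    obtain ⟨i, -, hi⟩ := (Nat.dvd_prime_pow hp).mp (hKi ▸ Subgroup.index_dvd_of_le (le_sup_left : K ≤ K ⊔ (P : Subgroup G)))
    rcases Nat.eq_zero_or_pos i with h | h
    · rw [hi, h, pow_zero]
    · exact absurd ((dvd_pow_self p h.ne').trans (hi ▸ Subgroup.index_dvd_of_le (le_sup_right : (P : Subgroup G) ≤ K ⊔ (P : Subgroup G)))) P.not_dvd_index
  have hcentr : ∀ (L : Subgroup G), (Nat.card L).Coprime p → ∀ x : G, IsPGroup p (Subgroup.zpowers x) →
      L ⊔ Subgroup.zpowers x ≠ ⊤ → (∀ l ∈ L, x * l * x⁻¹ ∈ L) → ∀ l ∈ L, x * l = l * x := by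
    intro L hL x hx hU hinv l hl
    obtain ⟨T, hT⟩ := (hx.comap_subtype (K := L ⊔ Subgroup.zpowers x)).exists_le_sylow
    have hTn := hsub _ hU T
    let xU : ↥(L ⊔ Subgroup.zpowers x) := ⟨x, le_sup_right (a := L) (Subgroup.mem_zpowers x)⟩
    let lU : ↥(L ⊔ Subgroup.zpowers x) := ⟨l, le_sup_left (b := Subgroup.zpowers x) hl⟩
    have hxT : xU ∈ (T : Subgroup ↥(L ⊔ Subgroup.zpowers x)) := hT (Subgroup.mem_zpowers x)
    have hc : xU * lU * xU⁻¹ * lU⁻¹ ∈ (T : Subgroup ↥(L ⊔ Subgroup.zpowers x)) := by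
      rw [show xU * lU * xU⁻¹ * lU⁻¹ = xU * (lU * xU⁻¹ * lU⁻¹) by group]
      exact mul_mem hxT (hTn.conj_mem _ (inv_mem hxT) lU)
    have h1 : orderOf (x * l * x⁻¹ * l⁻¹) ∣ Nat.card L :=
      L.orderOf_dvd_natCard (mul_mem (hinv l hl) (inv_mem hl))
    obtain ⟨k, hk⟩ := IsPGroup.iff_card.mp T.isPGroup'
    have h2 : orderOf (x * l * x⁻¹ * l⁻¹) ∣ p ^ k := by
      have := Subgroup.orderOf_dvd_natCard _ hc
      rw [hk, ← Subgroup.orderOf_coe] at this
      exact this
    have h3 := orderOf_eq_one_iff.mp (Nat.eq_one_of_dvd_coprimes (hL.pow_right k) h1 h2)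
    exact mul_inv_eq_iff_eq_mul.mp (mul_inv_eq_one.mp h3)
  obtain ⟨x, hxP, hxne⟩ : ∃ x ∈ (P : Subgroup G), ¬ ∀ k ∈ K, x * k = k * x := by
    by_contra hcon
    push Not at hcon
    refine hP ?_
    rw [← Subgroup.normalizer_eq_top_iff, eq_top_iff, ← hKP]
    refine sup_le (fun k hk => ?_) Subgroup.le_normalizer
    rw [Subgroup.mem_normalizer_iff]
    intro y
    constructor
    · intro hy
      rwa [← hcon y hy k hk, mul_inv_cancel_right]
    · intro hy
      have h := hcon _ hy k hk
      have e2 : k * y * k⁻¹ = y := by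
        calc k * y * k⁻¹ = k⁻¹ * (k * (k * y * k⁻¹)) := by group
          _ = k⁻¹ * ((k * y * k⁻¹) * k) := by rw [h]
          _ = y := by group
      rwa [e2] at hy
  have hx : IsPGroup p (Subgroup.zpowers x) := P.isPGroup'.to_le (Subgroup.zpowers_le.mpr hxP)
  have hxK : ∀ k ∈ K, x * k * x⁻¹ ∈ K := fun k hk => hKn.conj_mem k hk x
  have htop : K ⊔ Subgroup.zpowers x = ⊤ := by
    by_contra h
    exact hxne (hcentr K hKcop x hx h hxK)
  have hmin : ∀ L : Subgroup G, L ≤ K → L ≠ K → (∀ l ∈ L, x * l * x⁻¹ ∈ L) → ∀ l ∈ L, x * l = l * x := by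
    intro L hLK hLne hinv
    refine hcentr L (hKcop.coprime_dvd_left (Subgroup.card_dvd_of_le hLK)) x hx (fun h => hLne ?_) hinv
    refine le_antisymm hLK fun k hk => ?_
    have hxN : Subgroup.zpowers x ≤ Subgroup.normalizer (L : Set G) := by
      rw [Subgroup.zpowers_le]
      exact Subgroup.mem_normalizer_iff_map_conj_eq.mpr (Subgroup.eq_of_le_of_card_ge
        (by rintro _ ⟨l, hl, rfl⟩; exact hinv l hl)
        (by rw [Subgroup.card_map_of_injective (MulAut.conj x).injective]))
    have hk' : k ∈ ((L ⊔ Subgroup.zpowers x : Subgroup G) : Set G) := by rw [h]; exact Subgroup.mem_top k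
    rw [Subgroup.coe_mul_of_right_le_normalizer_left _ _ hxN, Set.mem_mul] at hk'
    obtain ⟨l, hl, y, hy, rfl⟩ := hk'
    have hyK : y ∈ K := by simpa using mul_mem (inv_mem (hLK hl)) hk
    obtain ⟨j, hj⟩ := IsPGroup.iff_card.mp hx
    have := orderOf_eq_one_iff.mp (Nat.eq_one_of_dvd_coprimes (hKcop.pow_right j)
      (K.orderOf_dvd_natCard hyK) (hj ▸ (Subgroup.zpowers x).orderOf_dvd_natCard hy))
    rw [this, mul_one]
    exact hl
  have hAK : Subgroup.zpowers x ≤ Subgroup.normalizer (K : Set G) := by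
    rw [Subgroup.normalizer_eq_top]; exact le_top
  have hcop : (Nat.card (Subgroup.zpowers x)).Coprime (Nat.card K) := by
    obtain ⟨j, hj⟩ := IsPGroup.iff_card.mp hx
    rw [hj]
    exact (hKcop.pow_right j).symm
  have hAsol : Group.IsSolvable (Subgroup.zpowers x) := Group.isSolvable_of_comm fun a b => mul_comm' a b
  obtain ⟨q, hq, hKq⟩ : ∃ q : ℕ, q.Prime ∧ IsPGroup q K := by
    by_contra hcon
    push Not at hcon
    refine hxne fun k hk => ?_
    let C : Subgroup K := (Subgroup.centralizer ({x} : Set G)).subgroupOf K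
    have hC : C = ⊤ := by
      rw [← Subgroup.index_eq_one]
      by_contra h
      obtain ⟨r, hr, hrd⟩ := Nat.exists_prime_and_dvd h
      haveI := Fact.mk hr
      obtain ⟨Q, hQ⟩ := Cfsg.Agent.Solv.exists_invariant_sylow (Subgroup.zpowers x) K hAK hcop
        (Or.inl hAsol) r
      have hQne : (Q : Subgroup K).map K.subtype ≠ K := fun e => by
        refine hcon r hr ?_
        have := Q.isPGroup'.map K.subtype
        rwa [e] at this
      have hc := hmin _ (Subgroup.map_subtype_le _) hQne fun l hl =>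
        (Subgroup.mem_normalizer_iff.mp (hQ (Subgroup.mem_zpowers x)) l).mp hl
      refine Q.not_dvd_index (hrd.trans (Subgroup.index_dvd_of_le fun y hy => ?_))
      exact Subgroup.mem_centralizer_singleton_iff.mpr (hc _ ⟨y, hy, rfl⟩).symm
    exact (Subgroup.mem_centralizer_singleton_iff.mp
      (hC ▸ Subgroup.mem_top (⟨k, hk⟩ : K) : (⟨k, hk⟩ : K) ∈ C)).symm
  haveI := Fact.mk hq
  have hqp : q ≠ p := by
    rintro rfl
    refine hxne fun k hk => ?_
    obtain ⟨j, hj⟩ := IsPGroup.iff_card.mp hKq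
    have hk1 := orderOf_eq_one_iff.mp (Nat.eq_one_of_dvd_coprimes (hKcop.pow_right j)
      (K.orderOf_dvd_natCard hk) (hj ▸ K.orderOf_dvd_natCard hk))
    simp [hk1]
  exact core K hq hKq hp hqp hKi x hx hxne hmin χ hχ hfaith n hn hnp

end Cfsg.Agent.Char.SmallDegree
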