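import Cfsg.Agent.Lib.Char.SmallDegree
import Cfsg.Agent.S0898
import Mathlib.GroupTheory.Transfer

/-!
# Normal Sylow subgroups from a faithful character of very small degree
-/

set_option autoImplicit false
set_option linter.style.haveILetI false

namespace Cfsg.Agent.Char.SmallDegree

open Cfsg Cfsg.Agent.Char
open Cfsg.Agent.Block (charDegree_cast)

universe u

/-- The normality criterion for characters of degree well below `p`. -/
theorem normal_sylow : ∀ (N : ℕ) (G : Type u) [Group G] [Finite G], Nat.card G = N →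
    ∀ χ : G → ℂ, IsCharacter G χ → (∀ g : G, χ g = χ 1 → g = 1) → ∀ n : ℕ, charDegree χ = n →
    ∀ p : ℕ, p.Prime →
    ((n + 1) ^ 2 ≤ p ∨ (n + 1 < p ∧ ∀ K : Subgroup G, ¬ p ^ 2 ∣ Nat.card K → ∀ Q : Sylow p K, (Q : Subgroup K).Normal)) →
    ∀ P : Sylow p G, (P : Subgroup G).Normal := by
  intro N
  induction N using Nat.strong_induction_on with
  | _ N ih =>
  intro G _ _ hN χ hχ hfaith n hn p hp h P
  classical
  haveI := Fact.mk hp
  haveI := Fintype.ofFinite G
  haveI := Fintype.ofFinite (P : Subgroup G)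
  haveI := Fintype.ofFinite (IrrCharacter G)
  have hnp : n + 1 < p := by
    rcases h with h | h
    · rcases Nat.eq_zero_or_pos n with h0 | h0
      · rw [h0]; exact hp.one_lt
      · nlinarith
    · exact h.1
  have hsub : ∀ U : Subgroup G, U ≠ ⊤ → ∀ S : Sylow p U, (S : Subgroup U).Normal := by
    intro U hU S
    refine ih _ (hN ▸ lt_of_le_of_ne (Subgroup.card_le_card_group U)
      fun e => hU (Subgroup.eq_top_of_card_eq U e)) U rfl (fun g : U => χ g) (IsCharacter.restrict hχ U)
      (fun g hg => Subtype.ext (hfaith g hg)) n (by simpa [charDegree] using hn) p hp ?_ S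
    refine h.imp id fun h => ⟨h.1, fun K hK Q => ?_⟩
    let e := Subgroup.equivMapOfInjective K U.subtype U.subtype_injective
    have hn' := h.2 (K.map U.subtype) (by rwa [Subgroup.card_map_of_injective U.subtype_injective])
      (Q.mapSurjective (f := e.toMonoidHom) e.surjective)
    have h2 := Subgroup.Normal.comap (H := (Q : Subgroup K).map e.toMonoidHom) hn' e.toMonoidHom
    rwa [Subgroup.comap_map_eq_self_of_injective e.injective] at h2
  by_contra hP
  have hclos : ∀ U : Subgroup G, U.Normal → (P : Subgroup G) ≤ U → U = ⊤ := by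
    intro U hUn hPU
    by_contra hU
    refine hP ?_
    haveI := hUn
    haveI := Sylow.characteristic_of_normal (P.subtype hPU) (hsub U hU _)
    have h : (((P.subtype hPU : Sylow p U) : Subgroup U).map U.subtype).Normal := inferInstance
    rwa [Sylow.coe_subtype, Subgroup.map_subgroupOf_eq_of_le hPU] at h
  have hcomm : ∀ X : Subgroup G, IsPGroup p X → ∀ a ∈ X, ∀ b ∈ X, a * b = b * a := fun X hX a ha b hb =>
    congrArg Subtype.val (Blichfeldt.pgroup_comm (IsCharacter.restrict hχ X)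
      (fun g hg => Subtype.ext (hfaith g hg)) hp (by simp [charDegree] at hn ⊢; omega) hX
      ⟨a, ha⟩ ⟨b, hb⟩)
  -- no quotient of `p`-power order
  have hquot : ∀ M : Subgroup G, ∀ _ : M.Normal, IsPGroup p (G ⧸ M) → M = ⊤ := by
    intro M _ hM
    by_contra hne
    obtain ⟨S⟩ := Sylow.nonempty (p := p) (G := M)
    haveI := hsub M hne S
    have h1 : IsPSolvable p M := Cfsg.Agent.Solv.isPSolvable_of_extension (S : Subgroup M)
      (Cfsg.Agent.Solv.isPSolvable_of_isPGroup S.isPGroup')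
      (Cfsg.Agent.Solv.isPSolvable_of_coprime (by
        rw [← Subgroup.index_eq_card]
        exact ((hp.coprime_iff_not_dvd).mpr S.not_dvd_index).symm))
    have h2 : IsPSolvable p G := Cfsg.Agent.Solv.isPSolvable_of_extension M h1
      (Cfsg.Agent.Solv.isPSolvable_of_isPGroup hM)
    have := (ito _ G rfl χ hχ hfaith n hn p hp h2 hnp.le P hP).1
    omega
  -- no central elements in the Sylow subgroup
  have hZ : ∀ z ∈ (P : Subgroup G), z ∈ Subgroup.center G → z = 1 := by
    intro z hz hzc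
    by_contra hz1
    letI : CommGroup (P : Subgroup G) :=
      { (P : Subgroup G).toGroup with mul_comm := fun a b => Subtype.ext (hcomm _ P.isPGroup' a a.2 b b.2) }
    let τ : G →* (P : Subgroup G) := MonoidHom.transfer (MonoidHom.id (P : Subgroup G))
    have hzτ : (τ z : G) = z ^ (P : Subgroup G).index := by
      rw [MonoidHom.transfer_eq_pow (MonoidHom.id (P : Subgroup G)) z fun k g _ => by
        rw [mul_assoc, (show Commute (z ^ k) g from
          (show Commute z g from (Subgroup.mem_center_iff.mp hzc g).symm).pow_left k).eq, inv_mul_cancel_left]]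
      rfl
    have hker : τ.ker = ⊤ := by
      refine hquot _ inferInstance fun q => ?_
      obtain ⟨g, rfl⟩ := QuotientGroup.mk_surjective q
      obtain ⟨k, hk⟩ := P.isPGroup' (τ g)
      exact ⟨k, (QuotientGroup.eq_one_iff _).mpr (by rw [MonoidHom.mem_ker, map_pow, hk])⟩
    have h1 : z ^ (P : Subgroup G).index = 1 := by
      rw [← hzτ, MonoidHom.mem_ker.mp (hker ▸ Subgroup.mem_top z : z ∈ τ.ker)]
      rfl
    obtain ⟨k, hk⟩ := IsPGroup.iff_card.mp P.isPGroup'
    exact hz1 (orderOf_eq_one_iff.mp (Nat.eq_one_of_dvd_coprimes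
      (((hp.coprime_iff_not_dvd).mpr P.not_dvd_index).pow_left k)
      (hk ▸ (P : Subgroup G).orderOf_dvd_natCard hz) (orderOf_dvd_of_pow_eq_one h1)))
  -- a constituent nontrivial on the Sylow subgroup
  have hPne : (P : Subgroup G) ≠ ⊥ := fun e => hP (by rw [e]; infer_instance)
  obtain ⟨x, hxP, hx1⟩ := (Subgroup.bot_or_exists_ne_one (P : Subgroup G)).resolve_left hPne
  obtain ⟨m, hm, hdeg⟩ := Blichfeldt.exists_decomp hχ
  obtain ⟨ψ, hψm, hψx⟩ : ∃ ψ : IrrCharacter G, m ψ ≠ 0 ∧ (ψ : G → ℂ) x ≠ (ψ : G → ℂ) 1 := by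
    by_contra hcon
    push Not at hcon
    refine hx1 (hfaith x ?_)
    rw [hm, hm 1]
    refine Finset.sum_congr rfl fun ψ _ => ?_
    rcases Nat.eq_zero_or_pos (m ψ) with h0 | h0
    · simp [h0]
    · rw [hcon ψ h0.ne']
  have hdn : charDegree (ψ : G → ℂ) ≤ n := by
    rw [← hn, hdeg]
    exact (Nat.le_mul_of_pos_left _ (Nat.pos_of_ne_zero hψm)).trans
      (Finset.single_le_sum (f := fun φ : IrrCharacter G => m φ * charDegree (φ : G → ℂ))
        (fun _ _ => Nat.zero_le _) (Finset.mem_univ ψ))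
  have hψd := charDegree_cast (IsIrrCharacter.isCharacter ψ.2)
  have hψ1 : (ψ : G → ℂ) 1 ≠ 1 := by
    intro h1
    obtain ⟨l, hl⟩ := IsCharacter.exists_monoidHom (IsIrrCharacter.isCharacter ψ.2) h1
    let r : ℕ := Nat.card G / p ^ (Nat.card G).factorization p
    let τ : G →* ℂˣ := (powMonoidHom r).comp l
    have hker : τ.ker = ⊤ := by
      refine hquot _ inferInstance fun q => ?_
      obtain ⟨g, rfl⟩ := QuotientGroup.mk_surjective q
      refine ⟨(Nat.card G).factorization p, (QuotientGroup.eq_one_iff _).mpr ?_⟩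
      rw [MonoidHom.mem_ker]
      show (l (g ^ p ^ (Nat.card G).factorization p)) ^ r = 1
      rw [← map_pow, ← pow_mul, Nat.ordProj_mul_ordCompl_eq_self, pow_card_eq_one', map_one]
    have h2 : l x ^ r = 1 := MonoidHom.mem_ker.mp (hker ▸ Subgroup.mem_top x : x ∈ τ.ker)
    obtain ⟨k, hk⟩ := IsPGroup.iff_card.mp P.isPGroup'
    have h3 : orderOf (l x) = 1 := Nat.eq_one_of_dvd_coprimes
      ((Nat.coprime_ordCompl hp Nat.card_pos.ne').pow_left k)
      ((orderOf_map_dvd l x).trans (hk ▸ (P : Subgroup G).orderOf_dvd_natCard hxP))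
      (orderOf_dvd_of_pow_eq_one h2)
    exact hψx (by rw [hl]; simp [orderOf_eq_one_iff.mp h3])
  -- the abelian subgroup bound
  have hsup : ∀ U : Subgroup G, U ≠ ⊤ → ∃ S : Subgroup G, IsPGroup p S ∧
      ∀ X : Subgroup G, X ≤ U → IsPGroup p X → X ≤ S := by
    intro U hU
    obtain ⟨S⟩ := Sylow.nonempty (p := p) (G := U)
    haveI := Sylow.unique_of_normal S (hsub U hU S)
    refine ⟨(S : Subgroup U).map U.subtype, S.isPGroup'.map _, fun X hXU hX => ?_⟩
    obtain ⟨T, hT⟩ := (hX.comap_subtype (K := U)).exists_le_sylow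
    rw [Subsingleton.elim T S] at hT
    rw [← Subgroup.map_subgroupOf_eq_of_le hXU]
    exact Subgroup.map_mono hT
  let H : G → Subgroup G := fun a => (P : Subgroup G).map (MulAut.conj a).toMonoidHom
  have hHp : ∀ a, IsPGroup p (H a) := fun a => P.isPGroup'.map _
  have hHmax : ∀ a, ∀ S : Subgroup G, IsPGroup p S → H a ≤ S → S = H a := by
    intro a S hS hle
    have h1 : (P : Subgroup G) ≤ S.map (MulAut.conj a⁻¹).toMonoidHom := fun y hy =>
      ⟨a * y * a⁻¹, hle ⟨y, hy, by simp⟩, by simp [mul_assoc]⟩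
    have h2 := P.is_maximal' (hS.map _) h1
    refine le_antisymm (fun y hy => ⟨a⁻¹ * y * a, h2.le ⟨y, hy, by simp⟩, by simp [mul_assoc]⟩) hle
  have hHZ : ∀ a, ∀ w ∈ H a, w ≠ 1 → Subgroup.centralizer ({w} : Set G) ≠ ⊤ := by
    rintro a _ ⟨y, hy, rfl⟩ hw1 htop
    have hwc : (MulAut.conj a).toMonoidHom y ∈ Subgroup.center G := by
      rwa [Subgroup.centralizer_eq_top_iff_subset, Set.singleton_subset_iff] at htop
    have e : (MulAut.conj a).toMonoidHom y = y := by
      have h2 : a * (a * y * a⁻¹) = a * y * a⁻¹ * a := Subgroup.mem_center_iff.mp hwc a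
      rw [inv_mul_cancel_right] at h2
      exact mul_left_cancel h2
    refine hw1 ?_
    rw [e] at hwc ⊢
    exact hZ y hy hwc
  have hHC : ∀ a, ∀ w ∈ H a, H a ≤ Subgroup.centralizer ({w} : Set G) := fun a w hw y hy =>
    Subgroup.mem_centralizer_singleton_iff.mpr (hcomm _ (hHp a) y hy w hw)
  have hone : ∀ g : G, g ∉ Subgroup.center G → ∀ a b : G,
      Subgroup.centralizer ({g} : Set G) ⊓ H a ≠ ⊥ → Subgroup.centralizer ({g} : Set G) ⊓ H b ≠ ⊥ →
      H a = H b := by
    intro g hg a b ha hb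
    obtain ⟨w, ⟨hwg, hwa⟩, hw1⟩ := (Subgroup.bot_or_exists_ne_one _).resolve_left ha
    obtain ⟨v, ⟨hvg, hvb⟩, hv1⟩ := (Subgroup.bot_or_exists_ne_one _).resolve_left hb
    have hgne : Subgroup.centralizer ({g} : Set G) ≠ ⊤ := fun htop => hg (by
      rwa [Subgroup.centralizer_eq_top_iff_subset, Set.singleton_subset_iff] at htop)
    obtain ⟨S, hS, hSsup⟩ := hsup _ hgne
    have hz : ∀ (c : G) (y : G), y ∈ Subgroup.centralizer ({g} : Set G) → y ∈ H c → y ∈ S := fun c y hy hyc =>
      hSsup (Subgroup.zpowers y) (Subgroup.zpowers_le.mpr hy)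
        ((hHp c).to_le (Subgroup.zpowers_le.mpr hyc)) (Subgroup.mem_zpowers y)
    have hvw : v * w = w * v := hcomm S hS v (hz b v hvg hvb) w (hz a w hwg hwa)
    obtain ⟨S₁, hS₁, hS₁sup⟩ := hsup _ (hHZ a w hwa hw1)
    have hva : v ∈ H a := by
      rw [← hHmax a S₁ hS₁ (hS₁sup _ (hHC a w hwa) (hHp a))]
      exact hS₁sup (Subgroup.zpowers v) (Subgroup.zpowers_le.mpr (Subgroup.mem_centralizer_singleton_iff.mpr hvw))
        ((hHp b).to_le (Subgroup.zpowers_le.mpr hvb)) (Subgroup.mem_zpowers v)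
    obtain ⟨S₂, hS₂, hS₂sup⟩ := hsup _ (hHZ b v hvb hv1)
    rw [← hHmax a S₂ hS₂ (hS₂sup _ (hHC a v hva) (hHp a)),
      ← hHmax b S₂ hS₂ (hS₂sup _ (hHC b v hvb) (hHp b))]
  have hbound := (Cfsg.Agent.S0898.result (P : Subgroup G) (hcomm _ P.isPGroup')
    ((Subgroup.eq_bot_iff_forall _).mpr fun z hz => hZ z hz.1 hz.2) hone (ψ : G → ℂ) ψ.2 ⟨x, hxP, hψx⟩).2
    hψ1 hclos
  rw [← hψd, Complex.natCast_re] at hbound
  have hlt : Nat.card (P : Subgroup G) < (1 + n) ^ 2 := by
    refine lt_of_lt_of_le ?_ (Nat.pow_le_pow_left (Nat.add_le_add_left hdn 1) 2)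
    exact_mod_cast hbound
  obtain ⟨k, hk⟩ := IsPGroup.iff_card.mp P.isPGroup'
  have hk0 : k ≠ 0 := fun e => hPne (by
    rw [e, pow_zero] at hk
    exact Subgroup.eq_bot_of_card_eq _ hk)
  have hk1 : p ≤ p ^ k := Nat.le_self_pow hk0 p
  rcases h with h | h
  · rw [hk, add_comm 1 n] at hlt
    omega
  · refine hP ?_
    have hdvd : ¬ p ^ 2 ∣ Nat.card (⊤ : Subgroup G) := by
      rw [Subgroup.card_top]
      intro hd
      have hfac := P.card_eq_multiplicity
      rw [hk] at hfac
      have hkf := Nat.pow_right_injective hp.two_le hfac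
      have h2 : 2 ≤ k := by
        rw [hkf]
        exact (hp.pow_dvd_iff_le_factorization Nat.card_pos.ne').mp hd
      have := Nat.pow_le_pow_right hp.pos h2
      nlinarith
    haveI := Sylow.characteristic_of_normal (P.subtype (le_top : (P : Subgroup G) ≤ ⊤))
      (h.2 ⊤ hdvd _)
    have h3 : (((P.subtype (le_top : (P : Subgroup G) ≤ ⊤) : Sylow p _) : Subgroup _).map
      (⊤ : Subgroup G).subtype).Normal := inferInstance
    rwa [Sylow.coe_subtype, Subgroup.map_subgroupOf_eq_of_le le_top] at h3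

end Cfsg.Agent.Char.SmallDegree
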