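import Cfsg.Agent.Lib.Char.FrobeniusTI
import Cfsg.Prelude.Def_Transfer

/-!
# Abelian Frobenius kernels and their exceptional characters
-/

set_option autoImplicit false
set_option linter.style.haveILetI false
set_option linter.unusedSectionVars false

namespace Cfsg.Agent.Char.TIAb

open Cfsg Cfsg.Agent.Char

universe u

section Kernel

variable {N : Type u} [Group N] [Fintype N] (H : Subgroup N) [H.Normal]
  (hC : ∀ h ∈ H, h ≠ 1 → Subgroup.centralizer ({h} : Set N) ≤ H)

include hC

/-- If the kernel has order one more than the index, it is elementary abelian. -/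
theorem elementary_of_card (hH1 : H ≠ ⊥) (he : Nat.card H = H.index + 1) :
    (∀ a ∈ H, ∀ b ∈ H, a * b = b * a) ∧ ∃ p : ℕ, p.Prime ∧ ∀ a ∈ H, a ^ p = 1 := by
  classical
  haveI := Fintype.ofFinite H
  let S : Finset N := Finset.univ.filter fun x => x ∈ H ∧ x ≠ 1
  have hS : S.card = H.index := by
    have : (Finset.univ.filter fun x : N => x ∈ H) = insert 1 S := by
      ext x
      simp only [S, Finset.mem_filter, Finset.mem_univ, true_and, Finset.mem_insert]
      by_cases h : x = 1
      · simp [h]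
      · simp [h]
    rw [Nat.card_eq_fintype_card, Fintype.card_subtype, this,
      Finset.card_insert_of_notMem (by simp [S])] at he
    omega
  have hcl : ∀ x ∈ H, x ≠ 1 → Subgroup.centralizer ({x} : Set N) = H ∧
      ∀ y ∈ H, y ≠ 1 → IsConj x y := by
    intro x hx hx1
    let T : Finset N := Finset.univ.filter fun y => IsConj x y
    have hTS : T ⊆ S := fun y hy => by
      obtain ⟨g, rfl⟩ := isConj_iff.mp (Finset.mem_filter.mp hy).2
      exact Finset.mem_filter.mpr ⟨Finset.mem_univ _, Subgroup.Normal.conj_mem inferInstance x hx g,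
        fun h1 => hx1 (conj_eq_one_iff.mp h1)⟩
    have hT : T.card = (Subgroup.centralizer ({x} : Set N)).index := by
      rw [← card_isConj_eq_index, Nat.card_eq_fintype_card, Fintype.card_subtype]
    have hdvd : H.index ∣ T.card := hT ▸ Subgroup.index_dvd_of_le (hC x hx hx1)
    have hpos : 0 < T.card := Finset.card_pos.mpr ⟨x, Finset.mem_filter.mpr ⟨Finset.mem_univ _, IsConj.refl x⟩⟩
    have hTeq : T = S := Finset.eq_of_subset_of_card_le hTS (hS ▸ Nat.le_of_dvd hpos hdvd)
    refine ⟨le_antisymm (hC x hx hx1) ?_, fun y hy hy1 => ?_⟩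
    · have h1 : (Subgroup.centralizer ({x} : Set N)).index = H.index := by rw [← hT, hTeq, hS]
      exact (Subgroup.eq_of_le_of_card_ge (hC x hx hx1) (by
        have a := Subgroup.index_mul_card (Subgroup.centralizer ({x} : Set N))
        have b := Subgroup.index_mul_card H
        rw [h1] at a
        exact (Nat.eq_of_mul_eq_mul_left (Nat.pos_of_ne_zero Subgroup.index_ne_zero_of_finite)
          (b.trans a.symm)).le)).ge
    · have : y ∈ T := hTeq ▸ Finset.mem_filter.mpr ⟨Finset.mem_univ _, hy, hy1⟩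
      exact (Finset.mem_filter.mp this).2
  obtain ⟨x, hx, hx1⟩ : ∃ x ∈ H, x ≠ 1 := by
    by_contra hh
    push Not at hh
    exact hH1 ((Subgroup.eq_bot_iff_forall _).mpr hh)
  refine ⟨fun a ha b hb => ?_, ?_⟩
  · by_cases ha1 : a = 1
    · simp [ha1]
    exact (Subgroup.mem_centralizer_singleton_iff.mp ((hcl a ha ha1).1.ge hb)).symm
  · have ho : orderOf x ≠ 1 := fun h => hx1 (orderOf_eq_one_iff.mp h)
    obtain ⟨p, hp, j, hj⟩ := Nat.exists_prime_and_dvd ho
    have hy : x ^ j ≠ 1 := fun h => by
      have hd := orderOf_dvd_of_pow_eq_one h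
      have hj0 : 0 < j := Nat.pos_of_ne_zero fun e => (orderOf_pos x).ne' (by rw [hj, e, mul_zero])
      have := Nat.le_of_dvd hj0 hd
      rw [hj] at this
      exact absurd this (not_le_of_gt (lt_mul_of_one_lt_left hj0 hp.one_lt))
    refine ⟨p, hp, fun a ha => ?_⟩
    by_cases ha1 : a = 1
    · simp [ha1]
    obtain ⟨g, hg⟩ := isConj_iff.mp ((hcl _ (Subgroup.pow_mem _ hx j) hy).2 a ha ha1)
    rw [← hg, conj_pow, ← pow_mul, mul_comm j p, ← hj, pow_orderOf_eq_one, mul_one,
      mul_inv_cancel]

/-- The characters not trivial on an abelian kernel have degree equal to the index. -/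
theorem degree_eq_index (hab : ∀ a ∈ H, ∀ b ∈ H, a * b = b * a) {χ : N → ℂ}
    (hχ : IsIrrCharacter N χ) (h : ∃ k ∈ H, χ k ≠ χ 1) : χ 1 = (H.index : ℂ) := by
  classical
  haveI := Fintype.ofFinite H
  obtain ⟨θ, hθ, -, rfl⟩ := FK.exists_eq_ind H hC hχ h
  rw [indFun_one_apply,
    IsIrrCharacter.degree_one_of_comm hθ fun a b => Subtype.ext (hab a a.2 b b.2), mul_one]

/-- Counting the characters not trivial on an abelian kernel. -/
theorem card_relevant_mul (hab : ∀ a ∈ H, ∀ b ∈ H, a * b = b * a) :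
    Nat.card {χ : IrrCharacter N // ∃ k ∈ H, (χ : N → ℂ) k ≠ (χ : N → ℂ) 1} * H.index + 1 =
      Nat.card H := by
  classical
  haveI := Fintype.ofFinite (IrrCharacter N)
  have h1 := sum_sq_degree (G := N)
  rw [← Finset.sum_filter_add_sum_filter_not _
    (fun χ : IrrCharacter N => ∃ k ∈ H, (χ : N → ℂ) k ≠ (χ : N → ℂ) 1),
    FK.sum_sq_trivial H hC, Finset.sum_congr rfl fun χ hχ => by
      rw [degree_eq_index H hC hab χ.2 (Finset.mem_filter.mp hχ).2],
    Finset.sum_const, nsmul_eq_mul, ← Fintype.card_subtype, ← Nat.card_eq_fintype_card,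
    ← Subgroup.index_mul_card H] at h1
  have hne : (H.index : ℂ) ≠ 0 := Nat.cast_ne_zero.mpr Subgroup.index_ne_zero_of_finite
  refine Nat.cast_injective (R := ℂ) (mul_left_cancel₀ hne ?_)
  push_cast at h1 ⊢
  linear_combination h1

end Kernel

end Cfsg.Agent.Char.TIAb
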