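import Cfsg.Agent.Lib.Char.PiProduct
import Cfsg.Agent.Lib.Char.Gallagher
import Cfsg.Agent.Lib.Char.Monomial
import Cfsg.Agent.Lib.Char.PermChar
import Cfsg.Agent.Lib.Char.Zero
import Cfsg.Agent.Lib.Block.Regular
import Mathlib.GroupTheory.RegularWreathProduct

/-!
# Wreath products of monomial groups with groups of prime order are monomial
-/

set_option autoImplicit false
set_option linter.style.haveILetI false
set_option linter.unusedSectionVars false

namespace Cfsg.Agent.Char.WreathM

open Cfsg Cfsg.Agent.Char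
open scoped Classical ComplexConjugate commutatorElement

universe u

/-- Each irreducible character is induced from a linear character. -/
def Monomialish (X : Type u) [Group X] [Fintype X] : Prop :=
  ∀ χ : X → ℂ, IsIrrCharacter X χ →
    ∃ (H : Subgroup X) (lam : ↥H →* ℂˣ), χ = indFun H fun h => (lam h : ℂ)

variable {C D : Type u} [Group C] [Group D]

/-- The base of the wreath product. -/
def base (C D : Type u) [Group C] [Group D] : Subgroup (D ≀ᵣ C) :=
  (RegularWreathProduct.rightHom (D := D) (Q := C)).ker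

instance : (base C D).Normal := MonoidHom.normal_ker _

theorem mem_base {w : D ≀ᵣ C} : w ∈ base C D ↔ w.right = 1 := Iff.rfl

/-- The base is a product. -/
def baseEquiv : base C D ≃* (C → D) where
  toFun b := b.1.left
  invFun f := ⟨⟨f, 1⟩, rfl⟩
  left_inv b := Subtype.ext (RegularWreathProduct.ext rfl (mem_base.1 b.2).symm)
  right_inv f := rfl
  map_mul' a b := by
    have h : a.1.right = 1 := mem_base.1 a.2
    funext c
    simp [h]

/-- The elements of the base lying in a box. -/
def boxSub (U : C → Subgroup D) : Subgroup (D ≀ᵣ C) where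
  carrier := {w | w.right = 1 ∧ ∀ c, w.left c ∈ U c}
  one_mem' := ⟨rfl, fun c => by simp⟩
  mul_mem' := fun {a b} ha hb => ⟨by simp [ha.1, hb.1], fun c => by
    simpa [ha.1] using mul_mem (ha.2 c) (hb.2 c)⟩
  inv_mem' := fun {a} ha => ⟨by simp [ha.1], fun c => by simpa [ha.1] using inv_mem (ha.2 c)⟩

theorem boxSub_le (U : C → Subgroup D) : boxSub U ≤ base C D := fun _ hw => hw.1

/-- The product of linear characters on a box. -/
noncomputable def boxHom [Fintype C] (U : C → Subgroup D) (l : ∀ c, U c →* ℂˣ) : boxSub U →* ℂˣ where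
  toFun w := ∏ c, l c ⟨w.1.left c, w.2.2 c⟩
  map_one' := Finset.prod_eq_one fun c _ =>
    (congrArg (l c) (show _ = (1 : U c) from Subtype.ext rfl)).trans (map_one _)
  map_mul' a b := by
    rw [← Finset.prod_mul_distrib]
    refine Finset.prod_congr rfl fun c _ => ?_
    rw [← map_mul]
    congr 1
    exact Subtype.ext (by simp [a.2.1])

/-- The elements all of whose coordinates lie in a subgroup. -/
def fullSub (U : Subgroup D) : Subgroup (D ≀ᵣ C) where
  carrier := {w | ∀ c, w.left c ∈ U}
  one_mem' := fun c => by simp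
  mul_mem' := fun {a b} ha hb c => by simpa using mul_mem (ha c) (hb _)
  inv_mem' := fun {a} ha c => by simpa using inv_mem (ha (a.right * c))

/-- The tensor power of a linear character. -/
noncomputable def fullHom [Fintype C] (U : Subgroup D) (l : U →* ℂˣ) : fullSub (C := C) U →* ℂˣ where
  toFun w := ∏ c, l ⟨w.1.left c, w.2 c⟩
  map_one' := Finset.prod_eq_one fun c _ =>
    (congrArg l (show _ = (1 : U) from Subtype.ext rfl)).trans (map_one _)
  map_mul' a b := by
    have e : ∏ c, l ⟨(a * b).1.left c, (a * b).2 c⟩ =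
        ∏ c, (l ⟨a.1.left c, a.2 c⟩ * l ⟨b.1.left (a.1.right⁻¹ * c), b.2 _⟩) := by
      refine Finset.prod_congr rfl fun c _ => ?_
      rw [← map_mul]
      congr 1
    rw [e, Finset.prod_mul_distrib]
    congr 1
    exact Fintype.prod_equiv (Equiv.mulLeft a.1.right⁻¹) _ _ fun c => rfl

variable [Fintype C] [Fintype D]

theorem prod_indFun (U : C → Subgroup D) (l : ∀ c, U c →* ℂˣ) (f : C → D) :
    ∏ c, indFun (U c) (fun h => (l c h : ℂ)) (f c) =
      (∏ c, (Nat.card (U c) : ℂ))⁻¹ *
        ∑ h : C → D, ∏ c, extendByZero (U c) (fun h => (l c h : ℂ)) ((h c)⁻¹ * f c * h c) := by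
  simp only [indFun_apply]
  rw [Finset.prod_mul_distrib, Finset.prod_inv_distrib, Fintype.prod_sum]

theorem extendByZero_box (U : C → Subgroup D) (l : ∀ c, U c →* ℂˣ) (H : Subgroup (D ≀ᵣ C))
    (lam : H → ℂ) (hmem : ∀ w : D ≀ᵣ C, w.right = 1 → (w ∈ H ↔ ∀ c, w.left c ∈ U c))
    (hlam : ∀ (w : H) (hw : ∀ c, w.1.left c ∈ U c), w.1.right = 1 →
      lam w = ∏ c, (l c ⟨w.1.left c, hw c⟩ : ℂ))
    (w : D ≀ᵣ C) (hw : w.right = 1) :
    extendByZero H lam w = ∏ c, extendByZero (U c) (fun h => (l c h : ℂ)) (w.left c) := by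
  by_cases h : w ∈ H
  · rw [extendByZero_of_mem _ _ h, hlam ⟨w, h⟩ ((hmem w hw).1 h) hw]
    exact Finset.prod_congr rfl fun c _ => by rw [extendByZero_of_mem _ _ ((hmem w hw).1 h c)]
  · rw [extendByZero_of_notMem _ _ h]
    obtain ⟨c, hc⟩ := not_forall.1 fun h' => h ((hmem w hw).2 h')
    exact (Finset.prod_eq_zero (f := fun c => extendByZero (U c) (fun h => (l c h : ℂ)) (w.left c))
      (Finset.mem_univ c) (extendByZero_of_notMem (U c) _ hc)).symm

theorem indFun_box [Fintype (D ≀ᵣ C)] [Fintype (base C D)] (U : C → Subgroup D) (l : ∀ c, U c →* ℂˣ) :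
    indFun (base C D) (fun b => ∏ c, indFun (U c) (fun h => (l c h : ℂ)) (b.1.left c)) =
      indFun (boxSub U) fun w => (boxHom U l w : ℂ) := by
  rw [← indFun_trans (boxSub U) (base C D) (boxSub_le U)]
  congr 1
  funext b
  rw [prod_indFun, indFun_apply]
  congr 1
  · congr 1
    rw [Nat.card_congr (Subgroup.subgroupOfEquivOfLe (boxSub_le U)).toEquiv, ← Nat.cast_prod, ← Nat.card_pi]
    congr 1
    exact Nat.card_congr
      { toFun := fun h => ⟨⟨fun c => h c, 1⟩, rfl, fun c => (h c).2⟩
        invFun := fun w c => ⟨w.1.left c, w.2.2 c⟩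
        left_inv := fun h => rfl
        right_inv := fun w => Subtype.ext (RegularWreathProduct.ext rfl w.2.1.symm) }
  · refine (Fintype.sum_equiv (baseEquiv (C := C) (D := D)).toEquiv _ _ fun x => ?_).symm
    set y := x⁻¹ * b * x with hy
    have hyl : ∀ c, y.1.left c = (x.1.left c)⁻¹ * b.1.left c * x.1.left c := fun c => by
      simp [hy, mem_base.1 x.2, mem_base.1 b.2]
    have e := extendByZero_box U l (boxSub U) (fun w => (boxHom U l w : ℂ))
      (fun w hw => ⟨fun h => h.2, fun h => ⟨hw, h⟩⟩) (fun w hw _ => by simp [boxHom]) y.1 (mem_base.1 y.2)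
    simp only [hyl] at e
    rw [show (baseEquiv (C := C) (D := D)).toEquiv x = x.1.left from rfl, ← e]
    by_cases h : y.1 ∈ boxSub U
    · rw [extendByZero_of_mem _ _ h, extendByZero_of_mem _ _ (Subgroup.mem_subgroupOf.2 h)]
    · rw [extendByZero_of_notMem _ _ h, extendByZero_of_notMem _ _ (fun h' => h (Subgroup.mem_subgroupOf.1 h'))]

theorem indFun_full [Fintype (D ≀ᵣ C)] (U : Subgroup D) (l : U →* ℂˣ) (b : base C D) :
    indFun (fullSub (C := C) U) (fun w => (fullHom U l w : ℂ)) b =
      ∏ c, indFun U (fun h => (l h : ℂ)) (b.1.left c) := by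
  rw [prod_indFun (fun _ => U) (fun _ => l), indFun_apply]
  have hcard : Nat.card (fullSub (C := C) U) = (∏ _c : C, Nat.card U) * Nat.card C := by
    rw [← Nat.card_pi, ← Nat.card_prod]
    exact Nat.card_congr
      { toFun := fun w => (fun c => ⟨w.1.left c, w.2 c⟩, w.1.right)
        invFun := fun h => ⟨⟨fun c => h.1 c, h.2⟩, fun c => (h.1 c).2⟩
        left_inv := fun w => rfl
        right_inv := fun h => rfl }
  have hsum : ∑ x : D ≀ᵣ C, extendByZero (fullSub (C := C) U) (fun w => (fullHom U l w : ℂ)) (x⁻¹ * b * x) =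
      (Nat.card C : ℂ) * ∑ h : C → D, ∏ c, extendByZero U (fun h => (l h : ℂ)) ((h c)⁻¹ * b.1.left c * h c) := by
    rw [Fintype.sum_equiv (RegularWreathProduct.equivProd D C)
      (fun x => extendByZero (fullSub (C := C) U) (fun w => (fullHom U l w : ℂ)) (x⁻¹ * b * x))
      (fun z => ∏ c, extendByZero U (fun h => (l h : ℂ)) ((z.1 c)⁻¹ * b.1.left c * z.1 c)) fun x => ?_,
      Fintype.sum_prod_type, Finset.mul_sum]
    · exact Finset.sum_congr rfl fun h _ => by
        simp [Finset.card_univ, Nat.card_eq_fintype_card]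
    · have hr : (x⁻¹ * (b : D ≀ᵣ C) * x).right = 1 := by simp [mem_base.1 b.2]
      rw [extendByZero_box (fun _ => U) (fun _ => l) _ (fun w => (fullHom U l w : ℂ)) (fun w _ => Iff.rfl)
        (fun w hw _ => by simp [fullHom]) _ hr]
      refine Fintype.prod_equiv (Equiv.mulLeft x.right) _ _ fun c => ?_
      congr 1
      simp [mem_base.1 b.2, RegularWreathProduct.equivProd, mul_assoc]
  rw [hsum, hcard, Nat.cast_mul, mul_inv, mul_assoc, inv_mul_cancel_left₀ (Nat.cast_ne_zero.2 Nat.card_pos.ne')]
  push_cast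
  rfl

theorem isIrrCharacter_of_restrict {X : Type u} [Group X] [Fintype X] {N : Subgroup X} [Fintype N]
    {E : X → ℂ} (hE : IsCharacter X E) (h : IsIrrCharacter N fun n : N => E n) : IsIrrCharacter X E := by
  have hd : E 1 ≠ 0 := by simpa using IsIrrCharacter.apply_one_ne_zero h
  obtain ⟨η, hη, hne⟩ := IsCharacter.exists_irr_constituent hE fun e => hd (congrFun e 1)
  obtain ⟨r, hr, e⟩ := exists_add_of_classInner_ne_zero hE hη hne
  suffices r = 0 by rw [e, this, add_zero]; exact hη
  by_contra hr0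
  obtain ⟨ρ₁, h₁, hn₁⟩ := IsCharacter.exists_irr_constituent (IsCharacter.restrict (IsIrrCharacter.isCharacter hη) N)
    fun e1 => IsIrrCharacter.apply_one_ne_zero hη (by simpa using congrFun e1 1)
  obtain ⟨κ, hκ, hnκ⟩ := IsCharacter.exists_irr_constituent hr hr0
  obtain ⟨r', hr', e'⟩ := exists_add_of_classInner_ne_zero hr hκ hnκ
  obtain ⟨ρ₂, h₂, hn₂⟩ := IsCharacter.exists_irr_constituent (IsCharacter.restrict hr N) fun e1 => by
    have h2 : r 1 = 0 := by simpa using congrFun e1 1
    rw [e', Pi.add_apply, ← Cfsg.Agent.Block.charDegree_cast (IsIrrCharacter.isCharacter hκ),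
      ← Cfsg.Agent.Block.charDegree_cast hr', ← Nat.cast_add, Nat.cast_eq_zero] at h2
    exact IsIrrCharacter.apply_one_ne_zero hκ (by rw [← Cfsg.Agent.Block.charDegree_cast (IsIrrCharacter.isCharacter hκ), (Nat.eq_zero_of_add_eq_zero h2).1, Nat.cast_zero])
  have he : (fun n : N => E n) = (fun n : N => η n) + fun n : N => r n := by
    funext n; rw [e]; rfl
  have k₁ : classInner (fun n : N => E n) ρ₁ ≠ 0 := by
    rw [he]; exact classInner_ne_zero_of_le (IsCharacter.restrict (IsIrrCharacter.isCharacter hη) N)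
      (IsCharacter.restrict hr N) h₁ hn₁
  have k₂ : classInner (fun n : N => E n) ρ₂ ≠ 0 := by
    rw [he, add_comm]; exact classInner_ne_zero_of_le (IsCharacter.restrict hr N)
      (IsCharacter.restrict (IsIrrCharacter.isCharacter hη) N) h₂ hn₂
  have q₁ : ρ₁ = fun n : N => E n := by
    by_contra hq; exact k₁ (IsIrrCharacter.classInner_eq_zero h h₁ (Ne.symm hq))
  have q₂ : ρ₂ = fun n : N => E n := by
    by_contra hq; exact k₂ (IsIrrCharacter.classInner_eq_zero h h₂ (Ne.symm hq))
  have hsum := IsIrrCharacter.classInner_self h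
  obtain ⟨a, ha⟩ := exists_classInner_nat (IsCharacter.restrict (IsIrrCharacter.isCharacter hη) N) h₁
  obtain ⟨b, hb⟩ := exists_classInner_nat (IsCharacter.restrict hr N) h₂
  rw [ha] at hn₁; rw [hb] at hn₂
  rw [q₁] at ha; rw [q₂] at hb
  nth_rewrite 1 [he] at hsum
  rw [classInner_add_left, ha, hb] at hsum
  have : a + b = 1 := by exact_mod_cast hsum
  simp only [ne_eq, Nat.cast_eq_zero] at hn₁ hn₂
  omega

theorem monomialish_wreath [Fintype (D ≀ᵣ C)] (hC : (Nat.card C).Prime) (hD : Monomialish D) :
    Monomialish (D ≀ᵣ C) := by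
  intro χ hχ
  haveI := Fintype.ofFinite (base C D)
  have hidx : (base C D).index = Nat.card C := by
    rw [base, Subgroup.index_ker, MonoidHom.range_eq_top.2 fun c => ⟨RegularWreathProduct.inl c, rfl⟩]
    exact Nat.card_congr Subgroup.topEquiv.toEquiv
  obtain ⟨θ, hθ, hne⟩ := IsCharacter.exists_irr_constituent (IsCharacter.restrict (IsIrrCharacter.isCharacter hχ) (base C D))
    fun e => IsIrrCharacter.apply_one_ne_zero hχ (by simpa using congrFun e 1)
  obtain ⟨ψ, hψ⟩ := PiProd.exists_factors
    (isIrrCharacter_comp_mulEquiv (baseEquiv (C := C) (D := D)).symm hθ)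
  have hθe : ∀ b : base C D, θ b = ∏ c, (ψ c : D → ℂ) (b.1.left c) := fun b => by
    have := congrFun hψ (baseEquiv b)
    exact (by simpa using this : θ b = ∏ c, (ψ c : D → ℂ) (baseEquiv b c))
  choose U l hUl using fun c => hD _ (ψ c).2
  have hrecip : classInner (indFun (base C D) θ) χ ≠ 0 := by
    rw [classInner_indFun _ θ (IsCharacter.isClassFunction (IsIrrCharacter.isCharacter hχ)), ← classInner_conj_symm]
    simpa using hne
  have hle : base C D ≤ inertia (base C D) θ :=
    le_inertia _ (IsCharacter.isClassFunction (IsIrrCharacter.isCharacter hθ))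
  have hdiv : (base C D).relIndex (inertia (base C D) θ) = 1 ∨ (base C D).relIndex (inertia (base C D) θ) = Nat.card C :=
    hC.eq_one_or_self_of_dvd _ (hidx ▸ Dvd.intro _ (Subgroup.relIndex_mul_index hle))
  rcases hdiv with h1 | h1
  · -- not invariant
    have hT : inertia (base C D) θ = base C D := le_antisymm (Subgroup.relIndex_eq_one.1 h1) hle
    have hirr : IsIrrCharacter (D ≀ᵣ C) (indFun (base C D) θ) := by
      refine isIrrCharacter_iff.2 ⟨isCharacter_indFun _ (IsIrrCharacter.isCharacter hθ), ?_⟩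
      rw [classInner_indFun_indFun _ hθ hθ]
      have e : (Finset.univ.filter fun g : D ≀ᵣ C => conjChar (base C D) g θ = θ).card = Nat.card (base C D) := by
        rw [← Fintype.card_subtype, ← Nat.card_eq_fintype_card]
        exact Nat.card_congr (Equiv.subtypeEquivRight fun g => by rw [← mem_inertia, hT])
      rw [e, div_self (Nat.cast_ne_zero.2 Nat.card_pos.ne')]
    have hχe : χ = indFun (base C D) θ := by
      by_contra hne'
      exact hrecip (IsIrrCharacter.classInner_eq_zero hirr hχ (Ne.symm hne'))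
    refine ⟨boxSub U, boxHom U l, ?_⟩
    rw [hχe, ← indFun_box]
    congr 1
    funext b
    rw [hθe]
    exact Finset.prod_congr rfl fun c _ => congrFun (hUl c) _
  · -- invariant
    have hT : inertia (base C D) θ = ⊤ := by
      have h2 := Subgroup.relIndex_mul_index hle
      rw [h1, hidx] at h2
      exact Subgroup.index_eq_one.1 (mul_eq_left₀ Nat.card_pos.ne' |>.1 h2)
    have hinv : ∀ g, conjChar (base C D) g θ = θ := fun g => (mem_inertia (base C D)).1 (hT ▸ Subgroup.mem_top g)
    have hψeq : ∀ c, (ψ c : D → ℂ) = (ψ 1 : D → ℂ) := by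
      intro c
      have hD0 : ∀ j, (ψ j : D → ℂ) 1 ≠ 0 := fun j => IsIrrCharacter.apply_one_ne_zero (ψ j).2
      have hsingle : ∀ (j : C) (x : D), θ (baseEquiv.symm (Pi.mulSingle j x)) * (ψ j : D → ℂ) 1 =
          (ψ j : D → ℂ) x * ∏ i, (ψ i : D → ℂ) 1 := by
        intro j x
        rw [hθe, ← Finset.mul_prod_erase _ _ (Finset.mem_univ j),
          ← Finset.mul_prod_erase Finset.univ (fun i => (ψ i : D → ℂ) 1) (Finset.mem_univ j)]
        rw [Finset.prod_congr rfl (g := fun i => (ψ i : D → ℂ) 1) fun i hi => by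
          simp [baseEquiv, Pi.mulSingle_eq_of_ne (Finset.ne_of_mem_erase hi)]]
        simp [baseEquiv]
        ring
      have hx : ∀ x, (ψ c : D → ℂ) x * (ψ 1 : D → ℂ) 1 = (ψ 1 : D → ℂ) x * (ψ c : D → ℂ) 1 := by
        intro x
        have e : conjChar (base C D) (RegularWreathProduct.inl c) θ (baseEquiv.symm (Pi.mulSingle 1 x)) =
            θ (baseEquiv.symm (Pi.mulSingle c x)) := by
          rw [conjChar_apply]
          congr 1
          refine Subtype.ext (RegularWreathProduct.ext (funext fun i => ?_) ?_)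
          · simp only [baseEquiv, RegularWreathProduct.mul_left, RegularWreathProduct.inv_left]
            by_cases hi : i = c
            · subst hi; simp [baseEquiv]
            · simp [baseEquiv, Pi.mulSingle_eq_of_ne hi,
                Pi.mulSingle_eq_of_ne (show c⁻¹ * i ≠ 1 from fun h => hi (inv_mul_eq_one.1 h).symm)]
          · simp [baseEquiv]
        rw [hinv] at e
        have h1' := hsingle 1 x
        have h2' := hsingle c x
        rw [← e] at h2'
        have hP : ∏ i, (ψ i : D → ℂ) 1 ≠ 0 := Finset.prod_ne_zero_iff.2 fun i _ => hD0 i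
        refine mul_right_cancel₀ hP ?_
        linear_combination (ψ c : D → ℂ) 1 * h1' - (ψ 1 : D → ℂ) 1 * h2'
      by_contra hne'
      have h0 := IsIrrCharacter.classInner_eq_zero (ψ c).2 (ψ 1).2 hne'
      have h1' := IsIrrCharacter.classInner_self (ψ c).2
      simp only [classInner] at h0 h1'
      have : (ψ 1 : D → ℂ) 1 * 1 = 0 := by
        rw [← h1']
        have hc1 : conj ((ψ c : D → ℂ) 1) = (ψ c : D → ℂ) 1 := by
          rw [← Cfsg.Agent.Block.charDegree_cast (IsIrrCharacter.isCharacter (ψ c).2), Complex.conj_natCast]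
        have h10 : conj ((ψ 1 : D → ℂ) 1) = (ψ 1 : D → ℂ) 1 := by
          rw [← Cfsg.Agent.Block.charDegree_cast (IsIrrCharacter.isCharacter (ψ 1).2), Complex.conj_natCast]
        rw [← mul_zero ((ψ c : D → ℂ) 1), ← h0, Finset.mul_sum, Finset.mul_sum, Finset.mul_sum, Finset.mul_sum]
        refine Finset.sum_congr rfl fun x _ => ?_
        have := congrArg conj (hx x)
        rw [map_mul, map_mul, hc1, h10] at this
        linear_combination ((Nat.card D : ℂ)⁻¹ * (ψ c : D → ℂ) x) * this
      rw [mul_one] at this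
      exact hD0 1 this
    set E := indFun (fullSub (C := C) (U 1)) fun w => (fullHom (U 1) (l 1) w : ℂ) with hE
    have hres : (fun b : base C D => E b) = θ := by
      funext b
      rw [hE, indFun_full, hθe]
      exact Finset.prod_congr rfl fun c _ => by rw [hψeq c]; exact (congrFun (hUl 1) _).symm
    have hEc : IsCharacter (D ≀ᵣ C) E :=
      isCharacter_indFun _ (IsIrrCharacter.isCharacter (isIrrCharacter_monoidHom _))
    have hEi : IsIrrCharacter (D ≀ᵣ C) E := isIrrCharacter_of_restrict hEc (hres.symm ▸ hθ)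
    have hb := gallagher (base C D) isIrrCharacter_one (fun g => rfl) hinv (by rw [one_mul]; exact hθ) hEi
      (fun n => congrFun hres n)
    obtain ⟨β, ⟨hβ, hβn⟩, hβe⟩ := hb.surjOn
      (show χ ∈ {ψ : D ≀ᵣ C → ℂ | IsIrrCharacter _ ψ ∧ classInner (indFun (base C D) (1 * θ)) ψ ≠ 0} from
        ⟨hχ, by rw [one_mul]; exact hrecip⟩)
    have hβr : ∀ b : base C D, β b = β 1 := by
      intro b
      rw [classInner_indFun _ _ (IsCharacter.isClassFunction (IsIrrCharacter.isCharacter hβ)),
        ← classInner_conj_symm] at hβn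
      have h2 := restrict_eq_smul_sum_conjOrbit (base C D) hβ isIrrCharacter_one (fun e => hβn (by rw [e, map_zero]))
      have horb : conjOrbit (base C D) (1 : base C D → ℂ) = {1} := by
        ext φ
        simp only [mem_conjOrbit, Finset.mem_singleton]
        exact ⟨fun ⟨g, hg⟩ => hg ▸ rfl, fun h => ⟨1, by rw [h]; rfl⟩⟩
      rw [horb, Finset.sum_singleton] at h2
      have hb' := congrFun h2 b
      have h1' := congrFun h2 1
      simp only [Pi.smul_apply, Pi.one_apply, OneMemClass.coe_one] at hb' h1'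
      rw [hb', h1']
    haveI : Fact (Nat.card C).Prime := ⟨hC⟩
    haveI : IsCyclic C := isCyclic_of_prime_card rfl
    obtain ⟨μ, hμ⟩ := IsCharacter.exists_monoidHom (IsIrrCharacter.isCharacter hβ)
      (IsIrrCharacter.degree_one_of_commutator_ker hβ fun a b => by
        refine hβr ⟨a * b * a⁻¹ * b⁻¹, mem_base.2 ?_⟩
        obtain ⟨g, hg⟩ := IsCyclic.exists_generator (α := C)
        obtain ⟨i, hi⟩ := Subgroup.mem_zpowers_iff.1 (hg a.right)
        obtain ⟨j, hj⟩ := Subgroup.mem_zpowers_iff.1 (hg b.right)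
        simp [← hi, ← hj, ← zpow_neg, ← zpow_add])
    refine ⟨fullSub (C := C) (U 1), μ.comp (fullSub (C := C) (U 1)).subtype * fullHom (U 1) (l 1), ?_⟩
    simp only at hβe
    rw [← hβe, hE, ← indFun_mul _ _ (IsCharacter.isClassFunction (IsIrrCharacter.isCharacter hβ))]
    congr 1
    funext w
    rw [congrFun hμ]
    simp

/-- The embedding into the wreath product of a normal subgroup with the quotient. -/
noncomputable def embed {G : Type u} [Group G] (N : Subgroup G) [N.Normal] {M : Type u} [Group M]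
    (f : N →* M) : G →* M ≀ᵣ (G ⧸ N) :=
  MonoidHom.mk' (fun g => ⟨fun c => f ⟨(Quotient.out c)⁻¹ * g * Quotient.out ((g : G ⧸ N)⁻¹ * c), by
      rw [← QuotientGroup.eq_one_iff]
      simp [QuotientGroup.mk_mul]⟩, (g : G ⧸ N)⟩) fun g h => by
    refine RegularWreathProduct.ext (funext fun c => ?_) (by simp)
    simp only [RegularWreathProduct.mul_left, Pi.mul_apply, ← map_mul]
    congr 1
    refine Subtype.ext ?_
    simp [mul_assoc]

theorem exists_embedding : ∀ (n : ℕ) (G : Type u) [Group G] [Finite G], Nat.card G = n → Group.IsSolvable G →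
    ∃ (M : Type u) (_ : Group M) (_ : Fintype M), Monomialish M ∧ ∃ f : G →* M, Function.Injective f := by
  intro n
  induction n using Nat.strong_induction_on with
  | _ n ih =>
    intro G _ _ hn hsolv
    rcases subsingleton_or_nontrivial G with hsub | hnt
    · letI := Fintype.ofFinite G
      refine ⟨G, inferInstance, inferInstance, fun χ hχ => ⟨⊤, 1, ?_⟩, MonoidHom.id G, fun _ _ h => h⟩
      funext g
      obtain rfl : g = 1 := Subsingleton.elim _ _
      rw [indFun_one_apply, IsIrrCharacter.degree_one_of_comm hχ fun a b => Subsingleton.elim _ _]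
      simp
    haveI := hsolv
    obtain ⟨N, hN, hNc⟩ := (eq_top_or_exists_le_coatom (commutator G)).resolve_left
      (Group.IsSolvable.commutator_lt_top_of_nontrivial G).ne
    haveI : N.Normal := Subgroup.Normal.of_commutator_le G hNc
    haveI : IsSimpleGroup (G ⧸ N) := by
      haveI : Nontrivial (G ⧸ N) := QuotientGroup.nontrivial_iff.2 hN.1
      refine ⟨fun K hK => ?_⟩
      have hle : N ≤ K.comap (QuotientGroup.mk' N) := fun x hx => by
        simp [Subgroup.mem_comap, (QuotientGroup.eq_one_iff x).2 hx]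
      rcases hle.eq_or_lt with he | hl
      · left
        rw [← Subgroup.map_comap_eq_self_of_surjective (QuotientGroup.mk'_surjective N) K, ← he,
          QuotientGroup.map_mk'_self]
      · right
        rw [← Subgroup.map_comap_eq_self_of_surjective (QuotientGroup.mk'_surjective N) K, hN.2 _ hl,
          Subgroup.map_top_of_surjective _ (QuotientGroup.mk'_surjective N)]
    have hcomm : ∀ a b : G ⧸ N, a * b = b * a := fun a b => by
      obtain ⟨x, rfl⟩ := QuotientGroup.mk_surjective a
      obtain ⟨y, rfl⟩ := QuotientGroup.mk_surjective b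
      rw [← QuotientGroup.mk_mul, ← QuotientGroup.mk_mul, QuotientGroup.eq]
      have : (x * y)⁻¹ * (y * x) = ⁅y⁻¹, x⁻¹⁆ := by rw [commutatorElement_def]; group
      rw [this]
      exact hNc (Subgroup.commutator_mem_commutator (Subgroup.mem_top _) (Subgroup.mem_top _))
    letI : CommGroup (G ⧸ N) := { (inferInstance : Group (G ⧸ N)) with mul_comm := hcomm }
    have hprime : (Nat.card (G ⧸ N)).Prime := IsSimpleGroup.prime_card
    have hlt : Nat.card N < n := by
      rw [← hn, Subgroup.card_eq_card_quotient_mul_card_subgroup N]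
      exact lt_mul_of_one_lt_left Nat.card_pos hprime.one_lt
    obtain ⟨M, iM, fM, hM, f, hf⟩ := ih _ hlt N rfl inferInstance
    haveI := Fintype.ofFinite (G ⧸ N)
    haveI := Fintype.ofFinite (M ≀ᵣ (G ⧸ N))
    refine ⟨M ≀ᵣ (G ⧸ N), inferInstance, inferInstance, monomialish_wreath hprime hM, embed N f, ?_⟩
    refine (injective_iff_map_eq_one _).2 fun g hg => ?_
    have hr : (g : G ⧸ N) = 1 := congrArg RegularWreathProduct.right hg
    have hl := congrFun (congrArg RegularWreathProduct.left hg) 1
    simp only [embed, MonoidHom.mk'_apply, RegularWreathProduct.one_left, Pi.one_apply] at hl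
    have h2 := congrArg Subtype.val ((injective_iff_map_eq_one f).1 hf _ hl)
    simp only [hr, inv_one, one_mul, OneMemClass.coe_one] at h2
    calc g = Quotient.out (1 : G ⧸ N) * ((Quotient.out (1 : G ⧸ N))⁻¹ * g * Quotient.out (1 : G ⧸ N)) *
          (Quotient.out (1 : G ⧸ N))⁻¹ := by group
      _ = 1 := by rw [h2]; group

end Cfsg.Agent.Char.WreathM
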