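import Cfsg.Agent.Lib.Char.Induction
import Cfsg.Agent.Lib.Struct.Frobenius
import Cfsg.Agent.Lib.Struct.FpfComplement
import Mathlib.GroupTheory.Transfer
import Mathlib.GroupTheory.SpecificGroups.ZGroup
import Mathlib.GroupTheory.GroupAction.MultipleTransitivity
import Cfsg.Prelude.Def_LieExceptional
import Mathlib.RingTheory.RootsOfUnity.AlgebraicallyClosed
import Mathlib.GroupTheory.FiniteAbelian.Duality

/-!
# Zassenhaus groups: the two point stabilizer
-/

set_option autoImplicit false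
set_option linter.style.haveILetI false
set_option linter.unusedSectionVars false

namespace Cfsg.Agent.Char.Zass

open Cfsg
open scoped commutatorElement Pointwise

universe u v

variable {G : Type u} {Ω : Type v} [Group G] [Finite G] [MulAction G Ω] [Fintype Ω]
  (hZ : Cfsg.IsZassenhausGroup G Ω) {a b : Ω} (hab : a ≠ b)

/-- The two point stabilizer. -/
abbrev two (G : Type u) [Group G] [MulAction G Ω] (a b : Ω) : Subgroup G :=
  MulAction.stabilizer G a ⊓ MulAction.stabilizer G b

omit [Finite G] [Fintype Ω] in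
theorem mem_two {x : G} : x ∈ two G a b ↔ x • a = a ∧ x • b = b := by
  simp [MulAction.mem_stabilizer_iff]

include hZ in
theorem exists_move {c d c' d' : Ω} (h : c ≠ d) (h' : c' ≠ d') : ∃ g : G, g • c = c' ∧ g • d = d' :=
  (MulAction.is_two_pretransitive_iff.mp hZ.2.1) h h'

include hZ hab in
theorem only_two {x : G} (hx : x ∈ two G a b) (hx1 : x ≠ 1) {c : Ω} (hc : x • c = c) :
    c = a ∨ c = b := by
  by_contra hn
  push Not at hn
  exact hx1 (hZ.2.2.1 x a b c hab (Ne.symm hn.2) (Ne.symm hn.1) (mem_two.mp hx).1 (mem_two.mp hx).2 hc)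

include hZ hab in
theorem two_ne_bot : ∃ x ∈ two G a b, x ≠ 1 := by
  obtain ⟨g₀, hg₀, a₀, b₀, hab₀, hga, hgb⟩ := hZ.2.2.2.1
  obtain ⟨h, h1, h2⟩ := exists_move hZ hab₀ hab
  refine ⟨h * g₀ * h⁻¹, mem_two.mpr ⟨?_, ?_⟩, fun e => hg₀ (conj_eq_one_iff.mp e)⟩
  · conv_lhs => rw [← h1]
    rw [smul_smul, inv_mul_cancel_right, mul_smul, hga, h1]
  · conv_lhs => rw [← h2]
    rw [smul_smul, inv_mul_cancel_right, mul_smul, hgb, h2]

include hZ hab in
/-- An element moving a nontrivial member of the two point stabilizer into it fixes or swaps the points. -/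
theorem fix_or_swap {x g : G} (hx : x ∈ two G a b) (hx1 : x ≠ 1) (hg : g⁻¹ * x * g ∈ two G a b) :
    (g • a = a ∧ g • b = b) ∨ (g • a = b ∧ g • b = a) := by
  have key : ∀ c : Ω, (g⁻¹ * x * g) • c = c → g • c = a ∨ g • c = b := fun c hc => by
    refine only_two hZ hab hx hx1 ?_
    rw [mul_smul, mul_smul] at hc
    exact (inv_smul_eq_iff.mp hc)
  have hne : g • a ≠ g • b := fun e => hab (MulAction.injective g e)
  rcases key a (mem_two.mp hg).1 with h1 | h1 <;> rcases key b (mem_two.mp hg).2 with h2 | h2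
  · exact absurd (h1.trans h2.symm) hne
  · exact Or.inl ⟨h1, h2⟩
  · exact Or.inr ⟨h1, h2⟩
  · exact absurd (h1.trans h2.symm) hne

omit [Finite G] [Fintype Ω] in
theorem conj_mem_of_swap {g x : G} (hga : g • a = b) (hgb : g • b = a) (hx : x ∈ two G a b) :
    g⁻¹ * x * g ∈ two G a b := by
  obtain ⟨h1, h2⟩ := mem_two.mp hx
  refine mem_two.mpr ⟨?_, ?_⟩
  · rw [mul_smul, mul_smul, hga, h2, ← hga, inv_smul_smul]
  · rw [mul_smul, mul_smul, hgb, h1, ← hgb, inv_smul_smul]

include hZ hab in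
theorem not_comm : ¬ IsMulCommutative G := by
  intro h
  obtain ⟨x, hx, hx1⟩ := two_ne_bot hZ hab
  refine hx1 (hZ.1.eq_of_smul_eq_smul fun c => ?_)
  rw [one_smul]
  haveI := hZ.2.1
  haveI : MulAction.IsPretransitive G Ω := MulAction.isPretransitive_of_is_two_pretransitive
  obtain ⟨g, rfl⟩ := MulAction.exists_smul_eq G a c
  rw [smul_smul, h.is_comm.comm x g, mul_smul, (mem_two.mp hx).1]

include hZ hab in
/-- The transfer from the two point stabilizer. -/
theorem transfer_pair [IsSimpleGroup G] {s : G} (hsa : s • a = b) (hsb : s • b = a)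
    (ν : two G a b →* ℂˣ) (x : two G a b) :
    ν x * ν ⟨s⁻¹ * x * s, conj_mem_of_swap hsa hsb x.2⟩ = 1 := by
  classical
  by_cases hx1 : (x : G) = 1
  · have h1 : x = 1 := Subtype.ext hx1
    subst h1
    rw [show (⟨s⁻¹ * ((1 : two G a b) : G) * s, conj_mem_of_swap hsa hsb (1 : two G a b).2⟩ : two G a b) = 1 from
      Subtype.ext (by simp), map_one, mul_one]
  haveI := Fintype.ofFinite (Quotient (MulAction.orbitRel (Subgroup.zpowers (x : G)) (G ⧸ two G a b)))
  have htriv : MonoidHom.transfer ν (x : G) = 1 := by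
    have h := Abelianization.commutator_subset_ker (MonoidHom.transfer ν)
    rcases Subgroup.Normal.eq_bot_or_eq_top (inferInstance : (commutator G).Normal) with h0 | h0
    · exact absurd ⟨⟨fun g g' => commutatorElement_eq_one_iff_commute.mp (Subgroup.mem_bot.mp
        (h0.le (Subgroup.commutator_mem_commutator (Subgroup.mem_top g) (Subgroup.mem_top g'))))⟩⟩
        (not_comm hZ hab)
    · exact MonoidHom.mem_ker.mp (h (h0.ge (Subgroup.mem_top _)))
  rw [MonoidHom.transfer_eq_prod_quotient_orbitRel_zpowers_quot] at htriv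
  let Q := Quotient (MulAction.orbitRel (Subgroup.zpowers (x : G)) (G ⧸ two G a b))
  let cls : G ⧸ two G a b → Q := fun q => Quotient.mk _ q
  have hfix : ∀ g : G, g⁻¹ * x * g ∈ two G a b → (x : G) • (g : G ⧸ two G a b) = (g : G ⧸ two G a b) := by
    intro g hg
    rw [MulAction.Quotient.smul_coe, QuotientGroup.eq, smul_eq_mul]
    have := Subgroup.inv_mem _ hg
    simpa [mul_assoc] using this
  have hout : ∀ g : G, g⁻¹ * x * g ∈ two G a b →
      (cls (g : G ⧸ two G a b)).out = (g : G ⧸ two G a b) ∧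
        Function.minimalPeriod ((x : G) • ·) (g : G ⧸ two G a b) = 1 := by
    intro g hg
    refine ⟨?_, Function.minimalPeriod_eq_one_iff_isFixedPt.mpr (hfix g hg)⟩
    have hrel : MulAction.orbitRel (Subgroup.zpowers (x : G)) (G ⧸ two G a b) (cls (g : G ⧸ two G a b)).out
        (g : G ⧸ two G a b) :=
      Quotient.exact ((cls (g : G ⧸ two G a b)).out_eq)
    obtain ⟨⟨y, hy⟩, hy'⟩ := hrel
    obtain ⟨k, rfl⟩ := Subgroup.mem_zpowers_iff.mp hy
    rw [← hy']
    exact MulAction.mem_stabilizer_iff.mp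
      ((MulAction.stabilizer G (g : G ⧸ two G a b)).zpow_mem (MulAction.mem_stabilizer_iff.mpr (hfix g hg)) k)
  have hsx : s⁻¹ * x * s ∈ two G a b := conj_mem_of_swap hsa hsb x.2
  have h1x : (1 : G)⁻¹ * x * 1 ∈ two G a b := by simp
  have hne : cls ((1 : G) : G ⧸ two G a b) ≠ cls (s : G ⧸ two G a b) := by
    intro he
    have h := (hout 1 h1x).1
    rw [he, (hout s hsx).1, QuotientGroup.eq, mul_one] at h
    exact hab ((mem_two.mp (inv_mem_iff.mp h)).1.symm.trans hsa)
  have hterm : ∀ (g : G) (hg : g⁻¹ * x * g ∈ two G a b) (hp : _),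
      ν ⟨(cls (g : G ⧸ two G a b)).out.out⁻¹ *
          (x : G) ^ Function.minimalPeriod ((x : G) • ·) (cls (g : G ⧸ two G a b)).out *
          (cls (g : G ⧸ two G a b)).out.out, hp⟩ = ν ⟨g⁻¹ * x * g, hg⟩ := by
    intro g hg hp
    obtain ⟨n, hn⟩ := QuotientGroup.mk_out_eq_mul (two G a b) g
    calc ν ⟨_, hp⟩ = ν (n⁻¹ * ⟨g⁻¹ * x * g, hg⟩ * n) := by
          congr 1
          refine Subtype.ext ?_
          simp only [Subgroup.coe_mul, Subgroup.coe_inv]
          rw [(hout g hg).1, (hout g hg).2, pow_one, hn]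
          group
      _ = ν ⟨g⁻¹ * x * g, hg⟩ := by rw [map_mul, map_mul, map_inv, mul_comm, ← mul_assoc, mul_inv_cancel, one_mul]
  rw [Fintype.prod_eq_mul (cls ((1 : G) : G ⧸ two G a b)) (cls (s : G ⧸ two G a b)) hne, hterm 1 h1x,
    hterm s hsx] at htriv
  · rwa [show (⟨(1 : G)⁻¹ * x * 1, h1x⟩ : two G a b) = x from Subtype.ext (by simp)] at htriv
  · rintro q ⟨hq1, hqs⟩
    set g : G := q.out.out with hg
    set k := Function.minimalPeriod ((x : G) • ·) q.out with hk
    by_cases h1 : (x : G) ^ k = 1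
    · rw [show (⟨g⁻¹ * (x : G) ^ k * g, QuotientGroup.out_conj_pow_minimalPeriod_mem (two G a b) (x : G) q.out⟩ :
        two G a b) = 1 from Subtype.ext (by simp [h1]), map_one]
    exfalso
    have hgq : cls (g : G ⧸ two G a b) = q := by
      show Quotient.mk _ _ = q
      rw [hg, QuotientGroup.out_eq', Quotient.out_eq]
    rcases fix_or_swap hZ hab (Subgroup.pow_mem _ x.2 k) h1
      (QuotientGroup.out_conj_pow_minimalPeriod_mem (two G a b) (x : G) q.out) with ⟨ha', hb'⟩ | ⟨ha', hb'⟩
    · refine hq1 ?_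
      rw [← hgq]
      exact congrArg cls (QuotientGroup.eq.mpr (by simpa using mem_two.mpr ⟨ha', hb'⟩))
    · refine hqs ?_
      rw [← hgq]
      refine congrArg cls (QuotientGroup.eq.mpr (mem_two.mpr ⟨?_, ?_⟩))
      · rw [mul_smul, hsa, ← ha', inv_smul_smul]
      · rw [mul_smul, hsb, ← hb', inv_smul_smul]

include hZ hab in
theorem exists_swap : ∃ s : G, s • a = b ∧ s • b = a := exists_move hZ hab hab.symm

/-- The one point stabilizer is a Frobenius group with complement the two point stabilizer. -/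
theorem frobenius {G : Type u} {Ω : Type v} [Group G] [Finite G] [MulAction G Ω] [Fintype Ω] {a b : Ω} (hZ : Cfsg.IsZassenhausGroup G Ω) (hab : a ≠ b) (hn : 3 ≤ Fintype.card Ω) :
    IsFrobeniusComplement ((two G a b).subgroupOf (MulAction.stabilizer G a)) := by
  classical
  refine ⟨fun h => ?_, fun h => ?_, fun g hg => ?_⟩
  · obtain ⟨x, hx, hx1⟩ := two_ne_bot hZ hab
    have : (⟨x, hx.1⟩ : MulAction.stabilizer G a) ∈ (⊥ : Subgroup _) := h ▸ Subgroup.mem_subgroupOf.mpr hx
    exact hx1 (congrArg Subtype.val (Subgroup.mem_bot.mp this))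
  · obtain ⟨c, hca, hcb⟩ := Fintype.exists_ne_of_one_lt_card (α := {c : Ω // c ≠ a})
      (by rw [Fintype.card_subtype_compl, Fintype.card_subtype_eq]; omega) ⟨b, hab.symm⟩ |>
      fun ⟨c, hc⟩ => (⟨c.1, c.2, fun e => hc (Subtype.ext e)⟩ : ∃ c : Ω, c ≠ a ∧ c ≠ b)
    obtain ⟨g, hga, hgb⟩ := exists_move hZ hab (Ne.symm hca)
    have hg : (⟨g, MulAction.mem_stabilizer_iff.mpr hga⟩ : MulAction.stabilizer G a) ∈
        (two G a b).subgroupOf (MulAction.stabilizer G a) := h ▸ Subgroup.mem_top _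
    exact hcb (hgb.symm.trans (mem_two.mp (Subgroup.mem_subgroupOf.mp hg)).2)
  · rw [eq_bot_iff]
    rintro x ⟨hx, hx'⟩
    rw [Subgroup.mem_bot]
    replace hx' : x ∈ MulAut.conj g • (two G a b).subgroupOf (MulAction.stabilizer G a) := hx'
    rw [Cfsg.Agent.Struct.Frobenius.mem_conj_smul] at hx'
    by_contra hx1
    refine hg (Subgroup.mem_subgroupOf.mpr ?_)
    rcases fix_or_swap hZ hab (Subgroup.mem_subgroupOf.mp hx) (fun e => hx1 (Subtype.ext e))
      (g := (g : G)) (Subgroup.mem_subgroupOf.mp hx') with ⟨h1, h2⟩ | ⟨h1, -⟩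
    · exact mem_two.mpr ⟨h1, h2⟩
    · exact absurd ((MulAction.mem_stabilizer_iff.mp g.2).symm.trans h1) hab

include hZ hab in
theorem card_stab : Nat.card (MulAction.stabilizer G a) =
    (Fintype.card Ω - 1) * Nat.card (two G a b) ∧
    Nat.card G = Fintype.card Ω * Nat.card (MulAction.stabilizer G a) := by
  classical
  haveI := hZ.2.1
  haveI : MulAction.IsPretransitive G Ω := MulAction.isPretransitive_of_is_two_pretransitive
  constructor
  · let S := MulAction.stabilizer G a
    have horb : MulAction.orbit S b = {x | x ≠ a} := by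
      ext x
      refine ⟨?_, fun hx => ?_⟩
      · rintro ⟨u, rfl⟩ hxa
        refine hab.symm (MulAction.injective (u : G) ?_)
        exact hxa.trans (MulAction.mem_stabilizer_iff.mp u.2).symm
      · obtain ⟨g, hg, hg'⟩ := exists_move hZ hab (Ne.symm hx)
        exact ⟨⟨g, MulAction.mem_stabilizer_iff.mpr hg⟩, hg'⟩
    rw [← (MulAction.stabilizer S b).index_mul_card, MulAction.index_stabilizer, horb]
    congr 1
    · rw [← Nat.card_coe_set_eq, Nat.card_eq_fintype_card, Fintype.card_subtype]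
      simp [Finset.filter_ne']
    · exact Nat.card_congr
        { toFun := fun u => ⟨u.1.1, u.1.2, MulAction.mem_stabilizer_iff.mpr (MulAction.mem_stabilizer_iff.mp u.2 :)⟩
          invFun := fun u => ⟨⟨u.1, u.2.1⟩, MulAction.mem_stabilizer_iff.mpr (MulAction.mem_stabilizer_iff.mp u.2.2 :)⟩
          left_inv := fun u => rfl
          right_inv := fun u => rfl }
  · rw [← (MulAction.stabilizer G a).index_mul_card, MulAction.index_stabilizer_of_transitive,
      Nat.card_eq_fintype_card]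

include hZ hab in
/-- The Frobenius kernel of the one point stabilizer. -/
theorem exists_kernel (hn : 3 ≤ Fintype.card Ω) :
    ∃ H : Subgroup G, H ≤ MulAction.stabilizer G a ∧ Nat.card H + 1 = Fintype.card Ω ∧
      ∀ u ∈ H, u ≠ 1 → ∀ c : Ω, u • c = c → c = a := by
  classical
  obtain ⟨N, hNset, hNn, hNc⟩ := Cfsg.Agent.Struct.Frobenius.exists_kernel (frobenius hZ hab hn)
  refine ⟨N.map (MulAction.stabilizer G a).subtype, Subgroup.map_subtype_le N, ?_, ?_⟩
  · rw [Subgroup.card_map_of_injective (Subgroup.subtype_injective _)]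
    have h1 := hNc.card_mul_card
    rw [Nat.card_congr (Subgroup.subgroupOfEquivOfLe (inf_le_left : two G a b ≤ MulAction.stabilizer G a)).toEquiv,
      (card_stab hZ hab).1] at h1
    have := Nat.eq_of_mul_eq_mul_right Nat.card_pos h1
    omega
  · rintro _ ⟨u, hu, rfl⟩ hu1 c hc
    by_contra hca
    obtain ⟨g, hga, hgb⟩ := exists_move hZ hab (Ne.symm hca)
    have hu' : u ∈ frobeniusKernel ((two G a b).subgroupOf (MulAction.stabilizer G a)) := hNset ▸ hu
    rcases hu' with h | h
    · exact hu1 (by rw [h]; rfl)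
    · refine h ⟨g, MulAction.mem_stabilizer_iff.mpr hga⟩ ?_
      rw [Cfsg.Agent.Struct.Frobenius.mem_conj_smul, Subgroup.mem_subgroupOf, mem_two]
      simp only [Subgroup.coe_mul, Subgroup.coe_inv, Subgroup.coe_subtype] at hc ⊢
      refine ⟨?_, ?_⟩
      · rw [mul_smul, mul_smul, hga, MulAction.mem_stabilizer_iff.mp u.2]
        exact inv_smul_eq_iff.mpr hga.symm
      · rw [mul_smul, mul_smul, hgb, hc, ← hgb, inv_smul_smul]

variable (H : Subgroup G) (hHa : H ≤ MulAction.stabilizer G a)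
  (hHcard : Nat.card H + 1 = Fintype.card Ω)
  (hHfix : ∀ u ∈ H, u ≠ 1 → ∀ c : Ω, u • c = c → c = a)

include hZ hab hHa hHcard hHfix in
/-- Every element fixing only the base point lies in the kernel. -/
theorem mem_kernel_of_fix (hn : 3 ≤ Fintype.card Ω) {u : G} (hu : u ∈ MulAction.stabilizer G a)
    (hfix : ∀ c : Ω, u • c = c → c = a) : u ∈ H := by
  classical
  haveI := Fintype.ofFinite G
  set K := (two G a b).subgroupOf (MulAction.stabilizer G a) with hK
  have hF := frobenius hZ hab hn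
  have hcard : Nat.card (H.subgroupOf (MulAction.stabilizer G a)) = Nat.card (frobeniusKernel K) := by
    rw [Cfsg.Agent.Struct.Frobenius.card_kernel hF, Nat.card_congr (Subgroup.subgroupOfEquivOfLe hHa).toEquiv]
    have h1 := K.index_mul_card
    rw [Nat.card_congr (Subgroup.subgroupOfEquivOfLe (inf_le_left : two G a b ≤ MulAction.stabilizer G a)).toEquiv,
      (card_stab hZ hab).1] at h1
    have := Nat.eq_of_mul_eq_mul_right Nat.card_pos h1
    simp only [hK] at this ⊢
    omega
  have hsub : ((H.subgroupOf (MulAction.stabilizer G a)) : Set (MulAction.stabilizer G a)) ⊆ frobeniusKernel K := by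
    intro x hx
    by_contra hxk
    obtain ⟨hx1, g, hg⟩ := Cfsg.Agent.Struct.Frobenius.notMem_kernel.mp hxk
    have h2 := (mem_two.mp (Subgroup.mem_subgroupOf.mp hg)).2
    simp only [Subgroup.coe_mul, Subgroup.coe_inv, mul_smul, inv_smul_eq_iff] at h2
    have h3 := hHfix _ hx (fun e => hx1 (Subtype.ext e)) _ h2
    exact hab (MulAction.injective (g : G) ((MulAction.mem_stabilizer_iff.mp g.2).trans h3.symm))
  have heq := Set.eq_of_subset_of_ncard_le hsub (by
    rw [← Nat.card_coe_set_eq, ← Nat.card_coe_set_eq]; exact hcard.ge) (Set.toFinite _)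
  by_contra huH
  have hk : (⟨u, hu⟩ : MulAction.stabilizer G a) ∉ frobeniusKernel K := by
    rw [← heq]; exact huH
  obtain ⟨hu1, g, hg⟩ := Cfsg.Agent.Struct.Frobenius.notMem_kernel.mp hk
  have h2 := (mem_two.mp (Subgroup.mem_subgroupOf.mp hg)).2
  simp only [Subgroup.coe_mul, Subgroup.coe_inv, mul_smul, inv_smul_eq_iff] at h2
  exact hab (MulAction.injective (g : G) ((MulAction.mem_stabilizer_iff.mp g.2).trans (hfix _ h2).symm))

include hZ hab hHa hHcard hHfix in
theorem conj_mem_kernel (hn : 3 ≤ Fintype.card Ω) {g u : G} (hg : g • a = a) (hu : u ∈ H) :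
    g * u * g⁻¹ ∈ H := by
  by_cases hu1 : u = 1
  · simp [hu1, H.one_mem]
  refine mem_kernel_of_fix hZ hab H hHa hHcard hHfix hn
    (Subgroup.mul_mem _ (Subgroup.mul_mem _ (MulAction.mem_stabilizer_iff.mpr hg) (hHa hu))
      (Subgroup.inv_mem _ (MulAction.mem_stabilizer_iff.mpr hg))) fun c hc => ?_
  rw [mul_smul, mul_smul] at hc
  have := hHfix u hu hu1 _ (smul_eq_iff_eq_inv_smul g |>.mp hc)
  rw [inv_smul_eq_iff, hg] at this
  exact this

include hZ hab hHa hHcard hHfix in
/-- The two point stabilizer has cyclic Sylow subgroups when its order is odd. -/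
theorem isZGroup (hn : 3 ≤ Fintype.card Ω) (hodd : Odd (Nat.card (two G a b))) :
    IsZGroup (two G a b) := by
  rw [isZGroup_iff]
  intro p hp P
  haveI := Fact.mk hp
  let A : Subgroup G := (P : Subgroup (two G a b)).map (two G a b).subtype
  have hA : A ≤ two G a b := Subgroup.map_subtype_le _
  have hconj : ∀ x ∈ two G a b, ∀ u ∈ H, x * u * x⁻¹ ∈ H := fun x hx u hu =>
    conj_mem_kernel hZ hab H hHa hHcard hHfix hn (mem_two.mp hx).1 hu
  have hH : H ≠ ⊥ := fun h => by
    rw [h, Subgroup.card_bot] at hHcard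
    omega
  have hAH : A ≤ Subgroup.normalizer (H : Set G) := fun x hx => by
    refine Subgroup.mem_normalizer_iff.mpr fun u => ⟨hconj x (hA hx) u, fun hu => ?_⟩
    have := hconj x⁻¹ (Subgroup.inv_mem _ (hA hx)) _ hu
    simpa [mul_assoc] using this
  have hfpf : ∀ x ∈ A, x ≠ 1 → H ⊓ Subgroup.centralizer ({x} : Set G) = ⊥ := by
    intro x hx hx1
    rw [eq_bot_iff]
    rintro u ⟨hu, huc⟩
    rw [Subgroup.mem_bot]
    by_contra hu1
    have hfix : x • (u • b) = u • b := by
      rw [smul_smul, ← Subgroup.mem_centralizer_singleton_iff.mp huc, mul_smul, (mem_two.mp (hA hx)).2]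
    have hua : u • a = a := MulAction.mem_stabilizer_iff.mp (hHa hu)
    rcases only_two hZ hab (hA hx) hx1 hfix with h | h
    · exact hab (MulAction.injective u (hua.trans h.symm))
    · exact hab.symm (hHfix u hu hu1 b h)
  have hcop : (Nat.card A).Coprime (Nat.card H) := by
    have h1 := Cfsg.Agent.Struct.Frobenius.coprime_card_index (frobenius hZ hab hn)
    have h2 := ((two G a b).subgroupOf (MulAction.stabilizer G a)).index_mul_card
    rw [Nat.card_congr (Subgroup.subgroupOfEquivOfLe (inf_le_left : two G a b ≤ MulAction.stabilizer G a)).toEquiv] at h1 h2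
    rw [(card_stab hZ hab).1] at h2
    rw [Nat.eq_of_mul_eq_mul_right Nat.card_pos h2, show Fintype.card Ω - 1 = Nat.card H by omega] at h1
    exact h1.coprime_dvd_left (Subgroup.card_dvd_of_le hA)
  have hAp : IsPGroup p A := P.isPGroup'.map _
  haveI hc : IsCyclic A := by
    rcases Cfsg.Agent.Struct.Frobenius.sylow_cyclic_or_quaternion hH hAH hcop hfpf hAp with h | ⟨-, n, -, ⟨e⟩⟩
    · exact h
    exfalso
    have h1 : Odd (Nat.card A) := Odd.of_dvd_nat hodd (Subgroup.card_dvd_of_le hA)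
    rw [Nat.card_congr e.toEquiv, Nat.card_eq_fintype_card, QuaternionGroup.card] at h1
    exact (Nat.not_even_iff_odd.mpr h1) (Even.mul_right (by decide) _)
  exact isCyclic_of_surjective ((P : Subgroup (two G a b)).equivMapOfInjective (two G a b).subtype
    (Subgroup.subtype_injective _)).symm (MulEquiv.surjective _)

include hZ hab in
/-- Every element exchanging the two points inverts the two point stabilizer, and is an involution. -/
theorem swap_inverts [IsSimpleGroup G] (hn : 3 ≤ Fintype.card Ω) (hodd : Odd (Nat.card (two G a b)))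
    {s : G} (hsa : s • a = b) (hsb : s • b = a) :
    (∀ x ∈ two G a b, s⁻¹ * x * s = x⁻¹) ∧ s * s = 1 := by
  classical
  obtain ⟨H, hHa, hHcard, hHfix⟩ := exists_kernel hZ hab hn
  haveI := isZGroup hZ hab H hHa hHcard hHfix hn hodd
  set E := two G a b with hE
  let N : Subgroup G := Subgroup.normalizer (E : Set G)
  have hEN : E ≤ N := Subgroup.le_normalizer
  have hsN : s ∈ N := by
    refine Subgroup.mem_normalizer_iff.mpr fun x => ⟨fun hx => ?_, fun hx => ?_⟩
    · have := conj_mem_of_swap (g := s⁻¹) (inv_smul_eq_iff.mpr hsb.symm) (inv_smul_eq_iff.mpr hsa.symm) hx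
      rwa [inv_inv] at this
    · have := conj_mem_of_swap hsa hsb hx
      rwa [show s⁻¹ * (s * x * s⁻¹) * s = x by group] at this
  -- the stabilizer lies in the derived group of its normalizer
  have hEN' : ∀ x : G, ∀ hx : x ∈ E, (⟨x, hEN hx⟩ : N) ∈ commutator N := by
    intro x hx
    by_contra hh
    have hne : Abelianization.of (⟨x, hEN hx⟩ : N) ≠ 1 := fun e => hh (by
      have : (⟨x, hEN hx⟩ : N) ∈ (Abelianization.of : N →* _).ker := MonoidHom.mem_ker.mpr e
      rwa [Abelianization.ker_of] at this)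
    obtain ⟨χ, hχ⟩ := CommGroup.exists_apply_ne_one_of_hasEnoughRootsOfUnity (Abelianization N) ℂ hne
    let ν : E →* ℂˣ := (χ.comp Abelianization.of).comp (Subgroup.inclusion hEN)
    have h1 := transfer_pair hZ hab hsa hsb ν ⟨x, hx⟩
    have h2 : ν ⟨s⁻¹ * x * s, conj_mem_of_swap hsa hsb hx⟩ = ν ⟨x, hx⟩ := by
      simp only [ν, MonoidHom.comp_apply]
      rw [show Subgroup.inclusion hEN ⟨s⁻¹ * x * s, conj_mem_of_swap hsa hsb hx⟩ =
        (⟨s, hsN⟩ : N)⁻¹ * ⟨x, hEN hx⟩ * ⟨s, hsN⟩ from rfl, map_mul, map_mul, map_mul, map_mul, map_inv, map_inv,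
        mul_comm, ← mul_assoc, mul_inv_cancel, one_mul]
      rfl
    rw [h2, ← pow_two] at h1
    have h3 : ν ⟨x, hx⟩ ^ Nat.card E = 1 := by rw [← map_pow, pow_card_eq_one', map_one]
    obtain ⟨m, hm⟩ := hodd
    rw [hm, pow_succ, pow_mul, h1, one_pow, one_mul] at h3
    exact hχ h3
  -- the derived group of the stabilizer is central in it
  let D : Subgroup G := (commutator E).map E.subtype
  haveI := IsZGroup.isCyclic_commutator E
  haveI : IsCyclic D := isCyclic_of_surjective
    ((commutator E).equivMapOfInjective E.subtype (Subgroup.subtype_injective _)).toMonoidHom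
    (MulEquiv.surjective _)
  have hDN : ∀ g ∈ N, ∀ z ∈ D, g * z * g⁻¹ ∈ D := by
    intro g hg z hz
    have hD : D = ⁅E, E⁆ := by
      simp only [D]
      rw [commutator_def, Subgroup.map_commutator, ← MonoidHom.range_eq_map, Subgroup.range_subtype]
    rw [hD] at hz ⊢
    have hmapE : E.map (MulAut.conj g).toMonoidHom = E := by
      ext y
      simp only [Subgroup.mem_map, MulEquiv.coe_toMonoidHom, MulAut.conj_apply]
      refine ⟨?_, fun hy => ⟨g⁻¹ * y * g, ?_, by group⟩⟩
      · rintro ⟨w, hw, rfl⟩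
        exact (Subgroup.mem_normalizer_iff.mp hg w).mp hw
      · exact (Subgroup.mem_normalizer_iff.mp hg _).mpr (by simpa [mul_assoc] using hy)
    have h := Subgroup.mem_map_of_mem (MulAut.conj g).toMonoidHom hz
    rwa [Subgroup.map_commutator, hmapE] at h
  have hact : ∀ g ∈ N, ∃ m : ℤ, ∀ z ∈ D, g * z * g⁻¹ = z ^ m := by
    intro g hg
    obtain ⟨d, hd⟩ := IsCyclic.exists_generator (α := D)
    obtain ⟨m, hm⟩ := Subgroup.mem_zpowers_iff.mp (hd ⟨g * (d : G) * g⁻¹, hDN g hg d d.2⟩)
    refine ⟨m, fun z hz => ?_⟩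
    obtain ⟨i, hi⟩ := Subgroup.mem_zpowers_iff.mp (hd ⟨z, hz⟩)
    have hm' : g * (d : G) * g⁻¹ = (d : G) ^ m := by
      have := (congrArg Subtype.val hm).symm
      simpa using this
    have hi' : (d : G) ^ i = z := by simpa using congrArg Subtype.val hi
    rw [← hi', ← conj_zpow, hm', ← zpow_mul, ← zpow_mul, mul_comm]
  have hcent : ∀ n ∈ commutator N, ∀ z ∈ D, (n : G) * z = z * n := by
    have hle : commutator N ≤ (Subgroup.centralizer (D : Set G)).subgroupOf N := by
      rw [commutator_def, Subgroup.commutator_le]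
      intro g _ g' _
      rw [Subgroup.mem_subgroupOf, Subgroup.mem_centralizer_iff]
      intro z hz
      obtain ⟨m, hm⟩ := hact g g.2
      obtain ⟨m', hm'⟩ := hact g' g'.2
      have e1 : (g : G) * ((g' : G) * z * (g' : G)⁻¹) * (g : G)⁻¹ = (g' : G) * ((g : G) * z * (g : G)⁻¹) * (g' : G)⁻¹ := by
        rw [hm' z hz, hm z hz, hm _ (D.zpow_mem hz _), hm' _ (D.zpow_mem hz _), ← zpow_mul, ← zpow_mul, mul_comm]
      have e2 : ∀ w ∈ D, ((g : G) * g' * (g : G)⁻¹ * (g' : G)⁻¹) * w =
          w * ((g : G) * g' * (g : G)⁻¹ * (g' : G)⁻¹) := by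
        intro w hw
        have hwm : (g : G)⁻¹ * ((g' : G)⁻¹ * w * g') * g ∈ D := by
          have := hDN (g : G)⁻¹ (N.inv_mem g.2) _ (hDN (g' : G)⁻¹ (N.inv_mem g'.2) w hw)
          simpa [mul_assoc] using this
        obtain ⟨m1, hm1⟩ := hact g g.2
        obtain ⟨m2, hm2⟩ := hact g' g'.2
        set z0 := (g : G)⁻¹ * ((g' : G)⁻¹ * w * g') * g with hz0
        have e3 : w = (g' : G) * ((g : G) * z0 * (g : G)⁻¹) * (g' : G)⁻¹ := by rw [hz0]; group
        have e4 : w = (g : G) * ((g' : G) * z0 * (g' : G)⁻¹) * (g : G)⁻¹ := by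
          rw [hm2 z0 hwm, hm1 _ (D.zpow_mem hwm _), ← zpow_mul, mul_comm, zpow_mul, ← hm1 z0 hwm,
            ← hm2 _ (hDN g g.2 z0 hwm), ← e3]
        calc ((g : G) * g' * (g : G)⁻¹ * (g' : G)⁻¹) * w
            = ((g : G) * g' * (g : G)⁻¹ * (g' : G)⁻¹) * ((g' : G) * ((g : G) * z0 * (g : G)⁻¹) * (g' : G)⁻¹) := by rw [← e3]
          _ = ((g : G) * ((g' : G) * z0 * (g' : G)⁻¹) * (g : G)⁻¹) * ((g : G) * g' * (g : G)⁻¹ * (g' : G)⁻¹) := by group
          _ = _ := by rw [← e4]
      simpa [commutatorElement_def] using (e2 z hz).symm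
    exact fun n hn z hz => (Subgroup.mem_centralizer_iff.mp (hle hn) z hz).symm
  haveI : Group.IsNilpotent E := by
    refine Group.of_quotient_center_nilpotent ?_
    haveI : IsMulCommutative (E ⧸ Subgroup.center E) := by
      refine ⟨⟨fun q q' => ?_⟩⟩
      obtain ⟨x, rfl⟩ := QuotientGroup.mk_surjective q
      obtain ⟨y, rfl⟩ := QuotientGroup.mk_surjective q'
      show QuotientGroup.mk' (Subgroup.center E) x * QuotientGroup.mk' (Subgroup.center E) y =
        QuotientGroup.mk' (Subgroup.center E) y * QuotientGroup.mk' (Subgroup.center E) x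
      rw [← commutatorElement_eq_one_iff_mul_comm, ← map_commutatorElement, QuotientGroup.mk'_apply,
        QuotientGroup.eq_one_iff, Subgroup.mem_center_iff]
      intro w
      refine Subtype.ext ?_
      have := hcent ⟨w, hEN w.2⟩ (hEN' w w.2) (⁅x, y⁆ : E)
        ⟨⁅x, y⁆, Subgroup.commutator_mem_commutator (Subgroup.mem_top x) (Subgroup.mem_top y), rfl⟩
      exact this
    letI : CommGroup (E ⧸ Subgroup.center E) := { (inferInstance : Group (E ⧸ Subgroup.center E)) with mul_comm := fun x y => mul_comm' x y }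
    exact CommGroup.isNilpotent
  haveI : IsCyclic E := inferInstance
  have hinv : ∀ x ∈ E, s⁻¹ * x * s = x⁻¹ := by
    intro x hx
    by_contra hne
    letI := IsCyclic.commGroup (α := E)
    have hne' : (⟨x, hx⟩ : E) * ⟨s⁻¹ * x * s, conj_mem_of_swap hsa hsb hx⟩ ≠ 1 := fun e => hne
      (eq_inv_of_mul_eq_one_right (congrArg Subtype.val e))
    obtain ⟨χ, hχ⟩ := CommGroup.exists_apply_ne_one_of_hasEnoughRootsOfUnity E ℂ hne'
    exact hχ (by rw [map_mul]; exact transfer_pair hZ hab hsa hsb χ ⟨x, hx⟩)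
  refine ⟨hinv, ?_⟩
  have h2 : s * s ∈ E := mem_two.mpr ⟨by rw [mul_smul, hsa, hsb], by rw [mul_smul, hsb, hsa]⟩
  have h3 := hinv _ h2
  have h4 : (s * s) ^ 2 = 1 := by
    rw [pow_two]
    have : s * s = (s * s)⁻¹ := by
      calc s * s = s⁻¹ * (s * s) * s := by group
        _ = _ := h3
    nth_rw 2 [this]
    rw [mul_inv_cancel]
  have h5 : (s * s) ^ Nat.card E = 1 := by
    have := congrArg Subtype.val (pow_card_eq_one' (x := (⟨s * s, h2⟩ : E)))
    rwa [SubmonoidClass.coe_pow] at this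
  obtain ⟨m, hm⟩ := hodd
  rw [hm, pow_succ, pow_mul, h4, one_pow, one_mul] at h5
  exact h5

end Cfsg.Agent.Char.Zass
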