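import Cfsg.Agent.Lib.Char.Zassenhaus
import Cfsg.Agent.Lib.Char.FrobeniusKernel
import Cfsg.Agent.Lib.Char.Generalized

/-!
# Principal series characters of a Zassenhaus group
-/

set_option autoImplicit false
set_option linter.style.haveILetI false
set_option linter.unusedSectionVars false

namespace Cfsg.Agent.Char.Zass

open Cfsg Cfsg.Agent.Char
open scoped ComplexConjugate

universe u v

variable {G : Type u} {Ω : Type v} [Group G] [Fintype G] [MulAction G Ω] [Fintype Ω]
  (hZ : Cfsg.IsZassenhausGroup G Ω) {a b : Ω} (hab : a ≠ b)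

omit [Fintype G] [Fintype Ω] in
theorem mem_conj_stab {x g : G} :
    g⁻¹ * x * g ∈ MulAction.stabilizer G a ↔ x • (g • a) = g • a := by
  rw [MulAction.mem_stabilizer_iff, mul_smul, mul_smul, inv_smul_eq_iff]

/-- Induced value at an element fixing only the base point. -/
theorem ind_one_point (l : MulAction.stabilizer G a →* ℂˣ) (x : MulAction.stabilizer G a)
    (hx : ∀ c : Ω, (x : G) • c = c → c = a) :
    indFun (MulAction.stabilizer G a) (fun y => (l y : ℂ)) x = (l x : ℂ) := by
  classical
  have key : ∀ g : G, extendByZero (MulAction.stabilizer G a) (fun y => (l y : ℂ)) (g⁻¹ * x * g) = if g ∈ (MulAction.stabilizer G a) then (l x : ℂ) else 0 := by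
    intro g
    split_ifs with hg
    · have hm : g⁻¹ * (x : G) * g ∈ (MulAction.stabilizer G a) := (MulAction.stabilizer G a).mul_mem ((MulAction.stabilizer G a).mul_mem ((MulAction.stabilizer G a).inv_mem hg) x.2) hg
      rw [extendByZero_of_mem _ _ hm, show (⟨g⁻¹ * x * g, hm⟩ : (MulAction.stabilizer G a)) = (⟨g, hg⟩ : (MulAction.stabilizer G a))⁻¹ * x * ⟨g, hg⟩ from rfl,
        map_mul, map_mul, map_inv, mul_comm, ← mul_assoc, mul_inv_cancel, one_mul]
    · refine extendByZero_of_notMem _ _ fun hm => hg ?_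
      exact MulAction.mem_stabilizer_iff.mpr (hx _ (mem_conj_stab.mp hm))
  rw [indFun_apply, Finset.sum_congr rfl fun g _ => key g, ← Finset.sum_filter, Finset.sum_const,
    nsmul_eq_mul, ← Fintype.card_subtype, ← Nat.card_eq_fintype_card, ← mul_assoc,
    inv_mul_cancel₀ (Nat.cast_ne_zero.mpr Nat.card_pos.ne'), one_mul]

include hZ hab in
/-- Induced value at an element fixing a second point. -/
theorem ind_two_points [IsSimpleGroup G] (hn : 3 ≤ Fintype.card Ω) (hodd : Odd (Nat.card (two G a b)))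
    (l : MulAction.stabilizer G a →* ℂˣ) (x : MulAction.stabilizer G a) (hx1 : (x : G) ≠ 1)
    {c : Ω} (hca : c ≠ a) (hc : (x : G) • c = c) :
    indFun (MulAction.stabilizer G a) (fun y => (l y : ℂ)) x = (l x : ℂ) + conj (l x : ℂ) := by
  classical
  obtain ⟨s, hsa, hsb⟩ := exists_swap hZ hab
  obtain ⟨k, hka, hkc⟩ := exists_move hZ hab (Ne.symm hca)
  set y : G := k⁻¹ * x * k with hy
  have hyE : y ∈ two G a b := by
    refine mem_two.mpr ⟨?_, ?_⟩
    · rw [hy, mul_smul, mul_smul, hka, MulAction.mem_stabilizer_iff.mp x.2]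
      exact inv_smul_eq_iff.mpr hka.symm
    · rw [hy, mul_smul, mul_smul, hkc, hc]
      exact inv_smul_eq_iff.mpr hkc.symm
  have hy1 : y ≠ 1 := fun h => hx1 (by rw [show (x : G) = k * y * k⁻¹ by rw [hy]; group, h]; group)
  have hly : l ⟨y, hyE.1⟩ = l x := by
    rw [show (⟨y, hyE.1⟩ : (MulAction.stabilizer G a)) = (⟨k, hka⟩ : (MulAction.stabilizer G a))⁻¹ * x * ⟨k, hka⟩ from rfl, map_mul, map_mul, map_inv,
      mul_comm, ← mul_assoc, mul_inv_cancel, one_mul]
  have hinv : l ⟨y⁻¹, (MulAction.stabilizer G a).inv_mem hyE.1⟩ = (l x)⁻¹ := by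
    rw [show (⟨y⁻¹, (MulAction.stabilizer G a).inv_mem hyE.1⟩ : (MulAction.stabilizer G a)) = (⟨y, hyE.1⟩ : (MulAction.stabilizer G a))⁻¹ from rfl, map_inv, hly]
  have key : ∀ g : G, extendByZero (MulAction.stabilizer G a) (fun z => (l z : ℂ)) (g⁻¹ * y * g) =
      (if g ∈ (MulAction.stabilizer G a) then (l x : ℂ) else 0) + (if s⁻¹ * g ∈ (MulAction.stabilizer G a) then (((l x)⁻¹ : ℂˣ) : ℂ) else 0) := by
    intro g
    by_cases hg : g ∈ (MulAction.stabilizer G a)
    · have hsg : s⁻¹ * g ∉ (MulAction.stabilizer G a) := fun h => by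
        have := MulAction.mem_stabilizer_iff.mp h
        rw [mul_smul, MulAction.mem_stabilizer_iff.mp hg, inv_smul_eq_iff, hsa] at this
        exact hab this
      have hm : g⁻¹ * y * g ∈ (MulAction.stabilizer G a) := (MulAction.stabilizer G a).mul_mem ((MulAction.stabilizer G a).mul_mem ((MulAction.stabilizer G a).inv_mem hg) hyE.1) hg
      rw [if_pos hg, if_neg hsg, add_zero, extendByZero_of_mem _ _ hm,
        show (⟨g⁻¹ * y * g, hm⟩ : (MulAction.stabilizer G a)) = (⟨g, hg⟩ : (MulAction.stabilizer G a))⁻¹ * ⟨y, hyE.1⟩ * ⟨g, hg⟩ from rfl,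
        map_mul, map_mul, map_inv, mul_comm, ← mul_assoc, mul_inv_cancel, one_mul, hly]
    · by_cases hsg : s⁻¹ * g ∈ (MulAction.stabilizer G a)
      · have e : g⁻¹ * y * g = (s⁻¹ * g)⁻¹ * y⁻¹ * (s⁻¹ * g) := by
          rw [← (swap_inverts hZ hab hn hodd hsa hsb).1 y hyE]; group
        have hm : (s⁻¹ * g)⁻¹ * y⁻¹ * (s⁻¹ * g) ∈ (MulAction.stabilizer G a) :=
          (MulAction.stabilizer G a).mul_mem ((MulAction.stabilizer G a).mul_mem ((MulAction.stabilizer G a).inv_mem hsg) ((MulAction.stabilizer G a).inv_mem hyE.1)) hsg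
        rw [if_neg hg, if_pos hsg, zero_add, e, extendByZero_of_mem _ _ hm,
          show (⟨(s⁻¹ * g)⁻¹ * y⁻¹ * (s⁻¹ * g), hm⟩ : (MulAction.stabilizer G a)) =
            (⟨s⁻¹ * g, hsg⟩ : (MulAction.stabilizer G a))⁻¹ * ⟨y⁻¹, (MulAction.stabilizer G a).inv_mem hyE.1⟩ * ⟨s⁻¹ * g, hsg⟩ from rfl,
          map_mul, map_mul, map_inv, mul_comm, ← mul_assoc, mul_inv_cancel, one_mul, hinv]
      · rw [if_neg hg, if_neg hsg, add_zero]
        refine extendByZero_of_notMem _ _ fun hm => ?_
        rcases only_two hZ hab hyE hy1 (mem_conj_stab.mp hm) with h | h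
        · exact hg (MulAction.mem_stabilizer_iff.mpr h)
        · refine hsg (MulAction.mem_stabilizer_iff.mpr ?_)
          rw [mul_smul, h, inv_smul_eq_iff, hsa]
  have hcl : indFun (MulAction.stabilizer G a) (fun z => (l z : ℂ)) (x : G) = indFun (MulAction.stabilizer G a) (fun z => (l z : ℂ)) y := by
    have h := isClassFunction_indFun (MulAction.stabilizer G a) (fun z => (l z : ℂ)) y k
    rwa [show k * y * k⁻¹ = (x : G) by rw [hy]; group] at h
  have hconj : (((l x)⁻¹ : ℂˣ) : ℂ) = conj (l x : ℂ) := by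
    rw [Units.val_inv_eq_inv_val, Complex.inv_eq_conj]
    refine Complex.norm_eq_one_of_pow_eq_one (n := Nat.card (MulAction.stabilizer G a)) ?_ Nat.card_pos.ne'
    rw [← Units.val_pow_eq_pow_val, ← map_pow, pow_card_eq_one', map_one, Units.val_one]
  rw [hcl, indFun_apply, Finset.sum_congr rfl fun g _ => key g, Finset.sum_add_distrib]
  rw [← Equiv.sum_comp (Equiv.mulLeft s) (fun g => if s⁻¹ * g ∈ (MulAction.stabilizer G a) then (((l x)⁻¹ : ℂˣ) : ℂ) else 0)]
  simp only [Equiv.coe_mulLeft, inv_mul_cancel_left]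
  rw [← Finset.sum_filter, ← Finset.sum_filter, Finset.sum_const, Finset.sum_const, ← nsmul_add,
    nsmul_eq_mul, ← Fintype.card_subtype, ← Nat.card_eq_fintype_card, ← mul_assoc,
    inv_mul_cancel₀ (Nat.cast_ne_zero.mpr Nat.card_pos.ne'), one_mul, hconj]

include hZ hab in
/-- The principal series characters are irreducible. -/
theorem principal_irr [IsSimpleGroup G] (hn : 3 ≤ Fintype.card Ω) (hodd : Odd (Nat.card (two G a b)))
    (H : Subgroup G) (hHa : H ≤ MulAction.stabilizer G a) (hHcard : Nat.card H + 1 = Fintype.card Ω)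
    (hHfix : ∀ u ∈ H, u ≠ 1 → ∀ c : Ω, u • c = c → c = a)
    (l : MulAction.stabilizer G a →* ℂˣ) (hlH : ∀ u : MulAction.stabilizer G a, (u : G) ∈ H → l u = 1)
    (hl : l ≠ 1) :
    IsIrrCharacter G (indFun (MulAction.stabilizer G a) fun y => (l y : ℂ)) := by
  classical
  set χ := indFun (MulAction.stabilizer G a) fun y => (l y : ℂ) with hχ
  haveI := hZ.2.1
  haveI : MulAction.IsPretransitive G Ω := MulAction.isPretransitive_of_is_two_pretransitive
  have hlc : IsCharacter (MulAction.stabilizer G a) fun y => (l y : ℂ) := IsIrrCharacter.isCharacter (isIrrCharacter_monoidHom l)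
  have hχc : IsCharacter G χ := isCharacter_indFun (MulAction.stabilizer G a) hlc
  have hcard := (card_stab hZ hab).1
  have hl2 : l * l ≠ 1 := by
    intro h2
    apply hl
    ext u
    by_contra hne
    obtain ⟨m, hm⟩ := hodd
    have h3 : l u ^ Nat.card (MulAction.stabilizer G a) = 1 := by rw [← map_pow, pow_card_eq_one', map_one]
    have h4 : l u * l u = 1 := congrArg (fun f => f u) h2
    have huH : (u : G) ∉ H := fun h => hne (by rw [hlH u h]; rfl)
    obtain ⟨c, hca, hc⟩ : ∃ c : Ω, c ≠ a ∧ (u : G) • c = c := by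
      by_contra hh
      push Not at hh
      exact huH (mem_kernel_of_fix hZ hab H hHa hHcard hHfix hn u.2 fun c hc => by
        by_contra hca; exact hh c hca hc)
    obtain ⟨k, hka, hkc⟩ := exists_move hZ hab (Ne.symm hca)
    have hyE : k⁻¹ * (u : G) * k ∈ two G a b := by
      refine mem_two.mpr ⟨?_, ?_⟩
      · rw [mul_smul, mul_smul, hka, MulAction.mem_stabilizer_iff.mp u.2]
        exact inv_smul_eq_iff.mpr hka.symm
      · rw [mul_smul, mul_smul, hkc, hc]
        exact inv_smul_eq_iff.mpr hkc.symm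
    let ν : two G a b →* ℂˣ := l.comp (Subgroup.inclusion inf_le_left)
    have h5 : ν ⟨_, hyE⟩ = l u := by
      show l ((⟨k, hka⟩ : (MulAction.stabilizer G a))⁻¹ * u * ⟨k, hka⟩) = l u
      rw [map_mul, map_mul, map_inv, mul_comm, ← mul_assoc, mul_inv_cancel, one_mul]
    have h6 : l u ^ Nat.card (two G a b) = 1 := by rw [← h5, ← map_pow, pow_card_eq_one', map_one]
    rw [hm, pow_succ, pow_mul, pow_two, h4, one_pow, one_mul] at h6
    exact hne (by rw [h6]; rfl)
  have hsum2 : ∑ x : (MulAction.stabilizer G a), conj (l x : ℂ) * conj (l x : ℂ) = 0 := by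
    have h := sum_hom_units_eq_zero (Units.coeHom ℂ |>.comp (l * l)) (fun h => hl2 (MonoidHom.ext fun x =>
      Units.ext (congrArg (fun f => f x) h)))
    have h' := congrArg conj h
    rw [map_sum, map_zero] at h'
    rw [← h']
    exact Finset.sum_congr rfl fun x _ => by simp
  have hnorm : ∀ x : (MulAction.stabilizer G a), (l x : ℂ) * conj (l x : ℂ) = 1 := fun x => by
    rw [Complex.mul_conj']
    rw [Complex.norm_eq_one_of_pow_eq_one (n := Nat.card (MulAction.stabilizer G a)) (by
      rw [← Units.val_pow_eq_pow_val, ← map_pow, pow_card_eq_one', map_one, Units.val_one]) Nat.card_pos.ne']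
    simp
  have hval : ∀ x : (MulAction.stabilizer G a), χ x * conj (l x : ℂ) = 1 + conj (l x : ℂ) * conj (l x : ℂ) +
      (if x = 1 then (Nat.card H : ℂ) - 1 else 0) - (if (x : G) ∈ H ∧ x ≠ 1 then 1 else 0) := by
    intro x
    by_cases hx1 : x = 1
    · subst hx1
      rw [hχ, OneMemClass.coe_one, indFun_one_apply, MulAction.index_stabilizer_of_transitive]
      simp only [map_one, Units.val_one, mul_one, if_true, ne_eq, not_true_eq_false, and_false, if_false,
        sub_zero]
      rw [Nat.card_eq_fintype_card (α := Ω), ← hHcard]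
      push_cast
      ring
    rw [if_neg hx1, add_zero]
    by_cases hxH : (x : G) ∈ H
    · rw [if_pos ⟨hxH, hx1⟩, hχ, ind_one_point l x (hHfix _ hxH fun h => hx1 (Subtype.ext h)), hlH x hxH]
      simp
    · rw [if_neg (fun h => hxH h.1), sub_zero]
      obtain ⟨c, hca, hc⟩ : ∃ c : Ω, c ≠ a ∧ (x : G) • c = c := by
        by_contra hh
        push Not at hh
        exact hxH (mem_kernel_of_fix hZ hab H hHa hHcard hHfix hn x.2 fun c hc => by
          by_contra hca; exact hh c hca hc)
      rw [hχ, ind_two_points hZ hab hn hodd l x (fun h => hx1 (Subtype.ext h)) hca hc, add_mul, hnorm]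
  have hself : classInner χ χ = 1 := by
    have hHS : (Finset.univ.filter fun x : (MulAction.stabilizer G a) => (x : G) ∈ H ∧ x ≠ 1).card + 1 = Nat.card H := by
      rw [← Nat.card_congr (Subgroup.subgroupOfEquivOfLe hHa).toEquiv, Nat.card_eq_fintype_card,
        Fintype.card_subtype, show (Finset.univ.filter fun x : (MulAction.stabilizer G a) => (x : G) ∈ H ∧ x ≠ 1) =
          (Finset.univ.filter fun x : (MulAction.stabilizer G a) => x ∈ H.subgroupOf (MulAction.stabilizer G a)).erase 1 by
          ext x; simp [Subgroup.mem_subgroupOf, and_comm]]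
      exact Finset.card_erase_add_one (Finset.mem_filter.mpr ⟨Finset.mem_univ _, Subgroup.one_mem _⟩)
    rw [hχ, classInner_indFun (MulAction.stabilizer G a) _ (IsCharacter.isClassFunction hχc), ← classInner_conj_symm, classInner,
      map_mul, map_inv₀, Complex.conj_natCast, map_sum]
    simp only [map_mul, Complex.conj_conj]
    rw [show ∑ x : (MulAction.stabilizer G a), conj (χ x) * (l x : ℂ) = conj (∑ x : (MulAction.stabilizer G a), χ x * conj (l x : ℂ)) by simp [map_sum],
      Finset.sum_congr rfl fun x _ => hval x, Finset.sum_sub_distrib, Finset.sum_add_distrib,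
      Finset.sum_add_distrib, hsum2, Finset.sum_const, Finset.card_univ, ← Nat.card_eq_fintype_card,
      Finset.sum_ite_eq' Finset.univ 1, if_pos (Finset.mem_univ _), ← Finset.sum_filter, Finset.sum_const]
    have : ((Finset.univ.filter fun x : (MulAction.stabilizer G a) => (x : G) ∈ H ∧ x ≠ 1).card : ℂ) = (Nat.card H : ℂ) - 1 :=
      eq_sub_of_add_eq (by exact_mod_cast hHS)
    rw [nsmul_eq_mul, nsmul_eq_mul, mul_one, mul_one, this, add_zero]
    simp only [add_sub_cancel_right, Complex.conj_natCast]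
    exact inv_mul_cancel₀ (Nat.cast_ne_zero.mpr Nat.card_pos.ne')
  obtain ⟨d, hd⟩ := IsCharacter.exists_degree hχc
  rcases IsGeneralizedCharacter.irr_or_neg (isGeneralizedCharacter_indFun (MulAction.stabilizer G a)
      (IsIrrCharacter.isGeneralized (isIrrCharacter_monoidHom l))) hself with h | h
  · exact h
  · exfalso
    obtain ⟨d', hd', he⟩ := IsIrrCharacter.degree_pos h
    change -χ 1 = _ at he
    rw [hd] at he
    have : ((d + d' : ℕ) : ℂ) = 0 := by push_cast; linear_combination -he
    have h0 : d + d' = 0 := by exact_mod_cast this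
    omega

end Cfsg.Agent.Char.Zass
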